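import Mathlib
import Cfsg.Agent.Lib.Helper21.PolySeq

set_option autoImplicit false
set_option linter.unusedSectionVars false
set_option linter.unusedVariables false
set_option linter.style.haveILetI false
set_option linter.unnecessarySimpa false

/-! The associated graded Lie ring of the lower central series of a group: group-level
congruences.  `Gam G n` is the `n`-th term of the lower central series, 1-based
(`Gam G 0 = Gam G 1 = ⊤`, `Gam G 2 = G'`). -/

namespace Cfsg.Agent.Helper22.LCSLie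

open scoped commutatorElement

variable {G : Type*} [Group G]

/-- The lower central series, 1-based. -/
def Gam (G : Type*) [Group G] (n : ℕ) : Subgroup G :=
  (⊤ : Subgroup G).lowerCentralSeries (n - 1)

instance gam_normal (n : ℕ) : (Gam G n).Normal := by
  unfold Gam; infer_instance

theorem gam_eq_lcsF (n : ℕ) : Gam G n = Cfsg.Agent.Helper21.PolySeq.lcsF G n := rfl

theorem gam_zero : Gam G 0 = ⊤ := rfl

theorem gam_one : Gam G 1 = ⊤ := rfl

theorem gam_succ_succ (n : ℕ) : Gam G (n + 2) = ⁅Gam G (n + 1), (⊤ : Subgroup G)⁆ := by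
  unfold Gam
  simp only [Nat.add_sub_cancel]
  rw [show n + 2 - 1 = n + 1 by omega, Subgroup.lowerCentralSeries_succ]

theorem gam_anti {i j : ℕ} (h : i ≤ j) : Gam G j ≤ Gam G i :=
  Cfsg.Agent.Helper21.PolySeq.lcsF_antitone h

theorem gam_comm_le (i j : ℕ) : ⁅Gam G i, Gam G j⁆ ≤ Gam G (i + j) :=
  Cfsg.Agent.Helper21.PolySeq.lcsF_comm i j

theorem gam_comm {i j : ℕ} {x y : G} (hx : x ∈ Gam G i) (hy : y ∈ Gam G j) :
    ⁅x, y⁆ ∈ Gam G (i + j) :=
  gam_comm_le i j (Subgroup.commutator_mem_commutator hx hy)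

theorem gam_comm_of_le {i j m : ℕ} {x y : G} (hx : x ∈ Gam G i) (hy : y ∈ Gam G j)
    (h : m ≤ i + j) : ⁅x, y⁆ ∈ Gam G m :=
  gam_anti h (gam_comm hx hy)

/-- `Gam m / Gam (m+1)` is central in `G / Gam (m+1)`. -/
theorem gam_central {m : ℕ} {u : G} (hu : u ∈ Gam G m) (g : G) :
    ⁅u, g⁆ ∈ Gam G (m + 1) :=
  gam_comm hu (show g ∈ Gam G 1 from Subgroup.mem_top g)

theorem gam_conj_mem {m : ℕ} {u : G} (hu : u ∈ Gam G m) (g : G) :
    g * u * g⁻¹ ∈ Gam G m :=
  (gam_normal m).conj_mem u hu g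

/-- Congruence modulo a normal subgroup. -/
def Cong (N : Subgroup G) (x y : G) : Prop := x⁻¹ * y ∈ N

theorem cong_iff (N : Subgroup G) [N.Normal] (x y : G) :
    Cong N x y ↔ (QuotientGroup.mk x : G ⧸ N) = QuotientGroup.mk y :=
  QuotientGroup.eq.symm

theorem Cong.refl (N : Subgroup G) (x : G) : Cong N x x := by
  unfold Cong; simp

theorem Cong.symm {N : Subgroup G} {x y : G} (h : Cong N x y) : Cong N y x := by
  unfold Cong at *
  have := N.inv_mem h
  simpa using this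

theorem Cong.trans {N : Subgroup G} {x y z : G} (h : Cong N x y) (h' : Cong N y z) :
    Cong N x z := by
  unfold Cong at *
  have := N.mul_mem h h'
  simpa [mul_assoc] using this

theorem Cong.mul {N : Subgroup G} [N.Normal] {x y x' y' : G} (h : Cong N x y)
    (h' : Cong N x' y') : Cong N (x * x') (y * y') := by
  rw [cong_iff] at *
  simp [h, h']

theorem Cong.inv {N : Subgroup G} [N.Normal] {x y : G} (h : Cong N x y) :
    Cong N x⁻¹ y⁻¹ := by
  rw [cong_iff] at *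
  simp [h]

theorem Cong.mono {N M : Subgroup G} (hNM : N ≤ M) {x y : G} (h : Cong N x y) :
    Cong M x y := hNM h

theorem cong_one_iff {N : Subgroup G} {x : G} : Cong N 1 x ↔ x ∈ N := by
  unfold Cong; simp

theorem cong_of_mem_right {N : Subgroup G} {x n : G} (hn : n ∈ N) : Cong N x (x * n) := by
  unfold Cong; simpa using hn

theorem cong_of_mem_left {N : Subgroup G} [N.Normal] {x n : G} (hn : n ∈ N) :
    Cong N x (n * x) := by
  rw [cong_iff]
  have : (QuotientGroup.mk n : G ⧸ N) = 1 := (QuotientGroup.eq_one_iff n).2 hn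
  simp [this]

/-- Conjugation acts trivially on `Gam m / Gam (m+1)`. -/
theorem cong_conj {m : ℕ} {u : G} (hu : u ∈ Gam G m) (g : G) :
    Cong (Gam G (m + 1)) (g * u * g⁻¹) u := by
  have h1 : ⁅g, u⁆ ∈ Gam G (m + 1) := by
    have := gam_comm (show g ∈ Gam G 1 from Subgroup.mem_top g) hu
    rwa [Nat.add_comm] at this
  have h2 : g * u * g⁻¹ = ⁅g, u⁆ * u := by
    simp [commutatorElement_def]
  rw [h2]
  exact (cong_of_mem_left h1).symm

/-- Left additivity of the commutator modulo `Gam (i+j+1)`. -/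
theorem cong_comm_mul_left {i j : ℕ} (hi : 1 ≤ i) {x x' y : G} (hx : x ∈ Gam G i)
    (hx' : x' ∈ Gam G i) (hy : y ∈ Gam G j) :
    Cong (Gam G (i + j + 1)) ⁅x * x', y⁆ (⁅x, y⁆ * ⁅x', y⁆) := by
  rw [commutatorElement_mul_left_eq_conj_mul]
  have h1 : Cong (Gam G (i + j + 1)) (x * ⁅x', y⁆ * x⁻¹) ⁅x', y⁆ :=
    cong_conj (gam_comm hx' hy) x
  have h2 : Cong (Gam G (i + j + 1)) (⁅x', y⁆ * ⁅x, y⁆) (⁅x, y⁆ * ⁅x', y⁆) := by
    unfold Cong
    have : (⁅x', y⁆ * ⁅x, y⁆)⁻¹ * (⁅x, y⁆ * ⁅x', y⁆) = ⁅⁅x, y⁆⁻¹, ⁅x', y⁆⁻¹⁆ := by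
      simp [commutatorElement_def, mul_assoc]
    rw [this]
    refine gam_comm_of_le (inv_mem (gam_comm hx hy)) (inv_mem (gam_comm hx' hy)) ?_
    omega
  exact (h1.mul (Cong.refl _ _)).trans h2

/-- Right additivity of the commutator modulo `Gam (i+j+1)`. -/
theorem cong_comm_mul_right {i j : ℕ} (hj : 1 ≤ j) {x y y' : G} (hx : x ∈ Gam G i)
    (hy : y ∈ Gam G j) (hy' : y' ∈ Gam G j) :
    Cong (Gam G (i + j + 1)) ⁅x, y * y'⁆ (⁅x, y⁆ * ⁅x, y'⁆) := by
  have h := cong_comm_mul_left hj hy hy' hx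
  have h' := h.inv
  rw [commutatorElement_inv, mul_inv_rev, commutatorElement_inv, commutatorElement_inv,
    Nat.add_comm j i] at h'
  refine h'.trans ?_
  unfold Cong
  have : (⁅x, y'⁆ * ⁅x, y⁆)⁻¹ * (⁅x, y⁆ * ⁅x, y'⁆) = ⁅⁅x, y⁆⁻¹, ⁅x, y'⁆⁻¹⁆ := by
    simp [commutatorElement_def, mul_assoc]
  rw [this]
  refine gam_comm_of_le (inv_mem (gam_comm hx hy)) (inv_mem (gam_comm hx hy')) ?_
  omega

/-- The commutator is well defined modulo `Gam (i+1)` in the left variable. -/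
theorem cong_comm_of_cong_left {i j : ℕ} (hi : 1 ≤ i) {x x' y : G} (hx : x ∈ Gam G i)
    (hx' : x' ∈ Gam G i) (hy : y ∈ Gam G j) (h : Cong (Gam G (i + 1)) x x') :
    Cong (Gam G (i + j + 1)) ⁅x, y⁆ ⁅x', y⁆ := by
  have hn : x⁻¹ * x' ∈ Gam G (i + 1) := h
  have h1 : x' = x * (x⁻¹ * x') := by simp
  have h2 := cong_comm_mul_left hi hx (gam_anti (Nat.le_succ i) hn) hy
  rw [← h1] at h2
  refine Cong.symm (h2.trans ?_)
  have h3 : ⁅x⁻¹ * x', y⁆ ∈ Gam G (i + j + 1) := by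
    have := gam_comm hn hy
    rwa [Nat.add_right_comm] at this
  exact (cong_of_mem_right h3).symm

/-- The commutator is well defined modulo `Gam (j+1)` in the right variable. -/
theorem cong_comm_of_cong_right {i j : ℕ} (hj : 1 ≤ j) {x y y' : G} (hx : x ∈ Gam G i)
    (hy : y ∈ Gam G j) (hy' : y' ∈ Gam G j) (h : Cong (Gam G (j + 1)) y y') :
    Cong (Gam G (i + j + 1)) ⁅x, y⁆ ⁅x, y'⁆ := by
  have := (cong_comm_of_cong_left hj hy hy' hx h).inv
  rwa [commutatorElement_inv, commutatorElement_inv, Nat.add_comm j i] at this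

/-- The Jacobi identity modulo `Gam (i+j+k+1)`. -/
theorem cong_jacobi {i j k : ℕ} (hi : 1 ≤ i) (hj : 1 ≤ j) (hk : 1 ≤ k) {x y z : G}
    (hx : x ∈ Gam G i) (hy : y ∈ Gam G j) (hz : z ∈ Gam G k) :
    ⁅⁅x, y⁆, z⁆ * ⁅⁅y, z⁆, x⁆ * ⁅⁅z, x⁆, y⁆ ∈ Gam G (i + j + k + 1) := by
  have key : ∀ {a b c : ℕ} {u v w : G}, 1 ≤ a → 1 ≤ b → 1 ≤ c → u ∈ Gam G a → v ∈ Gam G b →
      w ∈ Gam G c → Cong (Gam G (a + b + c + 1)) ⁅⁅u, v⁆, v * w * v⁻¹⁆ ⁅⁅u, v⁆, w⁆ := by
    intro a b c u v w ha hb hc hu hv hw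
    have hvw : v * w * v⁻¹ ∈ Gam G c := gam_conj_mem hw v
    refine cong_comm_of_cong_right hc (gam_comm hu hv) hvw hw ?_
    have h2 : v * w * v⁻¹ = ⁅v, w⁆ * w := by simp [commutatorElement_def]
    rw [h2]
    refine (cong_of_mem_left ?_).symm
    refine gam_comm_of_le hv hw ?_
    omega
  have hw := commutatorElement_commutatorElement_conj_mul x y z
  have h1 := key hi hj hk hx hy hz
  have h2 := key hj hk hi hy hz hx
  have h3 := key hk hi hj hz hx hy
  rw [show j + k + i + 1 = i + j + k + 1 by omega] at h2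
  rw [show k + i + j + 1 = i + j + k + 1 by omega] at h3
  have h4 := (h1.mul h2).mul h3
  rw [hw] at h4
  exact cong_one_iff.1 h4

end Cfsg.Agent.Helper22.LCSLie
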