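import Mathlib
import Cfsg.Agent.Lib.Helper22.LCSLieBasic

set_option autoImplicit false
set_option linter.unusedSectionVars false
set_option linter.unusedVariables false
set_option linter.style.haveILetI false
set_option linter.unnecessarySimpa false

/-! The graded pieces `Gr G n = γ_n / γ_{n+1}` (additively written, `n : ℕ+`) of the lower
central series and the bracket `Gr G i × Gr G j → Gr G (i + j)` induced by the commutator. -/

namespace Cfsg.Agent.Helper22.LCSLie

open scoped commutatorElement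

variable {G : Type*} [Group G]

/-- The multiplicative graded piece `γ_n / γ_{n+1}`. -/
abbrev GrM (G : Type*) [Group G] (n : ℕ+) : Type _ :=
  ↥(Gam G n) ⧸ (Gam G (n + 1)).subgroupOf (Gam G n)

theorem grM_comm (n : ℕ+) (a b : GrM G n) : a * b = b * a := by
  induction a using QuotientGroup.induction_on with
  | H x =>
    induction b using QuotientGroup.induction_on with
    | H y =>
      rw [← QuotientGroup.mk_mul, ← QuotientGroup.mk_mul, QuotientGroup.eq,
        Subgroup.mem_subgroupOf]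
      have h : (((x * y)⁻¹ * (y * x) : ↥(Gam G n)) : G) = ⁅(y : G)⁻¹, (x : G)⁻¹⁆ := by
        simp [commutatorElement_def, mul_assoc]
      rw [h]
      refine gam_comm_of_le (inv_mem y.2) (inv_mem x.2) ?_
      have := n.pos
      omega

/-- The graded piece `γ_n / γ_{n+1}`, written additively. -/
def Gr (G : Type*) [Group G] (n : ℕ+) : Type _ := Additive (GrM G n)

instance grAddCommGroup (n : ℕ+) : AddCommGroup (Gr G n) :=
  { (inferInstance : AddGroup (Additive (GrM G n))) with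
    add_comm := fun a b => by
      show Additive.ofMul (Additive.toMul a * Additive.toMul b) =
        Additive.ofMul (Additive.toMul b * Additive.toMul a)
      rw [grM_comm] }

/-- The class of `x ∈ γ_n` in `Gr G n`. -/
def grMk (n : ℕ+) (x : G) (hx : x ∈ Gam G n) : Gr G n :=
  Additive.ofMul (QuotientGroup.mk ⟨x, hx⟩ : GrM G n)

theorem grMk_mul (n : ℕ+) {x y : G} (hx : x ∈ Gam G n) (hy : y ∈ Gam G n) :
    grMk n (x * y) (mul_mem hx hy) = grMk n x hx + grMk n y hy := rfl

theorem grMk_one (n : ℕ+) : grMk n (1 : G) (one_mem _) = 0 := rfl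

theorem grMk_inv (n : ℕ+) {x : G} (hx : x ∈ Gam G n) :
    grMk n x⁻¹ (inv_mem hx) = -grMk n x hx := rfl

theorem grMk_eq_iff (n : ℕ+) {x y : G} (hx : x ∈ Gam G n) (hy : y ∈ Gam G n) :
    grMk n x hx = grMk n y hy ↔ Cong (Gam G (n + 1)) x y := by
  show (Additive.ofMul (QuotientGroup.mk ⟨x, hx⟩ : GrM G n) : Additive (GrM G n)) =
      Additive.ofMul (QuotientGroup.mk ⟨y, hy⟩ : GrM G n) ↔ _
  rw [Additive.ofMul.apply_eq_iff_eq, QuotientGroup.eq, Subgroup.mem_subgroupOf]
  rfl

theorem grMk_eq_zero_iff (n : ℕ+) {x : G} (hx : x ∈ Gam G n) :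
    grMk n x hx = 0 ↔ x ∈ Gam G (n + 1) := by
  rw [← grMk_one n, grMk_eq_iff]
  exact ⟨fun h => cong_one_iff.1 h.symm, fun h => (cong_one_iff.2 h).symm⟩

theorem grMk_congr (n : ℕ+) {x y : G} (hx : x ∈ Gam G n) (h : x = y) :
    grMk n x hx = grMk n y (h ▸ hx) := by
  subst h; rfl

theorem grMk_surj (n : ℕ+) (a : Gr G n) : ∃ (x : G) (hx : x ∈ Gam G n), grMk n x hx = a := by
  obtain ⟨x, hx⟩ := QuotientGroup.mk_surjective (Additive.toMul a)
  exact ⟨x.1, x.2, by unfold grMk; rw [show (⟨x.1, x.2⟩ : ↥(Gam G n)) = x from rfl, hx]; rfl⟩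

/-- A chosen representative. -/
noncomputable def grRep (n : ℕ+) (a : Gr G n) : G := Classical.choose (grMk_surj n a)

theorem grRep_mem (n : ℕ+) (a : Gr G n) : grRep n a ∈ Gam G n :=
  Classical.choose (Classical.choose_spec (grMk_surj n a))

theorem grMk_grRep (n : ℕ+) (a : Gr G n) : grMk n (grRep n a) (grRep_mem n a) = a :=
  Classical.choose_spec (Classical.choose_spec (grMk_surj n a))

theorem gam_comm_pnat {i j : ℕ+} {x y : G} (hx : x ∈ Gam G i) (hy : y ∈ Gam G j) :
    ⁅x, y⁆ ∈ Gam G ((i + j : ℕ+) : ℕ) := gam_comm hx hy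

/-- The bracket on graded pieces. -/
noncomputable def grBr (i j : ℕ+) (a : Gr G i) (b : Gr G j) : Gr G (i + j) :=
  grMk (i + j) ⁅grRep i a, grRep j b⁆ (gam_comm_pnat (grRep_mem i a) (grRep_mem j b))

theorem grBr_mk (i j : ℕ+) {x y : G} (hx : x ∈ Gam G i) (hy : y ∈ Gam G j) :
    grBr i j (grMk i x hx) (grMk j y hy) = grMk (i + j) ⁅x, y⁆ (gam_comm_pnat hx hy) := by
  unfold grBr
  rw [grMk_eq_iff]
  have ha : Cong (Gam G (i + 1)) (grRep i (grMk i x hx)) x :=
    (grMk_eq_iff i (grRep_mem i _) hx).1 (grMk_grRep i _)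
  have hb : Cong (Gam G (j + 1)) (grRep j (grMk j y hy)) y :=
    (grMk_eq_iff j (grRep_mem j _) hy).1 (grMk_grRep j _)
  have h1 := cong_comm_of_cong_left (j := j) i.pos (grRep_mem i _) hx (grRep_mem j (grMk j y hy)) ha
  have h2 := cong_comm_of_cong_right (i := i) j.pos hx (grRep_mem j _) hy hb
  exact h1.trans h2

theorem grBr_add_left (i j : ℕ+) (a a' : Gr G i) (b : Gr G j) :
    grBr i j (a + a') b = grBr i j a b + grBr i j a' b := by
  obtain ⟨x, hx, rfl⟩ := grMk_surj i a
  obtain ⟨x', hx', rfl⟩ := grMk_surj i a'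
  obtain ⟨y, hy, rfl⟩ := grMk_surj j b
  rw [← grMk_mul, grBr_mk, grBr_mk, grBr_mk, ← grMk_mul, grMk_eq_iff]
  exact cong_comm_mul_left i.pos hx hx' hy

theorem grBr_add_right (i j : ℕ+) (a : Gr G i) (b b' : Gr G j) :
    grBr i j a (b + b') = grBr i j a b + grBr i j a b' := by
  obtain ⟨x, hx, rfl⟩ := grMk_surj i a
  obtain ⟨y, hy, rfl⟩ := grMk_surj j b
  obtain ⟨y', hy', rfl⟩ := grMk_surj j b'
  rw [← grMk_mul, grBr_mk, grBr_mk, grBr_mk, ← grMk_mul, grMk_eq_iff]
  exact cong_comm_mul_right j.pos hx hy hy'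

theorem grBr_zero_left (i j : ℕ+) (b : Gr G j) : grBr i j (0 : Gr G i) b = 0 := by
  have := grBr_add_left i j (0 : Gr G i) 0 b
  rw [add_zero] at this
  exact left_eq_add.mp this

theorem grBr_zero_right (i j : ℕ+) (a : Gr G i) : grBr i j a (0 : Gr G j) = 0 := by
  have := grBr_add_right i j a (0 : Gr G j) 0
  rw [add_zero] at this
  exact left_eq_add.mp this

end Cfsg.Agent.Helper22.LCSLie
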