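import Mathlib
import Cfsg.Agent.Lib.Helper22.LCSLieGr

set_option autoImplicit false
set_option linter.unusedSectionVars false
set_option linter.unusedVariables false
set_option linter.style.haveILetI false
set_option linter.unnecessarySimpa false

/-! The associated graded Lie ring `LR G = ⨁ n, γ_n / γ_{n+1}` of the lower central series. -/

namespace Cfsg.Agent.Helper22.LCSLie

open scoped commutatorElement DirectSum

variable {G : Type*} [Group G]

noncomputable instance grGSemiring : DirectSum.GNonUnitalNonAssocSemiring (Gr G) where
  mul := fun {i j} a b => grBr i j a b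
  mul_zero := fun {i j} a => grBr_zero_right i j a
  zero_mul := fun {i j} b => grBr_zero_left i j b
  mul_add := fun {i j} a b c => grBr_add_right i j a b c
  add_mul := fun {i j} a b c => grBr_add_left i j a b c

/-- The direct sum of the graded pieces, as a non-associative ring. -/
abbrev LRing (G : Type*) [Group G] : Type _ := ⨁ n : ℕ+, Gr G n

/-- The homogeneous element of degree `n` defined by `x ∈ γ_n`. -/
noncomputable def hom (n : ℕ+) (x : G) (hx : x ∈ Gam G n) : LRing G :=
  DirectSum.of (Gr G) n (grMk n x hx)

theorem hom_mul_hom {i j : ℕ+} {x y : G} (hx : x ∈ Gam G i) (hy : y ∈ Gam G j) :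
    hom i x hx * hom j y hy = hom (i + j) ⁅x, y⁆ (gam_comm_pnat hx hy) := by
  unfold hom
  rw [DirectSum.of_mul_of]
  congr 1
  exact grBr_mk i j hx hy

theorem hom_add_hom {n : ℕ+} {x y : G} (hx : x ∈ Gam G n) (hy : y ∈ Gam G n) :
    hom n x hx + hom n y hy = hom n (x * y) (mul_mem hx hy) := by
  unfold hom
  rw [← map_add, ← grMk_mul]

theorem hom_eq_zero {n : ℕ+} {x : G} (hx : x ∈ Gam G n) (h : x ∈ Gam G (n + 1)) :
    hom n x hx = 0 := by
  unfold hom
  rw [(grMk_eq_zero_iff n hx).2 h, map_zero]

theorem hom_eq_zero_iff {n : ℕ+} {x : G} (hx : x ∈ Gam G n) :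
    hom n x hx = 0 ↔ x ∈ Gam G (n + 1) := by
  constructor
  · intro h
    unfold hom at h
    have h2 : grMk n x hx = 0 := by
      have := DirectSum.of_injective (β := Gr G) n
      apply this
      rw [h, map_zero]
    exact (grMk_eq_zero_iff n hx).1 h2
  · exact hom_eq_zero hx

theorem hom_congr_idx {i j : ℕ+} (h : i = j) {x : G} (hx : x ∈ Gam G i) :
    hom i x hx = hom j x (h ▸ hx) := by
  subst h; rfl

theorem hom_congr {n : ℕ+} {x y : G} (hx : x ∈ Gam G n) (h : x = y) :
    hom n x hx = hom n y (h ▸ hx) := by
  subst h; rfl

theorem hom_inv {n : ℕ+} {x : G} (hx : x ∈ Gam G n) :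
    hom n x⁻¹ (inv_mem hx) = -hom n x hx := by
  unfold hom
  rw [grMk_inv, map_neg]

/-- Induction principle: homogeneous elements span. -/
theorem lring_induction {P : LRing G → Prop} (h0 : P 0)
    (hh : ∀ (n : ℕ+) (x : G) (hx : x ∈ Gam G n), P (hom n x hx))
    (ha : ∀ a b, P a → P b → P (a + b)) (a : LRing G) : P a := by
  induction a using DirectSum.induction_on with
  | zero => exact h0
  | of i x =>
    obtain ⟨g, hg, rfl⟩ := grMk_surj i x
    exact hh i g hg
  | add x y hx hy => exact ha x y hx hy

theorem lring_anti (a b : LRing G) : a * b = -(b * a) := by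
  induction a using lring_induction with
  | h0 => simp
  | ha a a' h h' => rw [add_mul, mul_add, h, h', neg_add]
  | hh i x hx =>
    induction b using lring_induction with
    | h0 => simp
    | ha b b' h h' => rw [add_mul, mul_add, h, h', neg_add]
    | hh j y hy =>
      rw [hom_mul_hom, hom_mul_hom, ← hom_inv, hom_congr_idx (add_comm j i)]
      exact hom_congr _ (commutatorElement_inv y x).symm

theorem lring_self (a : LRing G) : a * a = 0 := by
  induction a using lring_induction with
  | h0 => simp
  | ha a a' h h' =>
    rw [add_mul, mul_add, mul_add, h, h', lring_anti a' a]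
    simp
  | hh i x hx =>
    rw [hom_mul_hom]
    exact hom_eq_zero _ (by rw [commutatorElement_self]; exact one_mem _)

theorem lring_jacobi (a b c : LRing G) : a * b * c + b * c * a + c * a * b = 0 := by
  induction a using lring_induction with
  | h0 => simp
  | ha a a' h h' =>
    have : (a + a') * b * c + b * c * (a + a') + c * (a + a') * b =
        (a * b * c + b * c * a + c * a * b) + (a' * b * c + b * c * a' + c * a' * b) := by
      simp only [add_mul, mul_add]; abel
    rw [this, h, h', add_zero]
  | hh i x hx =>
    induction b using lring_induction with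
    | h0 => simp
    | ha b b' h h' =>
      have : hom i x hx * (b + b') * c + (b + b') * c * hom i x hx + c * hom i x hx * (b + b') =
          (hom i x hx * b * c + b * c * hom i x hx + c * hom i x hx * b) +
          (hom i x hx * b' * c + b' * c * hom i x hx + c * hom i x hx * b') := by
        simp only [add_mul, mul_add]; abel
      rw [this, h, h', add_zero]
    | hh j y hy =>
      induction c using lring_induction with
      | h0 => simp
      | ha c c' h h' =>
        have : hom i x hx * hom j y hy * (c + c') + hom j y hy * (c + c') * hom i x hx +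
            (c + c') * hom i x hx * hom j y hy =
            (hom i x hx * hom j y hy * c + hom j y hy * c * hom i x hx +
              c * hom i x hx * hom j y hy) +
            (hom i x hx * hom j y hy * c' + hom j y hy * c' * hom i x hx +
              c' * hom i x hx * hom j y hy) := by
          simp only [add_mul, mul_add]; abel
        rw [this, h, h', add_zero]
      | hh k z hz =>
        rw [hom_mul_hom, hom_mul_hom, hom_mul_hom, hom_mul_hom, hom_mul_hom, hom_mul_hom]
        rw [hom_congr_idx (show j + k + i = i + j + k by rw [add_comm, add_assoc]),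
          hom_congr_idx (show k + i + j = i + j + k by rw [add_assoc, add_comm]),
          hom_add_hom, hom_add_hom]
        refine hom_eq_zero _ ?_
        have := cong_jacobi i.pos j.pos k.pos hx hy hz
        exact this

end Cfsg.Agent.Helper22.LCSLie
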