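import Mathlib
import Cfsg.Agent.Lib.Helper22.LCSLieRing

set_option autoImplicit false
set_option linter.unusedSectionVars false
set_option linter.unusedVariables false
set_option linter.style.haveILetI false
set_option linter.unnecessarySimpa false

/-! The associated graded Lie ring `LR G` of the lower central series as a Mathlib `LieRing`,
and the Lie ring endomorphism induced by an automorphism of `G`. -/

namespace Cfsg.Agent.Helper22.LCSLie

open scoped commutatorElement DirectSum

variable {G : Type*} [Group G]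

/-- The associated graded Lie ring of the lower central series of `G`. -/
def LR (G : Type*) [Group G] : Type _ := LRing G

noncomputable instance lrAddCommGroup : AddCommGroup (LR G) :=
  inferInstanceAs (AddCommGroup (LRing G))

/-- The identity map from the non-associative ring to the Lie ring. -/
noncomputable def toLR : LRing G ≃+ LR G := AddEquiv.refl _

/-- The identity map from the Lie ring to the non-associative ring. -/
noncomputable def ofLR : LR G ≃+ LRing G := AddEquiv.refl _

@[simp] theorem toLR_ofLR (a : LR G) : toLR (ofLR a) = a := rfl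

@[simp] theorem ofLR_toLR (a : LRing G) : ofLR (toLR a) = a := rfl

noncomputable instance lrBracket : Bracket (LR G) (LR G) :=
  ⟨fun a b => toLR (ofLR a * ofLR b)⟩

theorem lr_bracket_def (a b : LR G) : ⁅a, b⁆ = toLR (ofLR a * ofLR b) := rfl

noncomputable instance lrLieRing : LieRing (LR G) where
  add_lie := fun a b c => by
    simp only [lr_bracket_def, map_add, add_mul]
  lie_add := fun a b c => by
    simp only [lr_bracket_def, map_add, mul_add]
  lie_self := fun a => by
    simp only [lr_bracket_def, lring_self, map_zero]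
  leibniz_lie := fun a b c => by
    simp only [lr_bracket_def, ofLR_toLR, ← map_add]
    congr 1
    have h := lring_jacobi (ofLR a) (ofLR b) (ofLR c)
    have h1 : ofLR b * ofLR c * ofLR a = -(ofLR a * (ofLR b * ofLR c)) := lring_anti _ _
    have h2 : ofLR c * ofLR a * ofLR b = ofLR b * (ofLR a * ofLR c) := by
      rw [lring_anti (ofLR c * ofLR a) (ofLR b), lring_anti (ofLR c) (ofLR a), mul_neg, neg_neg]
    rw [h1, h2] at h
    have h3 : ofLR a * (ofLR b * ofLR c) =
        ofLR a * ofLR b * ofLR c + ofLR b * (ofLR a * ofLR c) := by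
      have := eq_neg_of_add_eq_zero_left
        (show (ofLR a * ofLR b * ofLR c + ofLR b * (ofLR a * ofLR c)) +
          -(ofLR a * (ofLR b * ofLR c)) = 0 by rw [← h]; abel)
      rw [neg_neg] at this
      exact this.symm
    exact h3

/-- The homogeneous element of `LR G` of degree `n` defined by `x ∈ γ_n`. -/
noncomputable def lhom (n : ℕ+) (x : G) (hx : x ∈ Gam G n) : LR G := toLR (hom n x hx)

theorem lie_lhom_lhom {i j : ℕ+} {x y : G} (hx : x ∈ Gam G i) (hy : y ∈ Gam G j) :
    ⁅lhom i x hx, lhom j y hy⁆ = lhom (i + j) ⁅x, y⁆ (gam_comm_pnat hx hy) := by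
  unfold lhom
  rw [lr_bracket_def, ofLR_toLR, ofLR_toLR, hom_mul_hom]

theorem lhom_add_lhom {n : ℕ+} {x y : G} (hx : x ∈ Gam G n) (hy : y ∈ Gam G n) :
    lhom n x hx + lhom n y hy = lhom n (x * y) (mul_mem hx hy) := by
  unfold lhom
  rw [← map_add, hom_add_hom]

theorem lhom_one (n : ℕ+) : lhom n (1 : G) (one_mem _) = 0 := by
  unfold lhom
  rw [hom_eq_zero _ (one_mem _), map_zero]

theorem lhom_inv {n : ℕ+} {x : G} (hx : x ∈ Gam G n) :
    lhom n x⁻¹ (inv_mem hx) = -lhom n x hx := by
  unfold lhom
  rw [hom_inv, map_neg]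

theorem lhom_eq_zero_iff {n : ℕ+} {x : G} (hx : x ∈ Gam G n) :
    lhom n x hx = 0 ↔ x ∈ Gam G (n + 1) := by
  unfold lhom
  rw [← hom_eq_zero_iff hx]
  exact (toLR (G := G)).map_eq_zero_iff

theorem lhom_congr {n : ℕ+} {x y : G} (hx : x ∈ Gam G n) (h : x = y) :
    lhom n x hx = lhom n y (h ▸ hx) := by
  subst h; rfl

theorem lhom_congr_idx {i j : ℕ+} (h : i = j) {x : G} (hx : x ∈ Gam G i) :
    lhom i x hx = lhom j x (h ▸ hx) := by
  subst h; rfl

/-- Induction principle: homogeneous elements span `LR G`. -/
theorem lr_induction {P : LR G → Prop} (h0 : P 0)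
    (hh : ∀ (n : ℕ+) (x : G) (hx : x ∈ Gam G n), P (lhom n x hx))
    (ha : ∀ a b, P a → P b → P (a + b)) (a : LR G) : P a := by
  have : ∀ b : LRing G, P (toLR b) := by
    intro b
    induction b using lring_induction with
    | h0 => simpa using h0
    | hh n x hx => exact hh n x hx
    | ha a b h h' => rw [map_add]; exact ha _ _ h h'
  simpa using this (ofLR a)

/-! ### Automorphisms -/

theorem gam_aut_mem (α : MulAut G) (n : ℕ) {x : G} (hx : x ∈ Gam G n) : α x ∈ Gam G n := by
  have hc : (Gam G n).Characteristic := by unfold Gam; infer_instance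
  have := hc.fixed α
  rw [← this] at hx
  exact hx

theorem gam_aut_mem_iff (α : MulAut G) (n : ℕ) {x : G} : α x ∈ Gam G n ↔ x ∈ Gam G n := by
  refine ⟨fun h => ?_, gam_aut_mem α n⟩
  have := gam_aut_mem α⁻¹ n h
  simpa using this

/-- The map induced by an automorphism on a graded piece (as a function). -/
noncomputable def grMapFun (α : MulAut G) (n : ℕ+) (a : Gr G n) : Gr G n :=
  grMk n (α (grRep n a)) (gam_aut_mem α n (grRep_mem n a))

theorem grMapFun_mk (α : MulAut G) (n : ℕ+) {x : G} (hx : x ∈ Gam G n) :
    grMapFun α n (grMk n x hx) = grMk n (α x) (gam_aut_mem α n hx) := by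
  unfold grMapFun
  rw [grMk_eq_iff]
  have ha : Cong (Gam G (n + 1)) (grRep n (grMk n x hx)) x :=
    (grMk_eq_iff n (grRep_mem n _) hx).1 (grMk_grRep n _)
  unfold Cong at ha ⊢
  have := gam_aut_mem α (n + 1) ha
  simpa using this

/-- The additive map induced by an automorphism on a graded piece. -/
noncomputable def grMap (α : MulAut G) (n : ℕ+) : Gr G n →+ Gr G n :=
  AddMonoidHom.mk' (grMapFun α n) (by
    intro a b
    obtain ⟨x, hx, rfl⟩ := grMk_surj n a
    obtain ⟨y, hy, rfl⟩ := grMk_surj n b
    rw [← grMk_mul, grMapFun_mk, grMapFun_mk, grMapFun_mk, ← grMk_mul]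
    exact grMk_congr n _ (map_mul α x y))

theorem grMap_mk (α : MulAut G) (n : ℕ+) {x : G} (hx : x ∈ Gam G n) :
    grMap α n (grMk n x hx) = grMk n (α x) (gam_aut_mem α n hx) :=
  grMapFun_mk α n hx

/-- The additive endomorphism of the direct sum induced by an automorphism of `G`. -/
noncomputable def lringMap (α : MulAut G) : LRing G →+ LRing G :=
  DirectSum.map (fun n => grMap α n)

theorem lringMap_hom (α : MulAut G) {n : ℕ+} {x : G} (hx : x ∈ Gam G n) :
    lringMap α (hom n x hx) = hom n (α x) (gam_aut_mem α n hx) := by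
  unfold lringMap hom
  rw [DirectSum.map_of, grMap_mk]

theorem lringMap_mul (α : MulAut G) (a b : LRing G) :
    lringMap α (a * b) = lringMap α a * lringMap α b := by
  induction a using lring_induction with
  | h0 => simp
  | ha a a' h h' => rw [add_mul, map_add, map_add, add_mul, h, h']
  | hh i x hx =>
    induction b using lring_induction with
    | h0 => simp
    | ha b b' h h' => rw [mul_add, map_add, map_add, mul_add, h, h']
    | hh j y hy =>
      rw [hom_mul_hom, lringMap_hom, lringMap_hom, lringMap_hom, hom_mul_hom]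
      exact hom_congr _ (map_commutatorElement α x y)

/-- The Lie ring endomorphism of `LR G` induced by an automorphism of `G`. -/
noncomputable def lrHom (α : MulAut G) : LR G →ₗ⁅ℤ⁆ LR G :=
  { ((toLR (G := G)).toAddMonoidHom.comp ((lringMap α).comp
      (ofLR (G := G)).toAddMonoidHom)).toIntLinearMap with
    map_lie' := by
      intro a b
      show toLR (lringMap α (ofLR ⁅a, b⁆)) =
        ⁅toLR (lringMap α (ofLR a)), toLR (lringMap α (ofLR b))⁆
      rw [lr_bracket_def, lr_bracket_def, ofLR_toLR, ofLR_toLR, ofLR_toLR, lringMap_mul] }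

theorem lrHom_apply (α : MulAut G) (a : LR G) : lrHom α a = toLR (lringMap α (ofLR a)) := rfl

theorem lrHom_lhom (α : MulAut G) {n : ℕ+} {x : G} (hx : x ∈ Gam G n) :
    lrHom α (lhom n x hx) = lhom n (α x) (gam_aut_mem α n hx) := by
  rw [lrHom_apply]
  unfold lhom
  rw [ofLR_toLR, lringMap_hom]

theorem lrHom_one_apply (a : LR G) : lrHom (1 : MulAut G) a = a := by
  induction a using lr_induction with
  | h0 => simp
  | ha a b h h' => rw [map_add, h, h']
  | hh n x hx => rw [lrHom_lhom]; rfl

theorem lrHom_mul_apply (α β : MulAut G) (a : LR G) :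
    lrHom (α * β) a = lrHom α (lrHom β a) := by
  induction a using lr_induction with
  | h0 => simp
  | ha a b h h' => rw [map_add, map_add, map_add, h, h']
  | hh n x hx => rw [lrHom_lhom, lrHom_lhom, lrHom_lhom]; rfl

theorem lrHom_pow_apply (α : MulAut G) (k : ℕ) (a : LR G) :
    lrHom (α ^ k) a = (lrHom α)^[k] a := by
  induction k generalizing a with
  | zero => rw [pow_zero, lrHom_one_apply]; rfl
  | succ k ih =>
    rw [pow_succ, lrHom_mul_apply, ih, Function.iterate_succ_apply]

/-- The Lie ring automorphism of `LR G` induced by an automorphism of `G`. -/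
noncomputable def lrEquiv (α : MulAut G) : LR G ≃ₗ⁅ℤ⁆ LR G :=
  { lrHom α with
    invFun := lrHom α⁻¹
    left_inv := fun a => by
      show lrHom α⁻¹ (lrHom α a) = a
      rw [← lrHom_mul_apply, inv_mul_cancel, lrHom_one_apply]
    right_inv := fun a => by
      show lrHom α (lrHom α⁻¹ a) = a
      rw [← lrHom_mul_apply, mul_inv_cancel, lrHom_one_apply] }

theorem lrEquiv_apply (α : MulAut G) (a : LR G) : lrEquiv α a = lrHom α a := rfl

end Cfsg.Agent.Helper22.LCSLie
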