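import Mathlib
import Cfsg.Agent.Lib.Helper22.LCSLieAut

set_option autoImplicit false
set_option linter.unusedSectionVars false
set_option linter.unusedVariables false
set_option linter.style.haveILetI false
set_option linter.unnecessarySimpa false

/-! The associated graded Lie ring `LR G`: torsion, fixed points of induced automorphisms,
and transfer of nilpotency class from `LR G` back to `G`. -/

namespace Cfsg.Agent.Helper22.LCSLie

open scoped commutatorElement DirectSum

variable {G : Type*} [Group G]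

/-! ### Torsion -/

theorem nsmul_lhom (k : ℕ) {n : ℕ+} {x : G} (hx : x ∈ Gam G n) :
    k • lhom n x hx = lhom n (x ^ k) (pow_mem hx k) := by
  induction k with
  | zero => rw [zero_nsmul]; exact ((lhom_congr _ (pow_zero x)).trans (lhom_one n)).symm
  | succ k ih =>
    rw [succ_nsmul, ih, lhom_add_lhom]
    exact lhom_congr _ (pow_succ x k).symm

/-- `LR G` is killed by the order of `G`. -/
theorem card_nsmul_lr [Finite G] (a : LR G) : Nat.card G • a = 0 := by
  induction a using lr_induction with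
  | h0 => simp
  | ha a b h h' => rw [nsmul_add, h, h', add_zero]
  | hh n x hx =>
    rw [nsmul_lhom]
    exact (lhom_congr _ (pow_card_eq_one' (G := G))).trans (lhom_one n)

/-- If `m` is coprime to the order of `G` then multiplication by `m` is injective on `LR G`. -/
theorem nsmul_lr_injective [Finite G] {m : ℕ} (hm : Nat.Coprime m (Nat.card G)) (a : LR G)
    (h : m • a = 0) : a = 0 := by
  have h1 : ((m : ℤ) * Nat.gcdA m (Nat.card G) + (Nat.card G : ℤ) * Nat.gcdB m (Nat.card G)) • a
      = a := by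
    rw [← Nat.gcd_eq_gcd_ab, hm]
    simp
  rw [add_smul, mul_comm (m : ℤ), mul_comm (Nat.card G : ℤ), mul_smul, mul_smul,
    natCast_zsmul, natCast_zsmul, h, card_nsmul_lr, smul_zero, smul_zero, add_zero] at h1
  exact h1.symm

/-! ### Fixed points -/

/-- A fixed-point-free automorphism of a finite group is fixed-point-free on every invariant
section: if `x⁻¹ α(x) ∈ N` with `N` invariant then `x ∈ N`. -/
theorem fpf_section [Finite G] (α : MulAut G) (hfpf : ∀ g : G, α g = g → g = 1)
    (N : Subgroup G) (hN : ∀ x, x ∈ N → α x ∈ N) {x : G} (hx : x⁻¹ * α x ∈ N) : x ∈ N := by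
  let f : N → N := fun n => ⟨(n : G)⁻¹ * α n, N.mul_mem (N.inv_mem n.2) (hN _ n.2)⟩
  have hinj : Function.Injective f := by
    intro n m h
    have h1 : (n : G)⁻¹ * α n = (m : G)⁻¹ * α m := congrArg Subtype.val h
    have h2 : α ((m : G) * (n : G)⁻¹) = (m : G) * (n : G)⁻¹ := by
      rw [map_mul, map_inv]
      have : α (m : G) = (m : G) * ((n : G)⁻¹ * α n) := by rw [h1]; group
      rw [this]; group
    have h3 := hfpf _ h2
    have : (m : G) = n := by
      have := mul_inv_eq_one.1 h3
      exact this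
    exact Subtype.ext this.symm
  have hsurj : Function.Surjective f := Finite.surjective_of_injective hinj
  obtain ⟨n, hn⟩ := hsurj ⟨x⁻¹ * α x, hx⟩
  have h1 : (n : G)⁻¹ * α n = x⁻¹ * α x := congrArg Subtype.val hn
  have h2 : α (x * (n : G)⁻¹) = x * (n : G)⁻¹ := by
    rw [map_mul, map_inv]
    have : α x = x * ((n : G)⁻¹ * α n) := by rw [h1]; group
    rw [this]; group
  have h3 := mul_inv_eq_one.1 (hfpf _ h2)
  rw [h3]
  exact n.2

theorem grMap_fpf [Finite G] (α : MulAut G) (hfpf : ∀ g : G, α g = g → g = 1) (n : ℕ+)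
    (a : Gr G n) (h : grMap α n a = a) : a = 0 := by
  obtain ⟨x, hx, rfl⟩ := grMk_surj n a
  rw [grMap_mk, grMk_eq_iff] at h
  rw [grMk_eq_zero_iff]
  refine fpf_section α hfpf (Gam G (n + 1)) (fun y hy => gam_aut_mem α _ hy) ?_
  have := (Gam G (n + 1)).inv_mem h
  simpa [Cong] using this

/-- The Lie ring endomorphism induced by a fixed-point-free automorphism of a finite group
fixes only `0`. -/
theorem lrHom_fpf [Finite G] (α : MulAut G) (hfpf : ∀ g : G, α g = g → g = 1) (a : LR G)
    (h : lrHom α a = a) : a = 0 := by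
  rw [lrHom_apply] at h
  have h1 : lringMap α (ofLR a) = ofLR a := by
    have := congrArg ofLR h
    rwa [ofLR_toLR] at this
  have h2 : ofLR a = 0 := by
    refine DFinsupp.ext fun n => ?_
    have h3 := DFunLike.congr_fun h1 n
    unfold lringMap at h3
    rw [DirectSum.map_apply] at h3
    exact grMap_fpf α hfpf n _ h3
  have := congrArg toLR h2
  rwa [toLR_ofLR, map_zero] at this

/-- A fixed-point-free automorphism of prime order `p` of a finite group: the order of the group
is `1` modulo `p`. -/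
theorem card_modEq_one_of_fpf [Finite G] {p : ℕ} (hp : p.Prime) (α : MulAut G)
    (hα : orderOf α = p) (hfpf : ∀ g : G, α g = g → g = 1) : Nat.card G ≡ 1 [MOD p] := by
  haveI : Fact p.Prime := ⟨hp⟩
  have hP : IsPGroup p (Subgroup.zpowers α) := by
    refine IsPGroup.of_card (n := 1) ?_
    rw [Nat.card_zpowers, hα, pow_one]
  have h := hP.card_modEq_card_fixedPoints G
  have h2 : Nat.card (MulAction.fixedPoints (Subgroup.zpowers α) G) = 1 := by
    rw [Nat.card_eq_one_iff_unique]
    refine ⟨⟨?_⟩, ⟨⟨1, ?_⟩⟩⟩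
    · rintro ⟨a, ha⟩ ⟨b, hb⟩
      have ha' : a = 1 := hfpf a (ha ⟨α, Subgroup.mem_zpowers α⟩)
      have hb' : b = 1 := hfpf b (hb ⟨α, Subgroup.mem_zpowers α⟩)
      exact Subtype.ext (ha'.trans hb'.symm)
    · intro β
      exact map_one (β : MulAut G)
  rwa [h2] at h

theorem card_coprime_of_fpf [Finite G] {p : ℕ} (hp : p.Prime) (α : MulAut G)
    (hα : orderOf α = p) (hfpf : ∀ g : G, α g = g → g = 1) : Nat.Coprime p (Nat.card G) := by
  have h := card_modEq_one_of_fpf hp α hα hfpf
  rw [hp.coprime_iff_not_dvd]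
  intro hd
  have h0 : Nat.card G ≡ 0 [MOD p] := (Nat.modEq_zero_iff_dvd).2 hd
  have h1 : 1 ≡ 0 [MOD p] := h.symm.trans h0
  have := (Nat.modEq_zero_iff_dvd).1 h1
  exact hp.one_lt.ne' (Nat.dvd_one.1 this)

/-! ### Nilpotency -/

/-- The elements of `γ_n` whose class lies in the `k`-th term of the lower central series of
`LR G`. -/
def lcsSub (G : Type*) [Group G] (n : ℕ+) (k : ℕ) : Subgroup G where
  carrier := {x | ∃ hx : x ∈ Gam G n,
    lhom n x hx ∈ LieModule.lowerCentralSeries ℤ (LR G) (LR G) k}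
  mul_mem' := by
    rintro x y ⟨hx, hx'⟩ ⟨hy, hy'⟩
    exact ⟨mul_mem hx hy, by rw [← lhom_add_lhom hx hy]; exact add_mem hx' hy'⟩
  one_mem' := ⟨one_mem _, by rw [lhom_one]; exact zero_mem _⟩
  inv_mem' := by
    rintro x ⟨hx, hx'⟩
    exact ⟨inv_mem hx, by rw [lhom_inv hx]; exact neg_mem hx'⟩

theorem gam_le_lcsSub (n : ℕ+) : Gam G n ≤ lcsSub G n n.natPred := by
  induction n using PNat.recOn with
  | one =>
    intro x hx
    exact ⟨hx, by
      rw [show (1 : ℕ+).natPred = 0 from rfl, LieModule.lowerCentralSeries_zero]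
      exact LieSubmodule.mem_top _⟩
  | succ n ih =>
    have h1 : Gam G ((n + 1 : ℕ+) : ℕ) = ⁅Gam G n, (⊤ : Subgroup G)⁆ := by
      obtain ⟨m, hm⟩ : ∃ m : ℕ, (n : ℕ) = m + 1 := ⟨n.natPred, (PNat.natPred_add_one n).symm⟩
      rw [PNat.add_coe, PNat.one_coe, hm]
      exact gam_succ_succ m
    rw [h1, Subgroup.commutator_le]
    intro p hp q _
    obtain ⟨_, hp'⟩ := ih hp
    have hq : q ∈ Gam G ((1 : ℕ+) : ℕ) := Subgroup.mem_top q
    have hpq : ⁅p, q⁆ ∈ Gam G ((n + 1 : ℕ+) : ℕ) := gam_comm_pnat hp hq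
    refine ⟨hpq, ?_⟩
    have h2 : lhom (n + 1) ⁅p, q⁆ hpq = -⁅lhom 1 q hq, lhom n p hp⁆ := by
      rw [← lie_lhom_lhom hp hq, lie_skew]
    have h3 : (n + 1).natPred = n.natPred + 1 := by
      have e1 := PNat.natPred_add_one (n + 1)
      have e2 := PNat.natPred_add_one n
      rw [PNat.add_coe, PNat.one_coe] at e1
      omega
    rw [h2, h3, LieModule.lowerCentralSeries_succ]
    exact neg_mem (LieSubmodule.lie_mem_lie (LieSubmodule.mem_top _) hp')

/-- If the `c`-th term of the lower central series of `LR G` vanishes then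
`γ_{c+1}(G) = γ_{c+2}(G)`. -/
theorem gam_le_succ_of_lie (c : ℕ)
    (h : LieModule.lowerCentralSeries ℤ (LR G) (LR G) c = ⊥) :
    (⊤ : Subgroup G).lowerCentralSeries c ≤ (⊤ : Subgroup G).lowerCentralSeries (c + 1) := by
  intro x hx
  have hx' : x ∈ Gam G ((c.succPNat : ℕ+) : ℕ) := hx
  obtain ⟨_, h1⟩ := gam_le_lcsSub c.succPNat hx'
  rw [Nat.natPred_succPNat, h] at h1
  have h2 := (LieSubmodule.mem_bot _).1 h1
  have h3 := (lhom_eq_zero_iff hx').1 h2
  exact h3

/-- **Transfer of nilpotency class**: if `G` is nilpotent and the `c`-th term of the lower central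
series of the associated Lie ring vanishes, then so does the `c`-th term of the lower central
series of `G`. -/
theorem lcs_eq_bot_of_lie (hnil : Group.IsNilpotent G) (c : ℕ)
    (h : LieModule.lowerCentralSeries ℤ (LR G) (LR G) c = ⊥) :
    (⊤ : Subgroup G).lowerCentralSeries c = ⊥ := by
  have h1 := gam_le_succ_of_lie c h
  have h2 : ∀ k, (⊤ : Subgroup G).lowerCentralSeries (c + k) =
      (⊤ : Subgroup G).lowerCentralSeries c := by
    intro k
    induction k with
    | zero => rfl
    | succ k ih =>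
      rw [← Nat.add_assoc, Subgroup.lowerCentralSeries_succ, ih]
      exact le_antisymm (Subgroup.lowerCentralSeries_antitone _ (Nat.le_succ c)) h1
  obtain ⟨m, hm⟩ := Subgroup.nilpotent_iff_lowerCentralSeries.1 hnil
  have h3 : (⊤ : Subgroup G).lowerCentralSeries (c + m) = ⊥ := by
    rw [eq_bot_iff, ← hm]
    exact Subgroup.lowerCentralSeries_antitone _ (Nat.le_add_left m c)
  rw [← h2 m, h3]

end Cfsg.Agent.Helper22.LCSLie
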