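import Mathlib
import Cfsg.Agent.Lib.Helper23.HKKDefs

set_option autoImplicit false
set_option linter.unusedSectionVars false
set_option linter.unusedVariables false
set_option linter.style.haveILetI false
set_option linter.unnecessarySimpa false

/-! S3779 piece HKK-KKS (helper22): subset sums of `p - 1` non-zero residues cover `ℤ/p`. -/

namespace Cfsg.Agent.Helper23.HKK

open scoped Pointwise

/-- `a` is the degree sum of a sub-multiset of `l`. -/
def kks_R {p : ℕ} {α : Type*} (deg : α → ZMod p) (l : List α) (a : ZMod p) : Prop :=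
  ∃ l₁ l₂ : List α, l.Perm (l₁ ++ l₂) ∧ (l₁.map deg).sum = a

theorem kks_R_nil {p : ℕ} {α : Type*} (deg : α → ZMod p) : kks_R deg ([] : List α) 0 :=
  ⟨[], [], by simp, by simp⟩

theorem kks_R_cons_skip {p : ℕ} {α : Type*} (deg : α → ZMod p) (y : α) (l : List α) (a : ZMod p)
    (h : kks_R deg l a) : kks_R deg (y :: l) a := by
  obtain ⟨l₁, l₂, hperm, hsum⟩ := h
  refine ⟨l₁, y :: l₂, ?_, hsum⟩
  exact (List.Perm.cons y hperm).trans List.perm_middle.symm

theorem kks_R_cons_take {p : ℕ} {α : Type*} (deg : α → ZMod p) (y : α) (l : List α) (a : ZMod p)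
    (h : kks_R deg l a) : kks_R deg (y :: l) (a + deg y) := by
  obtain ⟨l₁, l₂, hperm, hsum⟩ := h
  refine ⟨y :: l₁, l₂, ?_, ?_⟩
  · exact List.Perm.cons y hperm
  · rw [List.map_cons, List.sum_cons, hsum, add_comm]

theorem kks_card {p : ℕ} (hp : p.Prime) {α : Type*} (deg : α → ZMod p) (l : List α)
    (hl : ∀ y ∈ l, deg y ≠ 0) :
    ∃ S : Finset (ZMod p), (∀ a ∈ S, kks_R deg l a) ∧ min p (l.length + 1) ≤ S.card := by
  haveI : Fact p.Prime := ⟨hp⟩
  induction l with
  | nil =>
    refine ⟨{0}, ?_, ?_⟩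
    · intro a ha
      rw [Finset.mem_singleton] at ha
      subst ha
      exact kks_R_nil deg
    · simp
  | cons y l ih =>
    obtain ⟨S, hS, hcard⟩ := ih (fun z hz => hl z (List.mem_cons_of_mem y hz))
    have hb : deg y ≠ 0 := hl y List.mem_cons_self
    have hSne : S.Nonempty := by
      rw [← Finset.card_pos]
      have : 0 < min p (l.length + 1) := lt_min hp.pos (Nat.succ_pos _)
      omega
    have htne : ({0, deg y} : Finset (ZMod p)).Nonempty := ⟨0, by simp⟩
    have hcd := ZMod.cauchy_davenport hp hSne htne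
    have ht2 : ({0, deg y} : Finset (ZMod p)).card = 2 := by
      rw [Finset.card_pair]
      exact fun h => hb h.symm
    refine ⟨S + {0, deg y}, ?_, ?_⟩
    · intro a ha
      rw [Finset.mem_add] at ha
      obtain ⟨s, hs, t, ht, rfl⟩ := ha
      rw [Finset.mem_insert, Finset.mem_singleton] at ht
      rcases ht with rfl | rfl
      · rw [add_zero]
        exact kks_R_cons_skip deg y l s (hS s hs)
      · exact kks_R_cons_take deg y l s (hS s hs)
    · rw [ht2] at hcd
      refine le_trans ?_ hcd
      rw [List.length_cons]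
      omega

theorem subset_sum {p : ℕ} (hp : p.Prime) {α : Type*} (deg : α → ZMod p) (l : List α)
    (hl : ∀ y ∈ l, deg y ≠ 0) (hlen : l.length = p - 1) (a : ZMod p) :
    ∃ l₁ l₂ : List α, l.Perm (l₁ ++ l₂) ∧ (l₁.map deg).sum = a := by
  haveI : Fact p.Prime := ⟨hp⟩
  obtain ⟨S, hS, hcard⟩ := kks_card hp deg l hl
  have h1 : l.length + 1 = p := by have := hp.pos; omega
  rw [h1, min_self] at hcard
  have h2 : S = Finset.univ := by
    apply Finset.eq_univ_of_card
    have := Finset.card_le_univ S
    rw [ZMod.card] at this ⊢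
    omega
  exact hS a (by rw [h2]; exact Finset.mem_univ a)

end Cfsg.Agent.Helper23.HKK
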