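import Mathlib
import Cfsg.Agent.Lib.Helper23.HKKDefs
import Cfsg.Agent.Lib.Helper5.HKKKRW
import Cfsg.Agent.Lib.Helper15.HKKKRA
import Cfsg.Agent.Lib.Helper15.HKKKRD

set_option autoImplicit false
set_option linter.unusedSectionVars false
set_option linter.unusedVariables false
set_option linter.style.haveILetI false
set_option linter.unnecessarySimpa false

/-! S3779 piece HKK-KRC (helper22): Kreknin's induction `kreknin_C` and Kreknin's theorem. -/

namespace Cfsg.Agent.Helper23.HKK

section K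

variable {L : Type*} [LieRing L]

theorem krc_val_add {n : ℕ} [NeZero n] (a b : ZMod n) :
    (a + b).val = a.val + b.val ∨ (a + b).val + n = a.val + b.val := by
  have ha := ZMod.val_lt a
  have hb := ZMod.val_lt b
  rw [ZMod.val_add]
  rcases lt_or_ge (a.val + b.val) n with h | h
  · left
    exact Nat.mod_eq_of_lt h
  · right
    rw [Nat.mod_eq_sub_mod h, Nat.mod_eq_of_lt (by omega)]
    omega

/-- The key step: a homogeneous element of degree `≥ k+1` of the `(f+1)`-st derived term lies in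
`W gr (k+1)`, given `C(k)` for `gr` at level `f`. -/
theorem krc_key {n : ℕ} [NeZero n] (gr : ZMod n → AddSubgroup L) (hG : Grading n gr) (k f : ℕ)
    (hC : ∀ j : ZMod n, Dh gr f j ≤ W gr k j) (d : ZMod n) (hd : k + 1 ≤ d.val) (x : L)
    (hx : x ∈ Dh gr (f + 1) d) : x ∈ W gr (k + 1) d := by
  have hdn := ZMod.val_lt d
  change x ∈ AddSubgroup.closure {z | ∃ a b : ZMod n, a + b = d ∧ ∃ x ∈ Dh gr f a,
    ∃ y ∈ Dh gr f b, z = ⁅x, y⁆} at hx
  induction hx using AddSubgroup.closure_induction with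
  | mem z hz =>
    obtain ⟨a, b, hab, u, hu, v, hv, rfl⟩ := hz
    have hua : u ∈ gr a := Dh_le_gr gr hG f a hu
    have hvb : v ∈ gr b := Dh_le_gr gr hG f b hv
    have huW : u ∈ W gr k a := hC a hu
    have hvW : v ∈ W gr k b := hC b hv
    by_cases ha0 : a = 0
    · subst ha0
      rw [hG.zero, AddSubgroup.mem_bot] at hua
      rw [hua, zero_lie]
      exact zero_mem _
    by_cases hb0 : b = 0
    · subst hb0
      rw [hG.zero, AddSubgroup.mem_bot] at hvb
      rw [hvb, lie_zero]
      exact zero_mem _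
    have ha1 : 1 ≤ a.val := Nat.one_le_iff_ne_zero.2 (fun h => ha0 ((ZMod.val_eq_zero a).1 h))
    have hb1 : 1 ≤ b.val := Nat.one_le_iff_ne_zero.2 (fun h => hb0 ((ZMod.val_eq_zero b).1 h))
    have han := ZMod.val_lt a
    have hbn := ZMod.val_lt b
    rcases Nat.lt_or_ge (k + 1) d.val with hd2 | hd2
    · -- generator of `W gr (k+1)`
      refine W_gen gr (k + 1) d hd2 _ ?_
      rw [← hab]
      exact hG.br a b u v hua hvb
    · have hdk : d.val = k + 1 := le_antisymm hd2 hd
      have hsum := krc_val_add a b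
      rw [hab, hdk] at hsum
      rcases hsum with hsum | hsum
      · rw [← hab]
        exact subA gr hG k (by omega) a b ha1 hb1 hsum.symm u v huW hvW
      · have ha2 : k + 1 + 1 ≤ a.val := by omega
        have hb2 : k + 1 + 1 ≤ b.val := by omega
        rw [← hab]
        exact AddSubgroup.subset_closure
          (Mono.step a b u v (Mono.gen a u ha2 hua) hb2 hvb)
  | zero => exact zero_mem _
  | add y z _ _ hy hz => exact add_mem hy hz
  | neg y _ hy => exact neg_mem hy

theorem krc_mono_mem {n : ℕ} [NeZero n] (gr : ZMod n → AddSubgroup L) (hG : Grading n gr) (k f : ℕ)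
    (hC : ∀ j : ZMod n, Dh gr f j ≤ W gr k j) (j : ZMod n) (x : L)
    (h : Mono (Dh gr (f + 1)) k j x) : x ∈ W gr (k + 1) j := by
  induction h with
  | gen d y hd hy => exact krc_key gr hG k f hC d hd y hy
  | step e d z c hz hd hc ih =>
    exact W_lie gr hG (k + 1) e d z c ih (krc_key gr hG k f hC d hd c hc)

/-- `W (Dh gr (f+1)) k j ≤ W gr (k+1) j`. -/
theorem krc_W_le {n : ℕ} [NeZero n] (gr : ZMod n → AddSubgroup L) (hG : Grading n gr) (k f : ℕ)
    (hC : ∀ j : ZMod n, Dh gr f j ≤ W gr k j) (j : ZMod n) :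
    W (Dh gr (f + 1)) k j ≤ W gr (k + 1) j := by
  unfold W
  rw [AddSubgroup.closure_le]
  intro x hx
  exact krc_mono_mem gr hG k f hC j x hx

theorem kreknin_C (n : ℕ) [NeZero n] : ∀ k : ℕ, ∀ gr : ZMod n → AddSubgroup L, Grading n gr →
    ∀ j : ZMod n, Dh gr (2 ^ k - 1) j ≤ W gr k j := by
  intro k
  induction k with
  | zero =>
    intro gr hG j x hx
    have hx' : x ∈ gr j := hx
    by_cases hj : j = 0
    · subst hj
      rw [hG.zero, AddSubgroup.mem_bot] at hx'
      rw [hx']
      exact zero_mem _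
    · exact W_gen gr 0 j (Nat.one_le_iff_ne_zero.2 (fun h => hj ((ZMod.val_eq_zero j).1 h))) x hx'
  | succ k ih =>
    intro gr hG j
    have hpos : 1 ≤ 2 ^ k := Nat.one_le_two_pow
    have h1 : 2 ^ (k + 1) - 1 = (2 ^ k - 1 + 1) + (2 ^ k - 1) := by
      rw [pow_succ]; omega
    have hG'' : Grading n (Dh gr (2 ^ k - 1 + 1)) := Dh_grading gr hG _
    have h2 := ih (Dh gr (2 ^ k - 1 + 1)) hG'' j
    rw [Dh_Dh] at h2
    rw [h1]
    exact le_trans h2 (krc_W_le gr hG k (2 ^ k - 1) (ih gr hG) j)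

theorem krc_mono_false {n : ℕ} [NeZero n] (gr : ZMod n → AddSubgroup L) (j : ZMod n) (x : L)
    (h : Mono gr (n - 1) j x) : False := by
  have hn : n - 1 + 1 = n := Nat.sub_add_cancel (Nat.one_le_iff_ne_zero.2 (NeZero.ne n))
  induction h with
  | gen d y hd hy =>
    have := ZMod.val_lt d
    omega
  | step e d z c hz hd hc ih => exact ih

theorem krc_W_top {n : ℕ} [NeZero n] (gr : ZMod n → AddSubgroup L) (j : ZMod n) :
    W gr (n - 1) j = ⊥ := by
  unfold W
  rw [eq_bot_iff, AddSubgroup.closure_le]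
  intro x hx
  exact (krc_mono_false gr j x hx).elim

/-- Kreknin's theorem -/
theorem kreknin {n : ℕ} [NeZero n] (gr : ZMod n → AddSubgroup L) (hG : Grading n gr)
    (hspan : ⨆ i, gr i = ⊤) : dserIn (⊤ : AddSubgroup L) (2 ^ (n - 1) - 1) = ⊥ := by
  rw [eq_bot_iff]
  refine le_trans (dser_le_Dh gr hG hspan _) ?_
  rw [iSup_le_iff]
  intro j
  have := kreknin_C (L := L) n (n - 1) gr hG j
  rwa [krc_W_top] at this

end K

end Cfsg.Agent.Helper23.HKK
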