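import Mathlib
import Cfsg.Prelude.Def_Transfer

/-!
# The subgroup generated by the elements of order prime to `p`

Shared library of helper22.  Everything lives in `Cfsg.Agent.Helper22`.
-/

set_option autoImplicit false

namespace Cfsg.Agent.Helper22

open Subgroup

variable {G : Type*} [Group G] {p : ℕ}

/-- Elements of order prime to `p` lie in `pResidual p G`. -/
theorem mem_pResidual_of_coprime (g : G) (h : Nat.Coprime (orderOf g) p) :
    g ∈ Cfsg.pResidual p G :=
  Subgroup.subset_closure h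

/-- `pResidual p G` is a normal subgroup. -/
theorem pResidual_normal : (Cfsg.pResidual p G).Normal := by
  constructor
  intro n hn g
  unfold Cfsg.pResidual at hn ⊢
  induction hn using Subgroup.closure_induction with
  | mem x hx =>
    apply Subgroup.subset_closure
    change Nat.Coprime (orderOf (g * x * g⁻¹)) p
    have : g * x * g⁻¹ = MulAut.conj g x := by simp [MulAut.conj_apply]
    rw [this, (MulAut.conj g).orderOf_eq x]
    exact hx
  | one => simp
  | mul x y _ _ hx hy =>
    have : g * (x * y) * g⁻¹ = (g * x * g⁻¹) * (g * y * g⁻¹) := by group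
    rw [this]
    exact Subgroup.mul_mem _ hx hy
  | inv x _ hx =>
    have : g * x⁻¹ * g⁻¹ = (g * x * g⁻¹)⁻¹ := by group
    rw [this]
    exact Subgroup.inv_mem _ hx

/-- A homomorphism to a group all of whose elements have `p`-power order kills `pResidual`. -/
theorem pResidual_le_ker {A : Type*} [Group A] [Fact p.Prime] (f : G →* A)
    (hA : ∀ a : A, ∃ j : ℕ, orderOf a = p ^ j) : Cfsg.pResidual p G ≤ f.ker := by
  have hp : p.Prime := Fact.out
  unfold Cfsg.pResidual
  rw [Subgroup.closure_le]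
  intro y hy
  change Nat.Coprime (orderOf y) p at hy
  rw [SetLike.mem_coe, MonoidHom.mem_ker]
  obtain ⟨j, hj⟩ := hA (f y)
  have h1 : orderOf (f y) ∣ orderOf y := orderOf_map_dvd _ y
  rw [hj] at h1
  rcases Nat.eq_zero_or_pos j with hj0 | hjpos
  · rw [hj0, pow_zero, orderOf_eq_one_iff] at hj
    exact hj
  · exfalso
    have : p ∣ orderOf y := dvd_trans (dvd_pow_self p (by omega)) h1
    have := Nat.Coprime.eq_one_of_dvd hy.symm this
    exact hp.one_lt.ne' this

/-- A homomorphism to a `p`-group kills `pResidual`. -/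
theorem pResidual_le_ker_of_isPGroup {A : Type*} [Group A] [Fact p.Prime] (f : G →* A)
    (hA : IsPGroup p A) : Cfsg.pResidual p G ≤ f.ker := by
  apply pResidual_le_ker f
  intro a
  obtain ⟨k, hk⟩ := hA a
  have hp : p.Prime := Fact.out
  obtain ⟨j, -, hj⟩ := (Nat.dvd_prime_pow hp).1 (orderOf_dvd_of_pow_eq_one hk)
  exact ⟨j, hj⟩

section Finite

variable [Finite G] [Fact p.Prime]

/-- Every element has a `p`-power power in `pResidual p G`. -/
theorem exists_pow_mem_pResidual (g : G) : ∃ a : ℕ, g ^ (p ^ a) ∈ Cfsg.pResidual p G := by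
  have hp : p.Prime := Fact.out
  have hne : orderOf g ≠ 0 := (orderOf_pos g).ne'
  obtain ⟨a, m, hm, ham⟩ := Nat.exists_eq_pow_mul_and_not_dvd hne p hp.ne_one
  refine ⟨a, mem_pResidual_of_coprime _ ?_⟩
  have h2 : orderOf (g ^ (p ^ a)) ∣ m := by
    apply orderOf_dvd_of_pow_eq_one
    rw [← pow_mul, ← ham]
    exact pow_orderOf_eq_one g
  exact Nat.Coprime.coprime_dvd_left h2 ((Nat.Prime.coprime_iff_not_dvd hp).mpr hm).symm

/-- The quotient by `pResidual p G` is a `p`-group. -/
theorem isPGroup_quotient_pResidual [(Cfsg.pResidual p G).Normal] :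
    IsPGroup p (G ⧸ Cfsg.pResidual p G) := by
  intro q
  obtain ⟨g, rfl⟩ := QuotientGroup.mk_surjective q
  obtain ⟨a, ha⟩ := exists_pow_mem_pResidual (p := p) g
  refine ⟨a, ?_⟩
  rw [← QuotientGroup.mk_pow, QuotientGroup.eq_one_iff]
  exact ha

/-- The index of `pResidual p G` is a power of `p`. -/
theorem index_pResidual : ∃ n : ℕ, (Cfsg.pResidual p G).index = p ^ n := by
  have : (Cfsg.pResidual p G).Normal := pResidual_normal
  have h := isPGroup_quotient_pResidual (G := G) (p := p)
  obtain ⟨n, hn⟩ := h.exists_card_eq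
  exact ⟨n, by rw [Subgroup.index_eq_card]; exact hn⟩

/-- A subgroup of index prime to `p` together with `pResidual p G` generates `G`. -/
theorem sup_pResidual_eq_top (H : Subgroup G) (hH : ¬ p ∣ H.index) :
    H ⊔ Cfsg.pResidual p G = ⊤ := by
  have hp : p.Prime := Fact.out
  obtain ⟨n, hn⟩ := index_pResidual (G := G) (p := p)
  have h1 : (H ⊔ Cfsg.pResidual p G).index ∣ H.index := Subgroup.index_dvd_of_le le_sup_left
  have h2 : (H ⊔ Cfsg.pResidual p G).index ∣ p ^ n := by
    rw [← hn]; exact Subgroup.index_dvd_of_le le_sup_right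
  obtain ⟨j, -, hj⟩ := (Nat.dvd_prime_pow hp).1 h2
  rw [← Subgroup.index_eq_one, hj]
  rcases Nat.eq_zero_or_pos j with hj0 | hjpos
  · rw [hj0, pow_zero]
  · exfalso
    apply hH
    rw [hj] at h1
    exact dvd_trans (dvd_pow_self p (by omega)) h1

/-- A Sylow `p`-subgroup together with `pResidual p G` generates `G`. -/
theorem sylow_sup_pResidual_eq_top (P : Sylow p G) :
    (P : Subgroup G) ⊔ Cfsg.pResidual p G = ⊤ :=
  sup_pResidual_eq_top _ P.not_dvd_index

/-- If `pResidual p G` contains a Sylow `p`-subgroup, it is everything. -/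
theorem pResidual_eq_top_of_sylow_le (P : Sylow p G) (h : (P : Subgroup G) ≤ Cfsg.pResidual p G) :
    Cfsg.pResidual p G = ⊤ := by
  rw [← sylow_sup_pResidual_eq_top P]
  exact (sup_eq_right.2 h).symm

/-- With an abelian Sylow `p`-subgroup, the derived subgroup lies in `pResidual p G`. -/
theorem commutator_le_pResidual_of_abelian_sylow (P : Sylow p G) [IsMulCommutative P] :
    commutator G ≤ Cfsg.pResidual p G := by
  have : (Cfsg.pResidual p G).Normal := pResidual_normal
  rw [← Subgroup.Normal.quotient_commutative_iff_commutator_le]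
  have htop := sylow_sup_pResidual_eq_top P
  have key : ∀ a : G, ∃ t ∈ (P : Subgroup G), (a : G ⧸ Cfsg.pResidual p G) = (t : G) := by
    intro a
    have ha : a ∈ (P : Subgroup G) ⊔ Cfsg.pResidual p G := by rw [htop]; trivial
    rw [Subgroup.mem_sup_of_normal_right] at ha
    obtain ⟨t, ht, r, hr, rfl⟩ := ha
    refine ⟨t, ht, ?_⟩
    rw [QuotientGroup.mk_mul, (QuotientGroup.eq_one_iff r).2 hr, mul_one]
  refine ⟨⟨fun x y => ?_⟩⟩
  obtain ⟨a, rfl⟩ := QuotientGroup.mk_surjective x
  obtain ⟨b, rfl⟩ := QuotientGroup.mk_surjective y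
  obtain ⟨s, hs, hs'⟩ := key a
  obtain ⟨t, ht, ht'⟩ := key b
  rw [hs', ht', ← QuotientGroup.mk_mul, ← QuotientGroup.mk_mul]
  have : s * t = t * s := by
    have h3 : (⟨s, hs⟩ : (P : Subgroup G)) * ⟨t, ht⟩ = ⟨t, ht⟩ * ⟨s, hs⟩ :=
      IsMulCommutative.is_comm.comm _ _
    exact congrArg Subtype.val h3
  rw [this]

end Finite

end Cfsg.Agent.Helper22
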