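import Mathlib
import Cfsg.Prelude.Def_Solvable

/-!
# Basic facts on `Cfsg.pPrimeCore` (helper22 library)
-/

set_option autoImplicit false

namespace Cfsg.Agent.Helper22

open Subgroup

variable {G : Type*} [Group G]

theorem card_sup_dvd_mul (a b : Subgroup G) [hb : b.Normal] :
    Nat.card (a ⊔ b : Subgroup G) ∣ Nat.card a * Nat.card b := by
  have h1 : Nat.card b * b.relIndex (a ⊔ b) = Nat.card (a ⊔ b : Subgroup G) := by
    have := relIndex_mul_relIndex (⊥ : Subgroup G) b (a ⊔ b) bot_le le_sup_right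
    rw [relIndex_bot_left, relIndex_bot_left] at this
    exact this
  rw [← h1, relIndex_sup_right, mul_comm]
  exact Nat.mul_dvd_mul_right (relIndex_dvd_card b a) _

theorem pPrimeCore_normal (p : ℕ) : (Cfsg.pPrimeCore p G).Normal := by
  unfold Cfsg.pPrimeCore
  exact Subgroup.sSup_normal _ (fun H hH => hH.1)

theorem le_pPrimeCore (p : ℕ) (N : Subgroup G) (hN : N.Normal) (hc : (Nat.card N).Coprime p) :
    N ≤ Cfsg.pPrimeCore p G := by
  unfold Cfsg.pPrimeCore
  exact le_sSup ⟨hN, hc⟩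

theorem card_pPrimeCore_coprime [Finite G] (p : ℕ) : (Nat.card (Cfsg.pPrimeCore p G)).Coprime p := by
  classical
  have : Fintype (Subgroup G) := Fintype.ofFinite _
  unfold Cfsg.pPrimeCore
  set 𝒮 : Set (Subgroup G) := {N : Subgroup G | N.Normal ∧ (Nat.card N).Coprime p} with h𝒮
  have key : ((𝒮.toFinset).sup id).Normal ∧ (Nat.card ((𝒮.toFinset).sup id : Subgroup G)).Coprime p := by
    apply Finset.sup_induction (p := fun N : Subgroup G => N.Normal ∧ (Nat.card N).Coprime p)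
    · refine ⟨inferInstance, ?_⟩
      rw [Subgroup.card_bot]
      exact Nat.coprime_one_left p
    · rintro a ⟨ha, hac⟩ b ⟨hb, hbc⟩
      refine ⟨inferInstance, ?_⟩
      exact Nat.Coprime.coprime_dvd_left (card_sup_dvd_mul a b) (Nat.Coprime.mul_left hac hbc)
    · intro N hN
      rw [Set.mem_toFinset] at hN
      exact hN
  rw [Finset.sup_id_eq_sSup, Set.coe_toFinset] at key
  exact key.2

theorem not_dvd_card_pPrimeCore [Finite G] (p : ℕ) (hp : p.Prime) : ¬ p ∣ Nat.card (Cfsg.pPrimeCore p G) := by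
  intro h
  have := card_pPrimeCore_coprime (G := G) p
  have h2 : p ∣ Nat.gcd (Nat.card (Cfsg.pPrimeCore p G)) p := Nat.dvd_gcd h dvd_rfl
  rw [this] at h2
  exact hp.one_lt.ne' (Nat.dvd_one.1 h2)

theorem pPrimeCore_map_le [Finite G] {G' : Type*} [Group G'] (p : ℕ) (e : G ≃* G') :
    (Cfsg.pPrimeCore p G).map e.toMonoidHom ≤ Cfsg.pPrimeCore p G' := by
  apply le_pPrimeCore
  · haveI := pPrimeCore_normal (G := G) p
    exact Subgroup.Normal.map inferInstance e.toMonoidHom e.surjective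
  · have h1 : Nat.card ((Cfsg.pPrimeCore p G).map e.toMonoidHom) = Nat.card (Cfsg.pPrimeCore p G) :=
      Subgroup.card_map_of_injective e.injective
    rw [h1]
    exact card_pPrimeCore_coprime p

theorem pPrimeCore_map_equiv [Finite G] (p : ℕ) (e : G ≃* G) :
    (Cfsg.pPrimeCore p G).map e.toMonoidHom = Cfsg.pPrimeCore p G := by
  apply le_antisymm (pPrimeCore_map_le p e)
  intro z hz
  have h1 := pPrimeCore_map_le p e.symm
  have h2 : e.symm z ∈ Cfsg.pPrimeCore p G := h1 ⟨z, hz, rfl⟩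
  exact ⟨e.symm z, h2, by simp⟩

/-- The `p'`-core of a normal subgroup `M`, viewed in `G`, lies in the `p'`-core of `G`. -/
theorem pPrimeCore_subgroup_le [Finite G] (p : ℕ) (M : Subgroup G) [hM : M.Normal] :
    (Cfsg.pPrimeCore p M).map M.subtype ≤ Cfsg.pPrimeCore p G := by
  apply le_pPrimeCore
  · constructor
    rintro z ⟨z', hz', rfl⟩ g
    refine ⟨MulAut.conjNormal g z', ?_, ?_⟩
    · have := pPrimeCore_map_equiv (G := M) p (MulAut.conjNormal g)
      rw [SetLike.mem_coe, ← this]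
      exact ⟨z', hz', rfl⟩
    · simp [MulAut.conjNormal_apply]
  · have h1 : Nat.card ((Cfsg.pPrimeCore p M).map M.subtype) = Nat.card (Cfsg.pPrimeCore p M) :=
      Subgroup.card_map_of_injective M.subtype_injective
    rw [h1]
    exact card_pPrimeCore_coprime p

theorem card_sup_eq_mul (a b : Subgroup G) [hb : b.Normal] (h : a ⊓ b = ⊥) :
    Nat.card (a ⊔ b : Subgroup G) = Nat.card a * Nat.card b := by
  have h1 : Nat.card b * b.relIndex (a ⊔ b) = Nat.card (a ⊔ b : Subgroup G) := by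
    have := relIndex_mul_relIndex (⊥ : Subgroup G) b (a ⊔ b) bot_le le_sup_right
    rw [relIndex_bot_left, relIndex_bot_left] at this
    exact this
  rw [← h1, relIndex_sup_right, ← inf_relIndex_right, inf_comm, h, relIndex_bot_left, mul_comm]

open scoped commutatorElement in
/-- Commutators modulo a normal subgroup. -/
theorem commutator_mul_div_mem (S : Subgroup G) [hS : S.Normal] (n₁ n₂ s₁ s₂ : G)
    (hs₁ : s₁ ∈ S) (hs₂ : s₂ ∈ S) : ⁅n₁ * s₁, n₂ * s₂⁆ * ⁅n₁, n₂⁆⁻¹ ∈ S := by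
  rw [← QuotientGroup.eq_one_iff]
  have e1 : ((n₁ * s₁ : G) : G ⧸ S) = (n₁ : G ⧸ S) := by
    rw [QuotientGroup.mk_mul, (QuotientGroup.eq_one_iff s₁).2 hs₁, mul_one]
  have e2 : ((n₂ * s₂ : G) : G ⧸ S) = (n₂ : G ⧸ S) := by
    rw [QuotientGroup.mk_mul, (QuotientGroup.eq_one_iff s₂).2 hs₂, mul_one]
  have e3 : ((⁅n₁ * s₁, n₂ * s₂⁆ : G) : G ⧸ S) = ((⁅n₁, n₂⁆ : G) : G ⧸ S) := by
    simp only [commutatorElement_def, QuotientGroup.mk_mul, QuotientGroup.mk_inv]
    rw [← QuotientGroup.mk_mul, ← QuotientGroup.mk_mul, e1, e2]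
  rw [QuotientGroup.mk_mul, QuotientGroup.mk_inv, e3, mul_inv_cancel]

end Cfsg.Agent.Helper22
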