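import Mathlib

/-!
# S3278 piece CENT (helper22): `x ∈ V` and `C_G(x) = C_G(V)`
-/

set_option autoImplicit false

namespace Cfsg.Agent.Helper16.KF

variable {G : Type*} [Group G] [Finite G]

omit [Finite G] in
/-- a 2-element of `C` lies in a normal subgroup of odd index of `C` -/
theorem cent_two_elt_mem {C : Subgroup G} (S₀ : Subgroup G)
    (hodd : ¬ 2 ∣ S₀.relIndex C) (hn : (S₀.subgroupOf C).Normal) {h : G} (hC : h ∈ C) {k : ℕ}
    (ho : orderOf h = 2 ^ k) : h ∈ S₀ := by
  have := hn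
  set q : C ⧸ S₀.subgroupOf C := QuotientGroup.mk (⟨h, hC⟩ : C) with hq
  have h1 : q ^ (2 ^ k) = 1 := by
    rw [hq, ← QuotientGroup.mk_pow]
    have : (⟨h, hC⟩ : C) ^ (2 ^ k) = 1 := by
      apply Subtype.ext
      rw [Subgroup.coe_pow, Subgroup.coe_one, ← ho]
      exact pow_orderOf_eq_one h
    rw [this, QuotientGroup.mk_one]
  have h2 : q ^ (S₀.relIndex C) = 1 := by
    have : Nat.card (C ⧸ S₀.subgroupOf C) = S₀.relIndex C := rfl
    rw [← this]
    exact pow_card_eq_one'
  have hcop : Nat.Coprime (2 ^ k) (S₀.relIndex C) := by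
    apply Nat.Coprime.pow_left
    exact (Nat.Prime.coprime_iff_not_dvd Nat.prime_two).2 hodd
  have h3 : q ^ Nat.gcd (2 ^ k) (S₀.relIndex C) = 1 := pow_gcd_eq_one.2 ⟨h1, h2⟩
  rw [hcop.gcd_eq_one, pow_one] at h3
  have h4 : (⟨h, hC⟩ : C) ∈ S₀.subgroupOf C := (QuotientGroup.eq_one_iff _).1 h3
  exact Subgroup.mem_subgroupOf.1 h4

omit [Finite G] in
theorem cent_mem_zpowers_two {x z : G} (hx : orderOf x = 2) (hz : z ∈ Subgroup.zpowers x) :
    z = 1 ∨ z = x := by
  obtain ⟨k, rfl⟩ := Subgroup.mem_zpowers_iff.1 hz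
  have hx2 : x ^ (2 : ℤ) = 1 := by
    have : x ^ 2 = 1 := by rw [← hx]; exact pow_orderOf_eq_one x
    exact_mod_cast this
  rcases Int.emod_two_eq_zero_or_one k with h | h
  · left
    have hk : k = 2 * (k / 2) := by omega
    rw [hk, zpow_mul, hx2, one_zpow]
  · right
    have hk : k = 2 * (k / 2) + 1 := by omega
    rw [hk, zpow_add, zpow_mul, hx2, one_zpow, one_mul, zpow_one]

omit [Finite G] in
theorem cent_conj_pow {g a x : G} (h1 : g * a * g⁻¹ = a * x) (h2 : g * x * g⁻¹ = x) (n : ℕ) :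
    g ^ n * a * (g ^ n)⁻¹ = a * x ^ n := by
  induction n with
  | zero => simp
  | succ n ih =>
    have e1 : g ^ (n + 1) * a * (g ^ (n + 1))⁻¹ = g * (g ^ n * a * (g ^ n)⁻¹) * g⁻¹ := by
      rw [pow_succ']; group
    have e2 : g * x ^ n * g⁻¹ = x ^ n := by
      have : g * x ^ n * g⁻¹ = (g * x * g⁻¹) ^ n := by rw [conj_pow]
      rw [this, h2]
    rw [e1, ih]
    calc g * (a * x ^ n) * g⁻¹ = (g * a * g⁻¹) * (g * x ^ n * g⁻¹) := by group
      _ = a * x * x ^ n := by rw [h1, e2]
      _ = a * x ^ (n + 1) := by rw [pow_succ', mul_assoc]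

theorem cent_eq (x : G) (hx : orderOf x = 2) (S₀ : Subgroup G)
    (hle : S₀ ≤ Subgroup.centralizer ({x} : Set G)) (hK : IsKleinFour ↥S₀)
    (hodd : ¬ 2 ∣ S₀.relIndex (Subgroup.centralizer ({x} : Set G)))
    (hn : (S₀.subgroupOf (Subgroup.centralizer ({x} : Set G))).Normal) :
    x ∈ S₀ ∧ Subgroup.centralizer ({x} : Set G) = Subgroup.centralizer (S₀ : Set G) := by
  have hxC : x ∈ Subgroup.centralizer ({x} : Set G) := by
    rw [Subgroup.mem_centralizer_iff]
    intro y hy
    rw [Set.mem_singleton_iff] at hy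
    rw [hy]
  have hxS : x ∈ S₀ := cent_two_elt_mem S₀ hodd hn hxC (k := 1) (by rw [hx, pow_one])
  refine ⟨hxS, le_antisymm ?_ ?_⟩
  swap
  · exact Subgroup.centralizer_le (by
      intro y hy
      rw [Set.mem_singleton_iff] at hy
      rw [hy]; exact hxS)
  -- the hard inclusion
  have hx1 : x ≠ 1 := by
    intro h
    rw [h, orderOf_one] at hx
    omega
  have hcomm : ∀ a ∈ S₀, ∀ b ∈ S₀, a * b = b * a := by
    intro a ha b hb
    have h := mul_comm_of_exponent_two (G := S₀) hK.exponent_two ⟨a, ha⟩ ⟨b, hb⟩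
    exact congrArg Subtype.val h
  have hsq : ∀ a ∈ S₀, a * a = 1 := by
    intro a ha
    have h : (⟨a, ha⟩ : S₀) ^ 2 = 1 := by
      rw [← hK.exponent_two]; exact Monoid.pow_exponent_eq_one _
    have := congrArg Subtype.val h
    rw [Subgroup.coe_pow, Subgroup.coe_one, sq] at this
    exact this
  -- index two
  set H : Subgroup S₀ := (Subgroup.zpowers x).subgroupOf S₀ with hH
  have hzle : Subgroup.zpowers x ≤ S₀ := by
    rw [Subgroup.zpowers_le]; exact hxS
  have hHidx : H.index = 2 := by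
    have h1 : Nat.card H = 2 := by
      rw [hH, Nat.card_congr (Subgroup.subgroupOfEquivOfLe hzle).toEquiv, Nat.card_zpowers, hx]
    have h2 := H.card_mul_index
    rw [h1, hK.card_four] at h2
    omega
  intro g hg
  have hgx : g * x * g⁻¹ = x := by
    rw [Subgroup.mem_centralizer_iff] at hg
    have := hg x (Set.mem_singleton x)
    -- this : x * g = g * x
    rw [← this]; group
  have hnorm : ∀ a ∈ S₀, g * a * g⁻¹ ∈ S₀ := by
    intro a ha
    have := hn.conj_mem ⟨a, hle ha⟩ (Subgroup.mem_subgroupOf.2 ha) ⟨g, hg⟩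
    exact Subgroup.mem_subgroupOf.1 this
  rw [Subgroup.mem_centralizer_iff]
  intro a ha
  by_contra hne
  have hne' : g * a * g⁻¹ ≠ a := by
    intro h
    apply hne
    -- a * g = g * a
    calc a * g = (g * a * g⁻¹) * g := by rw [h]
      _ = g * a := by group
  -- `a * (g a g⁻¹) ∈ ⟨x⟩`
  have hmem : (⟨a, ha⟩ : S₀) * ⟨g * a * g⁻¹, hnorm a ha⟩ ∈ H := by
    rw [Subgroup.mul_mem_iff_of_index_two hHidx]
    rw [hH, Subgroup.mem_subgroupOf, Subgroup.mem_subgroupOf]
    show a ∈ Subgroup.zpowers x ↔ g * a * g⁻¹ ∈ Subgroup.zpowers x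
    constructor
    · intro h
      rcases cent_mem_zpowers_two hx h with h | h
      · rw [h]; simp
      · rw [h, hgx]; exact Subgroup.mem_zpowers x
    · intro h
      rcases cent_mem_zpowers_two hx h with h | h
      · have : a = 1 := by
          have : a = g⁻¹ * (g * a * g⁻¹) * g := by group
          rw [this, h]; group
        rw [this]; exact Subgroup.one_mem _
      · have hgx' : g⁻¹ * x * g = x := by
          calc g⁻¹ * x * g = g⁻¹ * (g * x * g⁻¹) * g := by rw [hgx]
            _ = x := by group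
        have : a = x := by
          calc a = g⁻¹ * (g * a * g⁻¹) * g := by group
            _ = g⁻¹ * x * g := by rw [h]
            _ = x := hgx'
        rw [this]; exact Subgroup.mem_zpowers x
  have hmem' : a * (g * a * g⁻¹) ∈ Subgroup.zpowers x := by
    rw [hH, Subgroup.mem_subgroupOf] at hmem
    exact hmem
  have hconj : g * a * g⁻¹ = a * x := by
    rcases cent_mem_zpowers_two hx hmem' with h | h
    · exfalso
      apply hne'
      have : g * a * g⁻¹ = a⁻¹ := eq_inv_of_mul_eq_one_right h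
      rw [this]
      exact inv_eq_of_mul_eq_one_right (hsq a ha)
    · calc g * a * g⁻¹ = a * a * (g * a * g⁻¹) := by rw [hsq a ha, one_mul]
        _ = a * (a * (g * a * g⁻¹)) := by rw [mul_assoc]
        _ = a * x := by rw [h]
  -- the odd part of `g`
  have hopos : orderOf g ≠ 0 := (orderOf_pos g).ne'
  obtain ⟨k, m, hm, hkm⟩ := Nat.exists_eq_two_pow_mul_odd hopos
  have hm0 : m ≠ 0 := by
    rcases hm with ⟨j, hj⟩; omega
  have hord : orderOf (g ^ m) = 2 ^ k := by
    rw [orderOf_pow_of_dvd hm0 ⟨2 ^ k, by rw [hkm]; ring⟩, hkm]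
    exact Nat.mul_div_cancel _ (Nat.pos_of_ne_zero hm0)
  have hhC : g ^ m ∈ Subgroup.centralizer ({x} : Set G) := Subgroup.pow_mem _ hg m
  have hhS : g ^ m ∈ S₀ := cent_two_elt_mem S₀ hodd hn hhC hord
  have h6 := cent_conj_pow hconj hgx m
  have h7 : g ^ m * a * (g ^ m)⁻¹ = a := by
    rw [hcomm _ hhS a ha]; group
  have hxm : x ^ m = x := by
    rcases hm with ⟨j, hj⟩
    have : x ^ 2 = 1 := by rw [← hx]; exact pow_orderOf_eq_one x
    rw [hj, pow_succ, pow_mul, this, one_pow, one_mul]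
  rw [h7, hxm] at h6
  -- a = a * x
  apply hx1
  have : a * 1 = a * x := by rw [mul_one]; exact h6
  exact (mul_left_cancel this).symm

end Cfsg.Agent.Helper16.KF
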