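import Mathlib
import Cfsg.Agent.Lib.Lead.SylowTools

/-!
# S3278 piece FINAL (helper22): `|G| = 60`
-/

set_option autoImplicit false

namespace Cfsg.Agent.Helper16.KF

variable {G : Type*} [Group G] [Finite G]

omit [Finite G] in
/-- a Klein four subgroup lies in its centralizer -/
theorem final_le_centralizer (P : Subgroup G) (hK : IsKleinFour P) :
    P ≤ Subgroup.centralizer (P : Set G) := by
  intro x hx
  rw [Subgroup.mem_centralizer_iff]
  intro y hy
  have h := mul_comm_of_exponent_two (G := P) hK.exponent_two ⟨y, hy⟩ ⟨x, hx⟩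
  exact congrArg Subtype.val h

theorem final_arith (n N C g g₀ : ℕ) (hg₀ : Odd g₀) (hg : g = 4 * g₀) (hnN : n * N = g)
    (h3 : 3 * C ≤ N) (hlt : g < 18 * C) (hC : 4 ≤ C) (hdvd : g ∣ n.factorial) : g = 60 := by
  have hNpos : 0 < N := by omega
  have hn6 : n < 6 := by
    by_contra hcon
    have h6 : 6 ≤ n := by omega
    have : 6 * N ≤ n * N := Nat.mul_le_mul_right _ h6
    omega
  have hN12 : 12 ≤ N := by omega
  obtain ⟨k, hk⟩ := hg₀
  interval_cases n
  · simp at hnN; omega
  · -- n = 1 : g ∣ 1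
    have := Nat.le_of_dvd (by norm_num) hdvd
    simp at this; omega
  · have := Nat.le_of_dvd (by norm_num) hdvd
    simp [Nat.factorial] at this; omega
  · have := Nat.le_of_dvd (by norm_num) hdvd
    simp [Nat.factorial] at this; omega
  · have := Nat.le_of_dvd (by norm_num) hdvd
    simp [Nat.factorial] at this; omega
  · -- n = 5
    have h120 : g ∣ 120 := by simpa [Nat.factorial] using hdvd
    have hg60 : 60 ≤ g := by omega
    obtain ⟨c, hc⟩ := h120
    have hc2 : c ≤ 2 := by
      by_contra hcon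
      have : 3 ≤ c := by omega
      have : g * 3 ≤ g * c := Nat.mul_le_mul_left _ this
      omega
    interval_cases c
    · omega
    · omega
    · omega

theorem card_eq_sixty [IsSimpleGroup G] (g₀ : ℕ) (hg₀ : Odd g₀) (hG : Nat.card G = 4 * g₀)
    (P : Sylow 2 G) (hK : IsKleinFour (P : Subgroup G))
    (h3 : 3 * Nat.card (Subgroup.centralizer ((P : Subgroup G) : Set G)) ≤
      Nat.card (Subgroup.normalizer ((P : Subgroup G) : Set G)))
    (hlt : Nat.card G < 18 * Nat.card (Subgroup.centralizer ((P : Subgroup G) : Set G))) :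
    Nat.card G = 60 := by
  have hg0pos : 0 < g₀ := hg₀.pos
  have hnp : ¬ (Nat.card G).Prime := by
    intro hp
    rw [hG] at hp
    have h2 : 2 ∣ 4 * g₀ := ⟨2 * g₀, by ring⟩
    rcases (Nat.dvd_prime hp).1 h2 with h | h <;> omega
  have hnonab := Cfsg.Agent.Lead.nonabelian_of_not_prime (G := G) hnp
  have h2dvd : 2 ∣ Nat.card G := by rw [hG]; exact ⟨2 * g₀, by ring⟩
  have hdvd := Cfsg.Agent.Lead.card_dvd_factorial_card_sylow (G := G) hnonab (p := 2) h2dvd
  have hnN := Cfsg.Agent.Lead.card_sylow_mul_card_normalizer P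
  have hC4 : 4 ≤ Nat.card (Subgroup.centralizer ((P : Subgroup G) : Set G)) := by
    have h1 := Subgroup.card_le_of_le (final_le_centralizer (P : Subgroup G) hK)
    have h2 : Nat.card (P : Subgroup G) = 4 := hK.card_four
    omega
  exact final_arith _ _ _ _ g₀ hg₀ hG hnN h3 hlt hC4 hdvd

end Cfsg.Agent.Helper16.KF
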