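import Mathlib

/-!
# Sharply 3-transitive groups of odd degree: the kernel, the two-point stabiliser
(helper22's library)
-/

set_option autoImplicit false

namespace Cfsg.Agent.Helper22.Sharp3

/-- triple transitivity -/
def Tr3 (G α : Type*) [SMul G α] : Prop :=
  ∀ a b c a' b' c' : α, a ≠ b → a ≠ c → b ≠ c → a' ≠ b' → a' ≠ c' → b' ≠ c' →
    ∃ g : G, g • a = a' ∧ g • b = b' ∧ g • c = c'

/-- only the identity fixes three points -/
def Uq3 (G α : Type*) [One G] [SMul G α] : Prop :=
  ∀ g : G, ∀ a b c : α, a ≠ b → a ≠ c → b ≠ c → g • a = a → g • b = b → g • c = c → g = 1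

variable {G : Type*} [Group G] {α : Type*} [MulAction G α]

section basic

theorem eq_of_three (hU : Uq3 G α) {g h : G} {a b c : α} (hab : a ≠ b) (hac : a ≠ c) (hbc : b ≠ c)
    (ha : g • a = h • a) (hb : g • b = h • b) (hc : g • c = h • c) : g = h := by
  have := hU (h⁻¹ * g) a b c hab hac hbc (by rw [mul_smul, ha, inv_smul_smul])
    (by rw [mul_smul, hb, inv_smul_smul]) (by rw [mul_smul, hc, inv_smul_smul])
  exact (inv_mul_eq_one.mp this).symm

theorem smul_of_sq {g : G} (hg : g * g = 1) {x y : α} (h : g • x = y) : g • y = x := by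
  rw [← h, ← mul_smul, hg, one_smul]

variable [Fintype α] [DecidableEq α]

/-- an involution has at most one fixed point -/
theorem invol_fix_unique (hU : Uq3 G α) (hodd : Odd (Fintype.card α)) {g : G} (hg : g * g = 1)
    (hg1 : g ≠ 1) {a b : α} (ha : g • a = a) (hb : g • b = b) : a = b := by
  classical
  by_contra hab
  let f : Function.End α := fun x => g • x
  have hf : f ^ 2 ^ 1 = 1 := by
    rw [pow_one, sq]
    funext x
    show g • g • x = x
    rw [← mul_smul, hg, one_smul]
  have : Fact (Nat.Prime 2) := ⟨Nat.prime_two⟩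
  have hmod := Equiv.Perm.card_fixedPoints_modEq (α := α) hf
  have hoddF : Odd (Fintype.card (Function.fixedPoints f)) := by
    have h1 : Fintype.card α % 2 = Fintype.card (Function.fixedPoints f) % 2 := hmod
    have h2 : Fintype.card α % 2 = 1 := Nat.odd_iff.mp hodd
    exact Nat.odd_iff.mpr (by omega)
  have hcard : Fintype.card (Function.fixedPoints f) =
      (Finset.univ.filter (fun x : α => g • x = x)).card := by
    rw [← Fintype.card_subtype]
    rfl
  rw [hcard] at hoddF
  have hamem : a ∈ Finset.univ.filter (fun x : α => g • x = x) := by simp [ha]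
  have hbmem : b ∈ Finset.univ.filter (fun x : α => g • x = x) := by simp [hb]
  have h2 : 2 ≤ (Finset.univ.filter (fun x : α => g • x = x)).card := by
    have : ({a, b} : Finset α) ⊆ Finset.univ.filter (fun x : α => g • x = x) := by
      intro x hx
      rw [Finset.mem_insert, Finset.mem_singleton] at hx
      rcases hx with rfl | rfl
      · exact hamem
      · exact hbmem
    have h3 := Finset.card_le_card this
    rwa [Finset.card_pair hab] at h3
  have h3 : 2 < (Finset.univ.filter (fun x : α => g • x = x)).card := by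
    rcases hoddF with ⟨m, hm⟩
    omega
  obtain ⟨x, hx, y, hy, z, hz, hxy, hxz, hyz⟩ := Finset.two_lt_card.mp h3
  rw [Finset.mem_filter] at hx hy hz
  exact hg1 (hU g x y z hxy hxz hyz hx.2 hy.2 hz.2)

end basic


/-! ### General lemma: a fixed-point-free involutory conjugation inverts -/

section inverts

variable {Γ : Type*} [Group Γ]

theorem inverts_of_fpf (H : Subgroup Γ) [Finite H] (t : Γ) (ht : t * t = 1)
    (hnorm : ∀ h ∈ H, t * h * t⁻¹ ∈ H) (hfix : ∀ h ∈ H, t * h * t⁻¹ = h → h = 1) :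
    ∀ h ∈ H, t * h * t⁻¹ = h⁻¹ := by
  have htinv : t⁻¹ = t := inv_eq_of_mul_eq_one_left ht
  let f : H → H := fun h => ⟨(h : Γ)⁻¹ * (t * h * t⁻¹), H.mul_mem (H.inv_mem h.2) (hnorm h h.2)⟩
  have hinj : Function.Injective f := by
    intro h k hhk
    have h1 : (h : Γ)⁻¹ * (t * h * t⁻¹) = (k : Γ)⁻¹ * (t * k * t⁻¹) := congrArg Subtype.val hhk
    have h2 : t * ((k : Γ) * (h : Γ)⁻¹) * t⁻¹ = (k : Γ) * (h : Γ)⁻¹ := by
      have h3 : (k : Γ) * (h : Γ)⁻¹ = (t * k * t⁻¹) * (t * h * t⁻¹)⁻¹ := by
        rw [eq_mul_inv_iff_mul_eq, mul_assoc, h1, ← mul_assoc, mul_inv_cancel, one_mul]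
      have h3' : t * ((k : Γ) * (h : Γ)⁻¹) * t⁻¹ = (t * k * t⁻¹) * (t * h * t⁻¹)⁻¹ := by group
      exact h3'.trans h3.symm
    have h4 := hfix _ (H.mul_mem k.2 (H.inv_mem h.2)) h2
    apply Subtype.ext
    exact (mul_inv_eq_one.mp h4).symm
  have hsurj : Function.Surjective f := Finite.surjective_of_injective hinj
  intro g hg
  obtain ⟨h, hh⟩ := hsurj ⟨g, hg⟩
  have h1 : g = (h : Γ)⁻¹ * (t * h * t⁻¹) := (congrArg Subtype.val hh).symm
  rw [h1, htinv]
  have e1 : t * ((h : Γ)⁻¹ * (t * h * t)) * t = t * (h : Γ)⁻¹ * t * h * (t * t) := by group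
  have e2 : ((h : Γ)⁻¹ * (t * h * t))⁻¹ = t⁻¹ * (h : Γ)⁻¹ * t⁻¹ * h := by group
  rw [e1, e2, ht, mul_one, htinv]

theorem comm_of_inverts (H : Subgroup Γ) (t : Γ)
    (hinv : ∀ h ∈ H, t * h * t⁻¹ = h⁻¹) {a b : Γ} (ha : a ∈ H) (hb : b ∈ H) : a * b = b * a := by
  have h1 := hinv (a * b) (H.mul_mem ha hb)
  have h2 : t * (a * b) * t⁻¹ = (t * a * t⁻¹) * (t * b * t⁻¹) := by
    simp only [mul_assoc, inv_mul_cancel_left]
  rw [h2, hinv a ha, hinv b hb, mul_inv_rev] at h1
  have := congrArg (·⁻¹) h1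
  simpa using this.symm

end inverts

/-! ### The configuration -/

/-- A sharply triply transitive action of odd degree with three base points. -/
structure Cfg (G α : Type*) [Group G] [MulAction G α] [Fintype α] where
  hT : Tr3 G α
  hU : Uq3 G α
  hodd : Odd (Fintype.card α)
  /-- the point at infinity -/
  inf : α
  /-- the zero point -/
  zer : α
  /-- the unit point -/
  one : α
  hiz : inf ≠ zer
  hio : inf ≠ one
  hzo : zer ≠ one

section cfg

variable [Fintype α] [DecidableEq α] (C : Cfg G α)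

/-- involutions fixing the point at infinity -/
def IsJ (s : G) : Prop := s • C.inf = C.inf ∧ s * s = 1 ∧ s ≠ 1

theorem exists_swap {x y : α} (hx : x ≠ C.inf) (hy : y ≠ C.inf) (hxy : x ≠ y) :
    ∃ s : G, IsJ C s ∧ s • x = y ∧ s • y = x := by
  obtain ⟨s, h1, h2, h3⟩ := C.hT C.inf x y C.inf y x hx.symm hy.symm hxy hy.symm hx.symm hxy.symm
  refine ⟨s, ⟨h1, ?_, ?_⟩, h2, h3⟩
  · apply C.hU (s * s) C.inf x y hx.symm hy.symm hxy
    · rw [mul_smul, h1, h1]
    · rw [mul_smul, h2, h3]
    · rw [mul_smul, h3, h2]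
  · intro hs
    rw [hs, one_smul] at h2
    exact hxy h2

theorem smul_ne_inf {s : G} (hs : s • C.inf = C.inf) {x : α} (hx : x ≠ C.inf) :
    s • x ≠ C.inf := by
  intro h
  apply hx
  have h' : s • x = s • C.inf := by rw [h, hs]
  exact MulAction.injective s h'

theorem J_fpf {s : G} (hs : IsJ C s) {x : α} (hx : x ≠ C.inf) : s • x ≠ x := by
  intro h
  exact hx (invol_fix_unique C.hU C.hodd hs.2.1 hs.2.2 h hs.1)

theorem J_unique {s t : G} (hs : IsJ C s) (ht : IsJ C t) {x : α} (hx : x ≠ C.inf)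
    (h : s • x = t • x) : s = t := by
  apply eq_of_three C.hU (a := C.inf) (b := x) (c := s • x) hx.symm
    (smul_ne_inf C hs.1 hx).symm (J_fpf C hs hx).symm
  · rw [hs.1, ht.1]
  · exact h
  · rw [smul_of_sq hs.2.1 rfl, h, smul_of_sq ht.2.1 rfl]

/-- an element fixing infinity and nothing else is an involution -/
theorem fpf_isJ {c : G} (hc : c • C.inf = C.inf) (hfpf : ∀ x, x ≠ C.inf → c • x ≠ x) :
    IsJ C c := by
  classical
  by_contra hcon
  have hex : ∀ x : α, ∃ u : G, x ≠ C.inf → (IsJ C u ∧ u • x = c • x) := by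
    intro x
    by_cases hx : x = C.inf
    · exact ⟨1, fun h => absurd hx h⟩
    · obtain ⟨u, hu, hu1, -⟩ := exists_swap C hx (smul_ne_inf C hc hx) (hfpf x hx).symm
      exact ⟨u, fun _ => ⟨hu, hu1⟩⟩
  choose u hu using hex
  let f : α → α := fun x => if x = C.inf then C.inf else u x • C.zer
  have hinj : Function.Injective f := by
    intro x y hxy
    by_cases hx : x = C.inf
    · by_cases hy : y = C.inf
      · rw [hx, hy]
      · exfalso
        simp only [f, if_pos hx, if_neg hy] at hxy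
        exact smul_ne_inf C (hu y hy).1.1 C.hiz.symm hxy.symm
    · by_cases hy : y = C.inf
      · exfalso
        simp only [f, if_neg hx, if_pos hy] at hxy
        exact smul_ne_inf C (hu x hx).1.1 C.hiz.symm hxy
      · simp only [f, if_neg hx, if_neg hy] at hxy
        have huu : u x = u y := J_unique C (hu x hx).1 (hu y hy).1 C.hiz.symm hxy
        by_contra hne
        apply hcon
        have : u x = c := by
          apply eq_of_three C.hU (a := C.inf) (b := x) (c := y) (Ne.symm hx) (Ne.symm hy) hne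
          · rw [(hu x hx).1.1, hc]
          · exact (hu x hx).2
          · rw [huu]; exact (hu y hy).2
        rw [← this]
        exact (hu x hx).1
  have hsurj : Function.Surjective f := Finite.surjective_of_injective hinj
  obtain ⟨x, hx⟩ := hsurj C.zer
  by_cases hxi : x = C.inf
  · simp only [f, if_pos hxi] at hx
    exact C.hiz hx
  · simp only [f, if_neg hxi] at hx
    exact J_fpf C (hu x hxi).1 C.hiz.symm hx

/-- the regular normal subgroup of the stabiliser of infinity -/
def kerK : Subgroup G where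
  carrier := {g | g = 1 ∨ IsJ C g}
  one_mem' := Or.inl rfl
  inv_mem' := by
    rintro g (rfl | hg)
    · left; simp
    · right
      have : g⁻¹ = g := inv_eq_of_mul_eq_one_left hg.2.1
      rw [this]; exact hg
  mul_mem' := by
    rintro s t (rfl | hs) (rfl | ht)
    · left; simp
    · right; rwa [one_mul]
    · right; rwa [mul_one]
    · by_cases hst : s = t
      · left; rw [hst]; exact ht.2.1
      · right
        apply fpf_isJ C
        · rw [mul_smul, ht.1, hs.1]
        · intro x hx hfix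
          apply hst
          apply J_unique C hs ht hx
          have h1 : t • x = s⁻¹ • x := by rw [eq_inv_smul_iff, ← mul_smul, hfix]
          have h2 : s⁻¹ = s := inv_eq_of_mul_eq_one_left hs.2.1
          rw [h2] at h1
          exact h1.symm

theorem mem_kerK {g : G} : g ∈ kerK C ↔ g = 1 ∨ IsJ C g := Iff.rfl

theorem kerK_sq {k : G} (hk : k ∈ kerK C) : k * k = 1 := by
  rcases hk with rfl | hk
  · simp
  · exact hk.2.1

theorem kerK_inf {k : G} (hk : k ∈ kerK C) : k • C.inf = C.inf := by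
  rcases hk with rfl | hk
  · simp
  · exact hk.1

theorem kerK_fpf {k : G} (hk : k ∈ kerK C) (hk1 : k ≠ 1) {x : α} (hx : x ≠ C.inf) :
    k • x ≠ x := by
  rcases hk with rfl | hk
  · exact absurd rfl hk1
  · exact J_fpf C hk hx

theorem kerK_trans {x y : α} (hx : x ≠ C.inf) (hy : y ≠ C.inf) :
    ∃ k ∈ kerK C, k • x = y := by
  by_cases hxy : x = y
  · exact ⟨1, (kerK C).one_mem, by rw [one_smul, hxy]⟩
  · obtain ⟨s, hs, h1, -⟩ := exists_swap C hx hy hxy
    exact ⟨s, Or.inr hs, h1⟩

theorem kerK_reg {k k' : G} (hk : k ∈ kerK C) (hk' : k' ∈ kerK C) {x : α} (hx : x ≠ C.inf)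
    (h : k • x = k' • x) : k = k' := by
  by_contra hne
  have hmem : k'⁻¹ * k ∈ kerK C := (kerK C).mul_mem ((kerK C).inv_mem hk') hk
  have h1 : k'⁻¹ * k ≠ 1 := by
    intro h1
    apply hne
    exact (inv_mul_eq_one.mp h1).symm
  apply kerK_fpf C hmem h1 hx
  rw [mul_smul, h, inv_smul_smul]

theorem kerK_conj {g : G} (hg : g • C.inf = C.inf) {k : G} (hk : k ∈ kerK C) :
    g * k * g⁻¹ ∈ kerK C := by
  rcases hk with rfl | hk
  · left; simp
  · right
    have hginv : g⁻¹ • C.inf = C.inf := by rw [inv_smul_eq_iff, hg]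
    refine ⟨?_, ?_, ?_⟩
    · rw [mul_smul, mul_smul, hginv, hk.1, hg]
    · have : g * k * g⁻¹ * (g * k * g⁻¹) = g * (k * k) * g⁻¹ := by
        simp only [mul_assoc, inv_mul_cancel_left]
      rw [this, hk.2.1, mul_one, mul_inv_cancel]
    · intro h
      apply hk.2.2
      have := congrArg (fun z => g⁻¹ * z * g) h
      simpa [mul_assoc] using this

/-- the two point stabiliser -/
def stabH : Subgroup G := MulAction.stabilizer G C.inf ⊓ MulAction.stabilizer G C.zer

theorem mem_stabH {h : G} : h ∈ stabH C ↔ h • C.inf = C.inf ∧ h • C.zer = C.zer := by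
  unfold stabH
  rw [Subgroup.mem_inf, MulAction.mem_stabilizer_iff, MulAction.mem_stabilizer_iff]

theorem stabH_eq_one {h : G} (hh : h ∈ stabH C) {x : α} (hx : x ≠ C.inf) (hx0 : x ≠ C.zer)
    (hfix : h • x = x) : h = 1 :=
  C.hU h C.inf C.zer x C.hiz hx.symm hx0.symm ((mem_stabH C).mp hh).1 ((mem_stabH C).mp hh).2 hfix

/-- the involution swapping zero and infinity and fixing one -/
theorem exists_t : ∃ t : G, t • C.inf = C.zer ∧ t • C.zer = C.inf ∧ t • C.one = C.one ∧
    t * t = 1 ∧ t ≠ 1 := by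
  obtain ⟨t, h1, h2, h3⟩ := C.hT C.inf C.zer C.one C.zer C.inf C.one C.hiz C.hio C.hzo
    C.hiz.symm C.hzo C.hio
  refine ⟨t, h1, h2, h3, ?_, ?_⟩
  · apply C.hU (t * t) C.inf C.zer C.one C.hiz C.hio C.hzo
    · rw [mul_smul, h1, h2]
    · rw [mul_smul, h2, h1]
    · rw [mul_smul, h3, h3]
  · intro h
    rw [h, one_smul] at h1
    exact C.hiz h1

theorem stabH_conj_t {t : G} (h1 : t • C.inf = C.zer) (h2 : t • C.zer = C.inf) (ht : t * t = 1)
    {h : G} (hh : h ∈ stabH C) : t * h * t⁻¹ ∈ stabH C := by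
  have htinv : t⁻¹ = t := inv_eq_of_mul_eq_one_left ht
  rw [mem_stabH] at hh ⊢
  rw [htinv]
  constructor
  · rw [mul_smul, mul_smul, h1, hh.2, h2]
  · rw [mul_smul, mul_smul, h2, hh.1, h1]

theorem stabH_inverted [Finite G] {t : G} (h1 : t • C.inf = C.zer) (h2 : t • C.zer = C.inf)
    (h3 : t • C.one = C.one) (ht : t * t = 1) (ht1 : t ≠ 1) :
    ∀ h ∈ stabH C, t * h * t⁻¹ = h⁻¹ := by
  apply inverts_of_fpf (stabH C) t ht (fun h hh => stabH_conj_t C h1 h2 ht hh)
  intro h hh hcomm
  have hth : t * h = h * t := by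
    have := congrArg (· * t) hcomm
    simpa [mul_assoc] using this
  have hfix : t • (h • C.one) = h • C.one := by
    rw [← mul_smul, hth, mul_smul, h3]
  have h5 : h • C.one = C.one := invol_fix_unique C.hU C.hodd ht ht1 hfix h3
  exact stabH_eq_one C hh C.hio.symm C.hzo.symm h5

theorem stabH_comm [Finite G] {a b : G} (ha : a ∈ stabH C) (hb : b ∈ stabH C) :
    a * b = b * a := by
  obtain ⟨t, h1, h2, h3, ht, ht1⟩ := exists_t C
  exact comm_of_inverts (stabH C) t (stabH_inverted C h1 h2 h3 ht ht1) ha hb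

end cfg

end Cfsg.Agent.Helper22.Sharp3
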