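import Mathlib
import Cfsg.Agent.Lib.Helper22.Sharp3

/-!
# Groups whose involution centralisers are elementary abelian 2-groups: basic facts
(helper22's library)
-/

set_option autoImplicit false

namespace Cfsg.Agent.Helper22.BSW

open Subgroup MulAction

variable {G : Type*} [Group G]

/-- involutions -/
def IsInv (t : G) : Prop := t ≠ 1 ∧ t * t = 1

/-- the hypothesis: involution centralisers are elementary abelian 2-groups -/
def CIT (G : Type*) [Group G] : Prop :=
  ∀ t : G, IsInv t →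
    (∀ a ∈ centralizer ({t} : Set G), ∀ b ∈ centralizer ({t} : Set G), a * b = b * a) ∧
    ∀ c ∈ centralizer ({t} : Set G), c * c = 1

theorem mem_smul_sylow {p : ℕ} {g x : G} {P : Sylow p G} : x ∈ g • P ↔ g⁻¹ * x * g ∈ P := by
  have h1 : x ∈ g • P ↔ x ∈ ((g • P : Sylow p G) : Subgroup G) := Iff.rfl
  rw [h1, Sylow.coe_subgroup_smul, Subgroup.mem_pointwise_smul_iff_inv_smul_mem]
  have : (MulAut.conj g)⁻¹ • x = g⁻¹ * x * g := by
    rw [← map_inv, MulAut.smul_def, MulAut.conj_apply, inv_inv]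
  rw [this]
  rfl

theorem conj_mem_smul_sylow {p : ℕ} {g x : G} {P : Sylow p G} (hx : x ∈ P) :
    g * x * g⁻¹ ∈ g • P := by
  rw [mem_smul_sylow]
  have : g⁻¹ * (g * x * g⁻¹) * g = x := by group
  rw [this]; exact hx

theorem IsInv.inv_eq {t : G} (ht : IsInv t) : t⁻¹ = t := inv_eq_of_mul_eq_one_left ht.2

theorem IsInv.conj {t : G} (ht : IsInv t) (g : G) : IsInv (g * t * g⁻¹) := by
  constructor
  · intro h
    apply ht.1
    have := congrArg (fun z => g⁻¹ * z * g) h
    simpa [mul_assoc] using this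
  · have : g * t * g⁻¹ * (g * t * g⁻¹) = g * (t * t) * g⁻¹ := by group
    rw [this, ht.2, mul_one, mul_inv_cancel]

theorem isInv_iff_orderOf {t : G} : IsInv t ↔ orderOf t = 2 := by
  have : Fact (Nat.Prime 2) := ⟨Nat.prime_two⟩
  rw [orderOf_eq_prime_iff, sq]
  exact ⟨fun h => ⟨h.2, h.1⟩, fun h => ⟨h.2, h.1⟩⟩

theorem mem_cent {t x : G} : x ∈ centralizer ({t} : Set G) ↔ x * t = t * x :=
  Subgroup.mem_centralizer_singleton_iff

section cit

variable (hC : CIT G)
include hC

theorem cent_eq_of_mem {t u : G} (ht : IsInv t) (hu : IsInv u)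
    (h : u ∈ centralizer ({t} : Set G)) : centralizer ({u} : Set G) = centralizer ({t} : Set G) := by
  have htu : t ∈ centralizer ({u} : Set G) := by
    rw [mem_cent] at h ⊢
    exact h.symm
  apply le_antisymm
  · intro x hx
    rw [mem_cent]
    exact (hC u hu).1 x hx t htu
  · intro x hx
    rw [mem_cent]
    exact (hC t ht).1 x hx u h

theorem isPGroup_cent {t : G} (ht : IsInv t) : IsPGroup 2 (centralizer ({t} : Set G)) := by
  intro x
  refine ⟨1, ?_⟩
  apply Subtype.ext
  rw [pow_one, sq]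
  exact (hC t ht).2 x x.2

end cit

/-- a nontrivial finite 2-subgroup has a central involution -/
theorem exists_central_inv [Finite G] (Q : Subgroup G) (hQ : IsPGroup 2 Q) (hne : Q ≠ ⊥) :
    ∃ z ∈ Q, IsInv z ∧ ∀ x ∈ Q, x * z = z * x := by
  classical
  have : Fact (Nat.Prime 2) := ⟨Nat.prime_two⟩
  haveI : Nontrivial Q := (Subgroup.nontrivial_iff_ne_bot Q).mpr hne
  haveI : Nontrivial (center Q) := hQ.center_nontrivial
  have hZ : IsPGroup 2 (center Q) := hQ.to_subgroup _
  obtain ⟨k, hk⟩ := IsPGroup.iff_card.mp hZ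
  have hk0 : k ≠ 0 := by
    intro h0
    rw [h0, pow_zero] at hk
    have : Subsingleton (center Q) := (Nat.card_eq_one_iff_unique.mp hk).1
    exact not_subsingleton _ this
  have hdvd : 2 ∣ Nat.card (center Q) := by
    rw [hk]
    exact dvd_pow_self 2 hk0
  letI : Fintype (center Q) := Fintype.ofFinite _
  rw [Nat.card_eq_fintype_card] at hdvd
  obtain ⟨z, hz⟩ := exists_prime_orderOf_dvd_card 2 hdvd
  have hz' : orderOf ((z : Q) : G) = 2 := by
    rw [← hz, Subgroup.orderOf_coe, Subgroup.orderOf_coe]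
  refine ⟨((z : Q) : G), (z : Q).2, isInv_iff_orderOf.mpr hz', ?_⟩
  intro x hx
  have := Subgroup.mem_center_iff.mp z.2 ⟨x, hx⟩
  have h2 := congrArg Subtype.val this
  simpa using h2

section cit2

variable [Finite G] (hC : CIT G)
include hC

/-- a Sylow 2-subgroup is the centraliser of each of its involutions -/
theorem sylow_eq_cent (P : Sylow 2 G) {t : G} (ht : IsInv t) (htP : t ∈ P) :
    (P : Subgroup G) = centralizer ({t} : Set G) := by
  have hne : (P : Subgroup G) ≠ ⊥ := by
    intro h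
    have : t ∈ (P : Subgroup G) := htP
    rw [h, Subgroup.mem_bot] at this
    exact ht.1 this
  obtain ⟨z, hzP, hz, hzc⟩ := exists_central_inv (P : Subgroup G) P.2 hne
  have hle : (P : Subgroup G) ≤ centralizer ({z} : Set G) := by
    intro x hx
    rw [mem_cent]
    exact hzc x hx
  have h1 : centralizer ({z} : Set G) = (P : Subgroup G) :=
    P.is_maximal' (isPGroup_cent hC hz) hle
  have h2 : t ∈ centralizer ({z} : Set G) := by rw [h1]; exact htP
  rw [← h1]
  exact (cent_eq_of_mem hC hz ht h2).symm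

theorem sylow_sq (P : Sylow 2 G) {x : G} (hx : x ∈ P) : x * x = 1 := by
  by_cases hne : (P : Subgroup G) = ⊥
  · have : x ∈ (P : Subgroup G) := hx
    rw [hne, Subgroup.mem_bot] at this
    rw [this, mul_one]
  · obtain ⟨z, hzP, hz, -⟩ := exists_central_inv (P : Subgroup G) P.2 hne
    have h1 := sylow_eq_cent hC P hz hzP
    have : x ∈ centralizer ({z} : Set G) := by rw [← h1]; exact hx
    exact (hC z hz).2 x this

theorem sylow_comm (P : Sylow 2 G) {x y : G} (hx : x ∈ P) (hy : y ∈ P) : x * y = y * x := by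
  by_cases hne : (P : Subgroup G) = ⊥
  · have : x ∈ (P : Subgroup G) := hx
    rw [hne, Subgroup.mem_bot] at this
    rw [this, mul_one, one_mul]
  · obtain ⟨z, hzP, hz, -⟩ := exists_central_inv (P : Subgroup G) P.2 hne
    have h1 := sylow_eq_cent hC P hz hzP
    have hx' : x ∈ centralizer ({z} : Set G) := by rw [← h1]; exact hx
    have hy' : y ∈ centralizer ({z} : Set G) := by rw [← h1]; exact hy
    exact (hC z hz).1 x hx' y hy'

theorem isInv_of_mem (P : Sylow 2 G) {x : G} (hx : x ∈ P) (h1 : x ≠ 1) : IsInv x :=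
  ⟨h1, sylow_sq hC P hx⟩

/-- distinct Sylow 2-subgroups meet trivially -/
theorem sylow_eq_of_mem {P Q : Sylow 2 G} {x : G} (h1 : x ≠ 1) (hP : x ∈ P) (hQ : x ∈ Q) :
    P = Q := by
  have hx := isInv_of_mem hC P hP h1
  apply Sylow.ext
  rw [sylow_eq_cent hC P hx hP, sylow_eq_cent hC Q hx hQ]

/-- the centraliser of an involution is a Sylow 2-subgroup -/
theorem exists_sylow_eq_cent {t : G} (ht : IsInv t) :
    ∃ P : Sylow 2 G, t ∈ P ∧ (P : Subgroup G) = centralizer ({t} : Set G) := by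
  obtain ⟨P, hP⟩ := (isPGroup_cent hC ht).exists_le_sylow
  have htP : t ∈ P := hP (by rw [mem_cent])
  exact ⟨P, htP, sylow_eq_cent hC P ht htP⟩

omit hC in
/-- a 2-element normalising a Sylow 2-subgroup lies in it -/
theorem mem_of_smul_eq {Q : Sylow 2 G} {x : G} (hx2 : x * x = 1) (h : x • Q = Q) : x ∈ Q := by
  have hx : IsPGroup 2 (zpowers x) := by
    rw [IsPGroup]
    rintro ⟨y, hy⟩
    obtain ⟨k, rfl⟩ := Subgroup.mem_zpowers_iff.mp hy
    refine ⟨1, ?_⟩
    apply Subtype.ext
    show (x ^ k) ^ 2 ^ 1 = 1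
    rw [pow_one, ← zpow_natCast, ← zpow_mul, mul_comm, zpow_mul, zpow_natCast, sq, hx2, one_zpow]
  have h1 := hx.inf_normalizer_sylow Q
  have h2 := h1.le ⟨Subgroup.mem_zpowers x, Sylow.smul_eq_iff_mem_normalizer.mp h⟩
  exact h2.2

end cit2

end Cfsg.Agent.Helper22.BSW
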