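import Mathlib
import Cfsg.Agent.Lib.Helper22.BSWBasic

/-!
# Groups whose involution centralisers are elementary abelian 2-groups: pairs of Sylow subgroups
(helper22's library)
-/

set_option autoImplicit false

namespace Cfsg.Agent.Helper22.BSW

open Subgroup MulAction Cfsg.Agent.Helper22.Sharp3

variable {G : Type*} [Group G]

/-- every Sylow 2-subgroup has two distinct involutions -/
def Big (G : Type*) [Group G] : Prop :=
  ∀ P : Sylow 2 G, ∃ t t' : G, t ∈ P ∧ t' ∈ P ∧ IsInv t ∧ IsInv t' ∧ t ≠ t'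

section conj

variable [Finite G] (hC : CIT G)
include hC

/-- two non-commuting involutions are swapped by an involution -/
theorem exists_swap_inv {t u : G} (ht : IsInv t) (hu : IsInv u)
    (hnc : u ∉ centralizer ({t} : Set G)) : ∃ w, IsInv w ∧ w * t * w⁻¹ = u := by
  have htinv := ht.inv_eq
  have huinv := hu.inv_eq
  set x := t * u with hx
  have hxt : t * x * t⁻¹ = x⁻¹ := by
    rw [hx, mul_inv_rev, htinv, huinv, ← mul_assoc, ht.2, one_mul]
  have hxu : u * x * u⁻¹ = x⁻¹ := by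
    rw [hx, mul_inv_rev, htinv, huinv, mul_assoc, mul_assoc, hu.2, mul_one]
  have hxt' : ∀ n : ℕ, t * x ^ n * t⁻¹ = (x ^ n)⁻¹ := by
    intro n
    rw [← conj_pow, hxt, inv_pow]
  have hxu' : ∀ n : ℕ, u * x ^ n * u⁻¹ = (x ^ n)⁻¹ := by
    intro n
    rw [← conj_pow, hxu, inv_pow]
  have hx1 : x ≠ 1 := by
    intro h
    apply hnc
    have : u = t := by
      have h2 : t * u = t * t := by rw [← hx, h, ht.2]
      exact mul_left_cancel h2
    rw [this, mem_cent]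
  have hk0 : 0 < orderOf x := orderOf_pos x
  rcases Nat.even_or_odd' (orderOf x) with ⟨j, hj | hj⟩
  · -- even order: contradiction
    exfalso
    have hj0 : 0 < j := by omega
    have hz1 : x ^ j ≠ 1 := pow_ne_one_of_lt_orderOf hj0.ne' (by omega)
    have hz2 : x ^ j * x ^ j = 1 := by
      rw [← pow_add, ← two_mul, ← hj, pow_orderOf_eq_one]
    have hz : IsInv (x ^ j) := ⟨hz1, hz2⟩
    have hzt : x ^ j ∈ centralizer ({t} : Set G) := by
      rw [mem_cent]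
      have := hxt' j
      rw [hz.inv_eq] at this
      have h3 := congrArg (· * t) this
      simp only [inv_mul_cancel_right] at h3
      exact h3.symm
    have hzu : u ∈ centralizer ({x ^ j} : Set G) := by
      rw [mem_cent]
      have := hxu' j
      rw [hz.inv_eq] at this
      have h3 := congrArg (· * u) this
      simp only [inv_mul_cancel_right] at h3
      exact h3
    rw [cent_eq_of_mem hC ht hz hzt] at hzu
    exact hnc hzu
  · -- odd order
    have hw2 : t * x ^ (j + 1) * (t * x ^ (j + 1)) = 1 := by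
      have h1 : t * x ^ (j + 1) * (t * x ^ (j + 1)) =
          (t * x ^ (j + 1) * t⁻¹) * x ^ (j + 1) := by
        rw [htinv]; group
      rw [h1, hxt', inv_mul_cancel]
    have hw3 : t * x ^ (j + 1) * t * (t * x ^ (j + 1))⁻¹ = u := by
      have hwinv : (t * x ^ (j + 1))⁻¹ = t * x ^ (j + 1) := inv_eq_of_mul_eq_one_left hw2
      rw [hwinv]
      have h1 : t * x ^ (j + 1) * t * (t * x ^ (j + 1)) = t * x ^ (j + 1) * (t * t) * x ^ (j + 1) := by
        group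
      rw [h1, ht.2, mul_one, mul_assoc, ← pow_add]
      have h2 : j + 1 + (j + 1) = orderOf x + 1 := by omega
      rw [h2, pow_succ, pow_orderOf_eq_one, one_mul, hx, ← mul_assoc, ht.2, one_mul]
    refine ⟨t * x ^ (j + 1), ⟨?_, hw2⟩, hw3⟩
    intro h1
    rw [h1, one_mul, inv_one, mul_one] at hw3
    apply hnc
    rw [← hw3, mem_cent]

end conj

/-- the two point stabiliser -/
def H2 (P Q : Sylow 2 G) : Subgroup G := stabilizer G P ⊓ stabilizer G Q

theorem mem_H2 {P Q : Sylow 2 G} {c : G} : c ∈ H2 P Q ↔ c • P = P ∧ c • Q = Q := by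
  unfold H2
  rw [Subgroup.mem_inf, mem_stabilizer_iff, mem_stabilizer_iff]

theorem smul_sylow_of_mem {P : Sylow 2 G} {x : G} (hx : x ∈ P) : x • P = P := by
  rw [Sylow.smul_eq_iff_mem_normalizer]
  exact Subgroup.le_normalizer hx

theorem conj_mem_of_smul_eq {P : Sylow 2 G} {c x : G} (hc : c • P = P) (hx : x ∈ P) :
    c * x * c⁻¹ ∈ P := by
  have := conj_mem_smul_sylow (g := c) hx
  rwa [hc] at this

section pair

variable [Finite G] (hC : CIT G)
include hC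

theorem smul_eq_of_conj_mem {P Q : Sylow 2 G} {t w : G} (ht : IsInv t) (htP : t ∈ P)
    (hQ : w * t * w⁻¹ ∈ Q) : w • P = Q :=
  sylow_eq_of_mem hC (ht.conj w).1 (conj_mem_smul_sylow htP) hQ

theorem exists_swap {P Q : Sylow 2 G} (hPQ : P ≠ Q) {t s : G} (ht : IsInv t) (htP : t ∈ P)
    (hs : IsInv s) (hsQ : s ∈ Q) :
    ∃ w, IsInv w ∧ w * t * w⁻¹ = s ∧ w • P = Q ∧ w • Q = P := by
  have hnc : s ∉ centralizer ({t} : Set G) := by
    intro h
    rw [← sylow_eq_cent hC P ht htP] at h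
    exact hPQ (sylow_eq_of_mem hC hs.1 h hsQ)
  obtain ⟨w, hw, hwt⟩ := exists_swap_inv hC ht hs hnc
  have h1 : w • P = Q := smul_eq_of_conj_mem hC ht htP (by rw [hwt]; exact hsQ)
  refine ⟨w, hw, hwt, h1, ?_⟩
  rw [← h1, ← mul_smul, hw.2, one_smul]

theorem H2_inf {P Q : Sylow 2 G} (hPQ : P ≠ Q) {c : G} (hc : c ∈ H2 P Q) (hcP : c ∈ P) :
    c = 1 := by
  by_contra h1
  have hcQ : c ∈ Q := mem_of_smul_eq (sylow_sq hC P hcP) (mem_H2.mp hc).2
  exact hPQ (sylow_eq_of_mem hC h1 hcP hcQ)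

theorem H2_semireg {P Q : Sylow 2 G} (hPQ : P ≠ Q) {c t : G} (hc : c ∈ H2 P Q) (ht : IsInv t)
    (htP : t ∈ P) (h : c * t * c⁻¹ = t) : c = 1 := by
  apply H2_inf hC hPQ hc
  have : c ∈ centralizer ({t} : Set G) := by
    rw [mem_cent]
    have := congrArg (· * c) h
    simpa using this
  rw [← sylow_eq_cent hC P ht htP] at this
  exact this

variable (hB : Big G)
include hB

theorem H2_trans {P Q : Sylow 2 G} (hPQ : P ≠ Q) {t t' : G} (ht : IsInv t) (htP : t ∈ P)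
    (ht' : IsInv t') (htP' : t' ∈ P) : ∃ c ∈ H2 P Q, c * t * c⁻¹ = t' := by
  obtain ⟨s, -, hsQ, -, hs, -, -⟩ := hB Q
  obtain ⟨w₁, hw₁, hw₁t, hw₁P, hw₁Q⟩ := exists_swap hC hPQ ht htP hs hsQ
  obtain ⟨w₂, hw₂, hw₂t, hw₂P, hw₂Q⟩ := exists_swap hC hPQ ht' htP' hs hsQ
  refine ⟨w₂ * w₁, ?_, ?_⟩
  · rw [mem_H2]
    constructor
    · rw [mul_smul, hw₁P, hw₂Q]
    · rw [mul_smul, hw₁Q, hw₂P]
  · have h1 : w₂ * w₁ * t * (w₂ * w₁)⁻¹ = w₂ * (w₁ * t * w₁⁻¹) * w₂⁻¹ := by group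
    rw [h1, hw₁t, ← hw₂t, hw₂.inv_eq]
    have : w₂ * (w₂ * t' * w₂) * w₂ = (w₂ * w₂) * t' * (w₂ * w₂) := by group
    rw [this, hw₂.2, one_mul, mul_one]

theorem H2_ne_bot {P Q : Sylow 2 G} (hPQ : P ≠ Q) : ∃ c ∈ H2 P Q, c ≠ 1 := by
  obtain ⟨t, t', htP, htP', ht, ht', hne⟩ := hB P
  obtain ⟨c, hc, hct⟩ := H2_trans hC hB hPQ ht htP ht' htP'
  refine ⟨c, hc, ?_⟩
  intro h1
  rw [h1, one_mul, inv_one, mul_one] at hct
  exact hne hct

omit hB in
theorem H2_inverted {P Q : Sylow 2 G} (hPQ : P ≠ Q) {w : G} (hw2 : w * w = 1)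
    (hwP : w • P = Q) (hwQ : w • Q = P) : ∀ c ∈ H2 P Q, w * c * w⁻¹ = c⁻¹ := by
  have hw1 : w ≠ 1 := by
    intro h
    rw [h, one_smul] at hwP
    exact hPQ hwP
  have hw : IsInv w := ⟨hw1, hw2⟩
  apply inverts_of_fpf (H2 P Q) w hw2
  · intro c hc
    rw [mem_H2] at hc ⊢
    rw [hw.inv_eq]
    constructor
    · rw [mul_smul, mul_smul, hwP, hc.2, hwQ]
    · rw [mul_smul, mul_smul, hwQ, hc.1, hwP]
  · intro c hc hcomm
    have hcw : c ∈ centralizer ({w} : Set G) := by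
      rw [mem_cent]
      have := congrArg (· * w) hcomm
      simpa using this.symm
    have hc2 : c * c = 1 := (hC w hw).2 c hcw
    have hcP : c ∈ P := mem_of_smul_eq hc2 (mem_H2.mp hc).1
    exact H2_inf hC hPQ hc hcP

theorem H2_comm {P Q : Sylow 2 G} (hPQ : P ≠ Q) {a b : G} (ha : a ∈ H2 P Q) (hb : b ∈ H2 P Q) :
    a * b = b * a := by
  obtain ⟨t, -, htP, -, ht, -, -⟩ := hB P
  obtain ⟨s, -, hsQ, -, hs, -, -⟩ := hB Q
  obtain ⟨w, hw, -, hwP, hwQ⟩ := exists_swap hC hPQ ht htP hs hsQ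
  exact comm_of_inverts (H2 P Q) w (H2_inverted hC hPQ hw.2 hwP hwQ) ha hb

theorem normalizer_decomp {P Q : Sylow 2 G} (hPQ : P ≠ Q) {n : G} (hn : n • P = P) :
    ∃ c ∈ H2 P Q, ∃ x ∈ P, n = c * x := by
  obtain ⟨t, -, htP, -, ht, -, -⟩ := hB P
  have h1 : n * t * n⁻¹ ∈ P := conj_mem_of_smul_eq hn htP
  obtain ⟨c, hc, hct⟩ := H2_trans hC hB hPQ ht htP (ht.conj n) h1
  refine ⟨c, hc, c⁻¹ * n, ?_, by group⟩
  have : c⁻¹ * n ∈ centralizer ({t} : Set G) := by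
    rw [mem_cent]
    have h2 : c⁻¹ * (c * t * c⁻¹) * c = c⁻¹ * (n * t * n⁻¹) * c := by rw [hct]
    have h3 : c⁻¹ * (c * t * c⁻¹) * c = t := by group
    rw [h3] at h2
    have h4 : c⁻¹ * n * t = c⁻¹ * (n * t * n⁻¹) * c * (c⁻¹ * n) := by group
    rw [h4, ← h2]
  rw [← sylow_eq_cent hC P ht htP] at this
  exact this

theorem H2_self_normalizing {P Q : Sylow 2 G} (hPQ : P ≠ Q) {n : G} (hn : n • P = P)
    (hnorm : ∀ c ∈ H2 P Q, n * c * n⁻¹ ∈ H2 P Q) : n ∈ H2 P Q := by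
  obtain ⟨c, hc, x, hx, rfl⟩ := normalizer_decomp hC hB hPQ hn
  have hxnorm : ∀ c' ∈ H2 P Q, x * c' * x⁻¹ ∈ H2 P Q := by
    intro c' hc'
    have h1 := hnorm c' hc'
    have h2 : x * c' * x⁻¹ = c⁻¹ * (c * x * c' * (c * x)⁻¹) * c := by group
    rw [h2]
    exact (H2 P Q).mul_mem ((H2 P Q).mul_mem ((H2 P Q).inv_mem hc) h1) hc
  have hxcomm : ∀ c' ∈ H2 P Q, x * c' = c' * x := by
    intro c' hc'
    have h1 : x * c' * x⁻¹ * c'⁻¹ ∈ H2 P Q :=
      (H2 P Q).mul_mem (hxnorm c' hc') ((H2 P Q).inv_mem hc')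
    have h2 : x * c' * x⁻¹ * c'⁻¹ ∈ P := by
      have h3 : c' * x⁻¹ * c'⁻¹ ∈ P :=
        conj_mem_of_smul_eq (mem_H2.mp hc').1 (inv_mem hx)
      have h4 : x * c' * x⁻¹ * c'⁻¹ = x * (c' * x⁻¹ * c'⁻¹) := by group
      rw [h4]
      exact mul_mem hx h3
    have h5 := H2_inf hC hPQ h1 h2
    have h6 : x * c' = (x * c' * x⁻¹ * c'⁻¹) * (c' * x) := by group
    rw [h6, h5, one_mul]
  have hx1 : x = 1 := by
    by_contra hne
    have hxi : IsInv x := isInv_of_mem hC P hx hne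
    obtain ⟨c', hc', hc'1⟩ := H2_ne_bot hC hB hPQ
    apply hc'1
    apply H2_inf hC hPQ hc'
    have : c' ∈ centralizer ({x} : Set G) := by
      rw [mem_cent]
      exact (hxcomm c' hc').symm
    rw [← sylow_eq_cent hC P hxi hx] at this
    exact this
  rw [hx1, mul_one]
  exact hc

end pair

end Cfsg.Agent.Helper22.BSW
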