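import Mathlib
import Cfsg.Agent.Lib.Helper22.BSWPair

/-!
# Groups whose involution centralisers are elementary abelian 2-groups: the action on the Sylow
2-subgroups is sharply triply transitive (helper22's library)
-/

set_option autoImplicit false

namespace Cfsg.Agent.Helper22.BSW

open Subgroup MulAction Cfsg.Agent.Helper22.Sharp3

variable {G : Type*} [Group G] [Finite G] (hC : CIT G) (hB : Big G)
include hC hB

theorem H2_eq_of_fix {P Q R : Sylow 2 G} (hPQ : P ≠ Q) (hPR : P ≠ R)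
    (hfix : ∀ c ∈ H2 P Q, c • R = R) : H2 P Q = H2 P R := by
  apply le_antisymm
  · intro c hc
    exact mem_H2.mpr ⟨(mem_H2.mp hc).1, hfix c hc⟩
  · intro c' hc'
    obtain ⟨t, -, htP, -, ht, -, -⟩ := hB P
    have h1 : c' * t * c'⁻¹ ∈ P := conj_mem_of_smul_eq (mem_H2.mp hc').1 htP
    obtain ⟨c, hc, hct⟩ := H2_trans hC hB hPQ ht htP (ht.conj c') h1
    have hcR : c ∈ H2 P R := mem_H2.mpr ⟨(mem_H2.mp hc).1, hfix c hc⟩
    have h2 : c⁻¹ * c' ∈ H2 P R := (H2 P R).mul_mem ((H2 P R).inv_mem hcR) hc'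
    have h3 : c⁻¹ * c' * t * (c⁻¹ * c')⁻¹ = t := by
      have : c⁻¹ * c' * t * (c⁻¹ * c')⁻¹ = c⁻¹ * (c' * t * c'⁻¹) * c := by group
      rw [this, ← hct]
      group
    have h4 := H2_semireg hC hPR h2 ht htP h3
    have : c' = c := by
      have := congrArg (c * ·) h4
      simpa using this
    rw [this]
    exact hc

/-- the two point stabiliser fixes exactly two points -/
theorem fix_H2 {P Q R : Sylow 2 G} (hPQ : P ≠ Q) (hfix : ∀ c ∈ H2 P Q, c • R = R) :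
    R = P ∨ R = Q := by
  by_contra hcon
  push Not at hcon
  obtain ⟨hRP, hRQ⟩ := hcon
  have hPR : P ≠ R := fun h => hRP h.symm
  have hH : H2 P Q = H2 P R := H2_eq_of_fix hC hB hPQ hPR hfix
  obtain ⟨t, -, htP, -, ht, -, -⟩ := hB P
  obtain ⟨s, -, hsQ, -, hs, -, -⟩ := hB Q
  obtain ⟨r, -, hrR, -, hr, -, -⟩ := hB R
  obtain ⟨u, hu, -, huP, huQ⟩ := exists_swap hC hPQ ht htP hs hsQ
  obtain ⟨u', hu', -, hu'P, hu'R⟩ := exists_swap hC hPR ht htP hr hrR
  have huinv := H2_inverted hC hPQ hu.2 huP huQ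
  have hu'inv := H2_inverted hC hPR hu'.2 hu'P hu'R
  -- the point `S'' = u' • Q`
  set S := u' • Q with hS
  have hSP : P ≠ S := by
    intro h
    apply hRQ
    have h1 : u' • P = u' • (u' • Q) := by rw [← hS, ← h]
    rw [← mul_smul, hu'.2, one_smul, hu'P] at h1
    exact h1
  -- `S''` is fixed by `H2 P Q`
  have hSfix : ∀ c ∈ H2 P Q, c • S = S := by
    intro c hc
    have hc' : c ∈ H2 P R := hH ▸ hc
    have h1 : u' * c⁻¹ * u'⁻¹ = c := by
      have := hu'inv c⁻¹ ((H2 P R).inv_mem hc')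
      rw [inv_inv] at this
      exact this
    have hcinv : c⁻¹ • Q = Q := by
      rw [inv_smul_eq_iff, (mem_H2.mp hc).2]
    rw [hS, ← h1, hu'.inv_eq, mul_smul, mul_smul, ← mul_smul u' u', hu'.2, one_smul, hcinv]
  have hH' : H2 P Q = H2 P S := H2_eq_of_fix hC hB hPQ hSP hSfix
  obtain ⟨s', -, hs'S, -, hs', -, -⟩ := hB S
  obtain ⟨v, hv, -, hvP, hvS⟩ := exists_swap hC hSP ht htP hs' hs'S
  have hvinv := H2_inverted hC hSP hv.2 hvP hvS
  -- `v * (u' * u)` lies in `H2 P Q`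
  have hg : v * (u' * u) ∈ H2 P Q := by
    apply H2_self_normalizing hC hB hPQ
    · rw [mul_smul, mul_smul, huP, ← hS, hvS]
    · intro c hc
      have e1 : u * c * u⁻¹ = c⁻¹ := huinv c hc
      have e2 : u' * c⁻¹ * u'⁻¹ = c := by
        have := hu'inv c⁻¹ ((H2 P R).inv_mem (hH ▸ hc))
        rw [inv_inv] at this
        exact this
      have e3 : v * c * v⁻¹ = c⁻¹ := hvinv c (hH' ▸ hc)
      have : v * (u' * u) * c * (v * (u' * u))⁻¹ = v * (u' * (u * c * u⁻¹) * u'⁻¹) * v⁻¹ := by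
        group
      rw [this, e1, e2, e3]
      exact (H2 P Q).inv_mem hc
  -- hence `u' * u` inverts `H2 P Q`, but it also centralises it
  obtain ⟨c, hc, hc1⟩ := H2_ne_bot hC hB hPQ
  have e1 : u * c * u⁻¹ = c⁻¹ := huinv c hc
  have e2 : u' * c⁻¹ * u'⁻¹ = c := by
    have := hu'inv c⁻¹ ((H2 P R).inv_mem (hH ▸ hc))
    rw [inv_inv] at this
    exact this
  have hcent : (u' * u) * c * (u' * u)⁻¹ = c := by
    have : (u' * u) * c * (u' * u)⁻¹ = u' * (u * c * u⁻¹) * u'⁻¹ := by group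
    rw [this, e1, e2]
  set g := v * (u' * u) with hgdef
  have hu'u : u' * u = v * g := by
    rw [hgdef, ← mul_assoc, hv.2, one_mul]
  have hinvt : (u' * u) * c * (u' * u)⁻¹ = c⁻¹ := by
    rw [hu'u]
    have : v * g * c * (v * g)⁻¹ = v * (g * c * g⁻¹) * v⁻¹ := by group
    rw [this]
    have hgc : g * c * g⁻¹ = c := by
      have := H2_comm hC hB hPQ hg hc
      rw [this, mul_assoc, mul_inv_cancel, mul_one]
    rw [hgc]
    exact hvinv c (hH' ▸ hc)
  have hc2 : c * c = 1 := by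
    have : c = c⁻¹ := hcent.symm.trans hinvt
    have h2 := congrArg (c * ·) this
    simp only [mul_inv_cancel] at h2
    exact h2
  have hcP : c ∈ P := mem_of_smul_eq hc2 (mem_H2.mp hc).1
  exact hc1 (H2_inf hC hPQ hc hcP)


theorem H2_smul {P Q : Sylow 2 G} {x : G} (hx : x ∈ P) {g : G} :
    g ∈ H2 P (x • Q) ↔ x⁻¹ * g * x ∈ H2 P Q := by
  have hxP : x • P = P := smul_sylow_of_mem hx
  have hxP' : x⁻¹ • P = P := by rw [inv_smul_eq_iff, hxP]
  rw [mem_H2, mem_H2]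
  constructor
  · rintro ⟨h1, h2⟩
    constructor
    · rw [mul_smul, mul_smul, hxP, h1, hxP']
    · rw [mul_smul, mul_smul, h2, inv_smul_smul]
  · rintro ⟨h1, h2⟩
    constructor
    · have : g = x * (x⁻¹ * g * x) * x⁻¹ := by group
      rw [this, mul_smul, mul_smul, hxP', h1, hxP]
    · have : g = x * (x⁻¹ * g * x) * x⁻¹ := by group
      rw [this, mul_smul, mul_smul, inv_smul_smul, h2]

/-- a Sylow 2-subgroup is transitive on the others -/
theorem trans_P {P Q R : Sylow 2 G} (hPQ : P ≠ Q) (hPR : P ≠ R) : ∃ x ∈ P, x • Q = R := by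
  -- a non-identity element of the stabiliser of `R`
  obtain ⟨a, ha, ha1⟩ := H2_ne_bot hC hB hPR
  obtain ⟨c, hc, t, htP, hact⟩ := normalizer_decomp hC hB hPQ (mem_H2.mp ha).1
  have hc1 : c ≠ 1 := by
    intro h
    rw [h, one_mul] at hact
    rw [hact] at ha ha1
    exact ha1 (H2_inf hC hPR ha htP)
  have hcinvP : c⁻¹ • P = P := by rw [inv_smul_eq_iff, (mem_H2.mp hc).1]
  have hcP : ∀ y, y ∈ P → c⁻¹ * y * c ∈ P := fun y hy => by
    have := conj_mem_of_smul_eq hcinvP hy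
    rwa [inv_inv] at this
  let φ : P → P := fun y => ⟨c⁻¹ * (y : G)⁻¹ * c * y, mul_mem (hcP _ (inv_mem y.2)) y.2⟩
  have hφinj : Function.Injective φ := by
    intro y z hyz
    have h1 : c⁻¹ * (y : G)⁻¹ * c * y = c⁻¹ * (z : G)⁻¹ * c * z := congrArg Subtype.val hyz
    have h1' : (y : G)⁻¹ * c * y = (z : G)⁻¹ * c * z := by
      have := congrArg (c * ·) h1
      simpa [mul_assoc] using this
    have hw : (z : G) * (y : G)⁻¹ ∈ P := mul_mem z.2 (inv_mem y.2)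
    have h2 : ((z : G) * (y : G)⁻¹) * c * ((z : G) * (y : G)⁻¹)⁻¹ = c := by
      have e1 : ((z : G) * (y : G)⁻¹) * c * ((z : G) * (y : G)⁻¹)⁻¹ =
          z * ((y : G)⁻¹ * c * y) * (z : G)⁻¹ := by group
      rw [e1, h1']
      group
    have h3 : c * ((z : G) * (y : G)⁻¹) * c⁻¹ = (z : G) * (y : G)⁻¹ := by
      have e1 : ((z : G) * (y : G)⁻¹) * c = c * ((z : G) * (y : G)⁻¹) := by
        have := congrArg (· * ((z : G) * (y : G)⁻¹)) h2
        simp only [inv_mul_cancel_right] at this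
        exact this
      rw [← e1, mul_inv_cancel_right]
    by_contra hne
    have hw1 : (z : G) * (y : G)⁻¹ ≠ 1 := by
      intro h
      apply hne
      apply Subtype.ext
      exact (mul_inv_eq_one.mp h).symm
    exact hc1 (H2_semireg hC hPQ hc (isInv_of_mem hC P hw hw1) hw h3)
  have hφsurj : Function.Surjective φ := Finite.surjective_of_injective hφinj
  obtain ⟨x, hx⟩ := hφsurj ⟨t, htP⟩
  have hx' : c⁻¹ * (x : G)⁻¹ * c * x = t := congrArg Subtype.val hx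
  have hxa : (x : G) * a * (x : G)⁻¹ = c := by
    rw [hact, ← hx']
    group
  -- the point `Q₁ = x⁻¹ • Q`
  have hxinvP : (x : G)⁻¹ ∈ P := inv_mem x.2
  have hPQ₁ : P ≠ (x : G)⁻¹ • Q := by
    intro h
    apply hPQ
    have := congrArg ((x : G) • ·) h
    simp only [smul_inv_smul] at this
    rw [smul_sylow_of_mem x.2] at this
    exact this
  have haQ₁ : a ∈ H2 P ((x : G)⁻¹ • Q) := by
    rw [H2_smul hC hB hxinvP, inv_inv, hxa]
    exact hc
  -- the stabiliser of `R` fixes `Q₁`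
  have hfix : ∀ n ∈ H2 P R, n • ((x : G)⁻¹ • Q) = (x : G)⁻¹ • Q := by
    intro n hn
    obtain ⟨c₁, hc₁, y, hyP, rfl⟩ := normalizer_decomp hC hB hPQ₁ (mem_H2.mp hn).1
    have hy1 : y = 1 := by
      by_contra hne
      have hyi : IsInv y := isInv_of_mem hC P hyP hne
      have hya : y * a = a * y := by
        have e1 : c₁ * y * a = a * (c₁ * y) := H2_comm hC hB hPR hn ha
        have e2 : c₁ * a = a * c₁ := H2_comm hC hB hPQ₁ hc₁ haQ₁
        calc y * a = c₁⁻¹ * (c₁ * y * a) := by group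
          _ = c₁⁻¹ * (a * (c₁ * y)) := by rw [e1]
          _ = c₁⁻¹ * ((a * c₁) * y) := by group
          _ = c₁⁻¹ * ((c₁ * a) * y) := by rw [e2]
          _ = a * y := by group
      have : a ∈ centralizer ({y} : Set G) := by
        rw [mem_cent]; exact hya.symm
      rw [← sylow_eq_cent hC P hyi hyP] at this
      exact ha1 (H2_inf hC hPR ha this)
    rw [hy1, mul_one]
    exact (mem_H2.mp hc₁).2
  rcases fix_H2 hC hB hPR hfix with h | h
  · exact absurd h.symm hPQ₁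
  · exact ⟨(x : G)⁻¹, hxinvP, h⟩


theorem H2_inter_trivial {P Q : Sylow 2 G} (hPQ : P ≠ Q) {x : G} (hx : x ∈ P) (hx1 : x ≠ 1)
    {g : G} (hg : g ∈ H2 P Q) (hg' : g ∈ H2 P (x • Q)) : g = 1 := by
  have hc : x⁻¹ * g * x ∈ H2 P Q := (H2_smul hC hB hx).mp hg'
  have hcP : ∀ y, y ∈ P → (x⁻¹ * g * x) * y * (x⁻¹ * g * x)⁻¹ ∈ P := fun y hy =>
    conj_mem_of_smul_eq (mem_H2.mp hc).1 hy
  -- `g * c⁻¹` lies in `P` and in `H2 P Q`
  have h1 : g * (x⁻¹ * g * x)⁻¹ ∈ H2 P Q := (H2 P Q).mul_mem hg ((H2 P Q).inv_mem hc)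
  have h2 : g * (x⁻¹ * g * x)⁻¹ ∈ P := by
    have e1 : g * (x⁻¹ * g * x)⁻¹ = x * ((x⁻¹ * g * x) * x⁻¹ * (x⁻¹ * g * x)⁻¹) := by group
    rw [e1]
    exact mul_mem hx (hcP _ (inv_mem hx))
  have h3 := H2_inf hC hPQ h1 h2
  have h4 : g = x⁻¹ * g * x := by
    have := mul_inv_eq_one.mp h3
    exact this
  -- so `g` commutes with `x`
  have hxi : IsInv x := isInv_of_mem hC P hx hx1
  have h5 : g ∈ centralizer ({x} : Set G) := by
    rw [mem_cent]
    have := congrArg (x * ·) h4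
    simp only [mul_assoc, mul_inv_cancel_left] at this
    exact this.symm
  rw [← sylow_eq_cent hC P hxi hx] at h5
  exact H2_inf hC hPQ hg h5

theorem uq3 : Uq3 G (Sylow 2 G) := by
  intro g P Q R hPQ hPR hQR hP hQ hR
  obtain ⟨x, hx, hxQ⟩ := trans_P hC hB hPQ hPR
  have hx1 : x ≠ 1 := by
    intro h
    rw [h, one_smul] at hxQ
    exact hQR hxQ
  apply H2_inter_trivial hC hB hPQ hx hx1 (mem_H2.mpr ⟨hP, hQ⟩)
  rw [hxQ]
  exact mem_H2.mpr ⟨hP, hR⟩

theorem H2_trans_rest {P Q R R' : Sylow 2 G} (hPQ : P ≠ Q) (hPR : P ≠ R) (hQR : Q ≠ R)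
    (hPR' : P ≠ R') (hQR' : Q ≠ R') : ∃ h ∈ H2 P Q, h • R = R' := by
  obtain ⟨x, hx, hxQ⟩ := trans_P hC hB hPQ hPR
  obtain ⟨x', hx', hxQ'⟩ := trans_P hC hB hPQ hPR'
  have hx1 : x ≠ 1 := by
    intro h
    rw [h, one_smul] at hxQ
    exact hQR hxQ
  have hx1' : x' ≠ 1 := by
    intro h
    rw [h, one_smul] at hxQ'
    exact hQR' hxQ'
  obtain ⟨c, hc, hcx⟩ := H2_trans hC hB hPQ (isInv_of_mem hC P hx hx1) hx
    (isInv_of_mem hC P hx' hx1') hx'
  refine ⟨c, hc, ?_⟩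
  rw [← hxQ, ← hxQ', ← hcx, mul_smul, mul_smul, inv_smul_eq_iff.mpr (mem_H2.mp hc).2.symm]

theorem exists_map_to {P₀ Q₀ R₀ : Sylow 2 G} (h01 : P₀ ≠ Q₀) (h02 : P₀ ≠ R₀) (h12 : Q₀ ≠ R₀)
    {a b c : Sylow 2 G} (hab : a ≠ b) (hac : a ≠ c) (hbc : b ≠ c) :
    ∃ g : G, g • a = P₀ ∧ g • b = Q₀ ∧ g • c = R₀ := by
  haveI : Fact (Nat.Prime 2) := ⟨Nat.prime_two⟩
  obtain ⟨g₁, hg₁⟩ := MulAction.exists_smul_eq G a P₀
  have hb₁ : P₀ ≠ g₁ • b := by
    rw [← hg₁]
    intro h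
    exact hab (MulAction.injective g₁ h)
  obtain ⟨x, hx, hxb⟩ := trans_P hC hB hb₁ h01
  have hxP : x • P₀ = P₀ := smul_sylow_of_mem hx
  have hc₂1 : P₀ ≠ x • g₁ • c := by
    intro h
    apply hac
    have h1 : x • g₁ • a = x • g₁ • c := by rw [hg₁, hxP]; exact h
    exact MulAction.injective g₁ (MulAction.injective x h1)
  have hc₂2 : Q₀ ≠ x • g₁ • c := by
    intro h
    apply hbc
    have h1 : x • g₁ • b = x • g₁ • c := by rw [hxb]; exact h
    exact MulAction.injective g₁ (MulAction.injective x h1)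
  obtain ⟨h, hh, hhc⟩ := H2_trans_rest hC hB h01 hc₂1 hc₂2 h02 h12
  refine ⟨h * x * g₁, ?_, ?_, ?_⟩
  · rw [mul_smul, mul_smul, hg₁, hxP, (mem_H2.mp hh).1]
  · rw [mul_smul, mul_smul, hxb, (mem_H2.mp hh).2]
  · rw [mul_smul, mul_smul, hhc]

theorem tr3 : Tr3 G (Sylow 2 G) := by
  intro a b c a' b' c' hab hac hbc hab' hac' hbc'
  obtain ⟨g, h1, h2, h3⟩ := exists_map_to hC hB hab' hac' hbc' hab hac hbc
  exact ⟨g, h1, h2, h3⟩

/-- the number of Sylow 2-subgroups -/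
theorem card_sylow (P Q : Sylow 2 G) (hPQ : P ≠ Q) :
    Nat.card (Sylow 2 G) = Nat.card P + 1 := by
  classical
  have hbij : Function.Bijective (fun x : P => (⟨(x : G) • Q, by
      intro h
      apply hPQ
      have := congrArg ((x : G)⁻¹ • ·) h
      simp only [inv_smul_smul] at this
      rw [this, eq_comm, inv_smul_eq_iff, smul_sylow_of_mem x.2]⟩ : {R : Sylow 2 G // R ≠ P})) := by
    constructor
    · intro x y hxy
      have h1 : (x : G) • Q = (y : G) • Q := congrArg Subtype.val hxy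
      have h2 : ((y : G)⁻¹ * x) • Q = Q := by rw [mul_smul, h1, inv_smul_smul]
      have h3 : (y : G)⁻¹ * x ∈ P := mul_mem (inv_mem y.2) x.2
      have h4 : (y : G)⁻¹ * x ∈ H2 P Q := mem_H2.mpr ⟨smul_sylow_of_mem h3, h2⟩
      have h5 := H2_inf hC hPQ h4 h3
      apply Subtype.ext
      exact (inv_mul_eq_one.mp h5).symm
    · rintro ⟨R, hR⟩
      obtain ⟨x, hx, hxQ⟩ := trans_P hC hB hPQ (Ne.symm hR)
      exact ⟨⟨x, hx⟩, Subtype.ext hxQ⟩
  have h1 : Nat.card P = Nat.card {R : Sylow 2 G // R ≠ P} :=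
    Nat.card_congr (Equiv.ofBijective _ hbij)
  rw [h1]
  haveI : Finite (Sylow 2 G) := inferInstance
  letI : Fintype (Sylow 2 G) := Fintype.ofFinite _
  rw [Nat.card_eq_fintype_card, Nat.card_eq_fintype_card, Fintype.card_subtype_compl,
    Fintype.card_subtype_eq]
  have : 0 < Fintype.card (Sylow 2 G) := Fintype.card_pos
  omega

end Cfsg.Agent.Helper22.BSW
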