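import Mathlib

/-!
# A field from a regular abelian group of automorphisms of an elementary abelian 2-group
(helper22's library)
-/

set_option autoImplicit false

namespace Cfsg.Agent.Helper22.NF

universe u v

/-- The data: `H` abelian acts on the group `K` of exponent two, regularly on the non-identity
elements (via the base point `e`). -/
structure FData (K : Type u) (H : Type v) [Group K] [Group H] where
  /-- the action -/
  act : H →* MulAut K
  /-- the base point -/
  e : K
  he : e ≠ 1
  hexp : ∀ k : K, k * k = 1
  hcomm : ∀ a b : H, a * b = b * a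
  hreg : ∀ k : K, k ≠ 1 → ∃! h : H, act h e = k

variable {K : Type u} {H : Type v} [Group K] [Group H] (D : FData K H)

/-- the carrier of the field -/
def FData.F (_ : FData K H) : Type u := K

/-- the identification of `K` with the field -/
def toF : K ≃ D.F := Equiv.refl K

include D in
theorem inv_eq_self (k : K) : k⁻¹ = k := by
  have := D.hexp k
  exact inv_eq_of_mul_eq_one_left this

include D in
theorem kcomm (a b : K) : a * b = b * a := by
  have h2 : a * b = (a * b)⁻¹ := (inv_eq_self D _).symm
  rw [h2, mul_inv_rev, inv_eq_self D, inv_eq_self D]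

theorem act_ne_one (h : H) : D.act h D.e ≠ 1 := by
  intro h1
  apply D.he
  have := congrArg (D.act h).symm h1
  simpa using this

theorem act_inj {h h' : H} (hh : D.act h D.e = D.act h' D.e) : h = h' := by
  obtain ⟨x, -, hx⟩ := D.hreg (D.act h D.e) (act_ne_one D h)
  rw [hx h rfl, hx h' hh.symm]

theorem cases (x : K) : x = 1 ∨ ∃ h : H, x = D.act h D.e := by
  by_cases hx : x = 1
  · exact Or.inl hx
  · obtain ⟨h, hh, -⟩ := D.hreg x hx
    exact Or.inr ⟨h, hh.symm⟩

open Classical in
/-- multiplication on `K` -/
noncomputable def mulK (x y : K) : K :=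
  if hx : ∃ h : H, D.act h D.e = x then D.act (Classical.choose hx) y else 1

theorem mulK_act (h : H) (y : K) : mulK D (D.act h D.e) y = D.act h y := by
  unfold mulK
  have hx : ∃ h' : H, D.act h' D.e = D.act h D.e := ⟨h, rfl⟩
  rw [dif_pos hx]
  have := act_inj D (Classical.choose_spec hx)
  rw [this]

theorem mulK_one_left (y : K) : mulK D 1 y = 1 := by
  unfold mulK
  rw [dif_neg]
  rintro ⟨h, hh⟩
  exact act_ne_one D h hh

theorem mulK_one_right (x : K) : mulK D x 1 = 1 := by
  rcases cases D x with rfl | ⟨h, rfl⟩
  · exact mulK_one_left D 1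
  · rw [mulK_act, map_one]

theorem mulK_e_left (y : K) : mulK D D.e y = y := by
  have h1 : D.act 1 D.e = D.e := by rw [map_one]; rfl
  have := mulK_act D 1 y
  rw [h1, map_one] at this
  exact this

theorem mulK_comm (x y : K) : mulK D x y = mulK D y x := by
  rcases cases D x with rfl | ⟨h, rfl⟩
  · rw [mulK_one_left, mulK_one_right]
  · rcases cases D y with rfl | ⟨h', rfl⟩
    · rw [mulK_one_left, mulK_one_right]
    · rw [mulK_act, mulK_act, ← MulAut.mul_apply, ← MulAut.mul_apply, ← map_mul, ← map_mul,
        D.hcomm]

theorem mulK_assoc (x y z : K) : mulK D (mulK D x y) z = mulK D x (mulK D y z) := by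
  rcases cases D x with rfl | ⟨h, rfl⟩
  · rw [mulK_one_left, mulK_one_left, mulK_one_left]
  · rcases cases D y with rfl | ⟨h', rfl⟩
    · rw [mulK_one_right, mulK_one_left, mulK_one_right]
    · rw [mulK_act, mulK_act, mulK_act, ← MulAut.mul_apply, ← map_mul, mulK_act, map_mul,
        MulAut.mul_apply]

theorem mulK_mul (x y z : K) : mulK D x (y * z) = mulK D x y * mulK D x z := by
  rcases cases D x with rfl | ⟨h, rfl⟩
  · rw [mulK_one_left, mulK_one_left, mulK_one_left, mul_one]
  · rw [mulK_act, mulK_act, mulK_act, map_mul]

theorem mulK_mul_left (x y z : K) : mulK D (x * y) z = mulK D x z * mulK D y z := by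
  rw [mulK_comm, mulK_mul, mulK_comm D z x, mulK_comm D z y]

/-- addition -/
instance instAddF : Add D.F := ⟨fun x y => toF D ((toF D).symm x * (toF D).symm y)⟩
/-- zero -/
instance instZeroF : Zero D.F := ⟨toF D 1⟩
/-- negation -/
instance instNegF : Neg D.F := ⟨fun x => x⟩
/-- multiplication -/
noncomputable instance instMulF : Mul D.F :=
  ⟨fun x y => toF D (mulK D ((toF D).symm x) ((toF D).symm y))⟩
/-- one -/
instance instOneF : One D.F := ⟨toF D D.e⟩

theorem add_def (x y : D.F) : x + y = toF D ((toF D).symm x * (toF D).symm y) := rfl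
theorem mul_def (x y : D.F) : x * y = toF D (mulK D ((toF D).symm x) ((toF D).symm y)) := rfl
theorem zero_def : (0 : D.F) = toF D 1 := rfl
theorem one_def : (1 : D.F) = toF D D.e := rfl
theorem neg_def (x : D.F) : -x = x := rfl

/-- the ring structure -/
noncomputable instance instCommRingF : CommRing D.F where
  add_assoc x y z := by
    simp only [add_def, Equiv.symm_apply_apply, mul_assoc]
  zero_add x := by
    rw [add_def, zero_def, Equiv.symm_apply_apply, one_mul, Equiv.apply_symm_apply]
  add_zero x := by
    rw [add_def, zero_def, Equiv.symm_apply_apply, mul_one, Equiv.apply_symm_apply]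
  nsmul := nsmulRec
  zsmul := zsmulRec
  neg_add_cancel x := by
    rw [add_def, neg_def, D.hexp, zero_def]
  add_comm x y := by
    rw [add_def, add_def, kcomm D]
  left_distrib x y z := by
    simp only [add_def, mul_def, Equiv.symm_apply_apply, mulK_mul]
  right_distrib x y z := by
    simp only [add_def, mul_def, Equiv.symm_apply_apply, mulK_mul_left]
  zero_mul x := by
    rw [mul_def, zero_def, Equiv.symm_apply_apply, mulK_one_left]
  mul_zero x := by
    rw [mul_def, zero_def, Equiv.symm_apply_apply, mulK_one_right]
  mul_assoc x y z := by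
    simp only [mul_def, Equiv.symm_apply_apply, mulK_assoc]
  one_mul x := by
    rw [mul_def, one_def, Equiv.symm_apply_apply, mulK_e_left, Equiv.apply_symm_apply]
  mul_one x := by
    rw [mul_def, one_def, Equiv.symm_apply_apply, mulK_comm, mulK_e_left, Equiv.apply_symm_apply]
  mul_comm x y := by
    rw [mul_def, mul_def, mulK_comm]

theorem toF_one : toF D 1 = 0 := rfl

theorem toF_e : toF D D.e = 1 := rfl

theorem toF_mul (x y : K) : toF D (x * y) = toF D x + toF D y := rfl

theorem toF_mulK (x y : K) : toF D (mulK D x y) = toF D x * toF D y := rfl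

theorem toF_act (h : H) (y : K) : toF D (D.act h y) = toF D (D.act h D.e) * toF D y := by
  rw [← toF_mulK, mulK_act]

theorem toF_eq_zero {x : K} : toF D x = 0 ↔ x = 1 := by
  rw [← toF_one]
  exact (toF D).apply_eq_iff_eq

theorem toF_act_mul_inv (h : H) : toF D (D.act h D.e) * toF D (D.act h⁻¹ D.e) = 1 := by
  rw [← toF_act, ← MulAut.mul_apply, ← map_mul, mul_inv_cancel, map_one]
  rfl

theorem add_self (x : D.F) : x + x = 0 := by
  obtain ⟨k, rfl⟩ := (toF D).surjective x
  rw [← toF_mul, D.hexp, toF_one]

theorem exists_act (x : D.F) (hx : x ≠ 0) : ∃ h : H, x = toF D (D.act h D.e) := by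
  obtain ⟨k, rfl⟩ := (toF D).surjective x
  rcases cases D k with rfl | ⟨h, rfl⟩
  · exact absurd (toF_one D) hx
  · exact ⟨h, rfl⟩

theorem isField : IsField D.F where
  exists_pair_ne := ⟨0, 1, by
    rw [← toF_one, ← toF_e]
    intro h
    exact D.he ((toF D).injective h).symm⟩
  mul_comm := mul_comm
  mul_inv_cancel := by
    intro a ha
    obtain ⟨h, rfl⟩ := exists_act D a ha
    exact ⟨_, toF_act_mul_inv D h⟩

open Classical in
/-- inversion -/
noncomputable def invF (x : D.F) : D.F :=
  if hx : x = 0 then 0 else Classical.choose ((isField D).mul_inv_cancel hx)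

/-- the field structure -/
noncomputable instance instFieldF : Field D.F :=
  { instCommRingF D with
    inv := invF D
    exists_pair_ne := (isField D).exists_pair_ne
    mul_inv_cancel := by
      intro a ha
      show a * invF D a = 1
      unfold invF
      rw [dif_neg ha]
      exact Classical.choose_spec ((isField D).mul_inv_cancel ha)
    inv_zero := by
      show invF D 0 = 0
      unfold invF
      rw [dif_pos rfl]
    nnqsmul := _
    nnqsmul_def := fun _ _ => rfl
    qsmul := _
    qsmul_def := fun _ _ => rfl }

theorem inv_toF_act (h : H) : (toF D (D.act h D.e))⁻¹ = toF D (D.act h⁻¹ D.e) :=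
  inv_eq_of_mul_eq_one_right (toF_act_mul_inv D h)

/-- finiteness -/
noncomputable instance instFintypeF [Fintype K] : Fintype D.F := Fintype.ofEquiv K (toF D)

theorem card_F [Fintype K] : Fintype.card D.F = Fintype.card K :=
  (Fintype.card_congr (toF D)).symm

theorem exists_sq [Finite K] (c : D.F) : ∃ a : D.F, a * a = c := by
  haveI : Finite D.F := Finite.of_equiv K (toF D)
  have hinj : Function.Injective (fun a : D.F => a * a) := by
    intro a b hab
    have h1 : (a + b) * (a + b) = 0 := by
      have h2 : (a + b) * (a + b) = a * a + b * b + (a * b + a * b) := by ring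
      have h3 : a * a = b * b := hab
      rw [h2, add_self, add_zero, h3, add_self]
    have h4 : a + b = 0 := by
      rcases mul_eq_zero.mp h1 with h | h <;> exact h
    have h5 : a = -b := eq_neg_of_add_eq_zero_left h4
    rw [h5, neg_def]
  exact Finite.surjective_of_injective hinj c

theorem neg_one_eq : (-1 : D.F) = 1 := neg_def D 1

end Cfsg.Agent.Helper22.NF
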