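import Mathlib
import Cfsg.Agent.Lib.Helper22.NearField
import Cfsg.Agent.Lib.Helper22.Sharp3

/-!
# Sharply 3-transitive groups of odd degree: the field (helper22's library)
-/

set_option autoImplicit false

namespace Cfsg.Agent.Helper22.Sharp3

variable {G : Type*} [Group G] {α : Type*} [MulAction G α] [Fintype α] [DecidableEq α]
  (C : Cfg G α)

theorem stabH_inv_zer (h : stabH C) : ((h : G)⁻¹) • C.zer = C.zer := by
  rw [inv_smul_eq_iff, ((mem_stabH C).mp h.2).2]

theorem stabH_inv_inf (h : stabH C) : ((h : G)⁻¹) • C.inf = C.inf := by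
  rw [inv_smul_eq_iff, ((mem_stabH C).mp h.2).1]

/-- conjugation action of the two point stabiliser on the kernel -/
def actHK : stabH C →* MulAut (kerK C) where
  toFun h :=
    { toFun := fun k => ⟨h * k * (h : G)⁻¹, kerK_conj C ((mem_stabH C).mp h.2).1 k.2⟩
      invFun := fun k => ⟨(h : G)⁻¹ * k * h, by
        have := kerK_conj C (g := (h : G)⁻¹) (stabH_inv_inf C h) k.2
        simpa using this⟩
      left_inv := fun k => by apply Subtype.ext; simp [mul_assoc]
      right_inv := fun k => by apply Subtype.ext; simp [mul_assoc]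
      map_mul' := fun k k' => by apply Subtype.ext; simp [mul_assoc] }
  map_one' := by ext k; simp
  map_mul' := fun h h' => by ext k; simp [mul_assoc]

theorem actHK_coe (h : stabH C) (k : kerK C) :
    ((actHK C h k : kerK C) : G) = h * k * (h : G)⁻¹ := rfl

theorem actHK_smul_zer (h : stabH C) (k : kerK C) :
    ((actHK C h k : kerK C) : G) • C.zer = (h : G) • ((k : G) • C.zer) := by
  rw [actHK_coe, mul_smul, mul_smul, stabH_inv_zer]

theorem exists_e : ∃ k ∈ kerK C, k • C.zer = C.one := kerK_trans C C.hiz.symm C.hio.symm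

/-- the unit element of the kernel -/
noncomputable def eK : kerK C := ⟨(exists_e C).choose, (exists_e C).choose_spec.1⟩

theorem eK_smul : ((eK C : kerK C) : G) • C.zer = C.one := (exists_e C).choose_spec.2

variable [Finite G]

/-- the field data of the configuration -/
noncomputable def fdata : NF.FData (kerK C) (stabH C) where
  act := actHK C
  e := eK C
  he := by
    intro h
    have h1 := eK_smul C
    rw [h] at h1
    simp at h1
    exact C.hzo h1
  hexp := fun k => Subtype.ext (kerK_sq C k.2)
  hcomm := fun a b => Subtype.ext (stabH_comm C a.2 b.2)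
  hreg := by
    intro k hk
    have hk1 : (k : G) ≠ 1 := fun h => hk (Subtype.ext h)
    have hx1 : (k : G) • C.zer ≠ C.inf := smul_ne_inf C (kerK_inf C k.2) C.hiz.symm
    have hx2 : (k : G) • C.zer ≠ C.zer := kerK_fpf C k.2 hk1 C.hiz.symm
    obtain ⟨h, h1, h2, h3⟩ := C.hT C.inf C.zer C.one C.inf C.zer ((k : G) • C.zer)
      C.hiz C.hio C.hzo C.hiz hx1.symm hx2.symm
    have hh : h ∈ stabH C := (mem_stabH C).mpr ⟨h1, h2⟩
    refine ⟨⟨h, hh⟩, ?_, ?_⟩
    · apply Subtype.ext
      apply kerK_reg C (actHK C ⟨h, hh⟩ (eK C)).2 k.2 C.hiz.symm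
      rw [actHK_smul_zer, eK_smul]
      exact h3
    · intro h' hh'
      have h4 : (h' : G) • C.one = (k : G) • C.zer := by
        rw [← hh', actHK_smul_zer, eK_smul]
      apply Subtype.ext
      apply eq_of_three C.hU C.hiz C.hio C.hzo
      · rw [((mem_stabH C).mp h'.2).1, h1]
      · rw [((mem_stabH C).mp h'.2).2, h2]
      · rw [h4, h3]

end Cfsg.Agent.Helper22.Sharp3
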