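import Mathlib
import Cfsg.Agent.Lib.Helper22.Sharp3Field
import Cfsg.Agent.Lib.Helper16.PSL2Recog
import Cfsg.Agent.Lib.Helper12.SL2Upper

/-!
# Sharply 3-transitive groups of odd degree are `SL₂` of a field of characteristic two
(helper22's library)
-/

set_option autoImplicit false

namespace Cfsg.Agent.Helper22.Sharp3

open Matrix Cfsg.Agent.Helper16
open scoped Classical

variable {G : Type*} [Group G] {α : Type*} [MulAction G α] [Fintype α] [DecidableEq α]
  (C : Cfg G α) [Finite G]

/-- finiteness of the field -/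
noncomputable instance instFintypeFC : Fintype (fdata C).F :=
  @Fintype.ofFinite _ (Finite.of_equiv (kerK C) (NF.toF (fdata C)))

/-- the map from the projective line to the points -/
noncomputable def psi (z : OnePoint (fdata C).F) : α :=
  z.elim C.inf (fun f => (((NF.toF (fdata C)).symm f : kerK C) : G) • C.zer)

theorem psi_infty : psi C OnePoint.infty = C.inf := rfl

theorem psi_toF (k : kerK C) :
    psi C ((NF.toF (fdata C) k : (fdata C).F) : OnePoint (fdata C).F) = (k : G) • C.zer := by
  show (((NF.toF (fdata C)).symm (NF.toF (fdata C) k) : kerK C) : G) • C.zer = _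
  rw [Equiv.symm_apply_apply]

theorem exists_toF (f : (fdata C).F) : ∃ k : kerK C, f = NF.toF (fdata C) k :=
  ⟨(NF.toF (fdata C)).symm f, (Equiv.apply_symm_apply _ _).symm⟩

theorem psi_coe_ne_inf (f : (fdata C).F) : psi C (f : OnePoint (fdata C).F) ≠ C.inf := by
  obtain ⟨k, hk⟩ := exists_toF C f
  rw [hk, psi_toF]
  exact smul_ne_inf C (kerK_inf C k.2) C.hiz.symm

theorem psi_injective : Function.Injective (psi C) := by
  intro z w hzw
  induction z using OnePoint.rec with
  | infty =>
    induction w using OnePoint.rec with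
    | infty => rfl
    | coe f =>
      exfalso
      rw [psi_infty] at hzw
      exact psi_coe_ne_inf C f hzw.symm
  | coe f =>
    induction w using OnePoint.rec with
    | infty =>
      exfalso
      rw [psi_infty] at hzw
      exact psi_coe_ne_inf C f hzw
    | coe f' =>
      obtain ⟨k, hk⟩ := exists_toF C f
      obtain ⟨k', hk'⟩ := exists_toF C f'
      rw [hk, hk'] at hzw ⊢
      rw [psi_toF, psi_toF] at hzw
      have := kerK_reg C k.2 k'.2 C.hiz.symm hzw
      rw [Subtype.ext this]

theorem psi_surjective : Function.Surjective (psi C) := by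
  intro x
  by_cases hx : x = C.inf
  · exact ⟨OnePoint.infty, by rw [psi_infty, hx]⟩
  · obtain ⟨k, hk, hkx⟩ := kerK_trans C C.hiz.symm hx
    exact ⟨((NF.toF (fdata C) ⟨k, hk⟩ : (fdata C).F) : OnePoint (fdata C).F), by rw [psi_toF]; exact hkx⟩

/-- the identification of the projective line with the points -/
noncomputable def psiE : OnePoint (fdata C).F ≃ α :=
  Equiv.ofBijective (psi C) ⟨psi_injective C, psi_surjective C⟩

theorem psiE_apply (z : OnePoint (fdata C).F) : psiE C z = psi C z := rfl

/-- the action on the projective line -/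
noncomputable def Phi : G →* Equiv.Perm (OnePoint (fdata C).F) :=
  (psiE C).symm.permCongrHom.toMonoidHom.comp (MulAction.toPermHom G α)

theorem Phi_apply (g : G) (z : OnePoint (fdata C).F) :
    Phi C g z = (psiE C).symm (g • psi C z) := rfl

theorem Phi_eq_of (g : G) (A : SpecialLinearGroup (Fin 2) (fdata C).F)
    (h : ∀ z, g • psi C z = psi C (mobius (fdata C).F A z)) : Phi C g = mobius (fdata C).F A := by
  ext z
  rw [Phi_apply, h, ← psiE_apply, Equiv.symm_apply_apply]

theorem Phi_injective : Function.Injective (Phi C) := by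
  rw [injective_iff_map_eq_one]
  intro g hg
  have h : ∀ x : α, g • x = x := by
    intro x
    obtain ⟨z, rfl⟩ := psi_surjective C x
    have := congrArg (fun p => p z) hg
    simp only [Phi_apply, Equiv.Perm.coe_one, id_eq] at this
    have h2 := congrArg (psiE C) this
    rwa [Equiv.apply_symm_apply, psiE_apply] at h2
  exact C.hU g C.inf C.zer C.one C.hiz C.hio C.hzo (h _) (h _) (h _)

/-! ### the generators act as Möbius maps -/

theorem Phi_K (k : kerK C) :
    Phi C (k : G) = mobius (fdata C).F (translMat (NF.toF (fdata C) k)) := by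
  apply Phi_eq_of
  intro z
  induction z using OnePoint.rec with
  | infty =>
    rw [mobius_translMat_infty, psi_infty, kerK_inf C k.2]
  | coe f =>
    obtain ⟨k₀, hk₀⟩ := exists_toF C f
    rw [hk₀, mobius_translMat_coe, add_comm, ← NF.toF_mul, psi_toF, psi_toF, Subgroup.coe_mul, mul_smul]

theorem Phi_H (h : stabH C) : Phi C (h : G) ∈ (mobius (fdata C).F).range := by
  obtain ⟨a, ha⟩ := NF.exists_sq (fdata C) (NF.toF (fdata C) ((fdata C).act h (fdata C).e))
  have ha0 : a ≠ 0 := by
    intro h0
    rw [h0, mul_zero] at ha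
    exact NF.act_ne_one (fdata C) h ((NF.toF_eq_zero (fdata C)).mp ha.symm)
  refine ⟨diagMat a ha0, ?_⟩
  symm
  apply Phi_eq_of
  intro z
  induction z using OnePoint.rec with
  | infty =>
    rw [mobius_diagMat_infty, psi_infty, ((mem_stabH C).mp h.2).1]
  | coe f =>
    obtain ⟨k₀, hk₀⟩ := exists_toF C f
    rw [hk₀, mobius_diagMat_coe, ha, ← NF.toF_act, psi_toF, psi_toF]
    exact (actHK_smul_zer C h k₀).symm

theorem neg_one_mul_one : -((1 : (fdata C).F) * 1) = 1 := by
  rw [mul_one]; exact NF.neg_one_eq (fdata C)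

theorem Phi_t {t : G} (h1 : t • C.inf = C.zer) (h2 : t • C.zer = C.inf)
    (h3 : t • C.one = C.one) (ht : t * t = 1) (ht1 : t ≠ 1) :
    Phi C t = mobius (fdata C).F (antiMat 1 1 (neg_one_mul_one C)) := by
  apply Phi_eq_of
  intro z
  have hzero : psi C (((0 : (fdata C).F)) : OnePoint (fdata C).F) = C.zer := by
    rw [← NF.toF_one, psi_toF]
    simp
  induction z using OnePoint.rec with
  | infty =>
    rw [mobius_antiMat_infty, psi_infty, h1, hzero]
  | coe f =>
    by_cases hf : f = 0
    · rw [hf, mobius_antiMat_zero, hzero, h2, psi_infty]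
    · obtain ⟨h, hh⟩ := NF.exists_act (fdata C) f hf
      rw [mobius_antiMat_coe _ _ _ _ hf, hh, one_mul, one_div, NF.inv_toF_act, psi_toF, psi_toF]
      have e1 : ∀ h' : stabH C, (((fdata C).act h' (fdata C).e : kerK C) : G) • C.zer
          = (h' : G) • C.one := by
        intro h'
        have := actHK_smul_zer C h' (eK C)
        rw [eK_smul] at this
        exact this
      rw [e1, e1]
      have hinv := stabH_inverted C h1 h2 h3 ht ht1 h h.2
      have htinv : t⁻¹ = t := inv_eq_of_mul_eq_one_left ht
      have e2 : t * (h : G) = (h : G)⁻¹ * t := by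
        have := congrArg (· * t) hinv
        simp only [inv_mul_cancel_right] at this
        exact this
      rw [← mul_smul, e2, mul_smul, h3]
      rfl

/-! ### generation -/

theorem closure_eq_top {t : G} (h2 : t • C.zer = C.inf) :
    Subgroup.closure ((kerK C : Set G) ∪ (stabH C : Set G) ∪ {t}) = ⊤ := by
  set S := Subgroup.closure ((kerK C : Set G) ∪ (stabH C : Set G) ∪ {t}) with hS
  have hK : ∀ k ∈ kerK C, k ∈ S := fun k hk =>
    Subgroup.subset_closure (Or.inl (Or.inl hk))
  have hH : ∀ h ∈ stabH C, h ∈ S := fun h hh =>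
    Subgroup.subset_closure (Or.inl (Or.inr hh))
  have htS : t ∈ S := Subgroup.subset_closure (Or.inr rfl)
  have hstab : ∀ g : G, g • C.inf = C.inf → g ∈ S := by
    intro g hg
    obtain ⟨k, hk, hkx⟩ := kerK_trans C C.hiz.symm (smul_ne_inf C hg C.hiz.symm)
    have hmem : k⁻¹ * g ∈ stabH C := by
      rw [mem_stabH]
      constructor
      · rw [mul_smul, hg, inv_smul_eq_iff, kerK_inf C hk]
      · rw [mul_smul, inv_smul_eq_iff, hkx]
    have : g = k * (k⁻¹ * g) := by group
    rw [this]
    exact S.mul_mem (hK k hk) (hH _ hmem)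
  rw [eq_top_iff]
  intro g _
  by_cases hg : g • C.inf = C.inf
  · exact hstab g hg
  · obtain ⟨k, hk, hkx⟩ := kerK_trans C C.hiz.symm hg
    have hmem : t * k⁻¹ * g ∈ S := by
      apply hstab
      rw [mul_smul, mul_smul, ← hkx, inv_smul_smul, h2]
    have : g = k * t⁻¹ * (t * k⁻¹ * g) := by group
    rw [this]
    exact S.mul_mem (S.mul_mem (hK k hk) (S.inv_mem htS)) hmem

/-! ### cardinalities -/

include C in
theorem card_G : Nat.card G =
    Fintype.card α * (Fintype.card α - 1) * (Fintype.card α - 2) := by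
  let x₀ : Fin 3 ↪ α := ⟨![C.inf, C.zer, C.one], by
    intro i j hij
    fin_cases i <;> fin_cases j <;> simp at hij ⊢
    · exact C.hiz hij
    · exact C.hio hij
    · exact C.hiz hij.symm
    · exact C.hzo hij
    · exact C.hio hij.symm
    · exact C.hzo hij.symm⟩
  have hx0 : x₀ 0 = C.inf := rfl
  have hx1 : x₀ 1 = C.zer := rfl
  have hx2 : x₀ 2 = C.one := rfl
  let f : G → (Fin 3 ↪ α) := fun g => g • x₀
  have hf : ∀ g i, f g i = g • x₀ i := fun g i => rfl
  have hinj : Function.Injective f := by
    intro g h hgh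
    apply eq_of_three C.hU C.hiz C.hio C.hzo
    · have := congrArg (fun y : Fin 3 ↪ α => y 0) hgh
      simpa only [hf, hx0] using this
    · have := congrArg (fun y : Fin 3 ↪ α => y 1) hgh
      simpa only [hf, hx1] using this
    · have := congrArg (fun y : Fin 3 ↪ α => y 2) hgh
      simpa only [hf, hx2] using this
  have hsurj : Function.Surjective f := by
    intro y
    have h01 : y 0 ≠ y 1 := fun h => by simpa using y.injective h
    have h02 : y 0 ≠ y 2 := fun h => by simpa using y.injective h
    have h12 : y 1 ≠ y 2 := fun h => by simpa using y.injective h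
    obtain ⟨g, g0, g1, g2⟩ := C.hT C.inf C.zer C.one (y 0) (y 1) (y 2) C.hiz C.hio C.hzo h01 h02 h12
    refine ⟨g, ?_⟩
    ext i
    fin_cases i
    · exact g0
    · exact g1
    · exact g2
  rw [Nat.card_congr (Equiv.ofBijective f ⟨hinj, hsurj⟩), Nat.card_eq_fintype_card,
    Fintype.card_embedding_eq, Fintype.card_fin]
  simp only [Nat.descFactorial, Nat.sub_zero]
  ring

theorem card_alpha : Fintype.card α = Fintype.card (fdata C).F + 1 := by
  rw [← Fintype.card_congr (psiE C)]
  exact Fintype.card_option

theorem mobius_injective : Function.Injective (mobius (fdata C).F) := by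
  rw [← MonoidHom.ker_eq_bot_iff, mobius_ker, eq_bot_iff]
  intro A hA
  rw [Matrix.SpecialLinearGroup.mem_center_iff] at hA
  obtain ⟨r, hr, hrA⟩ := hA
  rw [Fintype.card_fin, sq] at hr
  have h1 : (r + 1) * (r + 1) = 0 := by
    have : (r + 1) * (r + 1) = r * r + 1 + (r + r) := by ring
    rw [this, hr, NF.add_self, NF.add_self, add_zero]
  have h2 : r + 1 = 0 := by
    rcases mul_eq_zero.mp h1 with h | h <;> exact h
  have h3 : r = 1 := by
    have := eq_neg_of_add_eq_zero_left h2
    rw [this]; exact NF.neg_one_eq (fdata C)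
  rw [Subgroup.mem_bot]
  apply Subtype.ext
  rw [← hrA, h3]
  simp

/-- the main theorem: the group is `SL₂` of the field -/
theorem nonempty_mulEquiv :
    Nonempty (G ≃* SpecialLinearGroup (Fin 2) (fdata C).F) := by
  obtain ⟨t, h1, h2, h3, ht, ht1⟩ := exists_t C
  have hle : (Phi C).range ≤ (mobius (fdata C).F).range := by
    rw [MonoidHom.range_eq_map, ← closure_eq_top C h2, MonoidHom.map_closure,
      Subgroup.closure_le]
    rintro _ ⟨s, hs, rfl⟩
    rcases hs with (hs | hs) | hs
    · exact ⟨_, (Phi_K C ⟨s, hs⟩).symm⟩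
    · exact Phi_H C ⟨s, hs⟩
    · rw [Set.mem_singleton_iff] at hs
      rw [hs]
      exact ⟨_, (Phi_t C h1 h2 h3 ht ht1).symm⟩
  have hc1 : Nat.card (Phi C).range = Nat.card G :=
    (Nat.card_congr (MonoidHom.ofInjective (Phi_injective C)).toEquiv).symm
  have hc2 : Nat.card (mobius (fdata C).F).range =
      Nat.card (SpecialLinearGroup (Fin 2) (fdata C).F) :=
    (Nat.card_congr (MonoidHom.ofInjective (mobius_injective C)).toEquiv).symm
  have hcard : Nat.card (SpecialLinearGroup (Fin 2) (fdata C).F) = Nat.card G := by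
    rw [Cfsg.Agent.Helper12.card_SL2, card_G C, card_alpha C]
    have hq : 1 ≤ Fintype.card (fdata C).F := Fintype.card_pos
    obtain ⟨r, hr⟩ : ∃ r, Fintype.card (fdata C).F = r + 1 := ⟨_, (Nat.sub_add_cancel hq).symm⟩
    rw [hr]
    have e1 : (r + 1) ^ 2 - 1 = r * (r + 2) := by
      have : (r + 1) ^ 2 = r * (r + 2) + 1 := by ring
      rw [this, Nat.add_sub_cancel]
    have e2 : r + 1 + 1 - 1 = r + 1 := by omega
    have e3 : r + 1 + 1 - 2 = r := by omega
    rw [e1, e2, e3]
    ring
  have heq : (Phi C).range = (mobius (fdata C).F).range := by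
    apply Subgroup.eq_of_le_of_card_ge hle
    rw [hc1, hc2, hcard]
  exact ⟨((MonoidHom.ofInjective (Phi_injective C)).trans (MulEquiv.subgroupCongr heq)).trans
    (MonoidHom.ofInjective (mobius_injective C)).symm⟩

end Cfsg.Agent.Helper22.Sharp3
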