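import Mathlib
import Cfsg.Agent.Lib.Helper22.Sharp3Main

/-!
# Sharply 3-transitive groups of odd degree: final form (helper22's library)
-/

set_option autoImplicit false

namespace Cfsg.Agent.Helper22.Sharp3

open Matrix

/-- transport of `SL₂` along a ring isomorphism -/
def slCongr {R S : Type*} [CommRing R] [CommRing S] (e : R ≃+* S) :
    SpecialLinearGroup (Fin 2) R ≃* SpecialLinearGroup (Fin 2) S where
  toFun := SpecialLinearGroup.map e.toRingHom
  invFun := SpecialLinearGroup.map e.symm.toRingHom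
  left_inv A := by
    apply Subtype.ext
    ext i j
    show e.symm (e (A.1 i j)) = A.1 i j
    simp
  right_inv A := by
    apply Subtype.ext
    ext i j
    show e (e.symm (A.1 i j)) = A.1 i j
    simp
  map_mul' := map_mul _

variable {G : Type*} [Group G] {α : Type*} [MulAction G α] [Fintype α] [DecidableEq α]

theorem exists_galois (C : Cfg G α) [Finite G] :
    ∃ a : ℕ, 1 ≤ a ∧ Fintype.card α = 2 ^ a + 1 ∧
      Nonempty (G ≃* SpecialLinearGroup (Fin 2) (GaloisField 2 a)) := by
  classical
  obtain ⟨e⟩ := nonempty_mulEquiv C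
  have h10 : (1 : (fdata C).F) ≠ 0 := one_ne_zero
  have h2 : (2 : (fdata C).F) = 0 := by
    rw [← one_add_one_eq_two]; exact NF.add_self (fdata C) 1
  haveI : CharP (fdata C).F 2 := CharTwo.of_one_ne_zero_of_two_eq_zero h10 h2
  obtain ⟨n, -, hn⟩ := FiniteField.card (fdata C).F 2
  have hn0 : (n : ℕ) ≠ 0 := n.pos.ne'
  letI : Fintype (GaloisField 2 (n : ℕ)) := Fintype.ofFinite _
  have hcard : Fintype.card (fdata C).F = Fintype.card (GaloisField 2 (n : ℕ)) := by
    rw [hn, ← Nat.card_eq_fintype_card, GaloisField.card 2 n hn0]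
  refine ⟨n, n.pos, ?_, ⟨e.trans (slCongr (FiniteField.ringEquivOfCardEq hcard))⟩⟩
  rw [card_alpha C, hn]


omit [Fintype α] [DecidableEq α] in
/-- three distinct points as an embedding -/
def embOfThree (a b c : α) (hab : a ≠ b) (hac : a ≠ c) (hbc : b ≠ c) : Fin 3 ↪ α :=
  ⟨![a, b, c], by
    intro i j hij
    fin_cases i <;> fin_cases j <;> simp at hij ⊢
    · exact hab hij
    · exact hac hij
    · exact hab hij.symm
    · exact hbc hij
    · exact hac hij.symm
    · exact hbc hij.symm⟩

omit [Fintype α] [DecidableEq α] in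
theorem tr3_of_pretransitive (h3 : MulAction.IsMultiplyPretransitive G α 3) : Tr3 G α := by
  intro a b c a' b' c' hab hac hbc hab' hac' hbc'
  obtain ⟨g, hg⟩ := MulAction.exists_smul_eq G (embOfThree a b c hab hac hbc)
    (embOfThree a' b' c' hab' hac' hbc')
  refine ⟨g, ?_, ?_, ?_⟩
  · have := congrArg (fun y : Fin 3 ↪ α => y 0) hg
    exact this
  · have := congrArg (fun y : Fin 3 ↪ α => y 1) hg
    exact this
  · have := congrArg (fun y : Fin 3 ↪ α => y 2) hg
    exact this

omit [Fintype α] [DecidableEq α] in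
theorem smul_embOfThree {g : G} {a b c : α} (hab : a ≠ b) (hac : a ≠ c) (hbc : b ≠ c)
    (ha : g • a = a) (hb : g • b = b) (hc : g • c = c) :
    g • embOfThree a b c hab hac hbc = embOfThree a b c hab hac hbc := by
  ext i
  fin_cases i
  · exact ha
  · exact hb
  · exact hc

omit [DecidableEq α] in
theorem nonempty_cfg (hT : Tr3 G α) (hU : Uq3 G α) (hodd : Odd (Fintype.card α))
    (hm : 3 ≤ Fintype.card α) : Nonempty (Cfg G α) := by
  obtain ⟨a, b, c, hab, hac, hbc⟩ := Fintype.two_lt_card_iff.mp (by omega : 2 < Fintype.card α)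
  exact ⟨{ hT := hT, hU := hU, hodd := hodd, inf := a, zer := b, one := c, hiz := hab, hio := hac,
           hzo := hbc }⟩

end Cfsg.Agent.Helper22.Sharp3
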