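import Mathlib

/-!
# Groups with a self-centralizing element of prime order (helper22 library)

Setting: `G` a finite group, `x : G` of prime order `p` with `C_G(x) = ⟨x⟩`.
-/

set_option autoImplicit false

namespace Cfsg.Agent.Helper22

open Subgroup
open scoped Pointwise commutatorElement

section Basic

variable {G : Type*} [Group G]

theorem mem_conj_smul_iff (H : Subgroup G) (g y : G) :
    y ∈ MulAut.conj g • H ↔ g⁻¹ * y * g ∈ H := by
  rw [Subgroup.mem_pointwise_smul_iff_inv_smul_mem]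
  simp [MulAut.smul_def]

/-- A subgroup of prime order `p` containing `x` of order `p` is `zpowers x`. -/
theorem eq_zpowers_of_card_eq [Finite G] {p : ℕ} (x : G) (hx : orderOf x = p)
    (H : Subgroup G) (hH : Nat.card H = p) (hxH : x ∈ H) : H = zpowers x := by
  symm
  apply Subgroup.eq_of_le_of_card_ge
  · exact (zpowers_le).2 hxH
  · rw [hH, Nat.card_zpowers, hx]

end Basic

section SelfCent

variable {G : Type*} [Group G] [Finite G] {p : ℕ} [hp : Fact p.Prime] {x : G}

/-- Any Sylow `p`-subgroup containing `x` equals `⟨x⟩`. -/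
theorem sylow_eq_zpowers (hx : orderOf x = p) (hC : centralizer ({x} : Set G) = zpowers x)
    (Q : Sylow p G) (hxQ : x ∈ Q) : (Q : Subgroup G) = zpowers x := by
  have hcardx : Nat.card (zpowers x) = p := by rw [Nat.card_zpowers, hx]
  -- Q is nontrivial
  have hQnt : Nontrivial (Q : Subgroup G) := by
    refine ⟨⟨⟨x, hxQ⟩, 1, ?_⟩⟩
    intro h
    have : x = 1 := congrArg Subtype.val h
    rw [this, orderOf_one] at hx
    exact hp.out.one_lt.ne hx
  have hZnt : Nontrivial (center (Q : Subgroup G)) := Q.isPGroup'.center_nontrivial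
  obtain ⟨⟨z, hz⟩, hz1⟩ := exists_ne (1 : center (Q : Subgroup G))
  have hz1' : (z : G) ≠ 1 := by
    intro h
    apply hz1
    ext
    exact h
  -- z commutes with x, so z ∈ ⟨x⟩
  have hzx : (z : G) ∈ zpowers x := by
    rw [← hC, mem_centralizer_iff]
    intro y hy
    rw [Set.mem_singleton_iff] at hy
    subst hy
    have := (mem_center_iff.1 hz) ⟨y, hxQ⟩
    exact congrArg Subtype.val this
  -- so ⟨z⟩ = ⟨x⟩
  have hzgen : zpowers (z : G) = zpowers x := by
    have hle : zpowers (z : G) ≤ zpowers x := (zpowers_le).2 hzx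
    apply Subgroup.eq_of_le_of_card_ge hle
    rw [hcardx, Nat.card_zpowers]
    have hdvd : orderOf (z : G) ∣ p := by
      have h0 : Nat.card (zpowers (z : G)) ∣ Nat.card (zpowers x) := Subgroup.card_dvd_of_le hle
      rw [Nat.card_zpowers, hcardx] at h0
      exact h0
    rcases (Nat.dvd_prime hp.out).1 hdvd with h1 | h1
    · exact absurd (orderOf_eq_one_iff.1 h1) hz1'
    · exact h1.ge
  -- x is central in Q
  have hxz : x ∈ zpowers (z : G) := hzgen ▸ mem_zpowers x
  have hxc : ∀ q ∈ (Q : Subgroup G), q * x = x * q := by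
    intro q hq
    obtain ⟨k, hk⟩ := mem_zpowers_iff.1 hxz
    have hzq : q * (z : G) = (z : G) * q := by
      have := (mem_center_iff.1 hz) ⟨q, hq⟩
      exact congrArg Subtype.val this
    rw [← hk]
    exact ((Commute.zpow_right hzq k : Commute q ((z : G) ^ k))).eq
  apply le_antisymm
  · intro q hq
    rw [← hC, mem_centralizer_iff]
    intro y hy
    rw [Set.mem_singleton_iff] at hy
    subst hy
    exact (hxc q hq).symm
  · exact (zpowers_le).2 hxQ

/-- `⟨x⟩` is a Sylow `p`-subgroup. -/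
theorem exists_sylow_eq_zpowers (hx : orderOf x = p) (hC : centralizer ({x} : Set G) = zpowers x) :
    ∃ P : Sylow p G, (P : Subgroup G) = zpowers x := by
  have hpg : IsPGroup p (zpowers x) := by
    apply IsPGroup.of_card (n := 1)
    rw [Nat.card_zpowers, hx, pow_one]
  obtain ⟨Q, hQ⟩ := hpg.exists_le_sylow
  exact ⟨Q, sylow_eq_zpowers hx hC Q (hQ (mem_zpowers x))⟩

/-- Every Sylow `p`-subgroup has order `p`. -/
theorem card_sylow (hx : orderOf x = p) (hC : centralizer ({x} : Set G) = zpowers x)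
    (Q : Sylow p G) : Nat.card Q = p := by
  obtain ⟨P, hP⟩ := exists_sylow_eq_zpowers hx hC
  rw [Sylow.card_eq_multiplicity, ← Sylow.card_eq_multiplicity P]
  show Nat.card (P : Subgroup G) = p
  rw [hP, Nat.card_zpowers, hx]

/-- A normal subgroup of order divisible by `p` contains `x`. -/
theorem mem_of_normal_of_dvd (hx : orderOf x = p) (hC : centralizer ({x} : Set G) = zpowers x)
    (S : Subgroup G) [hS : S.Normal] (hpS : p ∣ Nat.card S) : x ∈ S := by
  obtain ⟨y, hy⟩ := exists_prime_orderOf_dvd_card' (G := S) p hpS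
  have hy' : orderOf (y : G) = p := by rw [Subgroup.orderOf_coe]; exact hy
  have hpg : IsPGroup p (zpowers (y : G)) := by
    apply IsPGroup.of_card (n := 1)
    rw [Nat.card_zpowers, hy', pow_one]
  obtain ⟨Q, hQ⟩ := hpg.exists_le_sylow
  have hQy : (Q : Subgroup G) = zpowers (y : G) :=
    eq_zpowers_of_card_eq (y : G) hy' Q (card_sylow hx hC Q) (hQ (mem_zpowers _))
  obtain ⟨P, hP⟩ := exists_sylow_eq_zpowers hx hC
  obtain ⟨g, hg⟩ := MulAction.exists_smul_eq G P Q
  have h1 : g * x * g⁻¹ ∈ (Q : Subgroup G) := by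
    rw [← hg, Sylow.coe_subgroup_smul, mem_conj_smul_iff, hP]
    have : g⁻¹ * (g * x * g⁻¹) * g = x := by group
    rw [this]
    exact mem_zpowers x
  rw [hQy] at h1
  have h2 : g * x * g⁻¹ ∈ S := (zpowers_le.2 y.2) h1
  have h3 := hS.conj_mem _ h2 g⁻¹
  have : g⁻¹ * (g * x * g⁻¹) * g⁻¹⁻¹ = x := by group
  rwa [this] at h3

/-- A subgroup of order prime to `p` meets `⟨x⟩` trivially. -/
theorem inf_zpowers_eq_bot (hx : orderOf x = p) (S : Subgroup G) (hpS : ¬ p ∣ Nat.card S) :
    S ⊓ zpowers x = ⊥ := by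
  rw [← disjoint_iff]
  apply Subgroup.disjoint_of_coprime_natCard
  rw [Nat.card_zpowers, hx]
  exact (Nat.Coprime.symm ((Nat.Prime.coprime_iff_not_dvd hp.out).2 hpS))

theorem not_mem_of_not_dvd (hx : orderOf x = p) (S : Subgroup G) (hpS : ¬ p ∣ Nat.card S) :
    x ∉ S := by
  intro h
  have : x ∈ S ⊓ zpowers x := ⟨h, mem_zpowers x⟩
  rw [inf_zpowers_eq_bot hx S hpS, mem_bot] at this
  rw [this, orderOf_one] at hx
  exact hp.out.one_lt.ne hx

theorem centralizer_zpowers_eq (y : G) : centralizer (zpowers y : Set G) = centralizer ({y} : Set G) := by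
  ext g
  simp only [mem_centralizer_iff, Set.mem_singleton_iff, SetLike.mem_coe]
  constructor
  · intro h z hz
    subst hz
    exact h z (mem_zpowers z)
  · intro h z hz
    obtain ⟨k, rfl⟩ := mem_zpowers_iff.1 hz
    have h1 : Commute y g := h y rfl
    exact (h1.zpow_left k).eq

/-- Commutators of elements of `N_G(⟨x⟩)` lie in `⟨x⟩`. -/
theorem commutator_normalizer_mem (hC : centralizer ({x} : Set G) = zpowers x)
    (n₁ n₂ : G) (h₁ : n₁ ∈ normalizer (zpowers x : Set G)) (h₂ : n₂ ∈ normalizer (zpowers x : Set G)) :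
    ⁅n₁, n₂⁆ ∈ zpowers x := by
  have hcyc : IsCyclic (zpowers x) := inferInstance
  let _ := (hcyc.mulAutMulEquiv _).toMonoidHom.commGroupOfInjective (hcyc.mulAutMulEquiv _).injective
  have h := Abelianization.commutator_subset_ker (zpowers x).normalizerMonoidHom
  rw [Subgroup.normalizerMonoidHom_ker] at h
  have hmem : ⁅(⟨n₁, h₁⟩ : normalizer (zpowers x : Set G)), ⟨n₂, h₂⟩⁆ ∈ commutator (normalizer (zpowers x : Set G)) := by
    rw [_root_.commutator_def]
    exact Subgroup.commutator_mem_commutator (mem_top _) (mem_top _)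
  have h3 := h hmem
  rw [mem_subgroupOf, centralizer_zpowers_eq, hC] at h3
  exact h3

/-- Part (a): a normal subgroup of order divisible by `p` contains the commutator subgroup. -/
theorem commutator_le_of_dvd (hx : orderOf x = p) (hC : centralizer ({x} : Set G) = zpowers x)
    (S : Subgroup G) [hS : S.Normal] (hpS : p ∣ Nat.card S) : commutator G ≤ S := by
  obtain ⟨P, hP⟩ := exists_sylow_eq_zpowers hx hC
  have hxS := mem_of_normal_of_dvd hx hC S hpS
  have hPS : (P : Subgroup G) ≤ S := by rw [hP]; exact zpowers_le.2 hxS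
  have hfr : normalizer ((zpowers x : Subgroup G) : Set G) ⊔ S = ⊤ := by
    rw [← hP]
    exact Sylow.normalizer_sup_eq_top' P hPS
  rw [_root_.commutator_def, Subgroup.commutator_le]
  intro g _ h _
  have hg : g ∈ normalizer (zpowers x : Set G) ⊔ S := hfr ▸ mem_top g
  have hh : h ∈ normalizer (zpowers x : Set G) ⊔ S := hfr ▸ mem_top h
  obtain ⟨n₁, hn₁, s₁, hs₁, rfl⟩ := mem_sup_of_normal_right.1 hg
  obtain ⟨n₂, hn₂, s₂, hs₂, rfl⟩ := mem_sup_of_normal_right.1 hh
  rw [← QuotientGroup.eq_one_iff]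
  have e1 : ((n₁ * s₁ : G) : G ⧸ S) = (n₁ : G ⧸ S) := by
    rw [QuotientGroup.mk_mul, (QuotientGroup.eq_one_iff s₁).2 hs₁, mul_one]
  have e2 : ((n₂ * s₂ : G) : G ⧸ S) = (n₂ : G ⧸ S) := by
    rw [QuotientGroup.mk_mul, (QuotientGroup.eq_one_iff s₂).2 hs₂, mul_one]
  have e3 : ((⁅n₁ * s₁, n₂ * s₂⁆ : G) : G ⧸ S) = ((⁅n₁, n₂⁆ : G) : G ⧸ S) := by
    simp only [commutatorElement_def, QuotientGroup.mk_mul, QuotientGroup.mk_inv]
    rw [← QuotientGroup.mk_mul, ← QuotientGroup.mk_mul, e1, e2]
  rw [e3, QuotientGroup.eq_one_iff]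
  exact (zpowers_le.2 hxS) (commutator_normalizer_mem hC n₁ n₂ hn₁ hn₂)

/-- The conjugation action of `⟨x⟩` on a subset `T` of `G` stable under it. -/
@[reducible] def conjActionOn (x : G) (T : Set G)
    (hT : ∀ u ∈ zpowers x, ∀ y ∈ T, u * y * u⁻¹ ∈ T) : MulAction (zpowers x) T where
  smul u y := ⟨u * y * u⁻¹, hT u u.2 y y.2⟩
  one_smul y := by
    apply Subtype.ext
    show ((1 : zpowers x) : G) * y * ((1 : zpowers x) : G)⁻¹ = y
    simp
  mul_smul u v y := by
    apply Subtype.ext
    show ((u * v : zpowers x) : G) * y * ((u * v : zpowers x) : G)⁻¹ = (u : G) * ((v : G) * y * (v : G)⁻¹) * (u : G)⁻¹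
    simp [mul_assoc]

theorem isPGroup_zpowers (hx : orderOf x = p) : IsPGroup p (zpowers x) := by
  apply IsPGroup.of_card (n := 1)
  rw [Nat.card_zpowers, hx, pow_one]

/-- If `⟨x⟩` (of prime order `p`) acts by conjugation on a set of size prime to `p`,
some element of the set commutes with `x`. -/
theorem exists_fixed_of_not_dvd (hx : orderOf x = p) (T : Set G)
    (hT : ∀ u ∈ zpowers x, ∀ y ∈ T, u * y * u⁻¹ ∈ T) (hcard : ¬ p ∣ Nat.card T) :
    ∃ y ∈ T, x * y * x⁻¹ = y := by
  let _ := conjActionOn x T hT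
  obtain ⟨y, hy⟩ := (isPGroup_zpowers hx).nonempty_fixed_point_of_prime_not_dvd_card T hcard
  refine ⟨y, y.2, ?_⟩
  have := hy ⟨x, mem_zpowers x⟩
  exact congrArg Subtype.val this

/-- (b1) a normal subgroup of order prime to `p` has order `≡ 1 mod p`. -/
theorem card_mod_eq_one (hx : orderOf x = p) (hC : centralizer ({x} : Set G) = zpowers x)
    (S : Subgroup G) [hS : S.Normal] (hpS : ¬ p ∣ Nat.card S) : Nat.card S % p = 1 := by
  have hT : ∀ u ∈ zpowers x, ∀ y ∈ (S : Set G), u * y * u⁻¹ ∈ (S : Set G) :=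
    fun u _ y hy => hS.conj_mem y hy u
  let _ := conjActionOn x (S : Set G) hT
  have h1 := (isPGroup_zpowers hx).card_modEq_card_fixedPoints (S : Set G)
  have h2 : Nat.card (MulAction.fixedPoints (zpowers x) (S : Set G)) = 1 := by
    rw [Nat.card_eq_one_iff_unique]
    constructor
    · constructor
      intro a b
      have key : ∀ c : MulAction.fixedPoints (zpowers x) (S : Set G), ((c : (S : Set G)) : G) = 1 := by
        intro c
        have hc := c.2 ⟨x, mem_zpowers x⟩
        have hc' : x * ((c : (S : Set G)) : G) * x⁻¹ = ((c : (S : Set G)) : G) := congrArg Subtype.val hc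
        have hcz0 : ((c : (S : Set G)) : G) ∈ centralizer ({x} : Set G) := by
          rw [mem_centralizer_iff]
          intro z hz
          rw [Set.mem_singleton_iff] at hz
          subst hz
          calc z * ((c : (S : Set G)) : G) = (z * ((c : (S : Set G)) : G) * z⁻¹) * z := by group
            _ = ((c : (S : Set G)) : G) * z := by rw [hc']
        have hcz : ((c : (S : Set G)) : G) ∈ zpowers x := by
          rw [hC] at hcz0
          exact hcz0
        have hcS : ((c : (S : Set G)) : G) ∈ S := (c : (S : Set G)).2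
        have : ((c : (S : Set G)) : G) ∈ S ⊓ zpowers x := ⟨hcS, hcz⟩
        rw [inf_zpowers_eq_bot hx S hpS, mem_bot] at this
        exact this
      apply Subtype.ext
      apply Subtype.ext
      rw [key a, key b]
    · refine ⟨⟨⟨1, S.one_mem⟩, ?_⟩⟩
      intro u
      apply Subtype.ext
      show (u : G) * 1 * (u : G)⁻¹ = 1
      simp
  rw [h2] at h1
  have h3 : Nat.card (S : Set G) = Nat.card S := rfl
  rw [h3] at h1
  have := h1
  unfold Nat.ModEq at this
  rw [this, Nat.mod_eq_of_lt hp.out.one_lt]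

/-- Subgroups of order `p` correspond to Sylow `p`-subgroups. -/
theorem card_subgroups_eq_card_sylow (hx : orderOf x = p) (hC : centralizer ({x} : Set G) = zpowers x) :
    Nat.card {H : Subgroup G // Nat.card H = p} = Nat.card (Sylow p G) := by
  symm
  apply Nat.card_congr
  refine Equiv.ofBijective (fun Q => ⟨(Q : Subgroup G), card_sylow hx hC Q⟩) ⟨?_, ?_⟩
  · intro Q₁ Q₂ h
    apply Sylow.ext
    exact congrArg Subtype.val h
  · rintro ⟨H, hH⟩
    have hpg : IsPGroup p H := by
      apply IsPGroup.of_card (n := 1)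
      rw [hH, pow_one]
    obtain ⟨Q, hQ⟩ := hpg.exists_le_sylow
    refine ⟨Q, ?_⟩
    apply Subtype.ext
    symm
    apply Subgroup.eq_of_le_of_card_ge hQ
    show Nat.card Q ≤ Nat.card H
    rw [card_sylow hx hC Q, hH]

/-- A normal `p'`-subgroup meets `N_G(⟨x⟩)` trivially. -/
theorem inf_normalizer_eq_bot (hx : orderOf x = p) (hC : centralizer ({x} : Set G) = zpowers x)
    (S : Subgroup G) [hS : S.Normal] (hpS : ¬ p ∣ Nat.card S) :
    S ⊓ normalizer (zpowers x : Set G) = ⊥ := by
  rw [eq_bot_iff]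
  rintro s ⟨hsS, hsN⟩
  rw [mem_bot]
  -- s x s⁻¹ x⁻¹ ∈ S ⊓ ⟨x⟩
  have h1 : s * x * s⁻¹ ∈ zpowers x := (mem_normalizer_iff.1 hsN x).1 (mem_zpowers x)
  have h2 : s * x * s⁻¹ * x⁻¹ ∈ zpowers x := (zpowers x).mul_mem h1 ((zpowers x).inv_mem (mem_zpowers x))
  have h3 : s * x * s⁻¹ * x⁻¹ ∈ S := by
    have : s * x * s⁻¹ * x⁻¹ = s * (x * s⁻¹ * x⁻¹) := by group
    rw [this]
    exact S.mul_mem hsS (hS.conj_mem _ (S.inv_mem hsS) x)
  have h4 : s * x * s⁻¹ * x⁻¹ ∈ S ⊓ zpowers x := ⟨h3, h2⟩
  rw [inf_zpowers_eq_bot hx S hpS, mem_bot] at h4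
  -- so s commutes with x
  have h5 : s ∈ zpowers x := by
    rw [← hC, mem_centralizer_iff]
    intro z hz
    rw [Set.mem_singleton_iff] at hz
    subst hz
    have : s * z = z * s := by
      calc s * z = (s * z * s⁻¹ * z⁻¹) * (z * s) := by group
        _ = z * s := by rw [h4, one_mul]
    exact this.symm
  have h6 : s ∈ S ⊓ zpowers x := ⟨hsS, h5⟩
  rw [inf_zpowers_eq_bot hx S hpS, mem_bot] at h6
  exact h6

/-- (b2) the order of a normal `p'`-subgroup divides the number of subgroups of order `p`. -/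
theorem card_dvd_card_subgroups (hx : orderOf x = p) (hC : centralizer ({x} : Set G) = zpowers x)
    (S : Subgroup G) [hS : S.Normal] (hpS : ¬ p ∣ Nat.card S) :
    Nat.card S ∣ Nat.card {H : Subgroup G // Nat.card H = p} := by
  obtain ⟨P, hP⟩ := exists_sylow_eq_zpowers hx hC
  rw [card_subgroups_eq_card_sylow hx hC, Sylow.card_eq_index_normalizer P]
  have hPx : normalizer ((P : Subgroup G) : Set G) = normalizer (zpowers x : Set G) := by rw [hP]
  rw [show normalizer (P : Set G) = normalizer ((P : Subgroup G) : Set G) from rfl, hPx]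
  set N := normalizer (zpowers x : Set G) with hN
  have h1 : S.relIndex (N ⊔ S) = Nat.card N := by
    rw [relIndex_sup_right, ← inf_relIndex_right, inf_normalizer_eq_bot hx hC S hpS, relIndex_bot_left]
  have h2 : Nat.card S * Nat.card N = Nat.card (N ⊔ S : Subgroup G) := by
    have := relIndex_mul_relIndex (⊥ : Subgroup G) S (N ⊔ S) bot_le le_sup_right
    rw [relIndex_bot_left, relIndex_bot_left, h1] at this
    exact this
  have h3 : Nat.card (N ⊔ S : Subgroup G) ∣ Nat.card G := Subgroup.card_subgroup_dvd_card _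
  rw [← h2, ← N.card_mul_index, mul_comm] at h3
  exact Nat.dvd_of_mul_dvd_mul_left Nat.card_pos h3

/-- (b3) the image of `x` modulo a normal `p'`-subgroup still has order `p`. -/
theorem orderOf_mk (hx : orderOf x = p) (S : Subgroup G) [hS : S.Normal] (hpS : ¬ p ∣ Nat.card S) :
    orderOf (QuotientGroup.mk x : G ⧸ S) = p := by
  apply orderOf_eq_prime
  · rw [← QuotientGroup.mk_pow, ← hx, pow_orderOf_eq_one]
    rfl
  · intro h
    exact not_mem_of_not_dvd hx S hpS ((QuotientGroup.eq_one_iff x).1 h)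

/-- (b4) the image of `x` modulo a normal `p'`-subgroup is still self-centralizing. -/
theorem centralizer_mk (hx : orderOf x = p) (hC : centralizer ({x} : Set G) = zpowers x)
    (S : Subgroup G) [hS : S.Normal] (hpS : ¬ p ∣ Nat.card S) :
    centralizer ({(QuotientGroup.mk x : G ⧸ S)} : Set (G ⧸ S)) = zpowers (QuotientGroup.mk x : G ⧸ S) := by
  apply le_antisymm
  · intro q hq
    obtain ⟨g, rfl⟩ := QuotientGroup.mk_surjective q
    have hcomm : (QuotientGroup.mk x : G ⧸ S) * (g : G ⧸ S) = (g : G ⧸ S) * (QuotientGroup.mk x : G ⧸ S) :=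
      (mem_centralizer_iff.1 hq) _ rfl
    -- the coset of g
    let T : Set G := {y : G | (y : G ⧸ S) = (g : G ⧸ S)}
    have hT : ∀ u ∈ zpowers x, ∀ y ∈ T, u * y * u⁻¹ ∈ T := by
      intro u hu y hy
      obtain ⟨k, rfl⟩ := mem_zpowers_iff.1 hu
      show ((x ^ k * y * (x ^ k)⁻¹ : G) : G ⧸ S) = (g : G ⧸ S)
      have hy' : (y : G ⧸ S) = (g : G ⧸ S) := hy
      rw [QuotientGroup.mk_mul, QuotientGroup.mk_mul, QuotientGroup.mk_inv, QuotientGroup.mk_zpow, hy']
      have hc : Commute (QuotientGroup.mk x : G ⧸ S) (g : G ⧸ S) := hcomm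
      have := (hc.zpow_left k).eq
      rw [this, mul_assoc, mul_inv_cancel, mul_one]
    have hcardT : Nat.card T = Nat.card S := by
      apply Nat.card_congr
      refine ⟨fun y => ⟨g⁻¹ * (y : G), ?_⟩, fun s => ⟨g * (s : G), ?_⟩, ?_, ?_⟩
      · have hy : ((y : G) : G ⧸ S) = (g : G ⧸ S) := y.2
        exact (QuotientGroup.eq.1 hy.symm)
      · show ((g * (s : G) : G) : G ⧸ S) = (g : G ⧸ S)
        rw [QuotientGroup.mk_mul, (QuotientGroup.eq_one_iff (s : G)).2 s.2, mul_one]
      · intro y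
        apply Subtype.ext
        show g * (g⁻¹ * (y : G)) = y
        group
      · intro s
        apply Subtype.ext
        show g⁻¹ * (g * (s : G)) = s
        group
    obtain ⟨y, hyT, hy⟩ := exists_fixed_of_not_dvd hx T hT (by rw [hcardT]; exact hpS)
    have hyz : y ∈ centralizer ({x} : Set G) := by
      rw [mem_centralizer_iff]
      intro z hz
      rw [Set.mem_singleton_iff] at hz
      subst hz
      calc z * y = (z * y * z⁻¹) * z := by group
        _ = y * z := by rw [hy]
    rw [hC] at hyz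
    obtain ⟨k, rfl⟩ := mem_zpowers_iff.1 hyz
    have : ((x ^ k : G) : G ⧸ S) = (g : G ⧸ S) := hyT
    rw [← this, QuotientGroup.mk_zpow]
    exact zpow_mem (mem_zpowers _) k
  · rw [zpowers_le, mem_centralizer_iff]
    intro z hz
    rw [Set.mem_singleton_iff] at hz
    rw [hz]

end SelfCent

end Cfsg.Agent.Helper22
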