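import Mathlib
import Cfsg.Agent.Lib.Helper1.PGroupCoatom

/-!
# Power identities in groups of class at most two

Shared library of helper22.  Everything lives in `Cfsg.Agent.Helper22`.
-/

set_option autoImplicit false

namespace Cfsg.Agent.Helper22

open scoped commutatorElement

section ClassTwo

variable {G : Type*} [Group G]

/-- If `y * x = c * x * y` with `c` central then `y ^ n * x = c ^ n * x * y ^ n`. -/
theorem pow_mul_of_central (x y c : G) (hc : ∀ g : G, g * c = c * g)
    (h : y * x = c * x * y) (n : ℕ) : y ^ n * x = c ^ n * x * y ^ n := by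
  have hcn : ∀ (k : ℕ) (g : G), g * c ^ k = c ^ k * g := by
    intro k g
    have : Commute g c := hc g
    exact (this.pow_right k)
  induction n with
  | zero => simp
  | succ n ih =>
    calc y ^ (n + 1) * x = y * (y ^ n * x) := by rw [pow_succ', mul_assoc]
    _ = y * (c ^ n * x * y ^ n) := by rw [ih]
    _ = (y * c ^ n) * x * y ^ n := by simp only [mul_assoc]
    _ = c ^ n * (y * x) * y ^ n := by rw [hcn]; simp only [mul_assoc]
    _ = c ^ n * (c * x * y) * y ^ n := by rw [h]
    _ = c ^ (n + 1) * x * y ^ (n + 1) := by rw [pow_succ, pow_succ']; simp only [mul_assoc]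

/-- If `y * x = c * x * y` with `c` central then `y * x ^ n = c ^ n * x ^ n * y`. -/
theorem mul_pow_of_central (x y c : G) (hc : ∀ g : G, g * c = c * g)
    (h : y * x = c * x * y) (n : ℕ) : y * x ^ n = c ^ n * x ^ n * y := by
  have hcn : ∀ (k : ℕ) (g : G), g * c ^ k = c ^ k * g := by
    intro k g
    have : Commute g c := hc g
    exact (this.pow_right k)
  induction n with
  | zero => simp
  | succ n ih =>
    calc y * x ^ (n + 1) = (y * x ^ n) * x := by rw [pow_succ, mul_assoc]
    _ = c ^ n * x ^ n * (y * x) := by rw [ih]; simp only [mul_assoc]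
    _ = c ^ n * x ^ n * (c * x * y) := by rw [h]
    _ = c ^ n * (x ^ n * c) * x * y := by simp only [mul_assoc]
    _ = c ^ n * (c * x ^ n) * x * y := by rw [hc]
    _ = c ^ (n + 1) * x ^ (n + 1) * y := by rw [pow_succ, pow_succ]; simp only [mul_assoc]

/-- If `y * x = c * x * y` with `c` central then
`(x * y) ^ n = c ^ (n.choose 2) * x ^ n * y ^ n`. -/
theorem mul_pow_eq_of_central (x y c : G) (hc : ∀ g : G, g * c = c * g)
    (h : y * x = c * x * y) (n : ℕ) : (x * y) ^ n = c ^ (n.choose 2) * x ^ n * y ^ n := by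
  have hcn : ∀ (k : ℕ) (g : G), g * c ^ k = c ^ k * g := by
    intro k g
    have : Commute g c := hc g
    exact (this.pow_right k)
  induction n with
  | zero => simp
  | succ n ih =>
    have hch : (n + 1).choose 2 = n.choose 2 + n := by
      rw [Nat.choose_succ_succ' n 1, Nat.choose_one_right, add_comm]
    calc (x * y) ^ (n + 1) = (x * y) ^ n * (x * y) := pow_succ _ _
    _ = c ^ (n.choose 2) * x ^ n * y ^ n * (x * y) := by rw [ih]
    _ = c ^ (n.choose 2) * x ^ n * (y ^ n * x) * y := by simp only [mul_assoc]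
    _ = c ^ (n.choose 2) * x ^ n * (c ^ n * x * y ^ n) * y := by
        rw [pow_mul_of_central x y c hc h n]
    _ = c ^ (n.choose 2) * (x ^ n * c ^ n) * x * y ^ n * y := by simp only [mul_assoc]
    _ = c ^ (n.choose 2) * (c ^ n * x ^ n) * x * y ^ n * y := by rw [hcn]
    _ = c ^ ((n + 1).choose 2) * x ^ (n + 1) * y ^ (n + 1) := by
        rw [hch, pow_add, pow_succ, pow_succ]; simp only [mul_assoc]

/-- The commutator relation: `y * x = ⁅y, x⁆ * x * y`. -/
theorem mul_eq_commutator_mul (x y : G) : y * x = ⁅y, x⁆ * x * y := by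
  rw [commutatorElement_def]; group

/-- With `⁅y, x⁆` central, `⁅y ^ n, x⁆ = ⁅y, x⁆ ^ n`. -/
theorem commutator_pow_left_of_central (x y : G) (hc : ⁅y, x⁆ ∈ Subgroup.center G) (n : ℕ) :
    ⁅y ^ n, x⁆ = ⁅y, x⁆ ^ n := by
  have hc' : ∀ g : G, g * ⁅y, x⁆ = ⁅y, x⁆ * g := fun g => Subgroup.mem_center_iff.1 hc g
  have h := pow_mul_of_central x y ⁅y, x⁆ hc' (mul_eq_commutator_mul x y) n
  rw [commutatorElement_def (y ^ n) x, h]
  group

/-- With `⁅y, x⁆` central, `⁅y, x ^ n⁆ = ⁅y, x⁆ ^ n`. -/
theorem commutator_pow_right_of_central (x y : G) (hc : ⁅y, x⁆ ∈ Subgroup.center G) (n : ℕ) :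
    ⁅y, x ^ n⁆ = ⁅y, x⁆ ^ n := by
  have hc' : ∀ g : G, g * ⁅y, x⁆ = ⁅y, x⁆ * g := fun g => Subgroup.mem_center_iff.1 hc g
  have h := mul_pow_of_central x y ⁅y, x⁆ hc' (mul_eq_commutator_mul x y) n
  rw [commutatorElement_def y (x ^ n), h]
  group

end ClassTwo

section PGroup

variable {P : Type*} [Group P] [Finite P] {p : ℕ} [Fact p.Prime]

/-- In a finite `p`-group, `p`-th powers lie in the Frattini subgroup. -/
theorem pow_prime_mem_frattini (hP : IsPGroup p P) (x : P) : x ^ p ∈ frattini P := by
  unfold frattini Order.radical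
  rw [Subgroup.mem_iInf]
  intro M
  rw [Subgroup.mem_iInf]
  intro hM
  obtain ⟨hn, hi⟩ := Cfsg.Agent.Helper1.coatom_normal_index_of_isPGroup hP M hM
  have h1 : ((x : P) : P ⧸ M) ^ p = 1 := by
    have : Nat.card (P ⧸ M) = p := by rw [← Subgroup.index_eq_card]; exact hi
    rw [← this]
    exact pow_card_eq_one'
  rw [← QuotientGroup.mk_pow] at h1
  exact (QuotientGroup.eq_one_iff _).1 h1

/-- Class at most two, in the form used in the statements: commutators are central. -/
theorem commutator_mem_center_of_class_two (h2 : ⁅commutator P, (⊤ : Subgroup P)⁆ = ⊥) (a b : P) :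
    ⁅a, b⁆ ∈ Subgroup.center P := by
  rw [Subgroup.commutator_eq_bot_iff_le_centralizer] at h2
  have hab : ⁅a, b⁆ ∈ commutator P :=
    Subgroup.commutator_mem_commutator (Subgroup.mem_top a) (Subgroup.mem_top b)
  have := h2 hab
  rw [Subgroup.coe_top, Subgroup.centralizer_univ] at this
  exact this

/-- For odd `p`, in a group where commutators are central, the product of two elements of
order dividing `p` has order dividing `p`. -/
theorem mul_pow_prime_eq_one_of_central (hp : p ≠ 2)
    (hc : ∀ a b : P, ⁅a, b⁆ ∈ Subgroup.center P) (x y : P) (hx : x ^ p = 1) (hy : y ^ p = 1) :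
    (x * y) ^ p = 1 := by
  have hpp : p.Prime := Fact.out
  have hc' : ∀ g : P, g * ⁅y, x⁆ = ⁅y, x⁆ * g := fun g => Subgroup.mem_center_iff.1 (hc y x) g
  have h := mul_pow_eq_of_central x y ⁅y, x⁆ hc' (mul_eq_commutator_mul x y) p
  have hcp : ⁅y, x⁆ ^ p = 1 := by
    rw [← commutator_pow_left_of_central x y (hc y x) p, hy, commutatorElement_def]
    group
  have hdvd : p ∣ p.choose 2 := by
    apply hpp.dvd_choose_self (by norm_num)
    have := hpp.two_le
    omega
  obtain ⟨k, hk⟩ := hdvd
  rw [h, hk, pow_mul, hcp, one_pow, hx, hy]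
  simp

/-- For odd `p`, in a finite group where commutators are central, the subgroup generated by the
elements of order dividing `p` has exponent dividing `p`. -/
theorem pow_prime_eq_one_of_mem_closure (hp : p ≠ 2)
    (hc : ∀ a b : P, ⁅a, b⁆ ∈ Subgroup.center P) (g : P)
    (hg : g ∈ Subgroup.closure {x : P | x ^ p = 1}) : g ^ p = 1 := by
  induction hg using Subgroup.closure_induction with
  | mem x hx => exact hx
  | one => exact one_pow p
  | mul x y _ _ hx hy => exact mul_pow_prime_eq_one_of_central hp hc x y hx hy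
  | inv x _ hx => rw [inv_pow, hx, inv_one]

end PGroup

end Cfsg.Agent.Helper22
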