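import Mathlib
import Cfsg.Agent.Lib.Helper19.PGroupBasic
import Cfsg.Agent.S0063

/-!
# p-groups of maximal class via small centralizers (helper22 library)

`maxClass_of_card_centralizer_le`: a group of order `p ^ n` (`n ≥ 2`) with an element whose
centralizer has order at most `p ^ 2` has nilpotency class `n - 1` and derived subgroup of index
`p ^ 2`.  `maxClass_of_self_centralizing`: Suzuki's lemma (self-centralizing subgroup of order
`≤ p ^ 2`).  `maxClass_of_self_centralizing_cube`: the same for a nonabelian subgroup of order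
`p ^ 3` containing its centralizer.
-/

set_option autoImplicit false

namespace Cfsg.Agent.Helper22

open Subgroup
open scoped commutatorElement

universe u

section cstar

variable {X : Type*} [Group X]

/-- preimage in `X` of the centralizer of the image of `a` modulo the centre -/
def cstar (a : X) : Subgroup X :=
  (centralizer {(QuotientGroup.mk a : X ⧸ center X)}).comap (QuotientGroup.mk' (center X))

theorem mem_cstar_iff (a x : X) : x ∈ cstar a ↔ x * a * x⁻¹ * a⁻¹ ∈ center X := by
  unfold cstar
  rw [mem_comap, mem_centralizer_singleton_iff, QuotientGroup.mk'_apply, ← QuotientGroup.mk_mul,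
    ← QuotientGroup.mk_mul, QuotientGroup.eq]
  constructor
  · intro h
    have h1 : x * a * x⁻¹ * a⁻¹ = (x * a) * ((x * a)⁻¹ * (a * x))⁻¹ * (x * a)⁻¹ := by group
    rw [h1]
    exact (inferInstance : (center X).Normal).conj_mem _ (inv_mem h) _
  · intro h
    have h1 : (x * a)⁻¹ * (a * x) = (x * a)⁻¹ * (x * a * x⁻¹ * a⁻¹)⁻¹ * (x * a) := by group
    rw [h1]
    exact (inferInstance : (center X).Normal).conj_mem' _ (inv_mem h) _

theorem centralizer_le_cstar (a : X) : centralizer {a} ≤ cstar a := by
  intro x hx
  rw [mem_cstar_iff]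
  rw [mem_centralizer_singleton_iff] at hx
  have : x * a * x⁻¹ * a⁻¹ = 1 := by rw [hx]; group
  rw [this]; exact one_mem _

/-- the commutator map into the centre -/
def kappa (K : Subgroup X) (a : X) : ↥(K ⊓ cstar a) →* center X :=
  MonoidHom.mk' (fun x => ⟨(x : X) * a * (x : X)⁻¹ * a⁻¹, (mem_cstar_iff a x).mp x.2.2⟩) (by
    intro x y
    ext
    have hy : (y : X) * a * (y : X)⁻¹ * a⁻¹ ∈ center X := (mem_cstar_iff a y).mp y.2.2
    have hx : (x : X) * a * (x : X)⁻¹ * a⁻¹ ∈ center X := (mem_cstar_iff a x).mp x.2.2
    rw [mem_center_iff] at hy hx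
    show ((x : X) * (y : X)) * a * ((x : X) * (y : X))⁻¹ * a⁻¹ =
      ((x : X) * a * (x : X)⁻¹ * a⁻¹) * ((y : X) * a * (y : X)⁻¹ * a⁻¹)
    calc ((x : X) * (y : X)) * a * ((x : X) * (y : X))⁻¹ * a⁻¹
        = ((x : X) * ((y : X) * a * (y : X)⁻¹ * a⁻¹)) * (x : X)⁻¹ * ((x : X) * a * (x : X)⁻¹ * a⁻¹) := by
          group
      _ = (((y : X) * a * (y : X)⁻¹ * a⁻¹) * (x : X)) * (x : X)⁻¹ * ((x : X) * a * (x : X)⁻¹ * a⁻¹) := by
          rw [hy (x : X)]
      _ = ((y : X) * a * (y : X)⁻¹ * a⁻¹) * ((x : X) * a * (x : X)⁻¹ * a⁻¹) := by group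
      _ = ((x : X) * a * (x : X)⁻¹ * a⁻¹) * ((y : X) * a * (y : X)⁻¹ * a⁻¹) := hx _)

theorem card_inf_cstar_le [Finite X] (K : Subgroup X) (a : X) :
    Nat.card ↥(K ⊓ cstar a) ≤ Nat.card (center X) * Nat.card ↥(K ⊓ centralizer {a}) := by
  have h1 := Subgroup.card_eq_card_quotient_mul_card_subgroup (kappa K a).ker
  have h2 : Nat.card (↥(K ⊓ cstar a) ⧸ (kappa K a).ker) ≤ Nat.card (center X) := by
    rw [Nat.card_congr (QuotientGroup.quotientKerEquivRange (kappa K a)).toEquiv]
    exact Subgroup.card_le_card_group _
  have h3 : Nat.card (kappa K a).ker ≤ Nat.card ↥(K ⊓ centralizer {a}) := by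
    have hmem : ∀ x : (kappa K a).ker, ((x : ↥(K ⊓ cstar a)) : X) ∈ K ⊓ centralizer {a} := by
      intro x
      refine ⟨x.1.2.1, ?_⟩
      show ((x : ↥(K ⊓ cstar a)) : X) ∈ centralizer {a}
      rw [mem_centralizer_singleton_iff]
      have h4 : (kappa K a) x.1 = 1 := x.2
      have h5 : ((x : ↥(K ⊓ cstar a)) : X) * a * ((x : ↥(K ⊓ cstar a)) : X)⁻¹ * a⁻¹ = 1 :=
        congrArg Subtype.val h4
      calc ((x : ↥(K ⊓ cstar a)) : X) * a
          = (((x : ↥(K ⊓ cstar a)) : X) * a * ((x : ↥(K ⊓ cstar a)) : X)⁻¹ * a⁻¹) * a *
            ((x : ↥(K ⊓ cstar a)) : X) := by group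
        _ = a * ((x : ↥(K ⊓ cstar a)) : X) := by rw [h5, one_mul]
    apply Nat.card_le_card_of_injective (fun x => (⟨_, hmem x⟩ : ↥(K ⊓ centralizer {a})))
    intro x y hxy
    have := congrArg Subtype.val hxy
    exact Subtype.ext (Subtype.ext this)
  calc Nat.card ↥(K ⊓ cstar a)
      = Nat.card (↥(K ⊓ cstar a) ⧸ (kappa K a).ker) * Nat.card (kappa K a).ker := h1
    _ ≤ Nat.card (center X) * Nat.card ↥(K ⊓ centralizer {a}) := Nat.mul_le_mul h2 h3

theorem card_comap_mk' [Finite X] (N : Subgroup X) [N.Normal] (H : Subgroup (X ⧸ N)) :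
    Nat.card (H.comap (QuotientGroup.mk' N)) = Nat.card H * Nat.card N := by
  have h1 : (H.comap (QuotientGroup.mk' N)).index = H.index :=
    index_comap_of_surjective _ (QuotientGroup.mk'_surjective N)
  have h2 := (H.comap (QuotientGroup.mk' N)).card_mul_index
  have h3 := H.card_mul_index
  have h4 := N.card_eq_card_quotient_mul_card_subgroup
  have h5 : H.index ≠ 0 := index_ne_zero_of_finite
  rw [h1, h4, ← h3] at h2
  have h6 : Nat.card ↥(H.comap (QuotientGroup.mk' N)) * H.index =
      (Nat.card ↥H * Nat.card ↥N) * H.index := by rw [h2]; ring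
  exact Nat.eq_of_mul_eq_mul_right (Nat.pos_of_ne_zero h5) h6

theorem card_cstar [Finite X] (a : X) :
    Nat.card (cstar a) =
      Nat.card (centralizer {(QuotientGroup.mk a : X ⧸ center X)}) * Nat.card (center X) :=
  card_comap_mk' (center X) _

theorem card_centralizer_mk_le [Finite X] (a : X) :
    Nat.card (centralizer {(QuotientGroup.mk a : X ⧸ center X)}) ≤ Nat.card (centralizer {a}) := by
  have h1 := card_inf_cstar_le (⊤ : Subgroup X) a
  rw [top_inf_eq, top_inf_eq, card_cstar, mul_comm] at h1
  exact Nat.le_of_mul_le_mul_left h1 Nat.card_pos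

end cstar

section maxclass

variable (p : ℕ) [hp : Fact p.Prime]

theorem commutator_eq_bot_of_isMulCommutative {X : Type*} [Group X] (h : IsMulCommutative X) :
    commutator X = ⊥ := by
  rw [commutator_eq_closure, closure_eq_bot_iff]
  intro c hc
  obtain ⟨a, b, rfl⟩ := mem_commutatorSet_iff.mp hc
  exact commutatorElement_eq_one_iff_commute.mpr (h.is_comm.comm a b)

/-- base case: abelian of order `p ^ 2` -/
theorem maxClass_base (X : Type u) [Group X] [Finite X] (hcard : Nat.card X = p ^ 2) :
    Group.nilpotencyClass X = 2 - 1 ∧ (commutator X).index = p ^ 2 := by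
  have hP : IsPGroup p X := IsPGroup.of_card hcard
  haveI : Group.IsNilpotent X := hP.isNilpotent
  have hcomm : IsMulCommutative X := IsPGroup.isMulCommutative_of_card_eq_prime_sq hcard
  constructor
  · have h1 : Group.nilpotencyClass X ≤ 1 := Group.IsNilpotent.nilpotencyClass_le_one_iff.mpr hcomm
    have h2 : Group.nilpotencyClass X ≠ 0 := by
      intro h0
      rw [Group.nilpotencyClass_zero_iff_subsingleton] at h0
      have : Nat.card X = 1 := Nat.card_eq_one_iff_unique.mpr ⟨h0, ⟨1⟩⟩
      rw [hcard] at this
      have h3 : 1 < p ^ 2 := Nat.one_lt_pow (by norm_num) hp.out.one_lt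
      omega
    omega
  · rw [commutator_eq_bot_of_isMulCommutative hcomm, index_bot, hcard]

theorem maxClass_of_card_centralizer_le : ∀ (n : ℕ), 2 ≤ n → ∀ (X : Type u) [Group X] [Finite X],
    Nat.card X = p ^ n → ∀ a : X, Nat.card (centralizer {a}) ≤ p ^ 2 →
    Group.nilpotencyClass X = n - 1 ∧ (commutator X).index = p ^ 2 := by
  intro n hn
  induction n, hn using Nat.le_induction with
  | base =>
    intro X _ _ hcard a _
    exact maxClass_base p X hcard
  | succ n hn ih =>
    intro X _ _ hcard a ha
    have hpp : p.Prime := hp.out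
    have hP : IsPGroup p X := IsPGroup.of_card hcard
    haveI : Group.IsNilpotent X := hP.isNilpotent
    haveI : Nontrivial X := by
      rw [← Finite.one_lt_card_iff_nontrivial, hcard]
      exact Nat.one_lt_pow (by omega) hpp.one_lt
    have hlt : p ^ 2 < p ^ (n + 1) := Nat.pow_lt_pow_right hpp.one_lt (by omega)
    -- `a` is not central
    have haZ : a ∉ center X := by
      intro h
      have h1 : centralizer {a} = ⊤ := by
        rw [centralizer_eq_top_iff_subset]
        intro x hx
        rw [Set.mem_singleton_iff] at hx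
        rw [hx]; exact h
      rw [h1, card_top, hcard] at ha
      omega
    have hZle : center X ≤ centralizer {a} := center_le_centralizer _
    have haC : a ∈ centralizer {a} := mem_centralizer_singleton_iff.mpr rfl
    have hZcard : Nat.card (center X) = p := by
      obtain ⟨k, hk0, hk⟩ := IsPGroup.card_center_eq_prime_pow hcard (by omega)
      have h1 : Nat.card (center X) < Nat.card (centralizer {a}) := by
        by_contra hcon
        push Not at hcon
        have := eq_of_le_of_card_ge hZle hcon
        rw [this] at haZ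
        exact haZ haC
      have h2 : p ^ k < p ^ 2 := by rw [← hk]; omega
      have h3 : k < 2 := (Nat.pow_lt_pow_iff_right hpp.one_lt).mp h2
      have h4 : k = 1 := by omega
      rw [hk, h4, pow_one]
    have hQcard : Nat.card (X ⧸ center X) = p ^ n := by
      have h1 := (center X).card_eq_card_quotient_mul_card_subgroup
      rw [hcard, hZcard, pow_succ] at h1
      exact (Nat.eq_of_mul_eq_mul_right hpp.pos h1).symm
    have hQa : Nat.card (centralizer {(QuotientGroup.mk a : X ⧸ center X)}) ≤ p ^ 2 :=
      (card_centralizer_mk_le a).trans ha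
    obtain ⟨ih1, ih2⟩ := ih (X ⧸ center X) hQcard _ hQa
    constructor
    · rw [Group.nilpotencyClass_eq_quotient_center_plus_one, ih1]
      omega
    · -- the centre lies in the derived subgroup
      have hne : commutator X ≠ ⊥ := by
        intro h
        apply haZ
        rw [mem_center_iff]
        intro g
        have h1 : ⁅g, a⁆ ∈ commutator X := by
          rw [commutator_eq_closure]
          exact subset_closure (mem_commutatorSet_iff.mpr ⟨g, a, rfl⟩)
        rw [h, mem_bot] at h1
        exact (commutatorElement_eq_one_iff_commute.mp h1).eq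
      have h1 := Cfsg.Agent.Helper19.normal_inf_center_ne_bot hP (commutator X) hne
      have hZle' : center X ≤ commutator X := by
        have h2 : commutator X ⊓ center X = center X := by
          apply eq_of_le_of_card_ge inf_le_right
          rw [hZcard]
          have h3 : Nat.card ↥(commutator X ⊓ center X) ≠ 1 := by
            intro h
            exact h1 ((commutator X ⊓ center X).card_eq_one.mp h)
          have h4 : Nat.card ↥(commutator X ⊓ center X) ∣ p := by
            rw [← hZcard]
            exact card_dvd_of_le inf_le_right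
          rcases (Nat.dvd_prime hpp).mp h4 with h5 | h5
          · exact absurd h5 h3
          · omega
        rw [← h2]; exact inf_le_left
      have hcommQ : commutator (X ⧸ center X) = (commutator X).map (QuotientGroup.mk' (center X)) := by
        rw [_root_.commutator_def, _root_.commutator_def, Subgroup.map_commutator,
          ← MonoidHom.range_eq_map,
          MonoidHom.range_eq_top.mpr (QuotientGroup.mk'_surjective (center X))]
      have hker : (QuotientGroup.mk' (center X)).ker ≤ commutator X := by
        rw [QuotientGroup.ker_mk']; exact hZle'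
      rw [hcommQ, Subgroup.index_map_eq (H := commutator X) (f := QuotientGroup.mk' (center X))
        (QuotientGroup.mk'_surjective (center X)) hker] at ih2
      exact ih2

/-- Suzuki: a self-centralizing subgroup of order at most `p ^ 2` forces maximal class -/
theorem maxClass_of_self_centralizing (n : ℕ) (hn : 2 ≤ n) (X : Type u) [Group X] [Finite X]
    (hcard : Nat.card X = p ^ n) (A : Subgroup X) (hA : Nat.card A ≤ p ^ 2)
    (hC : centralizer (A : Set X) ≤ A) :
    Group.nilpotencyClass X = n - 1 ∧ (commutator X).index = p ^ 2 := by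
  have hpp : p.Prime := hp.out
  have hP : IsPGroup p X := IsPGroup.of_card hcard
  have hZA : center X ≤ A := (center_le_centralizer _).trans hC
  by_cases hAZ : A ≤ center X
  · have h1 : centralizer (A : Set X) = ⊤ := by
      rw [centralizer_eq_top_iff_subset]; exact hAZ
    have h2 : A = ⊤ := by rw [h1] at hC; exact top_le_iff.mp hC
    refine maxClass_of_card_centralizer_le p n hn X hcard 1 ?_
    calc Nat.card (centralizer {(1 : X)}) ≤ Nat.card X := card_le_card_group _
      _ = Nat.card A := by rw [h2, card_top]
      _ ≤ p ^ 2 := hA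
  · obtain ⟨a, haA, haZ⟩ := SetLike.not_le_iff_exists.mp hAZ
    refine maxClass_of_card_centralizer_le p n hn X hcard a ?_
    have hsupA : zpowers a ⊔ center X ≤ A := sup_le (zpowers_le.mpr haA) hZA
    have hlt : Nat.card (center X) < Nat.card ↥(zpowers a ⊔ center X) := by
      by_contra hcon
      push Not at hcon
      have := eq_of_le_of_card_ge (le_sup_right : center X ≤ zpowers a ⊔ center X) hcon
      apply haZ
      rw [this]
      exact mem_sup_left (mem_zpowers a)
    have hsup : zpowers a ⊔ center X = A := by
      apply eq_of_le_of_card_ge hsupA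
      obtain ⟨j, hj⟩ := (hP.to_subgroup (zpowers a ⊔ center X)).exists_card_eq
      obtain ⟨k, hk0, hk⟩ := IsPGroup.card_center_eq_prime_pow hcard (by omega)
      rw [hj, hk] at hlt
      have h1 : k < j := (Nat.pow_lt_pow_iff_right hpp.one_lt).mp hlt
      have h2 : p ^ 2 ≤ p ^ j := Nat.pow_le_pow_right hpp.pos (by omega)
      rw [hj]; omega
    have hCa : centralizer {a} ≤ A := by
      intro x hx
      apply hC
      rw [mem_centralizer_iff]
      intro y hy
      have h1 : zpowers a ⊔ center X ≤ centralizer {x} := by
        apply sup_le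
        · rw [zpowers_le, mem_centralizer_singleton_iff]
          exact (mem_centralizer_singleton_iff.mp hx).symm
        · exact center_le_centralizer _
      rw [← hsup] at hy
      exact mem_centralizer_singleton_iff.mp (h1 hy)
    exact (card_le_of_le hCa).trans hA

end maxclass

section cube

variable (p : ℕ) [hp : Fact p.Prime]

theorem card_center_of_card_cube {B : Type*} [Group B] [Finite B] (hB : Nat.card B = p ^ 3)
    (hna : ¬ IsMulCommutative B) : Nat.card (center B) = p := by
  have hpp : p.Prime := hp.out
  obtain ⟨k, hk0, hk⟩ := IsPGroup.card_center_eq_prime_pow hB (by norm_num)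
  have hk3 : k ≤ 3 := by
    have : p ^ k ∣ p ^ 3 := by rw [← hk, ← hB]; exact card_subgroup_dvd_card _
    exact (Nat.pow_dvd_pow_iff_le_right hpp.one_lt).mp this
  have hq := (center B).card_eq_card_quotient_mul_card_subgroup
  rcases (by omega : k = 1 ∨ k = 2 ∨ k = 3) with h | h | h
  · rw [hk, h, pow_one]
  · exfalso
    apply hna
    have h1 : Nat.card (B ⧸ center B) = p := by
      rw [hB, hk, h] at hq
      have h2 : p * p ^ 2 = Nat.card (B ⧸ center B) * p ^ 2 := by rw [← hq]; ring
      exact (Nat.eq_of_mul_eq_mul_right (pow_pos hpp.pos 2) h2).symm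
    haveI : IsCyclic (B ⧸ center B) := isCyclic_of_prime_card h1
    exact isMulCommutative_of_isCyclic_quotient_center_self B
  · exfalso
    apply hna
    have h1 : center B = ⊤ := by
      apply eq_top_of_card_eq
      rw [hk, h, hB]
    refine ⟨⟨fun a b => ?_⟩⟩
    have hb : b ∈ center B := by rw [h1]; trivial
    exact mem_center_iff.mp hb a

theorem comm_mem_center_of_card_cube {B : Type*} [Group B] [Finite B] (hB : Nat.card B = p ^ 3)
    (hna : ¬ IsMulCommutative B) (u v : B) : u * v * u⁻¹ * v⁻¹ ∈ center B := by
  have hpp : p.Prime := hp.out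
  have hZ := card_center_of_card_cube p hB hna
  have hq := (center B).card_eq_card_quotient_mul_card_subgroup
  have h1 : Nat.card (B ⧸ center B) = p ^ 2 := by
    rw [hB, hZ] at hq
    have h2 : p ^ 2 * p = Nat.card (B ⧸ center B) * p := by rw [← hq]; ring
    exact (Nat.eq_of_mul_eq_mul_right hpp.pos h2).symm
  have hcomm : IsMulCommutative (B ⧸ center B) := IsPGroup.isMulCommutative_of_card_eq_prime_sq h1
  rw [← QuotientGroup.eq_one_iff]
  have h2 := hcomm.is_comm.comm (QuotientGroup.mk u : B ⧸ center B) (QuotientGroup.mk v)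
  rw [QuotientGroup.mk_mul, QuotientGroup.mk_mul, QuotientGroup.mk_mul, h2, QuotientGroup.mk_inv,
    QuotientGroup.mk_inv]
  group

theorem closure_pair_eq_top_of_card_cube {B : Type*} [Group B] [Finite B] (hB : Nat.card B = p ^ 3)
    (u v : B) (huv : u * v ≠ v * u) : closure {u, v} = ⊤ := by
  have hpp : p.Prime := hp.out
  have hP : IsPGroup p B := IsPGroup.of_card hB
  obtain ⟨j, hj⟩ := (hP.to_subgroup (closure {u, v})).exists_card_eq
  have hj3 : j ≤ 3 := by
    have : p ^ j ∣ p ^ 3 := by rw [← hj, ← hB]; exact card_subgroup_dvd_card _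
    exact (Nat.pow_dvd_pow_iff_le_right hpp.one_lt).mp this
  have hu : u ∈ closure {u, v} := subset_closure (by simp)
  have hv : v ∈ closure {u, v} := subset_closure (by simp)
  by_contra hne
  have hj2 : j ≤ 2 := by
    rcases Nat.lt_or_ge j 3 with h | h
    · omega
    · exfalso
      apply hne
      apply eq_top_of_card_eq
      rw [hj, hB]
      congr 1
      omega
  have hcomm : IsMulCommutative ↥(closure {u, v}) := by
    rcases (by omega : j = 0 ∨ j = 1 ∨ j = 2) with h | h | h
    · rw [h, pow_zero] at hj
      haveI : Subsingleton ↥(closure {u, v}) := (Nat.card_eq_one_iff_unique.mp hj).1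
      exact ⟨⟨fun a b => Subsingleton.elim _ _⟩⟩
    · rw [h, pow_one] at hj
      haveI : IsCyclic ↥(closure {u, v}) := isCyclic_of_prime_card hj
      exact IsCyclic.isMulCommutative
    · rw [h] at hj
      exact IsPGroup.isMulCommutative_of_card_eq_prime_sq hj
  apply huv
  have := hcomm.is_comm.comm ⟨u, hu⟩ ⟨v, hv⟩
  exact congrArg Subtype.val this

theorem pow_prime_mem_center_of_card_cube {B : Type*} [Group B] [Finite B] (hB : Nat.card B = p ^ 3)
    (hna : ¬ IsMulCommutative B) (u : B) : u ^ p ∈ center B := by
  have hpp : p.Prime := hp.out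
  have hZ := card_center_of_card_cube p hB hna
  have hq := (center B).card_eq_card_quotient_mul_card_subgroup
  have h1 : Nat.card (B ⧸ center B) = p ^ 2 := by
    rw [hB, hZ] at hq
    have h2 : p ^ 2 * p = Nat.card (B ⧸ center B) * p := by rw [← hq]; ring
    exact (Nat.eq_of_mul_eq_mul_right hpp.pos h2).symm
  rw [← QuotientGroup.eq_one_iff, QuotientGroup.mk_pow]
  by_contra hne
  apply hna
  have h2 : orderOf (QuotientGroup.mk u : B ⧸ center B) ∣ p ^ 2 := by
    rw [← h1]; exact orderOf_dvd_natCard _
  obtain ⟨j, hj2, hj⟩ := (Nat.dvd_prime_pow hpp).mp h2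
  have hj' : j = 2 := by
    by_contra hj'
    have hj1 : j ≤ 1 := by omega
    apply hne
    have h3 : orderOf (QuotientGroup.mk u : B ⧸ center B) ∣ p := by
      rw [hj]
      calc p ^ j ∣ p ^ 1 := Nat.pow_dvd_pow p hj1
        _ = p := pow_one p
    exact orderOf_dvd_iff_pow_eq_one.mp h3
  rw [hj'] at hj
  haveI : IsCyclic (B ⧸ center B) := isCyclic_of_orderOf_eq_card _ (by rw [hj, h1])
  exact isMulCommutative_of_isCyclic_quotient_center_self B

/-- centre of index making the derived subgroups correspond -/
theorem index_commutator_quotient_center {X : Type*} [Group X] [Finite X] (hP : IsPGroup p X)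
    (hZcard : Nat.card (center X) = p) (hne : commutator X ≠ ⊥) :
    (commutator (X ⧸ center X)).index = (commutator X).index := by
  have hpp : p.Prime := hp.out
  have h1 := Cfsg.Agent.Helper19.normal_inf_center_ne_bot hP (commutator X) hne
  have hZle' : center X ≤ commutator X := by
    have h2 : commutator X ⊓ center X = center X := by
      apply eq_of_le_of_card_ge inf_le_right
      rw [hZcard]
      have h3 : Nat.card ↥(commutator X ⊓ center X) ≠ 1 := by
        intro h
        exact h1 ((commutator X ⊓ center X).card_eq_one.mp h)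
      have h4 : Nat.card ↥(commutator X ⊓ center X) ∣ p := by
        rw [← hZcard]
        exact card_dvd_of_le inf_le_right
      rcases (Nat.dvd_prime hpp).mp h4 with h5 | h5
      · exact absurd h5 h3
      · omega
    rw [← h2]; exact inf_le_left
  have hcommQ : commutator (X ⧸ center X) = (commutator X).map (QuotientGroup.mk' (center X)) := by
    rw [_root_.commutator_def, _root_.commutator_def, Subgroup.map_commutator,
      ← MonoidHom.range_eq_map,
      MonoidHom.range_eq_top.mpr (QuotientGroup.mk'_surjective (center X))]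
  have hker : (QuotientGroup.mk' (center X)).ker ≤ commutator X := by
    rw [QuotientGroup.ker_mk']; exact hZle'
  rw [hcommQ, Subgroup.index_map_eq (H := commutator X) (f := QuotientGroup.mk' (center X))
    (QuotientGroup.mk'_surjective (center X)) hker]

/-- a nonabelian subgroup of order `p ^ 3` containing its centralizer forces maximal class -/
theorem maxClass_of_self_centralizing_cube (n : ℕ) (X : Type u) [Group X] [Finite X]
    (hcard : Nat.card X = p ^ n) (B : Subgroup X) (hB : Nat.card B = p ^ 3)
    (hBna : ¬ IsMulCommutative B) (hC : centralizer (B : Set X) ≤ B) :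
    Group.nilpotencyClass X = n - 1 ∧ (commutator X).index = p ^ 2 := by
  have hpp : p.Prime := hp.out
  have hP : IsPGroup p X := IsPGroup.of_card hcard
  haveI : Group.IsNilpotent X := hP.isNilpotent
  have hn3 : 3 ≤ n := by
    have h1 : p ^ 3 ∣ p ^ n := by rw [← hB, ← hcard]; exact card_subgroup_dvd_card B
    exact (Nat.pow_dvd_pow_iff_le_right hpp.one_lt).mp h1
  haveI : Nontrivial X := by
    rw [← Finite.one_lt_card_iff_nontrivial, hcard]
    exact Nat.one_lt_pow (by omega) hpp.one_lt
  obtain ⟨u, v, huv⟩ : ∃ u v : B, u * v ≠ v * u := by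
    by_contra hcon
    push Not at hcon
    exact hBna ⟨⟨hcon⟩⟩
  have hgenB : closure {u, v} = (⊤ : Subgroup B) := closure_pair_eq_top_of_card_cube p hB u v huv
  have hgenX : closure {(u : X), (v : X)} = B := by
    have h1 := congrArg (Subgroup.map B.subtype) hgenB
    rw [MonoidHom.map_closure, ← MonoidHom.range_eq_map, Subgroup.range_subtype] at h1
    have h2 : (B.subtype '' {u, v} : Set X) = {(u : X), (v : X)} := by
      simp [Set.image_pair]
    rw [h2] at h1
    exact h1
  have hCB : Nat.card (centralizer (B : Set X)) ≤ p := by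
    rw [← card_center_of_card_cube p hB hBna]
    have hmem : ∀ x : centralizer (B : Set X), (⟨(x : X), hC x.2⟩ : B) ∈ center B := by
      intro x
      rw [mem_center_iff]
      intro g
      ext
      exact (mem_centralizer_iff.mp x.2) g g.2
    apply Nat.card_le_card_of_injective (fun x => (⟨_, hmem x⟩ : center B))
    intro x y hxy
    ext
    have := congrArg (fun z : center B => ((z : B) : X)) hxy
    exact this
  have hZle : center X ≤ centralizer (B : Set X) := center_le_centralizer _
  have hplt : p < p ^ 2 := by nlinarith [hpp.one_lt]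
  have hZcard : Nat.card (center X) = p := by
    obtain ⟨k, hk0, hk⟩ := IsPGroup.card_center_eq_prime_pow hcard (by omega)
    have h1 : p ^ k ≤ p := by rw [← hk]; exact (card_le_of_le hZle).trans hCB
    have h2 : k ≤ 1 := by
      by_contra h
      push Not at h
      have : p ^ 2 ≤ p ^ k := Nat.pow_le_pow_right hpp.pos h
      omega
    have : k = 1 := by omega
    rw [hk, this, pow_one]
  have hZeq : center X = centralizer (B : Set X) :=
    eq_of_le_of_card_ge hZle (by rw [hZcard]; exact hCB)
  have hpair : centralizer {(v : X)} ⊓ centralizer {(u : X)} ≤ centralizer (B : Set X) := by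
    intro x hx
    have h1 : x ∈ centralizer ({(u : X), (v : X)} : Set X) := by
      rw [mem_centralizer_iff]
      intro y hy
      rcases hy with rfl | rfl
      · exact (mem_centralizer_singleton_iff.mp hx.2).symm
      · exact (mem_centralizer_singleton_iff.mp hx.1).symm
    rw [← centralizer_closure, hgenX] at h1
    exact h1
  have hD : Nat.card ↥(cstar (u : X) ⊓ cstar (v : X)) ≤ p ^ 3 := by
    have h1 := card_inf_cstar_le (cstar (u : X)) (v : X)
    have h2 := card_inf_cstar_le (centralizer {(v : X)}) (u : X)
    rw [inf_comm (cstar (u : X)) (centralizer {(v : X)})] at h1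
    have h3 := (card_le_of_le hpair).trans hCB
    rw [hZcard] at h1 h2
    calc Nat.card ↥(cstar (u : X) ⊓ cstar (v : X))
        ≤ p * Nat.card ↥(centralizer {(v : X)} ⊓ cstar (u : X)) := h1
      _ ≤ p * (p * Nat.card ↥(centralizer {(v : X)} ⊓ centralizer {(u : X)})) :=
          Nat.mul_le_mul_left _ h2
      _ ≤ p * (p * p) := Nat.mul_le_mul_left _ (Nat.mul_le_mul_left _ h3)
      _ = p ^ 3 := by ring
  set A : Subgroup (X ⧸ center X) := centralizer {(QuotientGroup.mk (u : X) : X ⧸ center X)} ⊓
    centralizer {(QuotientGroup.mk (v : X) : X ⧸ center X)} with hAdef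
  have hAcomap : A.comap (QuotientGroup.mk' (center X)) = cstar (u : X) ⊓ cstar (v : X) := by
    rw [hAdef, comap_inf]; rfl
  have hAcard : Nat.card A ≤ p ^ 2 := by
    have h1 := card_comap_mk' (center X) A
    rw [hAcomap, hZcard] at h1
    rw [h1] at hD
    have : Nat.card A * p ≤ p ^ 2 * p := by rw [← pow_succ]; exact hD
    exact Nat.le_of_mul_le_mul_right this hpp.pos
  have huvZ : (u : X) * (v : X) * (u : X)⁻¹ * (v : X)⁻¹ ∈ center X := by
    rw [hZeq]
    have h1 := comm_mem_center_of_card_cube p hB hBna u v
    rw [mem_centralizer_iff]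
    intro g hg
    have h2 := mem_center_iff.mp h1 ⟨g, hg⟩
    exact congrArg Subtype.val h2
  have hcomm_bar : (QuotientGroup.mk (u : X) : X ⧸ center X) * QuotientGroup.mk (v : X) =
      QuotientGroup.mk (v : X) * QuotientGroup.mk (u : X) := by
    rw [← QuotientGroup.mk_mul, ← QuotientGroup.mk_mul, QuotientGroup.eq]
    have h1 : ((u : X) * (v : X))⁻¹ * ((v : X) * (u : X)) =
        ((u : X) * (v : X))⁻¹ * ((u : X) * (v : X) * (u : X)⁻¹ * (v : X)⁻¹)⁻¹ *
          ((u : X) * (v : X)) := by group
    rw [h1]
    exact (inferInstance : (center X).Normal).conj_mem' _ (inv_mem huvZ) _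
  have huA : (QuotientGroup.mk (u : X) : X ⧸ center X) ∈ A :=
    ⟨mem_centralizer_singleton_iff.mpr rfl, mem_centralizer_singleton_iff.mpr hcomm_bar⟩
  have hvA : (QuotientGroup.mk (v : X) : X ⧸ center X) ∈ A :=
    ⟨mem_centralizer_singleton_iff.mpr hcomm_bar.symm, mem_centralizer_singleton_iff.mpr rfl⟩
  have hCA : centralizer (A : Set (X ⧸ center X)) ≤ A := by
    intro x hx
    rw [mem_centralizer_iff] at hx
    exact ⟨mem_centralizer_singleton_iff.mpr (hx _ huA).symm,
      mem_centralizer_singleton_iff.mpr (hx _ hvA).symm⟩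
  have hQcard : Nat.card (X ⧸ center X) = p ^ (n - 1) := by
    have h1 := (center X).card_eq_card_quotient_mul_card_subgroup
    rw [hcard, hZcard] at h1
    have h2 : p ^ (n - 1) * p = Nat.card (X ⧸ center X) * p := by
      rw [← pow_succ, ← h1]; congr 1; omega
    exact (Nat.eq_of_mul_eq_mul_right hpp.pos h2).symm
  obtain ⟨c1, c2⟩ := maxClass_of_self_centralizing p (n - 1) (by omega) (X ⧸ center X) hQcard A
    hAcard hCA
  constructor
  · rw [Group.nilpotencyClass_eq_quotient_center_plus_one, c1]; omega
  · have hne : commutator X ≠ ⊥ := by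
      intro h
      apply huv
      have h1 : ⁅(u : X), (v : X)⁆ ∈ commutator X := by
        rw [commutator_eq_closure]
        exact subset_closure (mem_commutatorSet_iff.mpr ⟨_, _, rfl⟩)
      rw [h, mem_bot] at h1
      ext
      exact (commutatorElement_eq_one_iff_commute.mp h1).eq
    rw [← index_commutator_quotient_center p hP hZcard hne]
    exact c2

/-- consequences of maximal class: derived subgroup of index `p ^ 2`, centre of order `p` -/
theorem maxClass_facts : ∀ (n : ℕ), 2 ≤ n → ∀ (X : Type u) [Group X] [Finite X],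
    Nat.card X = p ^ n → Group.nilpotencyClass X = n - 1 →
    (commutator X).index = p ^ 2 ∧ (3 ≤ n → Nat.card (center X) = p) := by
  intro n hn
  induction n, hn using Nat.le_induction with
  | base =>
    intro X _ _ hcard _
    exact ⟨(maxClass_base p X hcard).2, fun h => absurd h (by norm_num)⟩
  | succ n hn ih =>
    intro X _ _ hcard hclass
    have hpp : p.Prime := hp.out
    have hP : IsPGroup p X := IsPGroup.of_card hcard
    haveI : Group.IsNilpotent X := hP.isNilpotent
    haveI : Nontrivial X := by
      rw [← Finite.one_lt_card_iff_nontrivial, hcard]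
      exact Nat.one_lt_pow (by omega) hpp.one_lt
    have hclass' : Group.nilpotencyClass X = n := by rw [hclass]; omega
    have hnotcomm : ¬ IsMulCommutative X := by
      intro h
      have := Group.IsNilpotent.nilpotencyClass_le_one_iff.mpr h
      omega
    obtain ⟨k, hk0, hk⟩ := IsPGroup.card_center_eq_prime_pow hcard (by omega)
    have hkn : k ≤ n + 1 := by
      have : p ^ k ∣ p ^ (n + 1) := by rw [← hk, ← hcard]; exact card_subgroup_dvd_card _
      exact (Nat.pow_dvd_pow_iff_le_right hpp.one_lt).mp this
    have hQcard : Nat.card (X ⧸ center X) = p ^ (n + 1 - k) := by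
      have h1 := (center X).card_eq_card_quotient_mul_card_subgroup
      rw [hcard, hk] at h1
      have h2 : p ^ (n + 1 - k) * p ^ k = Nat.card (X ⧸ center X) * p ^ k := by
        rw [← pow_add, ← h1]; congr 1; omega
      exact (Nat.eq_of_mul_eq_mul_right (pow_pos hpp.pos k) h2).symm
    have hQclass : Group.nilpotencyClass (X ⧸ center X) = n - 1 := by
      rw [Group.nilpotencyClass_quotient_center, hclass']
    have hk1 : k = 1 := by
      by_contra hk1
      have hk2 : 2 ≤ k := by omega
      rcases Nat.lt_or_ge 1 (n + 1 - k) with h | h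
      · have := Cfsg.Agent.S0063.result (G := X ⧸ center X) p (n + 1 - k) hQcard h
        omega
      · apply hnotcomm
        haveI : IsCyclic (X ⧸ center X) := by
          rcases (by omega : n + 1 - k = 0 ∨ n + 1 - k = 1) with h0 | h0
          · rw [h0, pow_zero] at hQcard
            haveI : Subsingleton (X ⧸ center X) := (Nat.card_eq_one_iff_unique.mp hQcard).1
            exact isCyclic_of_subsingleton
          · rw [h0, pow_one] at hQcard
            exact isCyclic_of_prime_card hQcard
        exact isMulCommutative_of_isCyclic_quotient_center_self X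
    rw [hk1, pow_one] at hk
    have hQcard' : Nat.card (X ⧸ center X) = p ^ n := by
      rw [hQcard, hk1]; congr 1
    obtain ⟨ih1, -⟩ := ih (X ⧸ center X) hQcard' hQclass
    have hne : commutator X ≠ ⊥ := by
      intro h
      apply hnotcomm
      refine ⟨⟨fun a b => ?_⟩⟩
      have h1 : ⁅a, b⁆ ∈ commutator X := by
        rw [commutator_eq_closure]
        exact subset_closure (mem_commutatorSet_iff.mpr ⟨a, b, rfl⟩)
      rw [h, mem_bot] at h1
      exact (commutatorElement_eq_one_iff_commute.mp h1).eq
    refine ⟨?_, fun _ => hk⟩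
    rw [← index_commutator_quotient_center p hP hk hne]
    exact ih1

end cube

end Cfsg.Agent.Helper22
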