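import Mathlib
import Cfsg.Prelude.Def_Local

/-!
# S4411 (a prime `q` dividing a `p`-automizer divides the automizer of a normal subgroup of the Sylow
`p`-subgroup): definitions
-/

set_option autoImplicit false

namespace Cfsg.Agent.Helper22.QAut

/-- Some `q`-element of `N_G(K)` does not centralize `K`. -/
def QAct {G : Type*} [Group G] (q : ℕ) (K : Subgroup G) : Prop :=
  ∃ x : G, x ∈ Subgroup.normalizer (K : Set G) ∧ (∃ c : ℕ, x ^ q ^ c = 1) ∧
    x ∉ Subgroup.centralizer (K : Set G)

/-- All automizers of `p`-subgroups are `p`-solvable. -/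
def AutSolv (p : ℕ) (G : Type*) [Group G] : Prop :=
  ∀ H : Subgroup G, IsPGroup p ↥H →
    Cfsg.IsPSolvable p (↥(Subgroup.normalizer (H : Set G)) ⧸
      (Subgroup.centralizer (H : Set G)).subgroupOf (Subgroup.normalizer (H : Set G)))

/-- The conclusion: some `K` with `QAct q K` is normal in some Sylow `p`-subgroup `S`. -/
def Good (p q : ℕ) (G : Type*) [Group G] : Prop :=
  ∃ K S : Subgroup G, QAct q K ∧ IsPGroup p ↥S ∧ ¬ p ∣ S.index ∧ K ≤ S ∧
    S ≤ Subgroup.normalizer (K : Set G)

end Cfsg.Agent.Helper22.QAut
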