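import Mathlib
import Cfsg.Agent.Lib.Helper22.QAutDefs
import Cfsg.Agent.Lib.Helper22.PPrimeCore

/-!
# S4411 piece CARDSUP
-/

set_option autoImplicit false

namespace Cfsg.Agent.Helper22.QAut

variable {G : Type*} [Group G] [Finite G]

/-- Piece CARDSUP. -/
theorem card_sup_dvd_of_le_normalizer (A B : Subgroup G)
    (h : A ≤ Subgroup.normalizer (B : Set G)) :
    Nat.card ↥(A ⊔ B) ∣ Nat.card ↥A * Nat.card ↥B := by
  set N := Subgroup.normalizer (B : Set G) with hN
  have hBN : B ≤ N := Subgroup.le_normalizer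
  have hn : (B.subgroupOf N).Normal := Subgroup.normal_in_normalizer
  have h1 := Cfsg.Agent.Helper22.card_sup_dvd_mul (A.subgroupOf N) (B.subgroupOf N)
  rw [← Subgroup.subgroupOf_sup h hBN] at h1
  rw [Nat.card_congr (Subgroup.subgroupOfEquivOfLe (sup_le h hBN)).toEquiv,
    Nat.card_congr (Subgroup.subgroupOfEquivOfLe h).toEquiv,
    Nat.card_congr (Subgroup.subgroupOfEquivOfLe hBN).toEquiv] at h1
  exact h1

end Cfsg.Agent.Helper22.QAut
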