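import Mathlib
import Cfsg.Agent.Lib.Helper22.ClassTwo
import Cfsg.Agent.Lib.Helper16.OddUnique
import Cfsg.Agent.Lib.Helper22.MaxClass
import Cfsg.Prelude.Def_Transfer

/-!
# Odd `p`: `p`-groups with a cyclic subgroup of index `p` (helper22 library)

For odd `p` and a finite `p`-group `R` with a cyclic subgroup of index `p`:
`exists_central_commutators` (all commutators are powers of a central element of order dividing `p`),
`mul_pow_prime` (the `p`-th power map is multiplicative), `exists_omega` (if `R` is not cyclic, the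
elements of order dividing `p` form a subgroup of order `p ^ 2`).
-/

set_option autoImplicit false

namespace Cfsg.Agent.Helper22

open Subgroup
open scoped commutatorElement

theorem modEq_one_of_pow_prime_modEq_one (p k r : ℕ) [hp : Fact p.Prime] (hodd : p ≠ 2) (hk : 1 ≤ k)
    (hr : r ^ p ≡ 1 [MOD p ^ k]) : r ≡ 1 [MOD p ^ (k - 1)] ∧ r ≡ 1 [MOD p] := by
  have hpp : p.Prime := hp.out
  have hp1 : Odd p := hpp.odd_of_ne_two hodd
  have hmodp : r ≡ 1 [MOD p] := by
    have h1 : r ^ p ≡ 1 [MOD p] := hr.of_dvd (dvd_pow_self p (by omega))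
    rw [← ZMod.natCast_eq_natCast_iff] at h1 ⊢
    push_cast at h1 ⊢
    rw [ZMod.pow_card] at h1
    exact h1
  refine ⟨?_, hmodp⟩
  rcases Nat.lt_or_ge 1 r with h1r | h1r
  · have hdvd1 : p ∣ r - 1 := (Nat.modEq_iff_dvd' h1r.le).mp hmodp.symm
    have hndvd : ¬ p ∣ r := by
      intro h
      have h2 : p ∣ r - (r - 1) := Nat.dvd_sub h hdvd1
      have h3 : r - (r - 1) = 1 := by omega
      rw [h3] at h2
      exact hpp.one_lt.ne' (Nat.dvd_one.mp h2)
    have hlte := padicValNat.pow_sub_pow (p := p) hp1 h1r hdvd1 hndvd (n := p) hpp.ne_zero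
    rw [one_pow, padicValNat_self] at hlte
    have hpos : 1 < r ^ p := Nat.one_lt_pow hpp.ne_zero h1r
    have hdvd : p ^ k ∣ r ^ p - 1 := (Nat.modEq_iff_dvd' hpos.le).mp hr.symm
    have hle : k ≤ padicValNat p (r ^ p - 1) :=
      (padicValNat_dvd_iff_le (by omega)).mp hdvd
    have hle' : k - 1 ≤ padicValNat p (r - 1) := by omega
    have hdvd' : p ^ (k - 1) ∣ r - 1 := (padicValNat_dvd_iff_le (by omega)).mpr hle'
    exact ((Nat.modEq_iff_dvd' h1r.le).mpr hdvd').symm
  · have hr1 : r = 1 := by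
      rcases Nat.eq_zero_or_pos r with h0 | h0
      · exfalso
        rw [h0, zero_pow hpp.ne_zero] at hr
        have h2 : p ^ k ∣ 1 - 0 := (Nat.modEq_iff_dvd' (Nat.zero_le 1)).mp hr
        have h3 : p ^ k = 1 := Nat.dvd_one.mp h2
        have h4 : 1 < p ^ k := Nat.one_lt_pow (by omega) hpp.one_lt
        omega
      · omega
    rw [hr1]

section

variable {R : Type*} [Group R]

theorem normal_zpowers_of_mem_center' (z : R) (hz : z ∈ center R) : (zpowers z).Normal := by
  refine ⟨fun m hm g => ?_⟩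
  rw [mem_zpowers_iff] at hm
  obtain ⟨j, rfl⟩ := hm
  have hc : Commute g z := mem_center_iff.mp hz g
  have : g * z ^ j * g⁻¹ = z ^ j := by
    rw [(hc.zpow_right j).eq]
    group
  rw [this]
  exact zpow_mem (mem_zpowers _) j

theorem conj_pow_iter (c g : R) (r : ℕ) (h : g * c * g⁻¹ = c ^ r) (j : ℕ) :
    g ^ j * c * (g ^ j)⁻¹ = c ^ (r ^ j) := by
  induction j with
  | zero => simp
  | succ j ih =>
    calc g ^ (j + 1) * c * (g ^ (j + 1))⁻¹ = g * (g ^ j * c * (g ^ j)⁻¹) * g⁻¹ := by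
          rw [pow_succ']; group
      _ = g * c ^ (r ^ j) * g⁻¹ := by rw [ih]
      _ = (g * c * g⁻¹) ^ (r ^ j) := by rw [conj_pow]
      _ = c ^ (r ^ (j + 1)) := by rw [h, ← pow_mul, pow_succ']

end

section main

variable {R : Type*} [Group R] [Finite R] {p : ℕ} [hp : Fact p.Prime]

/-- all commutators are powers of one central element of order dividing `p` -/
theorem exists_central_commutators (hodd : p ≠ 2) (hR : IsPGroup p R) (C : Subgroup R)
    (hC : IsCyclic C) (hCi : C.index = p) :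
    ∃ z : R, z ∈ center R ∧ z ^ p = 1 ∧ ∀ x y : R, ⁅x, y⁆ ∈ zpowers z := by
  classical
  have hpp : p.Prime := hp.out
  by_cases hcomm : ∀ x y : R, x * y = y * x
  · refine ⟨1, one_mem _, one_pow _, fun x y => ?_⟩
    rw [commutatorElement_eq_one_iff_commute.mpr (hcomm x y)]
    exact one_mem _
  push Not at hcomm
  obtain ⟨x₀, y₀, hxy₀⟩ := hcomm
  obtain ⟨n, hn⟩ := hR.exists_card_eq
  have hn1 : n ≠ 0 := by
    rintro rfl
    rw [pow_zero] at hn
    haveI : Subsingleton R := (Nat.card_eq_one_iff_unique.mp hn).1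
    exact hxy₀ (Subsingleton.elim _ _)
  haveI hCn : C.Normal := by
    apply normal_of_index_eq_minFac_card
    rw [hCi, hn, hpp.pow_minFac hn1]
  obtain ⟨⟨c, hcC⟩, hcgen⟩ := hC.exists_generator
  have hzC : zpowers c = C := by
    apply le_antisymm (zpowers_le.mpr hcC)
    intro x hx
    have h1 := hcgen ⟨x, hx⟩
    rw [mem_zpowers_iff] at h1 ⊢
    obtain ⟨i, hi⟩ := h1
    exact ⟨i, by simpa using congrArg Subtype.val hi⟩
  obtain ⟨k, hk⟩ := (hR.to_subgroup C).exists_card_eq
  have hco : orderOf c = p ^ k := by rw [← Nat.card_zpowers, hzC, hk]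
  have hk1 : 1 ≤ k := by
    by_contra h
    have hk0 : k = 0 := by omega
    rw [hk0, pow_zero] at hk
    have hRp : Nat.card R = p := by
      have := C.card_mul_index
      rw [hk, hCi, one_mul] at this
      exact this.symm
    haveI : IsCyclic R := isCyclic_of_prime_card hRp
    exact hxy₀ (IsCyclic.isMulCommutative.is_comm.comm x₀ y₀)
  set z : R := c ^ p ^ (k - 1) with hz
  have hzo : orderOf z = p := by
    rw [hz, orderOf_pow' c (pow_ne_zero _ hpp.ne_zero), hco,
      Nat.gcd_eq_right (pow_dvd_pow p (by omega))]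
    have : p ^ k = p ^ (k - 1) * p := by rw [← pow_succ]; congr 1; omega
    rw [this, Nat.mul_div_cancel_left _ (pow_pos hpp.pos _)]
  have hzp : z ^ p = 1 := by rw [← hzo]; exact pow_orderOf_eq_one z
  -- conjugation by `g` on `c`
  have hconj : ∀ g : R, ∃ r : ℕ, g * c * g⁻¹ = c ^ r ∧ r ≡ 1 [MOD p ^ (k - 1)] ∧ r ≡ 1 [MOD p] := by
    intro g
    have h1 : g * c * g⁻¹ ∈ zpowers c := by
      rw [hzC]; exact hCn.conj_mem c hcC g
    rw [← mem_powers_iff_mem_zpowers] at h1
    obtain ⟨r, hr⟩ := (Submonoid.mem_powers_iff _ _).mp h1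
    refine ⟨r, hr.symm, ?_⟩
    have h2 := conj_pow_iter c g r hr.symm p
    have hgp : g ^ p ∈ zpowers c := by
      rw [hzC, ← hCi]; exact C.pow_index_mem g
    obtain ⟨i, hi⟩ := mem_zpowers_iff.mp hgp
    have h3 : g ^ p * c * (g ^ p)⁻¹ = c := by
      rw [← hi]
      have : Commute (c ^ i) c := (Commute.refl c).zpow_left i
      rw [this.eq]; group
    rw [h3] at h2
    have h4 : c ^ 1 = c ^ (r ^ p) := by rw [pow_one]; exact h2
    rw [pow_eq_pow_iff_modEq, hco] at h4
    exact modEq_one_of_pow_prime_modEq_one p k r hodd hk1 h4.symm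
  have hzcent : z ∈ center R := by
    rw [mem_center_iff]
    intro g
    obtain ⟨r, hr, -, hrp⟩ := hconj g
    have h1 : g * z * g⁻¹ = z := by
      rw [hz, ← conj_pow, hr, ← pow_mul, mul_comm, pow_mul, ← hz]
      have : z ^ r = z ^ 1 := by
        rw [pow_eq_pow_iff_modEq, hzo]; exact hrp
      rw [this, pow_one]
    calc g * z = g * z * g⁻¹ * g := by group
      _ = z * g := by rw [h1]
  have hcomm_c : ∀ g : R, ⁅g, c⁆ ∈ zpowers z := by
    intro g
    obtain ⟨r, hr, hrk, hrp⟩ := hconj g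
    have hr1 : 1 ≤ r := by
      rcases Nat.eq_zero_or_pos r with h0 | h0
      · exfalso
        rw [h0] at hrp
        have h2 : p ∣ 1 - 0 := (Nat.modEq_iff_dvd' (Nat.zero_le 1)).mp hrp
        exact hpp.one_lt.ne' (Nat.dvd_one.mp h2)
      · exact h0
    obtain ⟨t, ht⟩ : p ^ (k - 1) ∣ r - 1 := (Nat.modEq_iff_dvd' hr1).mp hrk.symm
    rw [commutatorElement_def, hr]
    have h1 : c ^ r * c⁻¹ = c ^ (r - 1) := by
      have : r = (r - 1) + 1 := by omega
      conv_lhs => rw [this, pow_succ]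
      group
    rw [h1, ht, pow_mul, ← hz]
    exact pow_mem (mem_zpowers z) t
  haveI hZn : (zpowers z).Normal := normal_zpowers_of_mem_center' z hzcent
  have hZcent : zpowers z ≤ center R := zpowers_le.mpr hzcent
  -- commutators with elements of `C`
  have hcomm_C : ∀ g : R, ∀ x ∈ C, ⁅g, x⁆ ∈ zpowers z := by
    intro g x hx
    rw [← hzC] at hx
    rw [← mem_powers_iff_mem_zpowers] at hx
    obtain ⟨m, rfl⟩ := (Submonoid.mem_powers_iff _ _).mp hx
    rw [commutator_pow_right_of_central c g (hZcent (hcomm_c g)) m]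
    exact pow_mem (hcomm_c g) m
  have hZC : zpowers z ≤ C := by
    rw [zpowers_le, hz]; exact pow_mem hcC _
  -- the quotient by `⟨z⟩` is commutative
  let f : R ⧸ zpowers z →* R ⧸ C :=
    QuotientGroup.map (zpowers z) C (MonoidHom.id R) (fun x hx => hZC hx)
  haveI : IsCyclic (R ⧸ C) := by
    apply isCyclic_of_prime_card (p := p)
    rw [← Subgroup.index_eq_card]; exact hCi
  have hker : f.ker ≤ center (R ⧸ zpowers z) := by
    intro q hq
    obtain ⟨x, rfl⟩ := QuotientGroup.mk_surjective q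
    have hxC : x ∈ C := by
      have h1 : f (QuotientGroup.mk x) = 1 := hq
      have h2 : f (QuotientGroup.mk x) = QuotientGroup.mk x := rfl
      rw [h2] at h1
      exact (QuotientGroup.eq_one_iff x).mp h1
    rw [mem_center_iff]
    intro q'
    obtain ⟨y, rfl⟩ := QuotientGroup.mk_surjective q'
    rw [← QuotientGroup.mk_mul, ← QuotientGroup.mk_mul, QuotientGroup.eq]
    have h3 : (y * x)⁻¹ * (x * y) = (⁅y⁻¹, x⁻¹⁆)⁻¹ := by
      rw [commutatorElement_def]; group
    rw [h3]
    exact inv_mem (hcomm_C y⁻¹ x⁻¹ (inv_mem hxC))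
  have hQcomm : IsMulCommutative (R ⧸ zpowers z) :=
    f.isMulCommutative_of_isCyclic_of_ker_le_center hker
  refine ⟨z, hzcent, hzp, fun x y => ?_⟩
  rw [← QuotientGroup.eq_one_iff, commutatorElement_def]
  rw [QuotientGroup.mk_mul, QuotientGroup.mk_mul, QuotientGroup.mk_mul, QuotientGroup.mk_inv,
    QuotientGroup.mk_inv, hQcomm.is_comm.comm (QuotientGroup.mk x) (QuotientGroup.mk y)]
  group

/-- the `p`-th power map is multiplicative -/
theorem mul_pow_prime (hodd : p ≠ 2) (hR : IsPGroup p R) (C : Subgroup R)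
    (hC : IsCyclic C) (hCi : C.index = p) (x y : R) : (x * y) ^ p = x ^ p * y ^ p := by
  have hpp : p.Prime := hp.out
  obtain ⟨z, hzc, hzp, hcomm⟩ := exists_central_commutators hodd hR C hC hCi
  have hc1 : ⁅y, x⁆ ∈ center R := (zpowers_le.mpr hzc) (hcomm y x)
  have hc' : ∀ g : R, g * ⁅y, x⁆ = ⁅y, x⁆ * g := fun g => mem_center_iff.mp hc1 g
  have h := mul_pow_eq_of_central x y ⁅y, x⁆ hc' (mul_eq_commutator_mul x y) p
  have hcp : ⁅y, x⁆ ^ p = 1 := by
    obtain ⟨i, hi⟩ := mem_zpowers_iff.mp (hcomm y x)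
    rw [← hi, ← zpow_natCast, ← zpow_mul, mul_comm, zpow_mul, zpow_natCast, hzp, one_zpow]
  have hdvd : p ∣ p.choose 2 := by
    apply hpp.dvd_choose_self (by norm_num)
    have := hpp.two_le
    omega
  obtain ⟨m, hm⟩ := hdvd
  rw [h, hm, pow_mul, hcp, one_pow, one_mul]

/-- in the non-cyclic case the elements of order dividing `p` form a subgroup of order `p ^ 2` -/
theorem exists_omega (hodd : p ≠ 2) (hR : IsPGroup p R) (hnc : ¬ IsCyclic R) (C : Subgroup R)
    (hC : IsCyclic C) (hCi : C.index = p) :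
    ∃ W : Subgroup R, (∀ x : R, x ∈ W ↔ x ^ p = 1) ∧ Nat.card W = p ^ 2 := by
  classical
  have hpp : p.Prime := hp.out
  let φ : R →* R := MonoidHom.mk' (fun x => x ^ p) (mul_pow_prime hodd hR C hC hCi)
  have hφ : ∀ x, φ x = x ^ p := fun x => rfl
  have hmem : ∀ x : R, x ∈ φ.ker ↔ x ^ p = 1 := fun x => by rw [MonoidHom.mem_ker, hφ]
  refine ⟨φ.ker, hmem, ?_⟩
  -- upper bound
  have h1 := φ.ker.card_eq_card_quotient_mul_card_subgroup
  rw [Nat.card_congr (QuotientGroup.quotientKerEquivRange φ).toEquiv] at h1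
  let ψ : C →* R := φ.comp C.subtype
  have h2 := ψ.ker.card_eq_card_quotient_mul_card_subgroup
  rw [Nat.card_congr (QuotientGroup.quotientKerEquivRange ψ).toEquiv] at h2
  have h3 : Nat.card ψ.range ≤ Nat.card φ.range := by
    apply card_le_of_le
    rintro _ ⟨x, rfl⟩
    exact ⟨(x : R), rfl⟩
  have h4 : Nat.card ψ.ker ≤ p := by
    haveI := hC
    haveI : Fintype C := Fintype.ofFinite C
    have h5 := IsCyclic.card_pow_eq_one_le (α := C) (n := p) hpp.pos
    have h6 : Nat.card ψ.ker = (Finset.univ.filter (fun a : C => a ^ p = 1)).card := by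
      rw [Nat.card_eq_fintype_card, ← Fintype.card_subtype]
      apply Fintype.card_congr
      refine Equiv.subtypeEquivRight (fun a => ?_)
      rw [MonoidHom.mem_ker]
      show (a : R) ^ p = 1 ↔ a ^ p = 1
      rw [← Subgroup.coe_pow, OneMemClass.coe_eq_one]
    rw [h6]; exact h5
  have h7 := C.card_mul_index
  rw [hCi] at h7
  have hrpos : 0 < Nat.card φ.range := Nat.card_pos
  have hupper : Nat.card φ.ker ≤ p ^ 2 := by
    have h8 : Nat.card C ≤ Nat.card φ.range * p := by
      rw [h2]; exact Nat.mul_le_mul h3 h4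
    have h9 : Nat.card φ.range * Nat.card φ.ker ≤ Nat.card φ.range * p ^ 2 := by
      rw [← h1, ← h7, pow_two, ← mul_assoc]
      exact Nat.mul_le_mul_right p h8
    exact Nat.le_of_mul_le_mul_left h9 hrpos
  obtain ⟨j, hj⟩ := (hR.to_subgroup φ.ker).exists_card_eq
  have hj2 : j ≤ 2 := by
    rw [hj] at hupper
    exact (Nat.pow_le_pow_iff_right hpp.one_lt).mp hupper
  rcases Nat.lt_or_ge j 2 with hlt | hge
  · exfalso
    apply hnc
    apply Cfsg.Agent.Helper16.isCyclic_of_uniqueOrderP_odd (hpp.odd_of_ne_two hodd) hR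
    intro x y hx hy
    have hxW : x ∈ φ.ker := (hmem x).mpr (by rw [← hx]; exact pow_orderOf_eq_one x)
    have hyW : y ∈ φ.ker := (hmem y).mpr (by rw [← hy]; exact pow_orderOf_eq_one y)
    have hle : zpowers x ≤ φ.ker := zpowers_le.mpr hxW
    have heq : zpowers x = φ.ker := by
      apply eq_of_le_of_card_ge hle
      rw [Nat.card_zpowers, hx, hj]
      calc p ^ j ≤ p ^ 1 := Nat.pow_le_pow_right hpp.pos (by omega)
        _ = p := pow_one p
    rw [heq]; exact hyW
  · have : j = 2 := by omega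
    rw [hj, this]

end main

section normalsq

variable {R : Type*} [Group R] [Finite R] {p : ℕ} [hp : Fact p.Prime]

/-- one step up in a chain of normal subgroups of a `p`-group -/
theorem exists_normal_step (hR : IsPGroup p R) (N K : Subgroup R) [hN : N.Normal] [hK : K.Normal]
    (hKN : K ≤ N) (hne : K ≠ N) :
    ∃ K' : Subgroup R, K'.Normal ∧ K ≤ K' ∧ K' ≤ N ∧ Nat.card K' = p * Nat.card K := by
  have hpp : p.Prime := hp.out
  have hQ : IsPGroup p (R ⧸ K) := hR.to_quotient K
  set Nb : Subgroup (R ⧸ K) := N.map (QuotientGroup.mk' K) with hNb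
  haveI hNbn : Nb.Normal := hN.map (QuotientGroup.mk' K) (QuotientGroup.mk'_surjective K)
  have hNbne : Nb ≠ ⊥ := by
    intro h
    apply hne
    apply le_antisymm hKN
    intro x hx
    have h1 : (QuotientGroup.mk' K) x ∈ Nb := mem_map_of_mem _ hx
    rw [h, mem_bot] at h1
    exact (QuotientGroup.eq_one_iff x).mp h1
  have h1 := Cfsg.Agent.Helper19.normal_inf_center_ne_bot hQ Nb hNbne
  obtain ⟨zb, hzb⟩ : ∃ zb : (Nb ⊓ center (R ⧸ K) : Subgroup (R ⧸ K)), orderOf zb = p := by
    apply exists_prime_orderOf_dvd_card' p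
    have hp' := hQ.to_subgroup (Nb ⊓ center (R ⧸ K))
    haveI : Nontrivial (Nb ⊓ center (R ⧸ K) : Subgroup (R ⧸ K)) :=
      (Subgroup.nontrivial_iff_ne_bot _).mpr h1
    obtain ⟨k, hk0, hk⟩ := hp'.nontrivial_iff_card.mp inferInstance
    rw [hk]
    exact dvd_pow_self p (by omega)
  have hzN : (zb : R ⧸ K) ∈ Nb := zb.2.1
  have hzc : (zb : R ⧸ K) ∈ center (R ⧸ K) := zb.2.2
  have hzo : orderOf (zb : R ⧸ K) = p := by rw [Subgroup.orderOf_coe]; exact hzb
  haveI hZn : (zpowers (zb : R ⧸ K)).Normal := normal_zpowers_of_mem_center' _ hzc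
  refine ⟨(zpowers (zb : R ⧸ K)).comap (QuotientGroup.mk' K), ?_, ?_, ?_, ?_⟩
  · exact hZn.comap _
  · intro x hx
    rw [mem_comap, QuotientGroup.mk'_apply, (QuotientGroup.eq_one_iff x).mpr hx]
    exact one_mem _
  · intro x hx
    rw [mem_comap] at hx
    have h2 : (QuotientGroup.mk' K) x ∈ Nb := (zpowers_le.mpr hzN) hx
    obtain ⟨y, hy, hyx⟩ := h2
    have h3 : y⁻¹ * x ∈ K := QuotientGroup.eq.mp hyx
    have h4 : x = y * (y⁻¹ * x) := by group
    rw [h4]
    exact mul_mem hy (hKN h3)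
  · rw [card_comap_mk', Nat.card_zpowers, hzo]

/-- For odd `p`, a non-cyclic normal subgroup `S` of a `p`-group contains a normal subgroup of the
whole group of order `p ^ 2` and exponent `p`. -/
theorem exists_normal_elementary_sq (hodd : p ≠ 2) (hR : IsPGroup p R) (S : Subgroup R)
    [hS : S.Normal] (hSnc : ¬ IsCyclic S) :
    ∃ A : Subgroup R, A ≤ S ∧ A.Normal ∧ Cfsg.IsElementaryAbelian p A ∧ Nat.card A = p ^ 2 := by
  classical
  have hpp : p.Prime := hp.out
  let 𝒜 : Set (Subgroup R) := {A | A ≤ S ∧ A.Normal ∧ IsCyclic A}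
  have hfin : 𝒜.Finite := Set.toFinite 𝒜
  have hne : 𝒜.Nonempty := ⟨⊥, bot_le, inferInstance, inferInstance⟩
  obtain ⟨A, ⟨hAS, hAn, hAc⟩, hmax⟩ := hfin.exists_maximal hne
  haveI := hAn
  have hAneS : A ≠ S := by
    rintro rfl
    exact hSnc hAc
  obtain ⟨B, hBn, hAB, hBS, hBcard⟩ := exists_normal_step hR S A hAS hAneS
  haveI := hBn
  have hBnc : ¬ IsCyclic B := by
    intro hBc
    have h1 : B ≤ A := hmax ⟨hBS, hBn, hBc⟩ hAB
    have h2 : Nat.card B ≤ Nat.card A := card_le_of_le h1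
    have h3 : 0 < Nat.card A := Nat.card_pos
    have h4 : 2 * Nat.card A ≤ p * Nat.card A := Nat.mul_le_mul_right _ hpp.two_le
    omega
  -- apply the cyclic maximal subgroup lemma inside `B`
  have hBp : IsPGroup p B := hR.to_subgroup B
  have hCc : IsCyclic (A.subgroupOf B) := by
    haveI := hAc
    exact isCyclic_of_surjective (subgroupOfEquivOfLe hAB).symm (MulEquiv.surjective _)
  have hCi : (A.subgroupOf B).index = p := by
    have h1 := (A.subgroupOf B).card_mul_index
    rw [Nat.card_congr (subgroupOfEquivOfLe hAB).toEquiv, hBcard, mul_comm] at h1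
    exact Nat.eq_of_mul_eq_mul_right Nat.card_pos h1
  obtain ⟨W', hW'mem, hW'card⟩ := exists_omega hodd hBp hBnc (A.subgroupOf B) hCc hCi
  have hWmem : ∀ x : R, x ∈ W'.map B.subtype ↔ x ∈ B ∧ x ^ p = 1 := by
    intro x
    constructor
    · rintro ⟨y, hy, rfl⟩
      refine ⟨y.2, ?_⟩
      have := (hW'mem y).mp hy
      have h2 := congrArg Subtype.val this
      simpa using h2
    · rintro ⟨hxB, hxp⟩
      refine ⟨⟨x, hxB⟩, (hW'mem _).mpr ?_, rfl⟩
      ext
      simpa using hxp
  have hWcard : Nat.card (W'.map B.subtype) = p ^ 2 := by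
    rw [card_map_of_injective B.subtype_injective, hW'card]
  refine ⟨W'.map B.subtype, ?_, ?_, ⟨?_, ?_⟩, hWcard⟩
  · intro x hx
    exact hBS ((hWmem x).mp hx).1
  · refine ⟨fun x hx g => ?_⟩
    obtain ⟨hxB, hxp⟩ := (hWmem x).mp hx
    rw [hWmem]
    refine ⟨hBn.conj_mem x hxB g, ?_⟩
    rw [conj_pow, hxp]; group
  · exact IsPGroup.isMulCommutative_of_card_eq_prime_sq hWcard
  · intro a ha
    exact ((hWmem a).mp ha).2

end normalsq

end Cfsg.Agent.Helper22
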