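import Mathlib
import Cfsg.Agent.Lib.Helper22.OddCyclicMax

/-!
# One-step normal abelian enlargements in `p`-groups (helper22 library)

`exists_step_normalized`: relative version of `exists_normal_step`.
`mul_pow_eq_of_commute`, `commutator_pow_left_of_commute`: power identities, ambient form.
`IsStepOver`: one-step enlargements `B` of a normal abelian subgroup `A` inside its centralizer.
-/

set_option autoImplicit false

namespace Cfsg.Agent.Helper22

open Subgroup
open scoped commutatorElement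

section AlperinStep

variable {G : Type*} [Group G] [Finite G] {p : ℕ} [hp : Fact p.Prime]

/-- relative version of `exists_normal_step`: a step normalised by a subgroup `M`. -/
theorem exists_step_normalized (hG : IsPGroup p G) (M K L : Subgroup G) (hKL : K < L) (hLM : L ≤ M)
    (hK : M ≤ normalizer (K : Set G)) (hL : M ≤ normalizer (L : Set G)) :
    ∃ K' : Subgroup G, K ≤ K' ∧ K' ≤ L ∧ Nat.card K' = p * Nat.card K ∧
      M ≤ normalizer (K' : Set G) := by
  have hKM : K ≤ M := hKL.le.trans hLM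
  haveI hKn : (K.subgroupOf M).Normal := (Subgroup.normal_subgroupOf_iff_le_normalizer hKM).2 hK
  haveI hLn : (L.subgroupOf M).Normal := (Subgroup.normal_subgroupOf_iff_le_normalizer hLM).2 hL
  have hM : IsPGroup p M := hG.to_subgroup M
  have hle : K.subgroupOf M ≤ L.subgroupOf M := Subgroup.subgroupOf_mono M hKL.le
  have hne : K.subgroupOf M ≠ L.subgroupOf M := by
    intro h
    apply hKL.ne
    have := congrArg (Subgroup.map M.subtype) h
    rwa [Subgroup.map_subgroupOf_eq_of_le hKM, Subgroup.map_subgroupOf_eq_of_le hLM] at this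
  obtain ⟨K'', hK''n, h1, h2, h3⟩ :=
    exists_normal_step hM (L.subgroupOf M) (K.subgroupOf M) hle hne
  refine ⟨K''.map M.subtype, ?_, ?_, ?_, ?_⟩
  · rw [← Subgroup.map_subgroupOf_eq_of_le hKM]
    exact Subgroup.map_mono h1
  · rw [← Subgroup.map_subgroupOf_eq_of_le hLM]
    exact Subgroup.map_mono h2
  · rw [Subgroup.card_map_of_injective M.subtype_injective, h3]
    congr 1
    exact Nat.card_congr (Subgroup.subgroupOfEquivOfLe hKM).toEquiv
  · have hle' : K''.map M.subtype ≤ M := Subgroup.map_subtype_le K''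
    rw [← Subgroup.normal_subgroupOf_iff_le_normalizer hle']
    have : (K''.map M.subtype).subgroupOf M = K'' := by
      rw [← Subgroup.comap_subtype]
      exact Subgroup.comap_map_eq_self_of_injective M.subtype_injective K''
    rwa [this]

end AlperinStep

section CommuteForms

variable {G : Type*} [Group G]

/-- `(x * y) ^ n = c ^ (n.choose 2) * x ^ n * y ^ n` when `c = ⁅y, x⁆` commutes with `x` and `y`. -/
theorem mul_pow_eq_of_commute (x y : G) (hcx : Commute ⁅y, x⁆ x) (hcy : Commute ⁅y, x⁆ y) (n : ℕ) :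
    (x * y) ^ n = ⁅y, x⁆ ^ (n.choose 2) * x ^ n * y ^ n := by
  set c := ⁅y, x⁆ with hc
  let H : Subgroup G := centralizer {c}
  have hxH : x ∈ H := mem_centralizer_singleton_iff.2 hcx.eq.symm
  have hyH : y ∈ H := mem_centralizer_singleton_iff.2 hcy.eq.symm
  have hcH : c ∈ H := mem_centralizer_singleton_iff.2 rfl
  have hcen : ∀ g : H, g * (⟨c, hcH⟩ : H) = ⟨c, hcH⟩ * g := by
    intro g
    apply Subtype.ext
    have := mem_centralizer_singleton_iff.1 g.2
    simpa using this
  have hrel : (⟨y, hyH⟩ : H) * ⟨x, hxH⟩ = ⟨c, hcH⟩ * ⟨x, hxH⟩ * ⟨y, hyH⟩ := by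
    apply Subtype.ext
    simp only [Subgroup.coe_mul]
    exact mul_eq_commutator_mul x y
  have h := mul_pow_eq_of_central (⟨x, hxH⟩ : H) ⟨y, hyH⟩ ⟨c, hcH⟩ hcen hrel n
  have h2 := congrArg Subtype.val h
  simpa using h2

/-- `⁅y ^ n, x⁆ = ⁅y, x⁆ ^ n` when `⁅y, x⁆` commutes with `x` and `y`. -/
theorem commutator_pow_left_of_commute (x y : G) (hcx : Commute ⁅y, x⁆ x) (hcy : Commute ⁅y, x⁆ y)
    (n : ℕ) : ⁅y ^ n, x⁆ = ⁅y, x⁆ ^ n := by
  set c := ⁅y, x⁆ with hc
  let H : Subgroup G := centralizer {c}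
  have hxH : x ∈ H := mem_centralizer_singleton_iff.2 hcx.eq.symm
  have hyH : y ∈ H := mem_centralizer_singleton_iff.2 hcy.eq.symm
  have hcH : c ∈ H := mem_centralizer_singleton_iff.2 rfl
  have hcen : ⁅(⟨y, hyH⟩ : H), ⟨x, hxH⟩⁆ ∈ Subgroup.center H := by
    rw [Subgroup.mem_center_iff]
    intro g
    apply Subtype.ext
    have := mem_centralizer_singleton_iff.1 g.2
    simp only [Subgroup.coe_mul, commutatorElement_def, Subgroup.coe_inv]
    rw [hc, commutatorElement_def] at this
    exact this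
  have h := commutator_pow_left_of_central (⟨x, hxH⟩ : H) ⟨y, hyH⟩ hcen n
  have h2 := congrArg Subtype.val h
  simp only [commutatorElement_def, Subgroup.coe_mul, Subgroup.coe_inv, Subgroup.coe_pow] at h2
  rw [hc, commutatorElement_def, commutatorElement_def]
  exact h2

theorem prime_dvd_choose_two_pow (p n : ℕ) (hp : p.Prime) (hn : p ^ n ≠ 2) (hn1 : n ≠ 0) :
    p ∣ (p ^ n).choose 2 := by
  rw [Nat.choose_two_right]
  obtain ⟨m, rfl⟩ := Nat.exists_eq_succ_of_ne_zero hn1
  by_cases h2 : p = 2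
  · subst h2
    have hm : m ≠ 0 := by
      rintro rfl
      exact hn (by norm_num)
    obtain ⟨k, rfl⟩ := Nat.exists_eq_succ_of_ne_zero hm
    have : 2 ^ (k + 1 + 1) * (2 ^ (k + 1 + 1) - 1) / 2 = 2 * (2 ^ k * (2 ^ (k + 1 + 1) - 1)) := by
      have : 2 ^ (k + 1 + 1) * (2 ^ (k + 1 + 1) - 1) = 2 * (2 * (2 ^ k * (2 ^ (k + 1 + 1) - 1))) := by
        ring
      rw [this, Nat.mul_div_cancel_left _ (by norm_num)]
    rw [this]
    exact dvd_mul_right _ _
  · have hodd : Odd p := hp.odd_of_ne_two h2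
    have hodd' : Odd (p ^ (m + 1)) := hodd.pow
    obtain ⟨k, hk⟩ := hodd'
    have : p ^ (m + 1) * (p ^ (m + 1) - 1) / 2 = p * (p ^ m * k) := by
      have h1 : p ^ (m + 1) - 1 = 2 * k := by omega
      rw [h1]
      have : p ^ (m + 1) * (2 * k) = 2 * (p * (p ^ m * k)) := by ring
      rw [this, Nat.mul_div_cancel_left _ (by norm_num)]
    rw [this]
    exact dvd_mul_right _ _

end CommuteForms

section AlperinStep2

variable {G : Type*} [Group G] [Finite G] {p : ℕ} [hp : Fact p.Prime]

theorem eq_of_lt_of_le_of_card_eq_prime_mul (A H B : Subgroup G) (hAH : A < H) (hHB : H ≤ B)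
    (hcard : Nat.card B = p * Nat.card A) : H = B := by
  have hpp : p.Prime := hp.out
  obtain ⟨d, hd⟩ := Subgroup.card_dvd_of_le hAH.le
  obtain ⟨e, he⟩ := Subgroup.card_dvd_of_le hHB
  have hApos : 0 < Nat.card A := Nat.card_pos
  have hde : d * e = p := by
    have : Nat.card A * (d * e) = Nat.card A * p := by
      rw [← mul_assoc, ← hd, ← he, hcard, mul_comm]
    exact Nat.eq_of_mul_eq_mul_left hApos this
  have hd1 : d ≠ 1 := by
    rintro rfl
    rw [mul_one] at hd
    exact hAH.ne (Subgroup.eq_of_le_of_card_ge hAH.le hd.le).symm.symm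
  have hdp : d ∣ p := ⟨e, hde.symm⟩
  have hdp' : d = p := (Nat.dvd_prime hpp).1 hdp |>.resolve_left hd1
  apply Subgroup.eq_of_le_of_card_ge hHB
  rw [hcard, hd, hdp', mul_comm]

/-- the subgroup of elements whose commutators with a set `S` lie in the normal subgroup `A` -/
def commSub (A : Subgroup G) [hA : A.Normal] (S : Set G) : Subgroup G where
  carrier := {f | ∀ v ∈ S, ⁅f, v⁆ ∈ A}
  one_mem' := by
    intro v _
    rw [commutatorElement_one_left]
    exact A.one_mem
  mul_mem' := by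
    intro f f' hf hf' v hv
    have : ⁅f * f', v⁆ = f * ⁅f', v⁆ * f⁻¹ * ⁅f, v⁆ := by
      simp only [commutatorElement_def]; group
    rw [this]
    exact A.mul_mem (hA.conj_mem _ (hf' v hv) f) (hf v hv)
  inv_mem' := by
    intro f hf v hv
    have : ⁅f⁻¹, v⁆ = f⁻¹ * ⁅f, v⁆⁻¹ * f⁻¹⁻¹ := by
      simp only [commutatorElement_def]; group
    rw [this]
    exact hA.conj_mem _ (A.inv_mem (hf v hv)) f⁻¹

theorem mem_commSub_iff (A : Subgroup G) [A.Normal] (S : Set G) (f : G) :
    f ∈ commSub A S ↔ ∀ v ∈ S, ⁅f, v⁆ ∈ A := Iff.rfl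

end AlperinStep2

section AlperinStep3

variable {G : Type*} [Group G]

/-- conjugate subgroup `g B g⁻¹` -/
def cj (g : G) (B : Subgroup G) : Subgroup G := B.map (MulAut.conj g).toMonoidHom

theorem mem_cj (g : G) (B : Subgroup G) (x : G) : x ∈ cj g B ↔ g⁻¹ * x * g ∈ B := by
  unfold cj
  rw [Subgroup.mem_map_equiv, MulAut.conj_symm_apply]

theorem le_normalizer_of_forall_conj_mem (S F : Subgroup G)
    (h : ∀ s ∈ S, ∀ x ∈ F, s * x * s⁻¹ ∈ F) : S ≤ normalizer (F : Set G) := by
  intro s hs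
  rw [Subgroup.mem_normalizer_iff]
  intro x
  constructor
  · exact h s hs x
  · intro hx
    have := h s⁻¹ (S.inv_mem hs) _ hx
    simpa [mul_assoc] using this

variable [Finite G] {p : ℕ} [hp : Fact p.Prime]

/-- `B` is a one-step enlargement of `A` inside the centralizer of `A`, of exponent dividing `p ^ n` -/
structure IsStepOver (p n : ℕ) (A B : Subgroup G) : Prop where
  le : A ≤ B
  le_cent : B ≤ centralizer (A : Set G)
  card : Nat.card B = p * Nat.card A
  exp : ∀ b ∈ B, b ^ p ^ n = 1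

theorem IsStepOver.lt {n : ℕ} {A B : Subgroup G} (h : IsStepOver p n A B) : A < B := by
  refine lt_of_le_of_ne h.le ?_
  intro hAB
  have h1 := h.card
  rw [← hAB] at h1
  have hpos : 0 < Nat.card A := Nat.card_pos
  have hp2 := hp.out.two_le
  nlinarith

theorem IsStepOver.comm {n : ℕ} {A B : Subgroup G} (h : IsStepOver p n A B) :
    ∀ u ∈ B, ∀ v ∈ B, u * v = v * u := by
  intro u hu v hv
  by_cases huA : u ∈ A
  · exact Subgroup.mem_centralizer_iff.1 (h.le_cent hv) u huA
  · let H : Subgroup G := B ⊓ centralizer {u}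
    have hAH : A < H := by
      refine lt_of_le_of_ne ?_ ?_
      · intro a ha
        refine ⟨h.le ha, ?_⟩
        change a ∈ centralizer {u}
        rw [Subgroup.mem_centralizer_singleton_iff]
        exact (Subgroup.mem_centralizer_iff.1 (h.le_cent hu) a ha)
      · intro hAH
        apply huA
        rw [hAH]
        exact ⟨hu, Subgroup.mem_centralizer_singleton_iff.2 rfl⟩
    have hHB : H = B := eq_of_lt_of_le_of_card_eq_prime_mul A H B hAH inf_le_left h.card
    have : v ∈ H := hHB ▸ hv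
    exact (Subgroup.mem_centralizer_singleton_iff.1 this.2).symm

theorem IsStepOver.conj {n : ℕ} {A B : Subgroup G} [hA : A.Normal] (h : IsStepOver p n A B) (g : G) :
    IsStepOver p n A (cj g B) := by
  refine ⟨?_, ?_, ?_, ?_⟩
  · intro a ha
    rw [mem_cj]
    have := hA.conj_mem a ha g⁻¹
    rw [inv_inv] at this
    exact h.le this
  · intro x hx
    rw [mem_cj] at hx
    have h1 := h.le_cent hx
    have h2 := (inferInstance : (centralizer (A : Set G)).Normal).conj_mem _ h1 g
    have : g * (g⁻¹ * x * g) * g⁻¹ = x := by group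
    rwa [this] at h2
  · unfold cj
    rw [Subgroup.card_map_of_injective (MulAut.conj g).injective]
    exact h.card
  · intro x hx
    rw [mem_cj] at hx
    have h1 := h.exp _ hx
    have : (g⁻¹ * x * g) ^ p ^ n = g⁻¹ * x ^ p ^ n * g := by
      have := conj_pow (a := g⁻¹) (b := x) (i := p ^ n)
      rwa [inv_inv] at this
    rw [this] at h1
    have h3 : x ^ p ^ n = g * (g⁻¹ * x ^ p ^ n * g) * g⁻¹ := by group
    rw [h3, h1]
    group

theorem IsStepOver.pow_mem {n : ℕ} {A B : Subgroup G} [hA : A.Normal] (h : IsStepOver p n A B) :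
    ∀ u ∈ B, u ^ p ∈ A := by
  intro u hu
  haveI : (A.subgroupOf B).Normal := hA.subgroupOf B
  have hidx : (A.subgroupOf B).index = p := by
    have h1 := Subgroup.card_mul_index (A.subgroupOf B)
    have h2 : Nat.card (A.subgroupOf B) = Nat.card A :=
      Nat.card_congr (Subgroup.subgroupOfEquivOfLe h.le).toEquiv
    rw [h2, h.card, mul_comm] at h1
    have hpos : 0 < Nat.card A := Nat.card_pos
    exact Nat.eq_of_mul_eq_mul_right hpos h1
  have := Subgroup.pow_index_mem (A.subgroupOf B) (⟨u, hu⟩ : B)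
  rw [hidx, Subgroup.mem_subgroupOf] at this
  simpa using this

theorem IsStepOver.inf_eq {n : ℕ} {A B₁ B₂ : Subgroup G} (h₁ : IsStepOver p n A B₁)
    (h₂ : IsStepOver p n A B₂) (hne : B₁ ≠ B₂) : B₁ ⊓ B₂ = A := by
  by_contra hcon
  have hlt : A < B₁ ⊓ B₂ := lt_of_le_of_ne (le_inf h₁.le h₂.le) (Ne.symm hcon)
  have h3 : B₁ ⊓ B₂ = B₁ := eq_of_lt_of_le_of_card_eq_prime_mul A _ B₁ hlt inf_le_left h₁.card
  have h4 : B₁ ≤ B₂ := by
    rw [← h3]; exact inf_le_right
  apply hne
  apply Subgroup.eq_of_le_of_card_ge h4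
  rw [h₁.card, h₂.card]

theorem IsStepOver.exists_larger_normalizer (hG : IsPGroup p G) {n : ℕ} (hn : p ^ n ≠ 2)
    (hn1 : n ≠ 0) {A B : Subgroup G} [hA : A.Normal] (hB : IsStepOver p n A B)
    (hN : normalizer (B : Set G) ≠ ⊤) :
    ∃ B' : Subgroup G, IsStepOver p n A B' ∧
      normalizer (B : Set G) < normalizer (B' : Set G) := by
  have hpp : p.Prime := hp.out
  haveI : Group.IsNilpotent G := hG.isNilpotent
  set N : Subgroup G := normalizer (B : Set G) with hNdef
  set N₁ : Subgroup G := normalizer (N : Set G) with hN₁def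
  have hNlt : N < N₁ := Group.normalizerCondition_of_isNilpotent N (lt_top_iff_ne_top.2 hN)
  let fam : N₁ → Subgroup G := fun g => cj (g : G) B
  have hgood : ∀ g, IsStepOver p n A (fam g) := fun g => hB.conj (g : G)
  have hleN : ∀ g, fam g ≤ N := by
    intro g x hx
    rw [mem_cj] at hx
    have h1 : (g : G)⁻¹ * x * g ∈ N := Subgroup.le_normalizer hx
    have h2 := (Subgroup.mem_normalizer_iff.1 g.2 _).1 h1
    have : (g : G) * ((g : G)⁻¹ * x * g) * (g : G)⁻¹ = x := by group
    rwa [this] at h2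
  have hnorm : ∀ g, N ≤ normalizer (fam g : Set G) := by
    intro g m hm
    rw [Subgroup.mem_normalizer_iff]
    intro x
    rw [mem_cj, mem_cj]
    have hg' : (g : G)⁻¹ ∈ N₁ := N₁.inv_mem g.2
    have hm' : (g : G)⁻¹ * m * (g : G)⁻¹⁻¹ ∈ N := (Subgroup.mem_normalizer_iff.1 hg' m).1 hm
    have h3 := Subgroup.mem_normalizer_iff.1 hm' ((g : G)⁻¹ * x * g)
    rw [h3]
    have : (g : G)⁻¹ * m * (g : G)⁻¹⁻¹ * ((g : G)⁻¹ * x * g) * ((g : G)⁻¹ * m * (g : G)⁻¹⁻¹)⁻¹
        = (g : G)⁻¹ * (m * x * m⁻¹) * g := by group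
    rw [this]
  have hcomm : ∀ g h, ∀ u ∈ fam g, ∀ v ∈ fam h, ⁅u, v⁆ ∈ A := by
    intro g h u hu v hv
    by_cases hgh : fam g = fam h
    · have hv' : v ∈ fam g := hgh ▸ hv
      have := (hgood g).comm u hu v hv'
      have h1 : ⁅u, v⁆ = 1 := by
        rw [commutatorElement_eq_one_iff_mul_comm]
        exact this
      rw [h1]
      exact A.one_mem
    · rw [← (hgood g).inf_eq (hgood h) hgh]
      constructor
      · have hvn : v ∈ normalizer (fam g : Set G) := hnorm g (hleN h hv)
        have h1 : v * u⁻¹ * v⁻¹ ∈ fam g :=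
          (Subgroup.mem_normalizer_iff.1 hvn _).1 ((fam g).inv_mem hu)
        have : ⁅u, v⁆ = u * (v * u⁻¹ * v⁻¹) := by
          rw [commutatorElement_def]; group
        rw [this]
        exact (fam g).mul_mem hu h1
      · have hun : u ∈ normalizer (fam h : Set G) := hnorm h (hleN g hu)
        have h1 : u * v * u⁻¹ ∈ fam h := (Subgroup.mem_normalizer_iff.1 hun _).1 hv
        have : ⁅u, v⁆ = (u * v * u⁻¹) * v⁻¹ := by
          rw [commutatorElement_def]
        rw [this]
        exact (fam h).mul_mem h1 ((fam h).inv_mem hv)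
  set F : Subgroup G := ⨆ g, fam g with hFdef
  have hfamF : ∀ g, fam g ≤ F := fun g => le_iSup fam g
  have hFa : F ≤ commSub A (⋃ h, (fam h : Set G)) := by
    apply iSup_le
    intro g u hu
    rw [mem_commSub_iff]
    intro v hv
    obtain ⟨h, hv⟩ := Set.mem_iUnion.1 hv
    exact hcomm g h u hu v hv
  have hFF : F ≤ commSub A (F : Set G) := by
    apply iSup_le
    intro h v hv
    rw [mem_commSub_iff]
    intro f hf
    have h1 := (mem_commSub_iff A _ f).1 (hFa hf) v (Set.mem_iUnion.2 ⟨h, hv⟩)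
    rw [← commutatorElement_inv]
    exact A.inv_mem h1
  have hFc : ∀ f ∈ F, ∀ f' ∈ F, ⁅f, f'⁆ ∈ A := fun f hf f' hf' =>
    (mem_commSub_iff A _ f).1 (hFF hf) f' hf'
  have hFcent : F ≤ centralizer (A : Set G) := iSup_le fun g => (hgood g).le_cent
  have hcommute : ∀ a ∈ A, ∀ f ∈ F, Commute a f := fun a ha f hf =>
    (Subgroup.mem_centralizer_iff.1 (hFcent hf) a ha)
  -- p-th powers of F lie in A
  have hFpow : ∀ f ∈ F, f ^ p ∈ A := by
    intro f hf
    have key : f ∈ F ∧ f ^ p ∈ A := by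
      refine Subgroup.iSup_induction fam (C := fun x => x ∈ F ∧ x ^ p ∈ A) hf ?_ ?_ ?_
      · intro g x hx
        exact ⟨hfamF g hx, (hgood g).pow_mem x hx⟩
      · exact ⟨F.one_mem, by rw [one_pow]; exact A.one_mem⟩
      · rintro x y ⟨hx, hxp⟩ ⟨hy, hyp⟩
        refine ⟨F.mul_mem hx hy, ?_⟩
        have hc : ⁅y, x⁆ ∈ A := hFc y hy x hx
        rw [mul_pow_eq_of_commute x y (hcommute _ hc x hx) (hcommute _ hc y hy) p]
        exact A.mul_mem (A.mul_mem (A.pow_mem hc _) hxp) hyp
    exact key.2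
  have hFexp : ∀ f ∈ F, f ^ p ^ n = 1 := by
    intro f hf
    have key : f ∈ F ∧ f ^ p ^ n = 1 := by
      refine Subgroup.iSup_induction fam (C := fun x => x ∈ F ∧ x ^ p ^ n = 1) hf ?_ ?_ ?_
      · intro g x hx
        exact ⟨hfamF g hx, (hgood g).exp x hx⟩
      · exact ⟨F.one_mem, one_pow _⟩
      · rintro x y ⟨hx, hxp⟩ ⟨hy, hyp⟩
        refine ⟨F.mul_mem hx hy, ?_⟩
        have hc : ⁅y, x⁆ ∈ A := hFc y hy x hx
        have hcp : ⁅y, x⁆ ^ p = 1 := by
          rw [← commutator_pow_left_of_commute x y (hcommute _ hc x hx) (hcommute _ hc y hy) p]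
          rw [commutatorElement_eq_one_iff_mul_comm]
          exact (hcommute _ (hFpow y hy) x hx).eq
        rw [mul_pow_eq_of_commute x y (hcommute _ hc x hx) (hcommute _ hc y hy) (p ^ n), hxp, hyp]
        obtain ⟨k, hk⟩ := prime_dvd_choose_two_pow p n hpp hn hn1
        rw [hk, pow_mul, hcp, one_pow, mul_one, mul_one]
    exact key.2
  have hBF : B ≤ F := by
    have : fam (1 : N₁) = B := by
      ext x
      change x ∈ cj ((1 : N₁) : G) B ↔ _
      rw [mem_cj]
      simp
    rw [← this]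
    exact hfamF 1
  have hAF : A < F := lt_of_lt_of_le hB.lt hBF
  have hFN₁ : F ≤ N₁ := (iSup_le hleN).trans hNlt.le
  have hN₁A : N₁ ≤ normalizer (A : Set G) := by
    rw [Subgroup.normalizer_eq_top_iff.2 hA]
    exact le_top
  have hN₁F : N₁ ≤ normalizer (F : Set G) := by
    apply le_normalizer_of_forall_conj_mem
    intro s hs x hx
    refine Subgroup.iSup_induction fam (C := fun x => s * x * s⁻¹ ∈ F) hx ?_ ?_ ?_
    · intro g y hy
      have : s * y * s⁻¹ ∈ fam (⟨s, hs⟩ * g) := by
        change _ ∈ cj _ B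
        rw [mem_cj]
        change y ∈ cj _ B at hy
        rw [mem_cj] at hy
        have h1 : ((⟨s, hs⟩ * g : N₁) : G)⁻¹ * (s * y * s⁻¹) * ((⟨s, hs⟩ * g : N₁) : G)
            = (g : G)⁻¹ * y * g := by
          simp only [Subgroup.coe_mul]
          group
        rw [h1]
        exact hy
      exact hfamF _ this
    · simp
    · intro x y hx hy
      have : s * (x * y) * s⁻¹ = (s * x * s⁻¹) * (s * y * s⁻¹) := by group
      rw [this]
      exact F.mul_mem hx hy
  obtain ⟨B', h1, h2, h3, h4⟩ := exists_step_normalized hG N₁ A F hAF hFN₁ hN₁A hN₁F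
  exact ⟨B', ⟨h1, h2.trans hFcent, h3, fun b hb => hFexp b (h2 hb)⟩, lt_of_lt_of_le hNlt h4⟩

/-- **Alperin-type step.** Let `A` be an abelian normal subgroup of exponent dividing `p ^ n` of a
finite `p`-group (`p ^ n ≠ 2`), and `x ∉ A` an element of order dividing `p ^ n` centralising `A`.
Then there is a normal subgroup `B` with `A ≤ B ≤ C(A)`, `|B| = p |A|`, of exponent dividing
`p ^ n` (and `B` is abelian by `IsStepOver.comm`). -/
theorem exists_normal_isStepOver (hG : IsPGroup p G) (n : ℕ) (hn : p ^ n ≠ 2) (A : Subgroup G)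
    [hA : A.Normal] (hAc : ∀ a ∈ A, ∀ b ∈ A, a * b = b * a) (hAe : ∀ a ∈ A, a ^ p ^ n = 1)
    (x : G) (hx : x ∈ centralizer (A : Set G)) (hxn : x ^ p ^ n = 1) (hxA : x ∉ A) :
    ∃ B : Subgroup G, B.Normal ∧ IsStepOver p n A B := by
  classical
  have hn1 : n ≠ 0 := by
    rintro rfl
    apply hxA
    rw [pow_zero, pow_one] at hxn
    rw [hxn]
    exact A.one_mem
  -- a first step-over
  have hex : ∃ B : Subgroup G, IsStepOver p n A B := by
    set X : Subgroup G := A ⊔ zpowers x with hX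
    have hAcent : A ≤ centralizer (A : Set G) := by
      intro a ha
      rw [Subgroup.mem_centralizer_iff]
      intro b hb
      exact hAc b hb a ha
    have hXcent : X ≤ centralizer (A : Set G) := by
      apply sup_le hAcent
      rw [Subgroup.zpowers_le]
      exact hx
    have hXexp : ∀ b ∈ X, b ^ p ^ n = 1 := by
      intro b hb
      have hb' : b ∈ ((A ⊔ zpowers x : Subgroup G) : Set G) := hb
      rw [Subgroup.normal_mul] at hb'
      obtain ⟨a, ha, z, hz, rfl⟩ := Set.mem_mul.1 hb'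
      obtain ⟨k, rfl⟩ := Subgroup.mem_zpowers_iff.1 hz
      have hcomm : Commute a (x ^ k) :=
        (Subgroup.mem_centralizer_iff.1 ((centralizer (A : Set G)).zpow_mem hx k) a ha)
      rw [hcomm.mul_pow, hAe a ha, one_mul, ← zpow_natCast, ← zpow_mul, mul_comm, zpow_mul,
        zpow_natCast, hxn, one_zpow]
    have hAX : A < X := by
      refine lt_of_le_of_ne le_sup_left ?_
      intro h
      apply hxA
      rw [h]
      exact (le_sup_right : zpowers x ≤ X) (Subgroup.mem_zpowers x)
    have hXA : X ≤ normalizer (A : Set G) := by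
      rw [Subgroup.normalizer_eq_top_iff.2 hA]
      exact le_top
    obtain ⟨B, h1, h2, h3, -⟩ :=
      exists_step_normalized hG X A X hAX le_rfl hXA Subgroup.le_normalizer
    exact ⟨B, h1, h2.trans hXcent, h3, fun b hb => hXexp b (h2 hb)⟩
  -- choose one with the largest normalizer
  obtain ⟨B, hB, hmax⟩ := Set.exists_max_image {B : Subgroup G | IsStepOver p n A B}
    (fun B => Nat.card (normalizer (B : Set G))) (Set.toFinite _) hex
  refine ⟨B, ?_, hB⟩
  rw [← Subgroup.normalizer_eq_top_iff]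
  by_contra hN
  obtain ⟨B', hB', hlt⟩ := hB.exists_larger_normalizer hG hn hn1 hN
  have h1 := hmax B' hB'
  have h2 : Nat.card (normalizer (B : Set G)) < Nat.card (normalizer (B' : Set G)) := by
    refine lt_of_le_of_ne (Subgroup.card_le_of_le hlt.le) ?_
    intro h
    exact hlt.ne (Subgroup.eq_of_le_of_card_ge hlt.le h.ge)
  exact absurd h1 (not_le.2 h2)

end AlperinStep3

end Cfsg.Agent.Helper22
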