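import Mathlib
import Cfsg.Agent.Lib.Helper22.AlperinStep
import Cfsg.Agent.Lib.Helper19.PGroupBasic

/-!
# Tools for normal elementary abelian subgroups of order `p ^ 4` (helper22 library)
-/

set_option autoImplicit false

namespace Cfsg.Agent.Helper22

open Subgroup
open scoped commutatorElement

section General

variable {G : Type*} [Group G]

theorem cj_le_normalizer (B : Subgroup G) (g : G)
    (hg : g ∈ normalizer ((normalizer (B : Set G) : Subgroup G) : Set G)) :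
    cj g B ≤ normalizer (B : Set G) := by
  intro x hx
  rw [mem_cj] at hx
  have h1 : g⁻¹ * x * g ∈ normalizer (B : Set G) := Subgroup.le_normalizer hx
  have h2 := (Subgroup.mem_normalizer_iff.1 hg _).1 h1
  have : g * (g⁻¹ * x * g) * g⁻¹ = x := by group
  rwa [this] at h2

theorem normalizer_le_normalizer_cj (B : Subgroup G) (g : G)
    (hg : g ∈ normalizer ((normalizer (B : Set G) : Subgroup G) : Set G)) :
    normalizer (B : Set G) ≤ normalizer (cj g B : Set G) := by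
  intro m hm
  rw [Subgroup.mem_normalizer_iff]
  intro x
  rw [mem_cj, mem_cj]
  have hg' : g⁻¹ ∈ normalizer ((normalizer (B : Set G) : Subgroup G) : Set G) := Subgroup.inv_mem _ hg
  have hm' : g⁻¹ * m * g⁻¹⁻¹ ∈ normalizer (B : Set G) := (Subgroup.mem_normalizer_iff.1 hg' m).1 hm
  have h3 := Subgroup.mem_normalizer_iff.1 hm' (g⁻¹ * x * g)
  rw [h3]
  have : g⁻¹ * m * g⁻¹⁻¹ * (g⁻¹ * x * g) * (g⁻¹ * m * g⁻¹⁻¹)⁻¹ = g⁻¹ * (m * x * m⁻¹) * g := by group
  rw [this]

theorem mem_normalizer_of_cj_eq (B : Subgroup G) (g : G) (h : cj g B = B) :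
    g ∈ normalizer (B : Set G) := by
  rw [Subgroup.mem_normalizer_iff]
  intro x
  have h1 : g * x * g⁻¹ ∈ cj g B ↔ x ∈ B := by
    rw [mem_cj]
    have : g⁻¹ * (g * x * g⁻¹) * g = x := by group
    rw [this]
  rw [h] at h1
  exact h1.symm

/-- the join of two mutually normalising abelian subgroups of odd prime exponent has exponent `p` -/
theorem pow_eq_one_of_mem_sup {p : ℕ} (hpp : p.Prime) (hp2 : p ≠ 2) (E₁ E₂ : Subgroup G)
    (h12 : E₁ ≤ normalizer (E₂ : Set G)) (h21 : E₂ ≤ normalizer (E₁ : Set G))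
    (hc1 : ∀ u ∈ E₁, ∀ v ∈ E₁, u * v = v * u) (hc2 : ∀ u ∈ E₂, ∀ v ∈ E₂, u * v = v * u)
    (he1 : ∀ u ∈ E₁, u ^ p = 1) (he2 : ∀ u ∈ E₂, u ^ p = 1) :
    ∀ d ∈ E₁ ⊔ E₂, d ^ p = 1 := by
  intro d hd
  have hd' : d ∈ ((E₁ ⊔ E₂ : Subgroup G) : Set G) := hd
  rw [Subgroup.coe_mul_of_left_le_normalizer_right E₁ E₂ h12] at hd'
  obtain ⟨x, hx, y, hy, rfl⟩ := Set.mem_mul.1 hd'
  have hx' : x ∈ E₁ := hx
  have hy' : y ∈ E₂ := hy
  have hc1' : ⁅y, x⁆ ∈ E₁ := by
    have h1 : y * x * y⁻¹ ∈ E₁ := (Subgroup.mem_normalizer_iff.1 (h21 hy') x).1 hx'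
    rw [commutatorElement_def]
    exact E₁.mul_mem h1 (E₁.inv_mem hx')
  have hc2' : ⁅y, x⁆ ∈ E₂ := by
    have h1 : x * y⁻¹ * x⁻¹ ∈ E₂ := (Subgroup.mem_normalizer_iff.1 (h12 hx') y⁻¹).1 (E₂.inv_mem hy')
    have : ⁅y, x⁆ = y * (x * y⁻¹ * x⁻¹) := by rw [commutatorElement_def]; group
    rw [this]
    exact E₂.mul_mem hy' h1
  have hcx : Commute ⁅y, x⁆ x := hc1 _ hc1' x hx'
  have hcy : Commute ⁅y, x⁆ y := hc2 _ hc2' y hy'
  rw [mul_pow_eq_of_commute x y hcx hcy p, he1 x hx', he2 y hy']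
  have hdvd : p ∣ p.choose 2 := by
    apply hpp.dvd_choose_self (by norm_num)
    have := hpp.two_le
    omega
  obtain ⟨k, hk⟩ := hdvd
  rw [hk, pow_mul, he1 _ hc1', one_pow, mul_one, mul_one]

theorem card_eq_relIndex_mul_card (H K : Subgroup G) (h : H ≤ K) :
    Nat.card K = H.relIndex K * Nat.card H := by
  have h1 := Subgroup.card_mul_index (H.subgroupOf K)
  have h2 : Nat.card (H.subgroupOf K) = Nat.card H :=
    Nat.card_congr (Subgroup.subgroupOfEquivOfLe h).toEquiv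
  rw [h2] at h1
  rw [← h1, mul_comm]
  rfl

/-- If `h ↦ ⁅a, h⁆` maps `H` into `B`, `H` centralises `B`, and the cardinalities match, then every
element of `B` is such a commutator. -/
theorem exists_commutator_eq [Finite G] (a : G) (H B : Subgroup G) (h1 : ∀ h ∈ H, ⁅a, h⁆ ∈ B)
    (h2 : ∀ h ∈ H, ∀ b ∈ B, h * b = b * h)
    (hcard : Nat.card H = Nat.card (H ⊓ centralizer {a} : Subgroup G) * Nat.card B) :
    ∀ b ∈ B, ∃ h ∈ H, ⁅a, h⁆ = b := by
  classical
  let f : H →* B := MonoidHom.mk' (fun h => ⟨⁅a, (h : G)⁆, h1 h h.2⟩) (by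
    intro x y
    apply Subtype.ext
    have hxy : (x : G) * ⁅a, (y : G)⁆ = ⁅a, (y : G)⁆ * x := h2 x x.2 _ (h1 y y.2)
    change ⁅a, (x : G) * (y : G)⁆ = ⁅a, (x : G)⁆ * ⁅a, (y : G)⁆
    have : ⁅a, (x : G) * (y : G)⁆ = ⁅a, (x : G)⁆ * ((x : G) * ⁅a, (y : G)⁆ * (x : G)⁻¹) := by
      simp only [commutatorElement_def]; group
    rw [this, hxy, mul_inv_cancel_right])
  have hker : f.ker = (H ⊓ centralizer {a} : Subgroup G).subgroupOf H := by
    ext x
    rw [MonoidHom.mem_ker, Subgroup.mem_subgroupOf, Subgroup.mem_inf]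
    have hx1 : f x = 1 ↔ ⁅a, (x : G)⁆ = 1 := by
      rw [Subtype.ext_iff]
      rfl
    rw [hx1, commutatorElement_eq_one_iff_mul_comm, Subgroup.mem_centralizer_singleton_iff]
    constructor
    · intro h
      exact ⟨x.2, h.symm⟩
    · intro h
      exact h.2.symm
  have hrange : f.range = ⊤ := by
    apply Subgroup.eq_top_of_card_eq
    have h3 : Nat.card H = Nat.card f.ker * Nat.card f.range := by
      have := Subgroup.card_eq_card_quotient_mul_card_subgroup f.ker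
      rw [this, Nat.card_congr (QuotientGroup.quotientKerEquivRange f).toEquiv, mul_comm]
    have h4 : Nat.card f.ker = Nat.card (H ⊓ centralizer {a} : Subgroup G) := by
      rw [hker]
      exact Nat.card_congr (Subgroup.subgroupOfEquivOfLe inf_le_left).toEquiv
    rw [h4, hcard] at h3
    have hpos : 0 < Nat.card (H ⊓ centralizer {a} : Subgroup G) := Nat.card_pos
    exact (Nat.eq_of_mul_eq_mul_left hpos h3).symm
  intro b hb
  have : (⟨b, hb⟩ : B) ∈ f.range := hrange ▸ Subgroup.mem_top _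
  obtain ⟨h, hh⟩ := this
  exact ⟨h, h.2, congrArg Subtype.val hh⟩

end General

section PGroup

variable {G : Type*} [Group G] [Finite G] {p : ℕ} [hp : Fact p.Prime]

/-- If `K ≤ A` are normal in a `p`-group with `|A| = p |K|`, then `[A, G] ≤ K`. -/
theorem commutator_mem_of_card_eq_prime_mul (hG : IsPGroup p G) (K A : Subgroup G) [hK : K.Normal]
    [hA : A.Normal] (hKA : K ≤ A) (hcard : Nat.card A = p * Nat.card K) (a : G) (ha : a ∈ A)
    (g : G) : ⁅a, g⁆ ∈ K := by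
  have hpp : p.Prime := hp.out
  have hQ : IsPGroup p (G ⧸ K) := hG.to_quotient K
  set Ab : Subgroup (G ⧸ K) := A.map (QuotientGroup.mk' K) with hAb
  haveI hAbn : Ab.Normal := hA.map (QuotientGroup.mk' K) (QuotientGroup.mk'_surjective K)
  have hne : K ≠ A := by
    intro h
    rw [← h] at hcard
    have hpos : 0 < Nat.card K := Nat.card_pos
    have := hpp.two_le
    nlinarith
  have hAbne : Ab ≠ ⊥ := by
    intro h
    apply hne
    apply le_antisymm hKA
    intro x hx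
    have h1 : (QuotientGroup.mk' K) x ∈ Ab := mem_map_of_mem _ hx
    rw [h, Subgroup.mem_bot] at h1
    exact (QuotientGroup.eq_one_iff x).1 h1
  have hZ := Cfsg.Agent.Helper19.normal_inf_center_ne_bot hQ Ab hAbne
  set Z₁ : Subgroup G := (Ab ⊓ center (G ⧸ K)).comap (QuotientGroup.mk' K) with hZ₁
  have hKZ : K ≤ Z₁ := by
    intro x hx
    rw [hZ₁, Subgroup.mem_comap]
    have : (QuotientGroup.mk' K) x = 1 := (QuotientGroup.eq_one_iff x).2 hx
    rw [this]
    exact Subgroup.one_mem _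
  have hZA : Z₁ ≤ A := by
    intro x hx
    rw [hZ₁, Subgroup.mem_comap] at hx
    obtain ⟨y, hy, hyx⟩ := Subgroup.mem_map.1 hx.1
    have h1 : y⁻¹ * x ∈ K := by
      rw [← QuotientGroup.eq_one_iff, QuotientGroup.mk_mul, QuotientGroup.mk_inv]
      change ((QuotientGroup.mk' K) y)⁻¹ * (QuotientGroup.mk' K) x = 1
      rw [hyx, inv_mul_cancel]
    have : x = y * (y⁻¹ * x) := by group
    rw [this]
    exact A.mul_mem hy (hKA h1)
  have hKne : K ≠ Z₁ := by
    intro h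
    apply hZ
    rw [eq_bot_iff]
    intro q hq
    obtain ⟨x, rfl⟩ := QuotientGroup.mk'_surjective K q
    have hx : x ∈ Z₁ := by
      rw [hZ₁, Subgroup.mem_comap]
      exact hq
    rw [← h] at hx
    rw [Subgroup.mem_bot]
    exact (QuotientGroup.eq_one_iff x).2 hx
  have hZeq : Z₁ = A :=
    eq_of_lt_of_le_of_card_eq_prime_mul K Z₁ A (lt_of_le_of_ne hKZ hKne) hZA hcard
  have haZ : a ∈ Z₁ := hZeq ▸ ha
  rw [hZ₁, Subgroup.mem_comap] at haZ
  have hcen := Subgroup.mem_center_iff.1 haZ.2 ((QuotientGroup.mk' K) g)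
  rw [← QuotientGroup.eq_one_iff]
  change (QuotientGroup.mk' K) ⁅a, g⁆ = 1
  rw [map_commutatorElement, commutatorElement_eq_one_iff_mul_comm]
  exact hcen.symm

end PGroup

end Cfsg.Agent.Helper22
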