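import Mathlib
import Cfsg.Agent.Lib.Helper22.RankFour

/-!
# More tools on elementary abelian subgroups (helper22 library)
-/

set_option autoImplicit false

namespace Cfsg.Agent.Helper22

open Subgroup
open scoped commutatorElement

section General

variable {G : Type*} [Group G]

/-- If `h ↦ ⁅a, h⁆` maps `H` into `B` and `H` centralises `B` then `|H| ≤ |C_H(a)| |B|`. -/
theorem card_le_card_inf_centralizer_mul [Finite G] (a : G) (H B : Subgroup G)
    (h1 : ∀ h ∈ H, ⁅a, h⁆ ∈ B) (h2 : ∀ h ∈ H, ∀ b ∈ B, h * b = b * h) :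
    Nat.card H ≤ Nat.card (H ⊓ centralizer {a} : Subgroup G) * Nat.card B := by
  classical
  let f : H →* B := MonoidHom.mk' (fun h => ⟨⁅a, (h : G)⁆, h1 h h.2⟩) (by
    intro x y
    apply Subtype.ext
    have hxy : (x : G) * ⁅a, (y : G)⁆ = ⁅a, (y : G)⁆ * x := h2 x x.2 _ (h1 y y.2)
    change ⁅a, (x : G) * (y : G)⁆ = ⁅a, (x : G)⁆ * ⁅a, (y : G)⁆
    have : ⁅a, (x : G) * (y : G)⁆ = ⁅a, (x : G)⁆ * ((x : G) * ⁅a, (y : G)⁆ * (x : G)⁻¹) := by
      simp only [commutatorElement_def]; group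
    rw [this, hxy, mul_inv_cancel_right])
  have hker : f.ker = (H ⊓ centralizer {a} : Subgroup G).subgroupOf H := by
    ext x
    rw [MonoidHom.mem_ker, Subgroup.mem_subgroupOf, Subgroup.mem_inf]
    have hx1 : f x = 1 ↔ ⁅a, (x : G)⁆ = 1 := by
      rw [Subtype.ext_iff]
      rfl
    rw [hx1, commutatorElement_eq_one_iff_mul_comm, Subgroup.mem_centralizer_singleton_iff]
    constructor
    · intro h
      exact ⟨x.2, h.symm⟩
    · intro h
      exact h.2.symm
  have h3 : Nat.card H = Nat.card f.ker * Nat.card f.range := by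
    have := Subgroup.card_eq_card_quotient_mul_card_subgroup f.ker
    rw [this, Nat.card_congr (QuotientGroup.quotientKerEquivRange f).toEquiv, mul_comm]
  have h4 : Nat.card f.ker = Nat.card (H ⊓ centralizer {a} : Subgroup G) := by
    rw [hker]
    exact Nat.card_congr (Subgroup.subgroupOfEquivOfLe inf_le_left).toEquiv
  rw [h3, h4]
  exact Nat.mul_le_mul_left _ (Subgroup.card_le_card_group _)

/-- the join of two elementwise commuting abelian subgroups of exponent `m` -/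
theorem comm_and_pow_of_mem_sup (m : ℕ) (E₁ E₂ : Subgroup G)
    (h12 : ∀ u ∈ E₁, ∀ v ∈ E₂, u * v = v * u)
    (hc1 : ∀ u ∈ E₁, ∀ v ∈ E₁, u * v = v * u) (hc2 : ∀ u ∈ E₂, ∀ v ∈ E₂, u * v = v * u)
    (he1 : ∀ u ∈ E₁, u ^ m = 1) (he2 : ∀ u ∈ E₂, u ^ m = 1) :
    (∀ u ∈ E₁ ⊔ E₂, ∀ v ∈ E₁ ⊔ E₂, u * v = v * u) ∧ ∀ u ∈ E₁ ⊔ E₂, u ^ m = 1 := by
  have hnorm : E₁ ≤ normalizer (E₂ : Set G) := by
    intro u hu
    rw [Subgroup.mem_normalizer_iff]
    intro v
    constructor
    · intro hv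
      have : u * v * u⁻¹ = v := by rw [h12 u hu v hv, mul_inv_cancel_right]
      rwa [this]
    · intro hv
      have h1 := h12 u⁻¹ (E₁.inv_mem hu) _ hv
      have : v = u⁻¹ * (u * v * u⁻¹) * u⁻¹⁻¹ := by group
      rw [this, h1]
      simpa using hv
  have hmem : ∀ x ∈ E₁ ⊔ E₂, ∃ e ∈ E₁, ∃ b ∈ E₂, x = e * b := by
    intro x hx
    have hx' : x ∈ ((E₁ ⊔ E₂ : Subgroup G) : Set G) := hx
    rw [Subgroup.coe_mul_of_left_le_normalizer_right E₁ E₂ hnorm] at hx'
    obtain ⟨e, he, b, hb, rfl⟩ := Set.mem_mul.1 hx'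
    exact ⟨e, he, b, hb, rfl⟩
  constructor
  · intro u hu v hv
    obtain ⟨e, he, b, hb, rfl⟩ := hmem u hu
    obtain ⟨e', he', b', hb', rfl⟩ := hmem v hv
    have c1 : Commute e e' := hc1 e he e' he'
    have c2 : Commute e b' := h12 e he b' hb'
    have c3 : Commute b e' := (h12 e' he' b hb).symm
    have c4 : Commute b b' := hc2 b hb b' hb'
    exact ((c1.mul_right c2).mul_left (c3.mul_right c4)).eq
  · intro u hu
    obtain ⟨e, he, b, hb, rfl⟩ := hmem u hu
    have c : Commute e b := h12 e he b hb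
    rw [c.mul_pow, he1 e he, he2 b hb, one_mul]

end General

end Cfsg.Agent.Helper22
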