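import Mathlib
import Cfsg.Agent.Lib.Helper14.BGUniqO
import Cfsg.Agent.Lib.Helper8.RankTwoAut
import Cfsg.Agent.Lib.Helper7.Transitivity
import Cfsg.Agent.S0024
import Cfsg.Agent.S0025

/-!
# Bender-Glauberman Lemma 9.5, second half, part A (helper22)

The focal part `P ∩ N_G(P)'` of a Sylow `p`-subgroup centralizes every `P`-invariant
`q`-subgroup of a maximal subgroup `H ≥ N_G(P)` of `q`-rank at most two.
-/

set_option autoImplicit false

namespace Cfsg.Agent.Helper22.BG95

open Cfsg Subgroup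
open Cfsg.Agent.Helper14.BGTrans Cfsg.Agent.Helper14.BGUniq
open Cfsg.Agent.Helper15 (IsSylowIn isSylowIn_of_sylow_le isSylowIn_map_subtype
  map_conj_eq_of_mem_normalizer map_conj_map_conj
  map_conj_map_conj_inv map_conj_inv_map_conj isPGroup_map_conj map_conj_mono
  map_conj_eq_self_of_mem)

universe u

variable {G : Type u} [Group G] [Finite G]

/-- the focal part `P ∩ N_G(P)'` -/
def focal (P : Subgroup G) : Subgroup G :=
  P ⊓ ⁅normalizer (P : Set G), normalizer (P : Set G)⁆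

omit [Finite G] in
theorem focal_le (P : Subgroup G) : focal P ≤ P := inf_le_left

omit [Finite G] in
theorem le_normalizer_commutator_self (N : Subgroup G) :
    N ≤ normalizer ((⁅N, N⁆ : Subgroup G) : Set G) := by
  intro n hn
  apply Cfsg.Agent.Helper15.mem_normalizer_of_map_conj_eq
  rw [Subgroup.map_commutator, map_conj_eq_self_of_mem hn]

omit [Finite G] in
theorem normalizer_le_normalizer_focal (P : Subgroup G) :
    normalizer (P : Set G) ≤ normalizer ((focal P : Subgroup G) : Set G) :=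
  (le_inf le_rfl (le_normalizer_commutator_self _)).trans
    Subgroup.inf_normalizer_le_normalizer_inf

/-- Frattini argument for invariant Sylow subgroups under coprime action. -/
theorem exists_mul_of_inv_sylow {p q : ℕ} [Fact p.Prime] [Fact q.Prime] {P X R : Subgroup G}
    (hPp : IsPGroup p ↥P) (hXp : (Nat.card ↥X).Coprime p)
    (hPX : P ≤ normalizer (X : Set G)) (hRS : IsSylowIn q R X)
    (hPR : P ≤ normalizer (R : Set G))
    {n : G} (hnP : n ∈ normalizer (P : Set G)) (hnX : n ∈ normalizer (X : Set G)) :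
    ∃ m ∈ normalizer (P : Set G) ⊓ normalizer (R : Set G),
      ∃ y ∈ X ⊓ centralizer (P : Set G), n = m * y := by
  have hpp : p.Prime := Fact.out
  have hcop : (Nat.card ↥P).Coprime (Nat.card ↥X) := by
    obtain ⟨k, hk⟩ := hPp.exists_card_eq
    rw [hk]
    exact (Nat.Coprime.pow_left k hXp.symm)
  have hsolv : Group.IsSolvable ↥P ∨ Group.IsSolvable ↥X := Or.inl (isSolvable_of_isPGroup hPp)
  set R' := R.map (MulAut.conj n⁻¹).toMonoidHom with hR'
  have hninv : n⁻¹ ∈ normalizer (X : Set G) := inv_mem hnX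
  have hninvP : n⁻¹ ∈ normalizer (P : Set G) := inv_mem hnP
  have hR'S : IsSylowIn q R' X := hRS.map_conj_of_mem_normalizer hninv
  have hPR' : P ≤ normalizer (R' : Set G) := by
    have h1 := map_conj_le_normalizer_map_conj hPR n⁻¹
    rwa [map_conj_eq_of_mem_normalizer hninvP] at h1
  obtain ⟨R₁, R₂, hRR₁, hRR₂, hR₁X, hR₂X, hR₁q, hR₂q, -, -, h, hh, hconj⟩ :=
    Cfsg.Agent.Helper7.exists_conj_invariant_sylow P X hPX hcop hsolv q R R' hRS.le hR'S.le
      hRS.isPGroup hR'S.isPGroup hPR hPR'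
  have e1 : R₁ = R := hRS.eq_of_le hR₁q hRR₁ hR₁X
  have e2 : R₂ = R' := hR'S.eq_of_le hR₂q hRR₂ hR₂X
  rw [e1, e2] at hconj
  have hhP : h ∈ normalizer (P : Set G) := centralizer_le_normalizer (P : Set G) (mem_inf.mp hh).2
  refine ⟨n * h, mem_inf.mpr ⟨mul_mem hnP hhP, ?_⟩, h⁻¹, inv_mem hh, by group⟩
  apply mem_normalizer_of_map_conj_eq
  rw [← map_conj_map_conj, hconj, hR', map_conj_map_conj_inv]


/-- a `p`-element acting on a `q`-group with image in a `q`-group acts trivially -/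
theorem eq_one_of_pow_of_isPGroup {Γ : Type*} [Group Γ] {p q : ℕ} [Fact p.Prime] [Fact q.Prime]
    (hqp : q ≠ p) {S : Subgroup Γ} (hS : IsPGroup q ↥S) {g : Γ} (hg : g ∈ S) {k : ℕ}
    (hk : g ^ p ^ k = 1) : g = 1 := by
  have hpp : p.Prime := Fact.out
  have hqq : q.Prime := Fact.out
  obtain ⟨j, hj⟩ := hS ⟨g, hg⟩
  have hj' : g ^ q ^ j = 1 := by
    have := congrArg Subtype.val hj
    simpa using this
  have h1 : orderOf g ∣ p ^ k := orderOf_dvd_of_pow_eq_one hk
  have h2 : orderOf g ∣ q ^ j := orderOf_dvd_of_pow_eq_one hj'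
  have h3 : orderOf g ∣ Nat.gcd (p ^ k) (q ^ j) := Nat.dvd_gcd h1 h2
  have h4 : Nat.gcd (p ^ k) (q ^ j) = 1 :=
    Nat.Coprime.pow k j ((Nat.coprime_primes hpp hqq).mpr (Ne.symm hqp))
  rw [h4, Nat.dvd_one] at h3
  exact orderOf_eq_one_iff.mp h3

/-- **BG 9.5, step (5b)**: the focal part of `P` centralizes every `P`-invariant `q`-subgroup of a
proper subgroup `H ≥ N_G(P)` of `q`-rank at most two. -/
theorem focal_le_centralizer (hG : IsMinSimpleOddOrder G) {p q : ℕ} [Fact p.Prime] [Fact q.Prime]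
    (hqp : q ≠ p) (P : Sylow p G) {H : Subgroup G} (hH : H ≠ ⊤)
    (hNH : normalizer ((P : Subgroup G) : Set G) ≤ H) (hr : PRankLE q 2 ↥H)
    {Y : Subgroup G} (hYH : Y ≤ H) (hYq : IsPGroup q ↥Y)
    (hPY : (P : Subgroup G) ≤ normalizer (Y : Set G)) :
    focal (P : Subgroup G) ≤ centralizer (Y : Set G) := by
  classical
  have hpp : p.Prime := Fact.out
  have hqq : q.Prime := Fact.out
  by_cases hY1 : Y = ⊥
  · rw [hY1]
    intro x _
    rw [Subgroup.mem_centralizer_iff]
    intro y hy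
    have : y = 1 := by simpa using hy
    rw [this]; simp
  by_cases hP1 : (P : Subgroup G) = ⊥
  · intro x hx
    have hx1 : x ∈ (P : Subgroup G) := hx.1
    rw [hP1, Subgroup.mem_bot] at hx1
    rw [hx1]; exact one_mem _
  have hPp : IsPGroup p ↥(P : Subgroup G) := P.isPGroup'
  have hpG : p ∣ Nat.card G := by
    rcases hPp.card_eq_or_dvd with h | h
    · exact absurd (Subgroup.card_eq_one.mp h) hP1
    · exact h.trans (Subgroup.card_subgroup_dvd_card _)
  have hqG : q ∣ Nat.card G := by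
    rcases hYq.card_eq_or_dvd with h | h
    · exact absurd (Subgroup.card_eq_one.mp h) hY1
    · exact h.trans (Subgroup.card_subgroup_dvd_card _)
  have hq2 : q ≠ 2 := prime_ne_two_of_dvd hG hqG
  have hPH : (P : Subgroup G) ≤ H := Subgroup.le_normalizer.trans hNH
  have hSyl : IsSylowIn p (P : Subgroup G) H := isSylowIn_of_sylow_le P hPH
  set X : Subgroup G := (pPrimeCore p ↥H).map H.subtype with hX
  have hYcop : (Nat.card ↥Y).Coprime p := by
    obtain ⟨k, hk⟩ := hYq.exists_card_eq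
    rw [hk]
    exact Nat.Coprime.pow_left k ((Nat.coprime_primes hqq hpp).mpr hqp)
  have hYX : Y ≤ X := le_pPrimeCore_map_of_sylow_inv hG hH hpG hSyl hYH hYcop hPY
  have hHX : H ≤ normalizer (X : Set G) := le_normalizer_pPrimeCore_map p H
  have hXH : X ≤ H := Subgroup.map_subtype_le _
  have hPX : (P : Subgroup G) ≤ normalizer (X : Set G) := hPH.trans hHX
  have hXcop : (Nat.card ↥X).Coprime p := card_pPrimeCore_map_coprime p H
  have hcop : (Nat.card ↥(P : Subgroup G)).Coprime (Nat.card ↥X) := by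
    obtain ⟨k, hk⟩ := hPp.exists_card_eq
    rw [hk]
    exact Nat.Coprime.pow_left k hXcop.symm
  have hsolv : Group.IsSolvable ↥(P : Subgroup G) ∨ Group.IsSolvable ↥X :=
    Or.inl (isSolvable_of_isPGroup hPp)
  obtain ⟨Q₁, hYQ, hPQ⟩ :=
    Cfsg.Agent.S0025.result (P : Subgroup G) X hPX hcop hsolv q Y hYX hYq hPY
  set R : Subgroup G := (Q₁ : Subgroup ↥X).map X.subtype with hR
  have hRX : R ≤ X := Subgroup.map_subtype_le _
  have hRq : IsPGroup q ↥R := Q₁.isPGroup'.map _
  have hRS : IsSylowIn q R X := isSylowIn_map_subtype Q₁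
  set N : Subgroup G := normalizer ((P : Subgroup G) : Set G) with hN
  set N₁ : Subgroup G := N ⊓ normalizer (R : Set G) with hN₁
  set C : Subgroup G := X ⊓ centralizer ((P : Subgroup G) : Set G) with hC
  have hfr : ∀ n ∈ N, ∃ m ∈ N₁, ∃ y ∈ C, n = m * y := fun n hn =>
    exists_mul_of_inv_sylow hPp hXcop hPX hRS hPQ hn (hHX (hNH hn))
  have hCN : C ≤ N := inf_le_right.trans (centralizer_le_normalizer _)
  have hNC : N ≤ normalizer (C : Set G) :=
    (le_inf ((hNH.trans hHX)) (normalizer_le_normalizer_centralizer _)).trans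
      Subgroup.inf_normalizer_le_normalizer_inf
  have hCcop : (Nat.card ↥C).Coprime p :=
    Nat.Coprime.coprime_dvd_left (Subgroup.card_dvd_of_le inf_le_left) hXcop
  -- the focal part lies in the derived group of `N₁`
  have hD : ∀ x ∈ focal (P : Subgroup G), x ∈ ⁅N₁, N₁⁆ := by
    intro x hx
    have hxP : x ∈ (P : Subgroup G) := hx.1
    obtain ⟨k, hk⟩ := (IsPGroup.iff_orderOf.mp hPp) ⟨x, hxP⟩
    have hk' : orderOf x = p ^ k := by
      rw [← hk]; exact (Subgroup.orderOf_mk x hxP).symm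
    refine mem_commutator_of_frattini (N := N) (Y := C) (M := N₁) hCN inf_le_left hNC hfr
      (mem_inf.mpr ⟨Subgroup.le_normalizer hxP, hPQ hxP⟩) hx.2 ?_
    rw [hk']
    exact Nat.Coprime.pow_left k hCcop.symm
  -- the action of `N₁` on `R`
  have hN₁R : N₁ ≤ normalizer (R : Set G) := inf_le_right
  have hN₁H : N₁ ≤ H := inf_le_left.trans hNH
  let φ : ↥N₁ →* MulAut ↥R := R.normalizerMonoidHom.comp (Subgroup.inclusion hN₁R)
  have hsolvH : Group.IsSolvable ↥H := isSolvable_of_ne_top hG hH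
  have hsolvN₁ : Group.IsSolvable ↥N₁ :=
    Group.isSolvable_of_isSolvable_injective (f := Subgroup.inclusion hN₁H)
      (Subgroup.inclusion_injective hN₁H)
  have hsolvΓ : Group.IsSolvable ↥φ.range :=
    Group.isSolvable_of_surjective (f := φ.rangeRestrict) φ.rangeRestrict_surjective
  have hoddΓ : Odd (Nat.card ↥φ.range) := by
    have h1 : Nat.card ↥φ.range ∣ Nat.card ↥N₁ := Subgroup.card_range_dvd φ
    have h2 : Nat.card ↥N₁ ∣ Nat.card G := Subgroup.card_subgroup_dvd_card _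
    exact Odd.of_dvd_nat hG.1 (h1.trans h2)
  have hrR : PRankLE q 2 ↥R :=
    pRankLE_of_injective' (Subgroup.inclusion (hRX.trans hXH))
      (Subgroup.inclusion_injective _) hr
  have hΓ : IsPGroup q ↥(commutator ↥φ.range) :=
    Cfsg.Agent.Helper8.RankTwo.derived_isPGroup q hq2 hRq hrR hsolvΓ hoddΓ φ.range.subtype
      φ.range.subtype_injective
  intro x hx
  have hxN₁' := hD x hx
  have hxP : x ∈ (P : Subgroup G) := hx.1
  have hxN₁ : x ∈ N₁ := mem_inf.mpr ⟨Subgroup.le_normalizer hxP, hPQ hxP⟩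
  have hxc : (⟨x, hxN₁⟩ : ↥N₁) ∈ commutator ↥N₁ := by
    have h1 : x ∈ (commutator ↥N₁).map N₁.subtype := by
      rw [Subgroup.map_subtype_commutator]; exact hxN₁'
    obtain ⟨x', hx'c, hx'x⟩ := h1
    have : x' = ⟨x, hxN₁⟩ := Subtype.ext hx'x
    rwa [this] at hx'c
  have hφc : φ.rangeRestrict ⟨x, hxN₁⟩ ∈ commutator ↥φ.range := by
    have h1 : (commutator ↥N₁).map φ.rangeRestrict ≤ commutator ↥φ.range := by
      rw [_root_.commutator_def, _root_.commutator_def, Subgroup.map_commutator]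
      exact Subgroup.commutator_mono le_top le_top
    exact h1 ⟨_, hxc, rfl⟩
  obtain ⟨k, hk⟩ := hPp ⟨x, hxP⟩
  have hxk : x ^ p ^ k = 1 := by
    have := congrArg Subtype.val hk
    simpa using this
  have hφk : (φ.rangeRestrict ⟨x, hxN₁⟩) ^ p ^ k = 1 := by
    rw [← map_pow]
    have : (⟨x, hxN₁⟩ : ↥N₁) ^ p ^ k = 1 := Subtype.ext (by simpa using hxk)
    rw [this, map_one]
  have hφ1 : φ.rangeRestrict ⟨x, hxN₁⟩ = 1 := eq_one_of_pow_of_isPGroup hqp hΓ hφc hφk
  have hφ1' : φ ⟨x, hxN₁⟩ = 1 := by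
    have := congrArg Subtype.val hφ1
    simpa using this
  have hker : Subgroup.inclusion hN₁R ⟨x, hxN₁⟩ ∈ R.normalizerMonoidHom.ker := hφ1'
  rw [Subgroup.normalizerMonoidHom_ker, Subgroup.mem_subgroupOf] at hker
  have hxR : x ∈ centralizer (R : Set G) := hker
  exact Subgroup.centralizer_le (by exact_mod_cast hYQ) hxR

end Cfsg.Agent.Helper22.BG95
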