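import Mathlib
import Cfsg.Agent.Lib.Helper22.BG95A
import Cfsg.Agent.Lib.Helper7.CoprimeGen2
import Cfsg.Agent.S1398
import Cfsg.Agent.S1401

/-!
# Bender-Glauberman Lemma 9.5, second half, part B (helper22)

All maximal subgroups containing `C_G(A)` coincide, given that each of them contains `N_G(P)` and
that those with Fitting subgroup of rank at most two lie in `N_G(P ∩ N_G(P)')`.
-/

set_option autoImplicit false

namespace Cfsg.Agent.Helper22.BG95

open Cfsg Subgroup
open Cfsg.Agent.Helper14.BGTrans Cfsg.Agent.Helper14.BGUniq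
open Cfsg.Agent.Helper15 (IsSylowIn isSylowIn_of_sylow_le isSylowIn_map_subtype isSylowIn_top
  map_conj_eq_of_mem_normalizer map_conj_map_conj
  map_conj_map_conj_inv map_conj_inv_map_conj isPGroup_map_conj map_conj_mono
  map_conj_eq_self_of_mem)

universe u

variable {G : Type u} [Group G] [Finite G]

/-- **BG 9.5, step (5a)**: if `r_q(F(M)) ≥ 3`, every other maximal subgroup `H` containing `P`
(with `N_G(P) ≤ M`) has `q`-rank at most two. -/
theorem pRankLE_of_ne (hG : IsMinSimpleOddOrder G) {p q : ℕ} [Fact p.Prime] [Fact q.Prime]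
    (P : Sylow p G) {M H : Subgroup G} (hM : IsCoatom M) (hH : IsCoatom H)
    (hNM : normalizer ((P : Subgroup G) : Set G) ≤ M) (hPH : (P : Subgroup G) ≤ H)
    (hF : ¬ PRankLE q 2 ↥(fittingOf M)) (hne : H ≠ M) : PRankLE q 2 ↥H := by
  by_contra hH3
  obtain ⟨E', hE'H, hE'e, hE'c⟩ := exists_elemAb_of_not_pRankLE hH3
  obtain ⟨E, hEF, hEe, hEc⟩ := exists_elemAb_of_not_pRankLE hF
  have hEM : E ≤ M := hEF.trans (Cfsg.Agent.Helper8.FitPrime.fittingOf_le M)
  have hE'U : InUniqueMaximal E' :=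
    Cfsg.Agent.S1401.result hG M hM q hF E' (isPGroup_of_isElementaryAbelian hE'e) hE'e.1
      (not_pRankLE_of_le le_rfl hE'e hE'c)
  have hEU : InUniqueMaximal E :=
    Cfsg.Agent.S1401.result hG M hM q hF E (isPGroup_of_isElementaryAbelian hEe) hEe.1
      (not_pRankLE_of_le le_rfl hEe hEc)
  have huE : ∀ K : Subgroup G, IsCoatom K ∧ E ≤ K → K = M := by
    obtain ⟨M', -, hu⟩ := hEU
    intro K hK
    rw [hu K hK, hu M ⟨hM, hEM⟩]
  have huE' : ∀ K : Subgroup G, IsCoatom K ∧ E' ≤ K → K = H := by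
    obtain ⟨M', -, hu⟩ := hE'U
    intro K hK
    rw [hu K hK, hu H ⟨hH, hE'H⟩]
  obtain ⟨S, hES⟩ := (isPGroup_of_isElementaryAbelian hEe).exists_le_sylow
  obtain ⟨S', hE'S'⟩ := (isPGroup_of_isElementaryAbelian hE'e).exists_le_sylow
  have hSM : (S : Subgroup G) ≤ M :=
    le_of_inUniqueMaximal (ne_top_of_isPGroup hG S.isPGroup') hES huE
  obtain ⟨g, -, hg⟩ := (isSylowIn_top S').exists_conj (isSylowIn_top S)
  have h1 : E'.map (MulAut.conj g).toMonoidHom ≤ M :=
    ((map_conj_mono hE'S' g).trans hg.le).trans hSM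
  -- `M = H^g`
  have h2 : M.map (MulAut.conj g⁻¹).toMonoidHom = H := by
    apply huE'
    refine ⟨isCoatom_map_conj hM g⁻¹, ?_⟩
    have := map_conj_mono h1 g⁻¹
    rwa [map_conj_inv_map_conj] at this
  have hPM : (P : Subgroup G) ≤ M := Subgroup.le_normalizer.trans hNM
  have h3 : (P : Subgroup G).map (MulAut.conj g).toMonoidHom ≤ M := by
    have := map_conj_mono hPH g
    rwa [← h2, map_conj_map_conj_inv] at this
  have hS1 : IsSylowIn p (P : Subgroup G) M := isSylowIn_of_sylow_le P hPM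
  have hS2 : IsSylowIn p ((P : Subgroup G).map (MulAut.conj g).toMonoidHom) M :=
    ((isSylowIn_top P).map_conj_of_mem (Subgroup.mem_top g)).of_le h3 le_top
  obtain ⟨k, hkM, hk⟩ := hS2.exists_conj hS1
  rw [map_conj_map_conj] at hk
  have hkg : k * g ∈ M := hNM (mem_normalizer_of_map_conj_eq hk)
  have hgM : g ∈ M := by
    have := M.mul_mem (M.inv_mem hkM) hkg
    simpa using this
  apply hne
  rw [← h2]
  exact map_conj_eq_self_of_mem (M.inv_mem hgM)


omit [Finite G] in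
/-- `A ∈ SCN(P)` is abelian -/
theorem isMulCommutative_of_isSCN {P A : Subgroup G} (hA : IsSCN P A) : IsMulCommutative ↥A := by
  refine ⟨⟨fun a b => ?_⟩⟩
  have hb : (b : G) ∈ P ⊓ centralizer (A : Set G) := by rw [hA.2.2]; exact b.2
  have := (Subgroup.mem_centralizer_iff.mp hb.2) a a.2
  exact Subtype.ext this

/-- **BG 9.5, steps (5c), (5d)**: for a maximal subgroup `M ≥ C_G(A)` with `r_q(F(M)) ≥ 3`, the
focal part of `P` centralizes `O_q(M)`. -/
theorem focal_le_centralizer_pCoreOf (hG : IsMinSimpleOddOrder G) (p : ℕ) [Fact p.Prime]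
    (P : Sylow p G) (A : Subgroup G) (hA : IsSCN (P : Subgroup G) A) (hA3 : ¬ PRankLE p 2 ↥A)
    (hnU : ¬ InUniqueMaximal A)
    (hNP : ∀ M : Subgroup G, IsCoatom M → centralizer (A : Set G) ≤ M →
      normalizer ((P : Subgroup G) : Set G) ≤ M)
    {M : Subgroup G} (hM : IsCoatom M) (hCM : centralizer (A : Set G) ≤ M)
    {q : ℕ} [Fact q.Prime] (hqp : q ≠ p) (hF : ¬ PRankLE q 2 ↥(fittingOf M)) :
    focal (P : Subgroup G) ≤ centralizer ((Cfsg.Agent.Helper8.FitPrime.pCoreOf q M : Subgroup G) : Set G) := by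
  classical
  have hpp : p.Prime := Fact.out
  have hqq : q.Prime := Fact.out
  set Q : Subgroup G := Cfsg.Agent.Helper8.FitPrime.pCoreOf q M with hQ
  have hQq : IsPGroup q ↥Q := Cfsg.Agent.Helper8.FitPrime.pCoreOf_isPGroup q M
  have hMQ : M ≤ normalizer (Q : Set G) := le_normalizer_pCoreOf q M
  have hNM : normalizer ((P : Subgroup G) : Set G) ≤ M := hNP M hM hCM
  have hPM : (P : Subgroup G) ≤ M := Subgroup.le_normalizer.trans hNM
  have hAP : A ≤ (P : Subgroup G) := hA.1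
  obtain ⟨A₁, hA₁A, hA₁e, hA₁c⟩ := exists_elemAb_of_not_pRankLE hA3
  have hA₁Q : A₁ ≤ normalizer (Q : Set G) := ((hA₁A.trans hAP).trans hPM).trans hMQ
  have hQp : ¬ p ∣ Nat.card ↥Q := by
    obtain ⟨k, hk⟩ := hQq.exists_card_eq
    rw [hk]
    intro h
    exact hqp ((Nat.prime_dvd_prime_iff_eq hpp hqq).mp (hpp.dvd_of_dvd_pow h)).symm
  have hgen : Q ≤ Cfsg.Agent.Helper7.hyperGen p A₁ Q :=
    Cfsg.Agent.Helper7.le_hyperGen p A₁ Q hA₁e hQp hA₁Q
  -- it suffices to show that `Q` centralizes the focal part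
  suffices hsuff : Q ≤ centralizer ((focal (P : Subgroup G) : Subgroup G) : Set G) by
    intro d hd
    rw [Subgroup.mem_centralizer_iff]
    intro x hx
    exact ((Subgroup.mem_centralizer_iff.mp (hsuff hx)) d hd).symm
  refine hgen.trans ?_
  unfold Cfsg.Agent.Helper7.hyperGen
  apply iSup_le
  rintro ⟨B, hBA₁, hBidx⟩
  show Q ⊓ centralizer (B : Set G) ≤ _
  have hBe : IsElementaryAbelian p B := isElementaryAbelian_of_le hBA₁ hA₁e
  have hBc : p < Nat.card ↥B := by
    have h1 := Cfsg.Agent.Helper7.relIndex_mul_card_of_le hBA₁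
    by_contra hle
    push Not at hle
    have h2 : B.relIndex A₁ * Nat.card ↥B ≤ p * p := Nat.mul_le_mul hBidx hle
    rw [h1] at h2
    have : p ^ 2 = p * p := by ring
    omega
  have hBnc : ¬ IsCyclic ↥B := not_isCyclic_of_isElementaryAbelian hBe hBc
  have hBA : B ≤ A := hBA₁.trans hA₁A
  have hBM : B ≤ M := (hBA.trans hAP).trans hPM
  -- some `b ∈ B` has its centralizer outside `M`
  have hex : ∃ b ∈ B, b ≠ 1 ∧ ¬ centralizer ({b} : Set G) ≤ M := by
    by_contra hcon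
    push Not at hcon
    apply hnU
    have hBU : InUniqueMaximal B :=
      Cfsg.Agent.S1398.result hG M hM p B hBM hBe hBnc (Or.inl hcon)
    exact inUniqueMaximal_of_le hM (hAP.trans hPM) hBA hBU
  obtain ⟨b, hbB, hb1, hbM⟩ := hex
  obtain ⟨H, hH, hbH⟩ := exists_isCoatom_ge (centralizer_singleton_ne_top hG hb1)
  have hHM : H ≠ M := fun h => hbM (h ▸ hbH)
  have hCH : centralizer (A : Set G) ≤ H :=
    (centralizer_le_centralizer_singleton (hBA hbB)).trans hbH
  have hNH : normalizer ((P : Subgroup G) : Set G) ≤ H := hNP H hH hCH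
  have hPH : (P : Subgroup G) ≤ H := Subgroup.le_normalizer.trans hNH
  have hrH : PRankLE q 2 ↥H := pRankLE_of_ne hG P hM hH hNM hPH hF hHM
  have hPY : (P : Subgroup G) ≤ normalizer ((Q ⊓ H : Subgroup G) : Set G) :=
    (le_inf (hPM.trans hMQ) (hPH.trans Subgroup.le_normalizer)).trans
      Subgroup.inf_normalizer_le_normalizer_inf
  have hfoc : focal (P : Subgroup G) ≤ centralizer ((Q ⊓ H : Subgroup G) : Set G) :=
    focal_le_centralizer hG hqp P hH.1 hNH hrH inf_le_right (hQq.to_le inf_le_left) hPY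
  intro x hx
  have hxQ : x ∈ Q := hx.1
  have hxb : x ∈ centralizer ({b} : Set G) :=
    Subgroup.centralizer_le (by
      intro y hy
      rw [Set.mem_singleton_iff] at hy
      rw [hy]; exact hbB) hx.2
  have hxH : x ∈ H := hbH hxb
  rw [Subgroup.mem_centralizer_iff]
  intro d hd
  exact ((Subgroup.mem_centralizer_iff.mp (hfoc hd)) x (mem_inf.mpr ⟨hxQ, hxH⟩)).symm


/-- **BG 9.5, step (5e)**, one maximal subgroup: either `M = N_G(D)`, or `N_G(D) ≤ M` and `N_G(D)`
contains a subgroup whose only maximal overgroup is `M` (`D` the focal part of `P`). -/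
theorem eq_normalizer_focal_or (hG : IsMinSimpleOddOrder G) (p : ℕ) [Fact p.Prime]
    (P : Sylow p G) (A : Subgroup G) (hA : IsSCN (P : Subgroup G) A) (hA3 : ¬ PRankLE p 2 ↥A)
    (hnU : ¬ InUniqueMaximal A) (hD : focal (P : Subgroup G) ≠ ⊥)
    (hNP : ∀ M : Subgroup G, IsCoatom M → centralizer (A : Set G) ≤ M →
      normalizer ((P : Subgroup G) : Set G) ≤ M)
    (hα : ∀ M : Subgroup G, IsCoatom M → centralizer (A : Set G) ≤ M →
      RankLE 2 ↥(fittingOf M) → M ≤ normalizer ((focal (P : Subgroup G) : Subgroup G) : Set G))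
    {M : Subgroup G} (hM : IsCoatom M) (hCM : centralizer (A : Set G) ≤ M) :
    M = normalizer ((focal (P : Subgroup G) : Subgroup G) : Set G) ∨
      (normalizer ((focal (P : Subgroup G) : Subgroup G) : Set G) ≤ M ∧
        ∃ E : Subgroup G, E ≤ normalizer ((focal (P : Subgroup G) : Subgroup G) : Set G) ∧
          ∀ K : Subgroup G, IsCoatom K ∧ E ≤ K → K = M) := by
  classical
  have hDN : normalizer ((focal (P : Subgroup G) : Subgroup G) : Set G) ≠ ⊤ :=
    normalizer_ne_top_of_isPGroup hG (P.isPGroup'.to_le (focal_le _)) hD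
  by_cases hr : RankLE 2 ↥(fittingOf M)
  · left
    exact ((hM.le_iff_eq hDN).mp (hα M hM hCM hr)).symm
  · right
    unfold RankLE at hr
    push Not at hr
    obtain ⟨q, hq, hFq⟩ := hr
    have : Fact q.Prime := ⟨hq⟩
    have hAc : IsMulCommutative ↥A := isMulCommutative_of_isSCN hA
    have hAp : IsPGroup p ↥A := P.isPGroup'.to_le hA.1
    have hqp : q ≠ p := by
      rintro rfl
      exact hnU (Cfsg.Agent.S1401.result hG M hM q hFq A hAp hAc hA3)
    have hfoc := focal_le_centralizer_pCoreOf hG p P A hA hA3 hnU hNP hM hCM hqp hFq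
    obtain ⟨E, hEF, hEe, hEc⟩ := exists_elemAb_of_not_pRankLE hFq
    have hEM : E ≤ M := hEF.trans (Cfsg.Agent.Helper8.FitPrime.fittingOf_le M)
    have hEU : InUniqueMaximal E :=
      Cfsg.Agent.S1401.result hG M hM q hFq E (isPGroup_of_isElementaryAbelian hEe) hEe.1
        (not_pRankLE_of_le le_rfl hEe hEc)
    have huE : ∀ K : Subgroup G, IsCoatom K ∧ E ≤ K → K = M := by
      obtain ⟨M', -, hu⟩ := hEU
      intro K hK
      rw [hu K hK, hu M ⟨hM, hEM⟩]
    have hEQ : E ≤ Cfsg.Agent.Helper8.FitPrime.pCoreOf q M := by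
      intro x hx
      refine mem_pCoreOf_of_mem_fittingOf q (hEF hx) ⟨1, ?_⟩
      rw [pow_one]; exact hEe.2 x hx
    have hEN : E ≤ normalizer ((focal (P : Subgroup G) : Subgroup G) : Set G) := by
      refine le_trans ?_ (centralizer_le_normalizer _)
      intro x hx
      rw [Subgroup.mem_centralizer_iff]
      intro d hd
      exact ((Subgroup.mem_centralizer_iff.mp (hfoc hd)) x (hEQ hx)).symm
    exact ⟨le_of_inUniqueMaximal hDN hEN huE, E, hEN, huE⟩

/-- **BG 9.5, second half**: all maximal subgroups containing `C_G(A)` coincide. -/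
theorem eq_of_centralizer_le (hG : IsMinSimpleOddOrder G) (p : ℕ) [Fact p.Prime]
    (P : Sylow p G) (A : Subgroup G) (hA : IsSCN (P : Subgroup G) A) (hA3 : ¬ PRankLE p 2 ↥A)
    (hnU : ¬ InUniqueMaximal A) (hD : focal (P : Subgroup G) ≠ ⊥)
    (hNP : ∀ M : Subgroup G, IsCoatom M → centralizer (A : Set G) ≤ M →
      normalizer ((P : Subgroup G) : Set G) ≤ M)
    (hα : ∀ M : Subgroup G, IsCoatom M → centralizer (A : Set G) ≤ M →
      RankLE 2 ↥(fittingOf M) → M ≤ normalizer ((focal (P : Subgroup G) : Subgroup G) : Set G)) :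
    ∀ M₁ M₂ : Subgroup G, IsCoatom M₁ → IsCoatom M₂ → centralizer (A : Set G) ≤ M₁ →
      centralizer (A : Set G) ≤ M₂ → M₁ = M₂ := by
  intro M₁ M₂ hM₁ hM₂ hC₁ hC₂
  rcases eq_normalizer_focal_or hG p P A hA hA3 hnU hD hNP hα hM₁ hC₁ with h1 | ⟨h1, E₁, hE₁, hu₁⟩
  · rcases eq_normalizer_focal_or hG p P A hA hA3 hnU hD hNP hα hM₂ hC₂ with
      h2 | ⟨h2, E₂, hE₂, hu₂⟩
    · rw [h1, h2]
    · exact hu₂ M₁ ⟨hM₁, h1 ▸ hE₂⟩
  · rcases eq_normalizer_focal_or hG p P A hA hA3 hnU hD hNP hα hM₂ hC₂ with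
      h2 | ⟨h2, E₂, hE₂, hu₂⟩
    · exact (hu₁ M₂ ⟨hM₂, h2 ▸ hE₁⟩).symm
    · exact (hu₁ M₂ ⟨hM₂, hE₁.trans h2⟩).symm

end Cfsg.Agent.Helper22.BG95
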