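import Mathlib
import Cfsg.Prelude.Def_PLocal
import Cfsg.Agent.Lib.Helper1.RankTwoOmega
import Cfsg.Agent.Lib.Helper19.PGroupBasic
import Cfsg.Agent.Lib.Helper22.OddCyclicMax

/-!
# `p`-groups in which the subgroups of exponent `p` have order at most `p²`

`SmallOmega p R`: every subgroup of `R` all of whose elements have order dividing `p` has order at
most `p²`.  For `p > 3` and a `p`-group this is equivalent to `|Ω₁(R)| ≤ p²`, and the property
passes to quotients (Bender–Glauberman, Lemma 4.8(a) style).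
-/

set_option autoImplicit false

namespace Cfsg.Agent.Helper22

open Subgroup
open scoped commutatorElement

universe u

/-- Every subgroup of exponent dividing `p` has order at most `p²`. -/
def SmallOmega (p : ℕ) (R : Type*) [Group R] : Prop :=
  ∀ K : Subgroup R, (∀ x ∈ K, x ^ p = 1) → Nat.card K ≤ p ^ 2

section Basic

variable {R : Type*} [Group R] {p : ℕ}

theorem smallOmega_of_card_omegaOne [Finite R]
    (h : Nat.card (Cfsg.omegaOne p (⊤ : Subgroup R)) ≤ p ^ 2) : SmallOmega p R := by
  intro K hK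
  have hle : K ≤ Cfsg.omegaOne p (⊤ : Subgroup R) := by
    intro x hx
    exact Subgroup.subset_closure ⟨Subgroup.mem_top x, hK x hx⟩
  exact (Subgroup.card_le_of_le hle).trans h

theorem SmallOmega.rank (hS : SmallOmega p R) :
    ∀ E : Subgroup R, Cfsg.IsElementaryAbelian p E → Nat.card E ≤ p ^ 2 :=
  fun E hE => hS E hE.2

theorem card_omegaOne_le [Finite R] [Fact p.Prime] (hp3 : 3 < p) (hR : IsPGroup p R)
    (hS : SmallOmega p R) : Nat.card (Cfsg.omegaOne p (⊤ : Subgroup R)) ≤ p ^ 2 := by
  apply hS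
  intro x hx
  apply Cfsg.Agent.Helper1.pow_prime_eq_one_of_mem_closure_of_rank hp3 hR hS.rank x
  refine Subgroup.closure_mono ?_ hx
  rintro y ⟨-, hy⟩
  exact hy

theorem SmallOmega.of_injective {S : Type*} [Group S] (f : S →* R) (hf : Function.Injective f)
    (hS : SmallOmega p R) : SmallOmega p S := by
  intro K hK
  have h := hS (K.map f) (by
    rintro _ ⟨x, hx, rfl⟩
    rw [← map_pow, hK x hx, map_one])
  rwa [Subgroup.card_map_of_injective hf] at h

theorem SmallOmega.subgroup (hS : SmallOmega p R) (H : Subgroup R) : SmallOmega p H :=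
  hS.of_injective H.subtype H.subtype_injective

end Basic

section Core

variable {S : Type*} [Group S] {p : ℕ}

/-- If `S/Z` has exponent `p` and class at most two, for a central subgroup `Z` of exponent `p`,
and `p > 3`, then the `p`-th power map of `S` is multiplicative. -/
theorem mul_pow_prime_of_central_quotient [Fact p.Prime] (hp3 : 3 < p)
    (Z : Subgroup S) (hZc : Z ≤ center S) (hZp : ∀ z ∈ Z, z ^ p = 1)
    (hexp : ∀ x : S, x ^ p ∈ Z) (hcl : ⁅commutator S, (⊤ : Subgroup S)⁆ ≤ Z) (x y : S) :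
    (x * y) ^ p = x ^ p * y ^ p := by
  have hp : p.Prime := Fact.out
  have hcl3 : ⁅⁅commutator S, (⊤ : Subgroup S)⁆, (⊤ : Subgroup S)⁆ = ⊥ := by
    rw [Subgroup.commutator_eq_bot_iff_le_centralizer, Subgroup.coe_top,
      Subgroup.centralizer_univ]
    exact hcl.trans hZc
  have hcm : ⁅y, x⁆ ∈ commutator S :=
    Subgroup.commutator_mem_commutator (Subgroup.mem_top y) (Subgroup.mem_top x)
  have hdZ : ⁅⁅y, x⁆, x⁆ ∈ Z := hcl (Subgroup.commutator_mem_commutator hcm (Subgroup.mem_top x))
  have heZ : ⁅⁅y, x⁆, y⁆ ∈ Z := hcl (Subgroup.commutator_mem_commutator hcm (Subgroup.mem_top y))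
  have hec : ∀ g : S, Commute ⁅⁅y, x⁆, y⁆ g := fun g =>
    (Subgroup.mem_center_iff.mp (hZc heZ) g).symm
  have hc : ⁅y, x⁆ ^ p = 1 := by
    have h := Cfsg.Agent.Helper1.ClassThree.pow_y_mul_x x y ⁅y, x⁆ ⁅⁅y, x⁆, y⁆ hec
      (Cfsg.Agent.Helper1.ClassThree.rel_yx x y)
      (Cfsg.Agent.Helper1.ClassThree.rel_c _ y _ hec rfl) p
    obtain ⟨k, hk⟩ := Cfsg.Agent.Helper1.ClassThree.prime_dvd_choose_two hp (by omega)
    rw [hk, pow_mul, hZp _ heZ, one_pow, mul_one] at h
    have hyc : y ^ p * x = x * y ^ p := (Subgroup.mem_center_iff.mp (hZc (hexp y)) x).symm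
    rw [hyc, mul_assoc] at h
    have h2 : (1 : S) * (x * y ^ p) = ⁅y, x⁆ ^ p * (x * y ^ p) := by rw [one_mul]; exact h
    exact (mul_right_cancel h2).symm
  exact Cfsg.Agent.Helper1.ClassThree.mul_pow_prime hp hp3 hcl3 x y hc (hZp _ hdZ) (hZp _ heZ)

/-- Counting: if the `p`-th power map is multiplicative with values in a subgroup of order `p`,
its kernel is a subgroup of exponent `p` of index at most `p`. -/
theorem exists_exponent_subgroup [Finite S] (Z : Subgroup S) (hZ : Nat.card Z ≤ p)
    (hexp : ∀ x : S, x ^ p ∈ Z) (hmul : ∀ x y : S, (x * y) ^ p = x ^ p * y ^ p) :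
    ∃ K : Subgroup S, (∀ x ∈ K, x ^ p = 1) ∧ Nat.card S ≤ p * Nat.card K := by
  let f : S →* S := MonoidHom.mk' (fun x => x ^ p) hmul
  refine ⟨f.ker, fun x hx => hx, ?_⟩
  have h1 : Nat.card f.range ≤ p := by
    refine le_trans (Subgroup.card_le_of_le ?_) hZ
    rintro _ ⟨x, rfl⟩
    exact hexp x
  have h2 : Nat.card f.ker * f.ker.index = Nat.card S := Subgroup.card_mul_index _
  rw [Subgroup.index_ker] at h2
  rw [← h2, mul_comm]
  exact Nat.mul_le_mul_right _ h1

end Core

section ClassBound

variable {G : Type*} [Group G] [Finite G] {p : ℕ} [Fact p.Prime]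

/-- A `p`-group of order at most `p²` is commutative. -/
theorem mul_comm_of_card_le_sq (hG : IsPGroup p G) (h : Nat.card G ≤ p ^ 2) (a b : G) :
    a * b = b * a := by
  have hp : p.Prime := Fact.out
  obtain ⟨k, hk⟩ := IsPGroup.iff_card.mp hG
  have hk2 : k ≤ 2 := by
    rw [hk] at h
    exact (Nat.pow_le_pow_iff_right hp.one_lt).mp h
  interval_cases k
  · rw [pow_zero] at hk
    haveI : Subsingleton G := (Nat.card_eq_one_iff_unique.mp hk).1
    exact Subsingleton.elim _ _
  · rw [pow_one] at hk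
    haveI : IsCyclic G := isCyclic_of_prime_card hk
    obtain ⟨g, hg⟩ := IsCyclic.exists_generator (α := G)
    obtain ⟨i, rfl⟩ := Subgroup.mem_zpowers_iff.mp (hg a)
    obtain ⟨j, rfl⟩ := Subgroup.mem_zpowers_iff.mp (hg b)
    rw [← zpow_add, ← zpow_add, add_comm]
  · exact (IsPGroup.isMulCommutative_of_card_eq_prime_sq hk).is_comm.comm a b

/-- A `p`-group of order at most `p³` has class at most two. -/
theorem commutator_le_center_of_card_le_cube (hG : IsPGroup p G) (h : Nat.card G ≤ p ^ 3) :
    commutator G ≤ center G := by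
  have hp : p.Prime := Fact.out
  by_cases htriv : Subsingleton G
  · intro x _
    rw [Subsingleton.elim x 1]
    exact one_mem _
  rw [not_subsingleton_iff_nontrivial] at htriv
  haveI := htriv
  haveI : Nontrivial (center G) := hG.center_nontrivial
  have hc : p ≤ Nat.card (center G) := by
    obtain ⟨k, hk⟩ := IsPGroup.iff_card.mp (hG.to_subgroup (center G))
    have hk0 : k ≠ 0 := by
      rintro rfl
      rw [pow_zero] at hk
      have := Finite.one_lt_card (α := center G)
      omega
    rw [hk]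
    calc p = p ^ 1 := (pow_one p).symm
      _ ≤ p ^ k := Nat.pow_le_pow_right hp.pos (Nat.one_le_iff_ne_zero.mpr hk0)
  have hq : Nat.card (G ⧸ center G) ≤ p ^ 2 := by
    have h1 : Nat.card (G ⧸ center G) * Nat.card (center G) = Nat.card G :=
      (Subgroup.card_eq_card_quotient_mul_card_subgroup (center G)).symm
    have h2 : Nat.card (G ⧸ center G) * p ≤ p ^ 2 * p := by
      calc Nat.card (G ⧸ center G) * p ≤ Nat.card (G ⧸ center G) * Nat.card (center G) :=
            Nat.mul_le_mul_left _ hc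
        _ = Nat.card G := h1
        _ ≤ p ^ 3 := h
        _ = p ^ 2 * p := by ring
    exact Nat.le_of_mul_le_mul_right h2 hp.pos
  rw [commutator_def, Subgroup.commutator_le]
  intro a _ b _
  have hab := mul_comm_of_card_le_sq (hG.to_quotient (center G)) hq
    (QuotientGroup.mk' (center G) a) (QuotientGroup.mk' (center G) b)
  have h3 : (QuotientGroup.mk' (center G)) ⁅a, b⁆ = 1 := by
    rw [map_commutatorElement, commutatorElement_eq_one_iff_mul_comm]
    exact hab
  exact (QuotientGroup.eq_one_iff _).mp h3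

/-- A subgroup of order at most `p³` of a `p`-group has class at most two (subgroup form). -/
theorem commutator_commutator_eq_bot_of_card_le_cube (hG : IsPGroup p G) (K : Subgroup G)
    (h : Nat.card K ≤ p ^ 3) : ⁅⁅K, K⁆, K⁆ = ⊥ := by
  have h1 := commutator_le_center_of_card_le_cube (hG.to_subgroup K) h
  rw [Subgroup.commutator_eq_bot_iff_le_centralizer, Subgroup.commutator_le]
  intro a ha b hb
  have h2 : (⁅(⟨a, ha⟩ : K), ⟨b, hb⟩⁆ : K) ∈ center K :=
    h1 (Subgroup.commutator_mem_commutator (Subgroup.mem_top _) (Subgroup.mem_top _))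
  rw [Subgroup.mem_centralizer_iff]
  intro c hc
  have h3 := Subgroup.mem_center_iff.mp h2 ⟨c, hc⟩
  exact congrArg Subtype.val h3

end ClassBound

section Quotient

variable {R : Type u} [Group R] [Finite R] {p : ℕ} [Fact p.Prime]

/-- Central step: a subgroup of exponent `p` and class at most two of `R/Z`, `|Z| = p`, has order at
most `p²`. -/
theorem card_le_sq_of_class_two (hp3 : 3 < p) (hR : IsPGroup p R) (hS : SmallOmega p R)
    (Z : Subgroup R) [Z.Normal] (hZ : Nat.card Z = p) (K : Subgroup (R ⧸ Z))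
    (hK : ∀ x ∈ K, x ^ p = 1) (hK2 : ⁅⁅K, K⁆, K⁆ = ⊥) : Nat.card K ≤ p ^ 2 := by
  have hp : p.Prime := Fact.out
  have hZcen : Z ≤ center R := Cfsg.Agent.Helper19.normal_card_prime_le_center hR Z hZ
  set S : Subgroup R := K.comap (QuotientGroup.mk' Z) with hSdef
  have hZS : Z ≤ S := by
    intro z hz
    rw [hSdef, Subgroup.mem_comap]
    have : (QuotientGroup.mk' Z) z = 1 := (QuotientGroup.eq_one_iff z).mpr hz
    rw [this]
    exact one_mem _
  let φ : S →* R ⧸ Z := (QuotientGroup.mk' Z).comp S.subtype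
  have hφK : ∀ s : S, φ s ∈ K := fun s => s.2
  set Zs : Subgroup S := Z.subgroupOf S with hZs
  have hker : φ.ker = Zs := by
    ext s
    rw [MonoidHom.mem_ker, hZs, Subgroup.mem_subgroupOf]
    exact QuotientGroup.eq_one_iff (s : R)
  have hrange : φ.range = K := by
    ext k
    constructor
    · rintro ⟨s, rfl⟩
      exact hφK s
    · intro hk
      obtain ⟨r, rfl⟩ := QuotientGroup.mk'_surjective Z k
      exact ⟨⟨r, hk⟩, rfl⟩
  have hZsc : Zs ≤ center S := by
    intro z hz
    rw [Subgroup.mem_center_iff]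
    intro g
    apply Subtype.ext
    have h1 := Subgroup.mem_center_iff.mp (hZcen (Subgroup.mem_subgroupOf.mp hz)) (g : R)
    simpa using h1
  have hZscard : Nat.card Zs = p := by
    rw [hZs, Nat.card_congr (Subgroup.subgroupOfEquivOfLe hZS).toEquiv, hZ]
  have hZsp : ∀ z ∈ Zs, z ^ p = 1 := by
    intro z hz
    have h1 : (⟨z, hz⟩ : Zs) ^ Nat.card Zs = 1 := pow_card_eq_one'
    rw [hZscard] at h1
    have h2 := congrArg Subtype.val h1
    simpa using h2
  have hexp : ∀ x : S, x ^ p ∈ Zs := by
    intro x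
    rw [← hker, MonoidHom.mem_ker, map_pow]
    exact hK _ (hφK x)
  have hcl : ⁅commutator S, (⊤ : Subgroup S)⁆ ≤ Zs := by
    rw [← hker]
    have h1 : (⁅commutator S, (⊤ : Subgroup S)⁆).map φ = ⊥ := by
      rw [Subgroup.map_commutator, commutator_def, Subgroup.map_commutator,
        ← MonoidHom.range_eq_map, hrange, hK2]
    exact (Subgroup.map_eq_bot_iff _).mp h1
  have hmul := mul_pow_prime_of_central_quotient hp3 Zs hZsc hZsp hexp hcl
  obtain ⟨K₀, hK₀, hcard⟩ := exists_exponent_subgroup Zs hZscard.le hexp hmul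
  have hK₀le : Nat.card K₀ ≤ p ^ 2 := (hS.subgroup S) K₀ hK₀
  have hSK : Nat.card S = Nat.card K * p := by
    have h2 : Nat.card φ.ker * φ.ker.index = Nat.card S := Subgroup.card_mul_index _
    rw [Subgroup.index_ker, hker, hZscard, hrange, mul_comm] at h2
    exact h2.symm
  have h3 : Nat.card K * p ≤ p ^ 2 * p := by
    rw [← hSK]
    calc Nat.card S ≤ p * Nat.card K₀ := hcard
      _ ≤ p * p ^ 2 := Nat.mul_le_mul_left _ hK₀le
      _ = p ^ 2 * p := mul_comm _ _
  exact Nat.le_of_mul_le_mul_right h3 hp.pos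

/-- Quotient by a normal subgroup of order `p`. -/
theorem SmallOmega.quotient_of_card_prime (hp3 : 3 < p) (hR : IsPGroup p R) (hS : SmallOmega p R)
    (Z : Subgroup R) [Z.Normal] (hZ : Nat.card Z = p) : SmallOmega p (R ⧸ Z) := by
  have hrk : ∀ E : Subgroup (R ⧸ Z), Cfsg.IsElementaryAbelian p E → Nat.card E ≤ p ^ 2 := by
    intro E hE
    apply card_le_sq_of_class_two hp3 hR hS Z hZ E hE.2
    have h1 : ⁅E, E⁆ = ⊥ := by
      rw [Subgroup.commutator_eq_bot_iff_le_centralizer]
      intro a ha
      rw [Subgroup.mem_centralizer_iff]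
      intro b hb
      have := hE.1.is_comm.comm (⟨b, hb⟩ : E) ⟨a, ha⟩
      exact congrArg Subtype.val this
    rw [h1, Subgroup.commutator_bot_left]
  intro K hK
  have hQ : IsPGroup p (R ⧸ Z) := hR.to_quotient Z
  have h3 : Nat.card K ≤ p ^ 3 := by
    apply Cfsg.Agent.Helper1.card_le_cube_of_exponent_of_rank (hQ.to_subgroup K)
    · intro g
      exact Subtype.ext (by simpa using hK g g.2)
    · exact Cfsg.Agent.Helper1.rank_le_of_subgroup K hrk
  exact card_le_sq_of_class_two hp3 hR hS Z hZ K hK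
    (commutator_commutator_eq_bot_of_card_le_cube hQ K h3)

theorem smallOmega_quotient_aux (hp3 : 3 < p) : ∀ (n : ℕ) (R : Type u) [Group R] [Finite R],
    Nat.card R = n → IsPGroup p R → SmallOmega p R → ∀ (T : Subgroup R) [T.Normal],
    SmallOmega p (R ⧸ T) := by
  intro n
  induction n using Nat.strong_induction_on with
  | _ n ih =>
    intro R _ _ hn hR hS T _
    have hp : p.Prime := Fact.out
    by_cases hbot : T = ⊥
    · subst hbot
      exact hS.of_injective (QuotientGroup.quotientBot (G := R)).toMonoidHom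
        (QuotientGroup.quotientBot (G := R)).injective
    · obtain ⟨Z, hZn, -, hZT, hZc⟩ := exists_normal_step hR T ⊥ bot_le (Ne.symm hbot)
      haveI := hZn
      rw [Subgroup.card_bot, mul_one] at hZc
      have hQ : IsPGroup p (R ⧸ Z) := hR.to_quotient Z
      have hSQ : SmallOmega p (R ⧸ Z) := hS.quotient_of_card_prime hp3 hR Z hZc
      have hlt : Nat.card (R ⧸ Z) < n := by
        have h1 : Nat.card (R ⧸ Z) * Nat.card Z = Nat.card R :=
          (Subgroup.card_eq_card_quotient_mul_card_subgroup Z).symm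
        rw [hZc, hn] at h1
        have hpos : 0 < Nat.card (R ⧸ Z) := Nat.card_pos
        have h2 : 1 < p := hp.one_lt
        nlinarith
      haveI : (T.map (QuotientGroup.mk' Z)).Normal :=
        Subgroup.Normal.map inferInstance _ (QuotientGroup.mk'_surjective Z)
      have h3 := ih _ hlt (R ⧸ Z) rfl hQ hSQ (T.map (QuotientGroup.mk' Z))
      exact h3.of_injective (QuotientGroup.quotientQuotientEquivQuotient Z T hZT).symm.toMonoidHom
        (QuotientGroup.quotientQuotientEquivQuotient Z T hZT).symm.injective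

/-- For `p > 3`, the property `SmallOmega` of a `p`-group passes to all quotients. -/
theorem SmallOmega.quotient (hp3 : 3 < p) (hR : IsPGroup p R) (hS : SmallOmega p R)
    (T : Subgroup R) [T.Normal] : SmallOmega p (R ⧸ T) :=
  smallOmega_quotient_aux hp3 _ R rfl hR hS T

end Quotient

end Cfsg.Agent.Helper22
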