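import Mathlib
import Cfsg.Prelude.Def_OddOrderLocal
import Cfsg.Agent.Lib.Helper22.SmallOmega
import Cfsg.Agent.Lib.Helper21.PGroupFrattini

/-!
# Huppert's criterion (Bender–Glauberman 4.8(b)): `|Ω₁(R)| ≤ p²`, `p > 3` ⟹ `R` metacyclic
-/

set_option autoImplicit false

namespace Cfsg.Agent.Helper22

open Subgroup
open scoped commutatorElement

universe u

section Frat

variable {R : Type*} [Group R] [Finite R] {p : ℕ} [Fact p.Prime]

theorem mul_card_le_card_of_lt (hR : IsPGroup p R) {H K : Subgroup R} (h : H < K) :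
    p * Nat.card H ≤ Nat.card K := by
  have hp : p.Prime := Fact.out
  obtain ⟨a, ha⟩ := IsPGroup.iff_card.mp (hR.to_subgroup K)
  have hdvd : Nat.card H ∣ Nat.card K := Subgroup.card_dvd_of_le h.le
  rw [ha] at hdvd
  obtain ⟨b, hb, hHb⟩ := (Nat.dvd_prime_pow hp).1 hdvd
  have hne : Nat.card H ≠ Nat.card K := by
    intro h'
    exact h.ne (Subgroup.eq_of_le_of_card_ge h.le h'.symm.le)
  have hba : b < a := by
    rcases hb.lt_or_eq with h' | h'
    · exact h'
    · exfalso; apply hne; rw [hHb, ha, h']
  rw [hHb, ha, ← pow_succ']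
  exact Nat.pow_le_pow_right hp.pos hba

theorem frattini_ne_top [Nontrivial R] : frattini R ≠ ⊤ := by
  rcases IsCoatomic.eq_top_or_exists_le_coatom (⊥ : Subgroup R) with h | ⟨M, hM, -⟩
  · exact absurd h bot_ne_top
  · intro h
    have := frattini_le_coatom hM
    rw [h, top_le_iff] at this
    exact hM.1 this

theorem exists_not_mem_frattini [Nontrivial R] : ∃ x : R, x ∉ frattini R := by
  by_contra hcon
  apply frattini_ne_top (R := R)
  rw [eq_top_iff]
  intro x _
  by_contra hx
  exact hcon ⟨x, hx⟩

theorem exists_two_gen (hR : IsPGroup p R) (hidx : Nat.card R ≤ p ^ 2 * Nat.card (frattini R))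
    (x : R) (hx : x ∉ frattini R) : ∃ y : R, closure {x, y} = ⊤ := by
  have h1 : frattini R < zpowers x ⊔ frattini R := by
    refine lt_of_le_of_ne le_sup_right ?_
    intro h
    apply hx
    rw [h]
    exact (le_sup_left : zpowers x ≤ _) (mem_zpowers x)
  by_cases htop : zpowers x ⊔ frattini R = ⊤
  · refine ⟨x, ?_⟩
    have := frattini_nongenerating htop
    rw [Set.pair_eq_singleton, ← zpowers_eq_closure]
    exact this
  · obtain ⟨y, hy⟩ : ∃ y : R, y ∉ zpowers x ⊔ frattini R := by
      by_contra hcon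
      apply htop
      rw [eq_top_iff]
      intro y _
      by_contra hy
      exact hcon ⟨y, hy⟩
    refine ⟨y, ?_⟩
    apply frattini_nongenerating
    have h2 : zpowers x ⊔ frattini R < closure {x, y} ⊔ frattini R := by
      refine lt_of_le_of_ne (sup_le_sup_right ?_ _) ?_
      · rw [zpowers_le]
        exact subset_closure (Set.mem_insert x _)
      · intro h
        apply hy
        rw [h]
        exact (le_sup_left : closure {x, y} ≤ _)
          (subset_closure (Set.mem_insert_of_mem x rfl))
    have h3 := mul_card_le_card_of_lt hR h1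
    have h4 := mul_card_le_card_of_lt hR h2
    apply Subgroup.eq_top_of_le_card
    calc Nat.card R ≤ p ^ 2 * Nat.card (frattini R) := hidx
      _ = p * (p * Nat.card (frattini R)) := by ring
      _ ≤ p * Nat.card (zpowers x ⊔ frattini R : Subgroup R) := Nat.mul_le_mul_left _ h3
      _ ≤ Nat.card (closure {x, y} ⊔ frattini R : Subgroup R) := h4

theorem sq_mul_card_frattini_le (hR : IsPGroup p R) (hnc : ¬ IsCyclic R) :
    p ^ 2 * Nat.card (frattini R) ≤ Nat.card R := by
  haveI : Nontrivial R := by
    by_contra h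
    rw [not_nontrivial_iff_subsingleton] at h
    exact hnc inferInstance
  obtain ⟨x, hx⟩ := exists_not_mem_frattini (R := R)
  have h1 : frattini R < zpowers x ⊔ frattini R := by
    refine lt_of_le_of_ne le_sup_right ?_
    intro h
    apply hx
    rw [h]
    exact (le_sup_left : zpowers x ≤ _) (mem_zpowers x)
  have h2 : zpowers x ⊔ frattini R < ⊤ := by
    refine lt_of_le_of_ne le_top ?_
    intro htop
    have := frattini_nongenerating htop
    apply hnc
    refine ⟨⟨x, fun g => ?_⟩⟩
    have hg : g ∈ zpowers x := by rw [this]; exact mem_top g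
    exact hg
  have h3 := mul_card_le_card_of_lt hR h1
  have h4 := mul_card_le_card_of_lt hR h2
  rw [Subgroup.card_top] at h4
  calc p ^ 2 * Nat.card (frattini R) = p * (p * Nat.card (frattini R)) := by ring
    _ ≤ p * Nat.card (zpowers x ⊔ frattini R : Subgroup R) := Nat.mul_le_mul_left _ h3
    _ ≤ Nat.card R := h4

theorem isCyclic_quotient_zpowers (hR : IsPGroup p R)
    (hidx : Nat.card R ≤ p ^ 2 * Nat.card (frattini R)) (x : R) (hx : x ∉ frattini R)
    [(zpowers x).Normal] : IsCyclic (R ⧸ zpowers x) := by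
  obtain ⟨y, hy⟩ := exists_two_gen hR hidx x hx
  refine ⟨⟨QuotientGroup.mk' (zpowers x) y, ?_⟩⟩
  intro q
  obtain ⟨g, rfl⟩ := QuotientGroup.mk'_surjective (zpowers x) q
  have hg : g ∈ closure {x, y} := by rw [hy]; exact mem_top g
  show (QuotientGroup.mk' (zpowers x)) g ∈ zpowers ((QuotientGroup.mk' (zpowers x)) y)
  induction hg using Subgroup.closure_induction with
  | mem a ha =>
    rcases ha with rfl | ha
    · have : (QuotientGroup.mk' (zpowers a)) a = 1 :=
        (QuotientGroup.eq_one_iff a).mpr (mem_zpowers a)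
      rw [this]
      exact one_mem _
    · rw [Set.mem_singleton_iff] at ha
      subst ha
      exact mem_zpowers _
  | one => rw [map_one]; exact one_mem _
  | mul a b _ _ ha hb => rw [map_mul]; exact mul_mem ha hb
  | inv a _ ha => rw [map_inv]; exact inv_mem ha

/-- Descent: if every element of `Φ(R)` is a `p`-th power, every non-identity element of `Φ(R)`
is a power of an element outside `Φ(R)`. -/
theorem exists_not_mem_frattini_zpowers (hR : IsPGroup p R)
    (hrange : ∀ w ∈ frattini R, ∃ h : R, h ^ p = w) :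
    ∀ (m : ℕ) (w : R), w ∈ frattini R → w ≠ 1 → Nat.card R - orderOf w = m →
      ∃ g : R, g ∉ frattini R ∧ w ∈ zpowers g := by
  have hp : p.Prime := Fact.out
  intro m
  induction m using Nat.strong_induction_on with
  | _ m ih =>
    intro w hw hw1 hm
    obtain ⟨h, rfl⟩ := hrange w hw
    by_cases hh : h ∈ frattini R
    · have hh1 : h ≠ 1 := by
        rintro rfl
        exact hw1 (one_pow p)
      have hord : orderOf (h ^ p) < orderOf h := by
        obtain ⟨k, hk⟩ := (IsPGroup.iff_orderOf.mp hR) h
        have hk0 : k ≠ 0 := by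
          rintro rfl
          rw [pow_zero, orderOf_eq_one_iff] at hk
          exact hh1 hk
        obtain ⟨j, rfl⟩ := Nat.exists_eq_succ_of_ne_zero hk0
        rw [orderOf_pow' h hp.ne_zero, hk]
        have hg : Nat.gcd (p ^ (j + 1)) p = p :=
          Nat.gcd_eq_right (dvd_pow_self p (Nat.succ_ne_zero j))
        rw [hg, pow_succ, Nat.mul_div_cancel _ hp.pos]
        calc p ^ j = p ^ j * 1 := (mul_one _).symm
          _ < p ^ j * p := Nat.mul_lt_mul_of_pos_left hp.one_lt (pow_pos hp.pos j)
      have hle : orderOf h ≤ Nat.card R := Nat.le_of_dvd Nat.card_pos (orderOf_dvd_natCard h)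
      obtain ⟨g, hg, hmem⟩ := ih (Nat.card R - orderOf h) (by omega) h hh hh1 rfl
      exact ⟨g, hg, Subgroup.pow_mem _ hmem p⟩
    · exact ⟨h, hh, Subgroup.pow_mem _ (mem_zpowers h) p⟩

end Frat

section Lift

variable {R : Type*} [Group R] [Finite R] {p : ℕ} [Fact p.Prime]

omit [Finite R] [Fact p.Prime] in
/-- The subgroup generated by the `p`-th powers of a normal subgroup `D`, as a normal closure. -/
theorem normalClosure_pow_le (D : Subgroup R) [hD : D.Normal] (H : Subgroup R)
    (h : ∀ d ∈ D, d ^ p ∈ H) : normalClosure {g : R | ∃ d ∈ D, d ^ p = g} ≤ H := by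
  rw [normalClosure, closure_le]
  intro a ha
  rw [Group.mem_conjugatesOfSet_iff] at ha
  obtain ⟨b, ⟨d, hd, rfl⟩, hconj⟩ := ha
  rw [isConj_iff] at hconj
  obtain ⟨c, rfl⟩ := hconj
  rw [← conj_pow]
  exact h _ (hD.conj_mem d hd c)

/-- Lifting metacyclicity through a central subgroup `Z` of order `p` contained in every subgroup
containing the `p`-th powers of `R'`. -/
theorem isMetacyclic_of_quotient (hR : IsPGroup p R) (Z : Subgroup R) [Z.Normal]
    (hZ : Nat.card Z = p)
    (hZD : ∀ H : Subgroup R, (∀ d ∈ commutator R, d ^ p ∈ H) → Z ≤ H)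
    (hmeta : Cfsg.IsMetacyclic (R ⧸ Z)) : Cfsg.IsMetacyclic R := by
  have hp : p.Prime := Fact.out
  have hZcen : Z ≤ center R := Cfsg.Agent.Helper19.normal_card_prime_le_center hR Z hZ
  obtain ⟨Nb, hNbn, hNbc, hQc⟩ := hmeta
  haveI := hNbn
  haveI := hNbc
  haveI := hQc
  obtain ⟨⟨sb, hsbN⟩, hgen⟩ := IsCyclic.exists_generator (α := Nb)
  obtain ⟨s, rfl⟩ := QuotientGroup.mk'_surjective Z sb
  set S' : Subgroup R := Nb.comap (QuotientGroup.mk' Z) with hS'
  haveI hS'n : S'.Normal := Subgroup.Normal.comap hNbn _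
  have hZS' : Z ≤ S' := by
    intro z hz
    rw [hS', Subgroup.mem_comap]
    have : (QuotientGroup.mk' Z) z = 1 := (QuotientGroup.eq_one_iff z).mpr hz
    rw [this]
    exact one_mem _
  have hsS' : s ∈ S' := hsbN
  have key : ∀ g ∈ S', ∃ i : ℤ, ∃ z ∈ Z, g = s ^ i * z := by
    intro g hg
    have h1 := hgen ⟨(QuotientGroup.mk' Z) g, hg⟩
    obtain ⟨i, hi⟩ := Subgroup.mem_zpowers_iff.mp h1
    have h2 : ((QuotientGroup.mk' Z) s) ^ i = (QuotientGroup.mk' Z) g := by
      have := congrArg Subtype.val hi
      simpa using this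
    rw [← map_zpow] at h2
    have h3 : (s ^ i)⁻¹ * g ∈ Z := QuotientGroup.eq.mp h2
    exact ⟨i, _, h3, by group⟩
  have hDS' : commutator R ≤ S' := by
    rw [_root_.commutator_def, Subgroup.commutator_le]
    intro a _ b _
    rw [hS', Subgroup.mem_comap, map_commutatorElement]
    have hcomm := (IsCyclic.isMulCommutative (α := (R ⧸ Z) ⧸ Nb)).is_comm.comm
      (QuotientGroup.mk' Nb ((QuotientGroup.mk' Z) a)) (QuotientGroup.mk' Nb ((QuotientGroup.mk' Z) b))
    rw [← QuotientGroup.eq_one_iff, ← QuotientGroup.mk'_apply, map_commutatorElement,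
      commutatorElement_eq_one_iff_mul_comm]
    exact hcomm
  have hpow : ∀ d ∈ commutator R, d ^ p ∈ zpowers s := by
    intro d hd
    obtain ⟨i, z, hz, rfl⟩ := key d (hDS' hd)
    have hzc : Commute (s ^ i) z := (Subgroup.mem_center_iff.mp (hZcen hz) (s ^ i))
    have hzp : z ^ p = 1 := by
      have h1 : (⟨z, hz⟩ : Z) ^ Nat.card Z = 1 := pow_card_eq_one'
      rw [hZ] at h1
      have h2 := congrArg Subtype.val h1
      simpa using h2
    rw [hzc.mul_pow, hzp, mul_one]
    exact Subgroup.pow_mem _ (Subgroup.zpow_mem _ (mem_zpowers s) i) p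
  have hZs : Z ≤ zpowers s := hZD _ hpow
  have hS'eq : S' = zpowers s := by
    apply le_antisymm
    · intro g hg
      obtain ⟨i, z, hz, rfl⟩ := key g hg
      exact mul_mem (Subgroup.zpow_mem _ (mem_zpowers s) i) (hZs hz)
    · rw [zpowers_le]
      exact hsS'
  refine ⟨S', hS'n, ?_, ?_⟩
  · rw [hS'eq]
    infer_instance
  · have hmap : S'.map (QuotientGroup.mk' Z) = Nb :=
      Subgroup.map_comap_eq_self_of_surjective (QuotientGroup.mk'_surjective Z) Nb
    haveI : (S'.map (QuotientGroup.mk' Z)).Normal := by rw [hmap]; exact hNbn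
    let e1 := QuotientGroup.quotientQuotientEquivQuotient Z S' hZS'
    let e2 := QuotientGroup.quotientMulEquivOfEq hmap.symm
    exact isCyclic_of_surjective (e1.toMonoidHom.comp e2.toMonoidHom)
      (e1.surjective.comp e2.surjective)

end Lift

section TwoGen

variable {R : Type*} [Group R]

/-- In a group generated by `x, y` with central derived subgroup, the derived subgroup is generated
by `⁅x, y⁆`. -/
theorem commutator_le_zpowers_of_two_gen (x y : R) (hxy : closure {x, y} = ⊤)
    (hc : commutator R ≤ center R) : commutator R ≤ zpowers ⁅x, y⁆ := by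
  have hz : ⁅x, y⁆ ∈ center R :=
    hc (Subgroup.commutator_mem_commutator (Subgroup.mem_top x) (Subgroup.mem_top y))
  set N : Subgroup R := zpowers ⁅x, y⁆ with hN
  have hNc : N ≤ center R := by rw [hN, zpowers_le]; exact hz
  haveI hNn : N.Normal := by
    constructor
    intro n hn g
    have h1 := Subgroup.mem_center_iff.mp (hNc hn) g
    have h2 : g * n * g⁻¹ = n := by rw [h1, mul_inv_cancel_right]
    rw [h2]
    exact hn
  set a := QuotientGroup.mk' N x with ha
  set b := QuotientGroup.mk' N y with hb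
  have hab : a * b = b * a := by
    rw [← commutatorElement_eq_one_iff_mul_comm, ha, hb, ← map_commutatorElement]
    exact (QuotientGroup.eq_one_iff _).mpr (mem_zpowers _)
  have hgen : closure {a, b} = ⊤ := by
    have h1 := MonoidHom.map_closure (QuotientGroup.mk' N) {x, y}
    rw [hxy, Subgroup.map_top_of_surjective _ (QuotientGroup.mk'_surjective N),
      Set.image_pair] at h1
    exact h1.symm
  have hcent : ∀ g : R ⧸ N, g ∈ centralizer {a, b} := by
    intro g
    have h1 : closure {a, b} ≤ centralizer {a, b} := by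
      rw [closure_le]
      intro u hu
      rw [SetLike.mem_coe, Subgroup.mem_centralizer_iff]
      intro v hv
      rcases hu with rfl | hu <;> rcases hv with rfl | hv
      · rfl
      · rw [Set.mem_singleton_iff] at hv; subst hv; exact hab.symm
      · rw [Set.mem_singleton_iff] at hu; subst hu; exact hab
      · rw [Set.mem_singleton_iff] at hu hv; subst hu; subst hv; rfl
    exact h1 (by rw [hgen]; exact mem_top g)
  have hcen : ∀ u v : R ⧸ N, u * v = v * u := by
    have h2 : closure {a, b} ≤ center (R ⧸ N) := by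
      rw [closure_le]
      intro u hu
      rw [SetLike.mem_coe, Subgroup.mem_center_iff]
      intro g
      exact (Subgroup.mem_centralizer_iff.mp (hcent g) u hu).symm
    intro u v
    have h3 : v ∈ center (R ⧸ N) := h2 (by rw [hgen]; exact mem_top v)
    exact Subgroup.mem_center_iff.mp h3 u
  rw [_root_.commutator_def, Subgroup.commutator_le]
  intro u _ v _
  rw [← QuotientGroup.eq_one_iff, ← QuotientGroup.mk'_apply, map_commutatorElement,
    commutatorElement_eq_one_iff_mul_comm]
  exact hcen _ _

end TwoGen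

section Main

variable {R : Type u} [Group R] [Finite R] {p : ℕ} [Fact p.Prime]

/-- The case where the derived subgroup has exponent `p`. -/
theorem isMetacyclic_of_commutator_exponent (hp3 : 3 < p) (hR : IsPGroup p R)
    (hS : SmallOmega p R) (hnc : ¬ IsCyclic R) (hD : ∀ d ∈ commutator R, d ^ p = 1) :
    Cfsg.IsMetacyclic R := by
  have hp : p.Prime := Fact.out
  haveI : Nontrivial R := by
    by_contra h
    rw [not_nontrivial_iff_subsingleton] at h
    exact hnc inferInstance
  -- class at most three
  have hDcard : Nat.card (commutator R) ≤ p ^ 2 := hS _ hD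
  have hcl3 : ⁅⁅commutator R, (⊤ : Subgroup R)⁆, (⊤ : Subgroup R)⁆ = ⊥ :=
    Cfsg.Agent.Helper1.commutator_commutator_eq_bot_of_card_le hR (commutator R) hDcard
  have hcm : ∀ a b : R, ⁅a, b⁆ ∈ commutator R := fun a b =>
    Subgroup.commutator_mem_commutator (Subgroup.mem_top a) (Subgroup.mem_top b)
  -- the p-th power map is an endomorphism with central image
  have hmul : ∀ x y : R, (x * y) ^ p = x ^ p * y ^ p := fun x y =>
    Cfsg.Agent.Helper1.ClassThree.mul_pow_prime hp hp3 hcl3 x y (hD _ (hcm y x))
      (hD _ (hcm _ x)) (hD _ (hcm _ y))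
  have hpc : ∀ y : R, y ^ p ∈ center R := by
    intro y
    rw [Subgroup.mem_center_iff]
    intro x
    have hec : ∀ g : R, Commute ⁅⁅y, x⁆, y⁆ g := fun g =>
      Cfsg.Agent.Helper1.ClassThree.central_of_class_three hcl3 _ y g (hcm y x)
    have h := Cfsg.Agent.Helper1.ClassThree.pow_y_mul_x x y ⁅y, x⁆ ⁅⁅y, x⁆, y⁆ hec
      (Cfsg.Agent.Helper1.ClassThree.rel_yx x y)
      (Cfsg.Agent.Helper1.ClassThree.rel_c _ y _ hec rfl) p
    obtain ⟨k, hk⟩ := Cfsg.Agent.Helper1.ClassThree.prime_dvd_choose_two hp (by omega)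
    rw [hk, pow_mul, hD _ (hcm _ y), one_pow, mul_one, hD _ (hcm y x), one_mul] at h
    exact h.symm
  -- hence R' is central
  have hDcen : commutator R ≤ center R := by
    have hSQ : SmallOmega p (R ⧸ center R) := hS.quotient hp3 hR (center R)
    have hexpQ : ∀ q ∈ (⊤ : Subgroup (R ⧸ center R)), q ^ p = 1 := by
      intro q _
      obtain ⟨y, rfl⟩ := QuotientGroup.mk'_surjective (center R) q
      rw [← map_pow]
      exact (QuotientGroup.eq_one_iff _).mpr (hpc y)
    have hcardQ : Nat.card (R ⧸ center R) ≤ p ^ 2 := by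
      have := hSQ ⊤ hexpQ
      rwa [Subgroup.card_top] at this
    rw [_root_.commutator_def, Subgroup.commutator_le]
    intro a _ b _
    have hab := mul_comm_of_card_le_sq (hR.to_quotient (center R)) hcardQ
      (QuotientGroup.mk' (center R) a) (QuotientGroup.mk' (center R) b)
    have h3 : (QuotientGroup.mk' (center R)) ⁅a, b⁆ = 1 := by
      rw [map_commutatorElement, commutatorElement_eq_one_iff_mul_comm]
      exact hab
    exact (QuotientGroup.eq_one_iff _).mp h3
  -- Frattini index is p²
  have hidx1 : Nat.card R ≤ p ^ 2 * Nat.card (frattini R) := by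
    have hSQ : SmallOmega p (R ⧸ frattini R) := hS.quotient hp3 hR (frattini R)
    have hexpQ : ∀ q ∈ (⊤ : Subgroup (R ⧸ frattini R)), q ^ p = 1 := by
      intro q _
      obtain ⟨y, rfl⟩ := QuotientGroup.mk'_surjective (frattini R) q
      rw [← map_pow]
      exact (QuotientGroup.eq_one_iff _).mpr
        (Cfsg.Agent.Helper21.pow_mem_frattini_of_isPGroup hR y)
    have hcardQ : Nat.card (R ⧸ frattini R) ≤ p ^ 2 := by
      have := hSQ ⊤ hexpQ
      rwa [Subgroup.card_top] at this
    rw [Subgroup.card_eq_card_quotient_mul_card_subgroup (frattini R)]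
    exact Nat.mul_le_mul_right _ hcardQ
  have hidx2 := sq_mul_card_frattini_le hR hnc
  obtain ⟨x₀, hx₀⟩ := exists_not_mem_frattini (R := R)
  obtain ⟨y₀, hy₀⟩ := exists_two_gen hR hidx1 x₀ hx₀
  set z : R := ⁅x₀, y₀⁆ with hz
  have hDz : commutator R ≤ zpowers z := commutator_le_zpowers_of_two_gen x₀ y₀ hy₀ hDcen
  -- every element of the Frattini subgroup is a p-th power
  let f : R →* R := MonoidHom.mk' (fun x => x ^ p) hmul
  have hfle : f.range ≤ frattini R := by
    rintro _ ⟨x, rfl⟩
    exact Cfsg.Agent.Helper21.pow_mem_frattini_of_isPGroup hR x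
  have hfeq : f.range = frattini R := by
    apply Subgroup.eq_of_le_of_card_ge hfle
    have hker : Nat.card f.ker ≤ p ^ 2 := hS f.ker (fun x hx => hx)
    have h2 : Nat.card f.ker * f.ker.index = Nat.card R := Subgroup.card_mul_index _
    rw [Subgroup.index_ker] at h2
    have h3 : p ^ 2 * Nat.card (frattini R) ≤ p ^ 2 * Nat.card f.range := by
      calc p ^ 2 * Nat.card (frattini R) ≤ Nat.card R := hidx2
        _ = Nat.card f.ker * Nat.card f.range := h2.symm
        _ ≤ p ^ 2 * Nat.card f.range := Nat.mul_le_mul_right _ hker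
    exact Nat.le_of_mul_le_mul_left h3 (pow_pos hp.pos 2)
  have hrange : ∀ w ∈ frattini R, ∃ h : R, h ^ p = w := by
    intro w hw
    rw [← hfeq] at hw
    obtain ⟨h, rfl⟩ := hw
    exact ⟨h, rfl⟩
  -- choose the generator
  obtain ⟨g, hg, hzg⟩ : ∃ g : R, g ∉ frattini R ∧ z ∈ zpowers g := by
    by_cases hz1 : z = 1
    · exact ⟨x₀, hx₀, by rw [hz1]; exact one_mem _⟩
    · have hzΦ : z ∈ frattini R := by
        have := Cfsg.Agent.Helper21.commutator_mem_frattini_of_isPGroup hR x₀ y₀
        rwa [← commutatorElement_def] at this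
      exact exists_not_mem_frattini_zpowers hR hrange _ z hzΦ hz1 rfl
  have hDg : commutator R ≤ zpowers g := hDz.trans (by rw [zpowers_le]; exact hzg)
  haveI hgn : (zpowers g).Normal := by
    constructor
    intro n hn r
    have h1 : r * n * r⁻¹ = ⁅r, n⁆ * n := by rw [commutatorElement_def]; group
    rw [h1]
    exact mul_mem (hDg (hcm r n)) hn
  exact ⟨zpowers g, hgn, inferInstance, isCyclic_quotient_zpowers hR hidx1 g hg⟩

theorem isMetacyclic_aux (hp3 : 3 < p) : ∀ (n : ℕ) (R : Type u) [Group R] [Finite R],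
    Nat.card R = n → IsPGroup p R → SmallOmega p R → Cfsg.IsMetacyclic R := by
  intro n
  induction n using Nat.strong_induction_on with
  | _ n ih =>
    intro R _ _ hn hR hS
    have hp : p.Prime := Fact.out
    by_cases hcyc : IsCyclic R
    · refine ⟨⊥, inferInstance, inferInstance, ?_⟩
      exact isCyclic_of_surjective (QuotientGroup.mk' (⊥ : Subgroup R))
        (QuotientGroup.mk'_surjective _)
    by_cases hD : ∀ d ∈ commutator R, d ^ p = 1
    · exact isMetacyclic_of_commutator_exponent hp3 hR hS hcyc hD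
    · have hD' : ∃ d ∈ commutator R, d ^ p ≠ 1 := by
        by_contra hcon
        apply hD
        intro d hd
        by_contra hne
        exact hcon ⟨d, hd, hne⟩
      obtain ⟨d₀, hd₀, hd₀p⟩ := hD'
      set T : Subgroup R := normalClosure {g : R | ∃ d ∈ commutator R, d ^ p = g} with hT
      haveI hTn : T.Normal := Subgroup.normalClosure_normal
      have hTne : ⊥ ≠ T := by
        intro h
        apply hd₀p
        have h1 : d₀ ^ p ∈ T := Subgroup.subset_normalClosure ⟨d₀, hd₀, rfl⟩
        rw [← h] at h1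
        exact Subgroup.mem_bot.mp h1
      obtain ⟨Z, hZn, -, hZT, hZc⟩ := exists_normal_step hR T ⊥ bot_le hTne
      haveI := hZn
      rw [Subgroup.card_bot, mul_one] at hZc
      have hlt : Nat.card (R ⧸ Z) < n := by
        have h1 : Nat.card (R ⧸ Z) * Nat.card Z = Nat.card R :=
          (Subgroup.card_eq_card_quotient_mul_card_subgroup Z).symm
        rw [hZc, hn] at h1
        have hpos : 0 < Nat.card (R ⧸ Z) := Nat.card_pos
        have h2 : 1 < p := hp.one_lt
        nlinarith
      have hmeta := ih _ hlt (R ⧸ Z) rfl (hR.to_quotient Z) (hS.quotient hp3 hR Z)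
      refine isMetacyclic_of_quotient hR Z hZc ?_ hmeta
      intro H hH
      exact hZT.trans (normalClosure_pow_le (commutator R) H hH)

/-- Huppert's criterion: for `p > 3`, a `p`-group whose subgroups of exponent `p` have order at
most `p²` is metacyclic. -/
theorem isMetacyclic_of_smallOmega (hp3 : 3 < p) (hR : IsPGroup p R) (hS : SmallOmega p R) :
    Cfsg.IsMetacyclic R :=
  isMetacyclic_aux hp3 _ R rfl hR hS

end Main

end Cfsg.Agent.Helper22
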