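import Mathlib

/-!
# Subgroups of a cyclic `p`-group form a chain

Shared library of helper22.  Everything lives in `Cfsg.Agent.Helper22`.
-/

set_option autoImplicit false

namespace Cfsg.Agent.Helper22

open Subgroup

/-- In a finite cyclic group, a subgroup `K` contains every `x` with `x ^ |K| = 1`. -/
theorem mem_of_pow_card_eq_one_of_isCyclic {P : Type*} [Group P] [Finite P] [IsCyclic P]
    (K : Subgroup P) (x : P) (hx : x ^ Nat.card K = 1) : x ∈ K := by
  classical
  letI : Fintype P := Fintype.ofFinite P
  have hn0 : 0 < Nat.card K := Nat.card_pos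
  have hle := IsCyclic.card_pow_eq_one_le (α := P) hn0
  set S : Finset P := Finset.univ.filter (fun a : P => a ^ Nat.card K = 1) with hS
  have hsub : (K : Set P).toFinset ⊆ S := by
    intro a ha
    rw [Set.mem_toFinset] at ha
    rw [hS, Finset.mem_filter]
    refine ⟨Finset.mem_univ _, ?_⟩
    have h1 : (⟨a, ha⟩ : K) ^ Nat.card K = 1 := pow_card_eq_one'
    have h2 := congrArg Subtype.val h1
    rw [Subgroup.coe_pow, Subgroup.coe_one] at h2
    exact h2
  have hcard : S.card ≤ (K : Set P).toFinset.card := by
    rw [Set.toFinset_card]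
    have : Fintype.card (K : Set P) = Nat.card K := by
      rw [Nat.card_eq_fintype_card]; rfl
    rw [this]
    exact hle
  have heq := Finset.eq_of_subset_of_card_le hsub hcard
  have hxS : x ∈ S := by
    rw [hS, Finset.mem_filter]
    exact ⟨Finset.mem_univ _, hx⟩
  rw [← heq, Set.mem_toFinset] at hxS
  exact hxS

/-- In a finite cyclic group, subgroups are ordered by divisibility of their orders. -/
theorem le_of_card_dvd_of_isCyclic {P : Type*} [Group P] [Finite P] [IsCyclic P]
    (H K : Subgroup P) (h : Nat.card H ∣ Nat.card K) : H ≤ K := by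
  intro x hx
  apply mem_of_pow_card_eq_one_of_isCyclic
  obtain ⟨c, hc⟩ := h
  have h1 : (⟨x, hx⟩ : H) ^ Nat.card H = 1 := pow_card_eq_one'
  have h2 : x ^ Nat.card H = 1 := by
    have h3 := congrArg Subtype.val h1
    rw [Subgroup.coe_pow, Subgroup.coe_one] at h3
    exact h3
  rw [hc, pow_mul, h2, one_pow]

/-- The subgroups of a finite cyclic `p`-group form a chain. -/
theorem le_or_le_of_isCyclic_of_isPGroup {P : Type*} [Group P] [Finite P] [IsCyclic P]
    {p : ℕ} [Fact p.Prime] (hP : IsPGroup p P) (H K : Subgroup P) : H ≤ K ∨ K ≤ H := by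
  obtain ⟨a, ha⟩ := (hP.to_subgroup H).exists_card_eq
  obtain ⟨b, hb⟩ := (hP.to_subgroup K).exists_card_eq
  rcases le_total a b with hab | hab
  · left
    apply le_of_card_dvd_of_isCyclic
    rw [ha, hb]
    exact pow_dvd_pow p hab
  · right
    apply le_of_card_dvd_of_isCyclic
    rw [ha, hb]
    exact pow_dvd_pow p hab

/-- Chain property for subgroups of `G` inside a cyclic `p`-subgroup `P`. -/
theorem le_or_le_of_le_isCyclic_of_isPGroup {G : Type*} [Group G] [Finite G]
    {p : ℕ} [Fact p.Prime] (P : Subgroup G) [IsCyclic P] (hP : IsPGroup p P)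
    (H K : Subgroup G) (hH : H ≤ P) (hK : K ≤ P) : H ≤ K ∨ K ≤ H := by
  rcases le_or_le_of_isCyclic_of_isPGroup hP (H.subgroupOf P) (K.subgroupOf P) with h | h
  · left
    intro x hx
    have : (⟨x, hH hx⟩ : P) ∈ H.subgroupOf P := by rw [Subgroup.mem_subgroupOf]; exact hx
    have := h this
    rw [Subgroup.mem_subgroupOf] at this
    exact this
  · right
    intro x hx
    have : (⟨x, hK hx⟩ : P) ∈ K.subgroupOf P := by rw [Subgroup.mem_subgroupOf]; exact hx
    have := h this
    rw [Subgroup.mem_subgroupOf] at this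
    exact this

end Cfsg.Agent.Helper22
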