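import Mathlib
import Cfsg.Agent.Lib.Helper14.BGUniqO
import Cfsg.Agent.Lib.Helper1.Hall
import Cfsg.Agent.Lib.Helper1.HallConj

/-!
# Bender-Glauberman section 13, part A (helper22): hypotheses and basic facts on `σ(M)`

The statements of earlier rows are used as explicit hypotheses `HypNNNN G`, to be discharged by
`Cfsg.Agent.SNNNN.result hG` in the statement files.
-/

set_option autoImplicit false

namespace Cfsg.Agent.Helper22.BG13

open Cfsg Subgroup
open Cfsg.Agent.Helper14.BGTrans Cfsg.Agent.Helper14.BGUniq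
open Cfsg.Agent.Helper10 (IsPiNum)
open Cfsg.Agent.Helper15 (IsSylowIn isSylowIn_of_sylow_le isSylowIn_map_subtype isSylowIn_top
  map_conj_eq_of_mem_normalizer map_conj_map_conj
  map_conj_map_conj_inv map_conj_inv_map_conj isPGroup_map_conj map_conj_mono
  map_conj_eq_self_of_mem exists_isSylowIn_ge)

universe u

variable {G : Type u} [Group G] [Finite G]

/-! ### the hypotheses -/

/-- statement of S1403 (Uniqueness Theorem) -/
def Hyp1403 (G : Type u) [Group G] : Prop :=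
  ∀ (K : Subgroup G) (_ : K ≠ ⊤) (_ : ¬ RankLE 1 K)
    (_ : ¬ RankLE 2 K ∨ ¬ RankLE 2 (centralizer (K : Set G))), InUniqueMaximal K

/-- statement of S1404 (BG 10.1) -/
def Hyp1404 (G : Type u) [Group G] : Prop :=
  ∀ (M : Subgroup G) (_ : IsCoatom M) (p : ℕ) [Fact p.Prime] (_ : p ∈ sigma M)
    (X : Subgroup G) (_ : IsPGroup p X) (_ : X ≠ ⊥) (_ : X ≤ M),
    (∀ g : G, X.map (MulAut.conj g).toMonoidHom ≤ M →
        ∃ m ∈ M, ∃ c ∈ centralizer (X : Set G), g = m * c) ∧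
      normalizer (X : Set G) = (M ⊓ normalizer (X : Set G)) ⊔ centralizer (X : Set G)

/-- statement of S1350 (`M_σ` is a Hall subgroup) -/
def Hyp1350 (G : Type u) [Group G] : Prop :=
  ∀ (M : Subgroup G) (_ : IsCoatom M),
    IsPiHallOf (sigma M) (sigmaCore M) M ∧ IsPiHall (sigma M) (sigmaCore M) ∧
      ∀ N : Subgroup G, M ≤ normalizer (N : Set G) → IsPiHallOf (sigma M) N M →
        N = sigmaCore M

/-- statement of S1405 (BG 10.2) -/
def Hyp1405 (G : Type u) [Group G] : Prop :=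
  ∀ (M : Subgroup G) (_ : IsCoatom M),
    IsPiHallOf (alpha M) (alphaCore M) M ∧ IsPiHall (alpha M) (alphaCore M) ∧
      alphaCore M ≤ sigmaCore M ∧ RankLE 2 (↥M ⧸ piCore (alpha M) ↥M) ∧
      Group.IsNilpotent ↥((commutator ↥M).map (QuotientGroup.mk' (piCore (alpha M) ↥M)))

/-- statement of S1411 -/
def Hyp1411 (G : Type u) [Group G] : Prop :=
  ∀ (p : ℕ) [Fact p.Prime] (P : Sylow p G) (V : Subgroup G)
    (_ : IsComplIn (P : Subgroup G) V (normalizer ((P : Subgroup G) : Set G))),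
    (P : Subgroup G) = ⁅(P : Subgroup G), V⁆ ∧
      (P : Subgroup G) ≤ ⁅normalizer ((P : Subgroup G) : Set G),
        normalizer ((P : Subgroup G) : Set G)⁆

/-- statement of S1412 -/
def Hyp1412 (G : Type u) [Group G] : Prop :=
  ∀ (p : ℕ) [Fact p.Prime] (P : Sylow p G) (_ : PRankLE p 2 (P : Subgroup G)),
    IsMulCommutative (P : Subgroup G) ∨ ∃ P₁ P₂ : Subgroup G, P₁ ⊔ P₂ = (P : Subgroup G) ∧
        (∀ a ∈ P₁, ∀ b ∈ P₂, a * b = b * a) ∧
        ¬ IsMulCommutative P₁ ∧ Nat.card P₁ = p ^ 3 ∧ Monoid.exponent P₁ = p ∧ IsCyclic P₂ ∧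
        Subgroup.closure {x : G | x ∈ P₂ ∧ x ^ p = 1} = P₁ ⊓ centralizer (P₁ : Set G)

/-- statement of S1413 -/
def Hyp1413 (G : Type u) [Group G] : Prop :=
  ∀ (p : ℕ) [Fact p.Prime] (P : Sylow p G),
    (∀ (Q : Subgroup G) (x : G), Q ≤ (P : Subgroup G) →
        Q.map (MulAut.conj x).toMonoidHom ≤ (P : Subgroup G) →
        ∃ y ∈ normalizer ((P : Subgroup G) : Set G),
          Q.map (MulAut.conj x).toMonoidHom = Q.map (MulAut.conj y).toMonoidHom) ∧
      (∀ Q : Subgroup G, Q ≤ (P : Subgroup G) →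
        ¬ p ∣ ((P : Subgroup G) ⊓ normalizer (Q : Set G)).relIndex (normalizer (Q : Set G))) ∧
      (∀ (R Q : Subgroup G), IsPGroup p R → Q ≤ (P : Subgroup G) ⊓ R →
        normalizer ((P : Subgroup G) : Set G) ≤ normalizer (Q : Set G) →
        normalizer (R : Set G) ≤ normalizer (Q : Set G))

/-- statement of S1414 (BG 12.1) -/
def Hyp1414 (G : Type u) [Group G] : Prop :=
  ∀ (M : Subgroup G) (_ : IsCoatom M),
    IsPiHallOf (beta M) (piCoreOf (beta M) M) M ∧ IsPiHall (beta M) (piCoreOf (beta M) M) ∧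
      (∃ H : Subgroup G, IsPiHallOf {q | q.Prime ∧ q ∉ beta M} H ⁅M, M⁆ ∧ Group.IsNilpotent H) ∧
      (∃ H : Subgroup G, IsPiHallOf {q | q.Prime ∧ q ∉ beta M} H (sigmaCore M) ∧
        Group.IsNilpotent H) ∧
      ∀ p : ℕ, p.Prime → p ∣ Nat.card M → p ∉ beta M →
        HasNormalPComplement p ↥⁅M, M⁆ ∧ HasNormalPComplement p ↥(sigmaCore M) ∧
        ∀ q : ℕ, q.Prime → q ∣ (pPrimeCore p ↥M).index → q ≤ p

/-- statement of S1416 (BG 12.3) -/
def Hyp1416 (G : Type u) [Group G] : Prop :=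
  ∀ (M : Subgroup G) (_ : IsCoatom M) (p : ℕ) [Fact p.Prime] (A : Subgroup G)
    (_ : A ≤ M ∧ IsElementaryAbelian p A ∧ Nat.card A = p ^ 2),
    centralizer (A : Set G) ≤ M ∧
      ((∀ A₀ : Subgroup G, A₀ ≤ A → Nat.card A₀ = p →
          ¬ (normalizer (A₀ : Set G) ≤ M ∧ ∀ L : Subgroup G, IsCoatom L →
            normalizer (A₀ : Set G) ≤ L → L = M)) →
        p ∈ sigma M ∧ alphaCore M = ⊥ ∧ Group.IsNilpotent (sigmaCore M))

/-- statement of S1417 (BG 12.5) -/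
def Hyp1417 (G : Type u) [Group G] : Prop :=
  ∀ (M : Subgroup G) (_ : IsCoatom M) (p : ℕ) [Fact p.Prime] (_ : p ∈ tau2 M) (A : Subgroup G)
    (_ : A ≤ M ∧ IsElementaryAbelian p A ∧ Nat.card A = p ^ 2),
    Group.IsNilpotent (sigmaCore M) ∧
      (∀ P : Sylow p M, IsMulCommutative (P : Subgroup M) ∧
        (A ≤ (P : Subgroup M).map M.subtype →
          (∀ x ∈ (P : Subgroup M).map M.subtype, x ^ p = 1 ↔ x ∈ A) ∧
          ¬ normalizer ((((P : Subgroup M).map M.subtype : Subgroup G)) : Set G) ≤ M)) ∧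
      M ≤ normalizer ((sigmaCore M ⊔ A : Subgroup G) : Set G) ∧
      sigmaCore M ⊓ centralizer (A : Set G) = ⊥ ∧
      (∀ Mstar : Subgroup G, IsCoatom Mstar → Mstar ≠ M → A ≤ Mstar → sigmaCore M ⊓ Mstar = ⊥) ∧
      ∃ A₁ : Subgroup G, A₁ ≤ A ∧ Nat.card A₁ = p ∧ sigmaCore M ⊓ centralizer (A₁ : Set G) = ⊥

/-- statement of S1418 (BG 12.6) -/
def Hyp1418 (G : Type u) [Group G] : Prop :=
  ∀ (M : Subgroup G) (_ : IsCoatom M) (E : Subgroup G) (_ : IsComplIn E (sigmaCore M) M)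
    (p : ℕ) [Fact p.Prime] (_ : p ∈ tau2 M) (A : Subgroup G)
    (_ : A ≤ E ∧ IsElementaryAbelian p A ∧ Nat.card A = p ^ 2),
    (E ≤ normalizer (A : Set G) ∧ ∀ X : Subgroup G, X ≤ E → Nat.card X = p → X ≤ A) ∧
      (centralizer (A : Set G) ≤ M ⊓ normalizer (A : Set G) ∧
        M ⊓ normalizer (A : Set G) = E ∧ ¬ normalizer (A : Set G) ≤ M) ∧
      ∀ X : Subgroup G, X ≤ A → Nat.card X = p →
        sigmaCore M ⊓ centralizer (X : Set G) ≠ ⊥ →
        (centralizer (X : Set G) ≤ M ∧ ∀ L : Subgroup G, IsCoatom L →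
          centralizer (X : Set G) ≤ L → L = M)

/-- statement of S1422 -/
def Hyp1422 (G : Type u) [Group G] : Prop :=
  ∀ (p : ℕ) [Fact p.Prime] (P : Subgroup G) (_ : IsPGroup p P) (_ : ¬ IsMulCommutative P),
    InUniqueMaximal P

/-- nonabelian Sylow subgroups of rank at most two are uniqueness subgroups (a case of S1422,
proved in part G from the earlier rows) -/
def HypR2 (G : Type u) [Group G] : Prop :=
  ∀ (p : ℕ) [Fact p.Prime] (T : Subgroup G) (_ : IsSylowIn p T ⊤) (_ : PRankLE p 2 ↥T)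
    (_ : ¬ IsMulCommutative ↥T), InUniqueMaximal T

omit [Finite G] in
theorem hypR2_of_hyp1422 (h : Hyp1422 G) : HypR2 G :=
  fun p _ T hT _ hna => h p T hT.isPGroup hna

/-! ### basic facts on `σ(M)` -/

omit [Finite G] in
theorem sigmaCore_le (M : Subgroup G) : sigmaCore M ≤ M := Subgroup.map_subtype_le _

theorem le_normalizer_sigmaCore (M : Subgroup G) :
    M ≤ normalizer ((sigmaCore M : Subgroup G) : Set G) := by
  have : (piCore (sigma M) ↥M).Normal := piCore_normal _ _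
  exact le_normalizer_map_subtype M _

theorem isPiNum_card_sigmaCore (M : Subgroup G) :
    IsPiNum (sigma M) (Nat.card ↥(sigmaCore M)) := by
  unfold sigmaCore
  rw [Subgroup.card_map_of_injective M.subtype_injective]
  exact Cfsg.Agent.Helper10.card_piCore _

omit [Finite G] in
theorem prime_of_mem_sigma {M : Subgroup G} {p : ℕ} (hp : p ∈ sigma M) : p.Prime := hp.1

omit [Finite G] in
theorem dvd_card_of_mem_sigma {M : Subgroup G} {p : ℕ} (hp : p ∈ sigma M) : p ∣ Nat.card ↥M :=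
  hp.2.1

/-- for `p ∈ σ(M)` every Sylow `p`-subgroup of `M` has its normalizer in `M` -/
theorem normalizer_le_of_mem_sigma {M : Subgroup G} {p : ℕ} [Fact p.Prime] (hp : p ∈ sigma M)
    {T : Subgroup G} (hT : IsSylowIn p T M) : normalizer (T : Set G) ≤ M := by
  obtain ⟨-, -, P₀, hP₀⟩ := hp
  obtain ⟨k, hkM, hk⟩ := (isSylowIn_map_subtype P₀).exists_conj hT
  rw [← hk, Cfsg.Agent.Helper14.normalizer_map_conj]
  have := map_conj_mono hP₀ k
  rwa [map_conj_eq_self_of_mem hkM] at this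

/-- for `p ∈ σ(M)` every Sylow `p`-subgroup of `M` is a Sylow subgroup of `G` -/
theorem isSylowIn_top_of_mem_sigma {M : Subgroup G} {p : ℕ} [Fact p.Prime] (hp : p ∈ sigma M)
    {T : Subgroup G} (hT : IsSylowIn p T M) : IsSylowIn p T ⊤ := by
  apply Cfsg.Agent.Helper15.ZStarMin.isSylowIn_top_of_normalizer
  exact hT.of_le Subgroup.le_normalizer (normalizer_le_of_mem_sigma hp hT)


theorem isPiNum_of_isPGroup {π : Set ℕ} {q : ℕ} [Fact q.Prime] (hq : q ∈ π) {T : Subgroup G}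
    (hT : IsPGroup q ↥T) : IsPiNum π (Nat.card ↥T) := by
  obtain ⟨k, hk⟩ := hT.exists_card_eq
  intro r hr hrd
  rw [hk] at hrd
  have := (Nat.prime_dvd_prime_iff_eq hr Fact.out).mp (hr.dvd_of_dvd_pow hrd)
  rw [this]; exact hq

/-- a `σ(M)`-subgroup of `M` lies in `M_σ` -/
theorem le_sigmaCore_of_isPiNum (h1350 : Hyp1350 G) {M : Subgroup G} (hM : IsCoatom M)
    {Y : Subgroup G} (hYM : Y ≤ M) (hY : IsPiNum (sigma M) (Nat.card ↥Y)) : Y ≤ sigmaCore M := by
  obtain ⟨⟨hle, -, hidx⟩, -, -⟩ := h1350 M hM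
  set S := sigmaCore M with hS
  have hYN : Y ≤ normalizer (S : Set G) := hYM.trans (le_normalizer_sigmaCore M)
  have h1 : Nat.card ↥(S ⊔ Y : Subgroup G) ∣ Nat.card ↥S * Nat.card ↥Y :=
    Cfsg.Agent.Helper7.card_sup_dvd_mul_of_le_normalizer hYN
  have h2 : IsPiNum (sigma M) (Nat.card ↥(S ⊔ Y : Subgroup G)) :=
    IsPiNum.of_dvd h1 ((isPiNum_card_sigmaCore M).mul hY)
  have hle2 : S ⊔ Y ≤ M := sup_le hle hYM
  have h3 : S.relIndex (S ⊔ Y) ∣ S.relIndex M :=
    Dvd.intro _ (Subgroup.relIndex_mul_relIndex S (S ⊔ Y) M le_sup_left hle2)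
  have h4 : S.relIndex (S ⊔ Y) ∣ Nat.card ↥(S ⊔ Y : Subgroup G) :=
    Subgroup.relIndex_dvd_card S (S ⊔ Y)
  have h5 : S.relIndex (S ⊔ Y) = 1 := by
    by_contra hne
    obtain ⟨r, hr, hrd⟩ := Nat.exists_prime_and_dvd hne
    exact hidx r hr (h2 r hr (hrd.trans h4)) (hrd.trans h3)
  have h6 : S ⊔ Y ≤ S := Subgroup.relIndex_eq_one.mp h5
  exact le_sup_right.trans h6

/-- a `q`-subgroup of `G`, `q ∈ σ(M)`, is conjugate into `M_σ` -/
theorem exists_conj_le_sigmaCore_of_isPGroup (h1350 : Hyp1350 G) {M : Subgroup G}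
    (hM : IsCoatom M) {q : ℕ} [Fact q.Prime] (hq : q ∈ sigma M) {X : Subgroup G}
    (hX : IsPGroup q ↥X) : ∃ g : G, X.map (MulAut.conj g).toMonoidHom ≤ sigmaCore M := by
  obtain ⟨T, hT⟩ := Cfsg.Agent.Helper15.exists_isSylowIn (p := q) M
  have hTtop := isSylowIn_top_of_mem_sigma hq hT
  obtain ⟨Q', hXQ'⟩ := hX.exists_le_sylow
  obtain ⟨k, -, hk⟩ := (isSylowIn_top Q').exists_conj hTtop
  refine ⟨k, ?_⟩
  have h1 : X.map (MulAut.conj k).toMonoidHom ≤ T := by
    rw [← hk]; exact map_conj_mono hXQ' k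
  exact h1.trans (le_sigmaCore_of_isPiNum h1350 hM hT.le (isPiNum_of_isPGroup hq hT.isPGroup))

end Cfsg.Agent.Helper22.BG13
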