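import Mathlib
import Cfsg.Prelude.Def_Transfer

/-!
# Burnside's normal `p`-complement theorem, packaged for the statements

Shared library of helper22.  Everything lives in `Cfsg.Agent.Helper22`.
-/

set_option autoImplicit false

namespace Cfsg.Agent.Helper22

open Subgroup

variable {G : Type*} [Group G] [Finite G] {p : ℕ} [Fact p.Prime]

/-- Burnside: a Sylow subgroup central in its normalizer has a normal complement. -/
theorem hasNormalPComplement_of_normalizer_le_centralizer (P : Sylow p G)
    (hP : normalizer (P : Set G) ≤ centralizer (P : Set G)) : Cfsg.HasNormalPComplement p G :=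
  ⟨P, (MonoidHom.transferSylow P hP).ker, inferInstance,
    MonoidHom.ker_transferSylow_isComplement' P hP⟩

/-- The image of `N(P) → Aut(P)` has order dividing `|G|`. -/
theorem card_range_normalizerMonoidHom_dvd_card (P : Subgroup G) :
    Nat.card (P.normalizerMonoidHom).range ∣ Nat.card G := by
  rw [← Subgroup.index_ker]
  exact (Subgroup.index_dvd_card _).trans (Subgroup.card_subgroup_dvd_card _)

/-- For an abelian Sylow `p`-subgroup `P`, the image of `N(P) → Aut(P)` has order prime to `p`. -/
theorem not_dvd_card_range_normalizerMonoidHom (P : Sylow p G) [IsMulCommutative P] :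
    ¬ p ∣ Nat.card ((P : Subgroup G).normalizerMonoidHom).range := by
  rw [← Subgroup.index_ker, normalizerMonoidHom_ker]
  intro h
  apply P.not_dvd_index
  have h1 : ((centralizer (P : Set G)).subgroupOf (normalizer (P : Set G))).index ∣
      (P : Subgroup G).relIndex (normalizer (P : Set G)) :=
    relIndex_dvd_of_le_left _ (P : Subgroup G).le_centralizer
  exact h.trans (h1.trans (relIndex_dvd_index_of_le (P : Subgroup G).le_normalizer))

/-- Arithmetic criterion: if `P` is an abelian Sylow `p`-subgroup of order `p ^ n` and no prime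
divisor of `|G|` divides any of `p ^ k - 1`, `1 ≤ k ≤ n`, then `N(P) ≤ C(P)`. -/
theorem normalizer_le_centralizer_of_abelian_sylow (P : Sylow p G) [IsMulCommutative P] (n : ℕ)
    (hcard : Nat.card P = p ^ n)
    (h : ∀ q : ℕ, q.Prime → q ∣ Nat.card G → ∀ k : ℕ, 1 ≤ k → k ≤ n → ¬ q ∣ p ^ k - 1) :
    normalizer (P : Set G) ≤ centralizer (P : Set G) := by
  have hpp : p.Prime := Fact.out
  set φ := (P : Subgroup G).normalizerMonoidHom with hφ
  -- it suffices that the range is trivial
  suffices hr : φ.range = ⊥ by
    intro g hg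
    have hk : (⟨g, hg⟩ : normalizer ((P : Subgroup G) : Set G)) ∈ φ.ker := by
      rw [MonoidHom.mem_ker]
      have : φ ⟨g, hg⟩ ∈ φ.range := ⟨_, rfl⟩
      rw [hr, Subgroup.mem_bot] at this
      exact this
    rw [hφ, normalizerMonoidHom_ker, mem_subgroupOf] at hk
    exact hk
  by_contra hne
  have hcard1 : Nat.card φ.range ≠ 1 := by
    intro h1
    exact hne (Subgroup.card_eq_one.1 h1)
  obtain ⟨q, hq, hqdvd⟩ := Nat.exists_prime_and_dvd hcard1
  haveI : Fact q.Prime := ⟨hq⟩
  obtain ⟨⟨α, hαr⟩, hα⟩ := exists_prime_orderOf_dvd_card' q hqdvd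
  have hαo : orderOf α = q := by
    rw [← hα]
    exact (Subgroup.orderOf_mk α hαr).symm
  have hqG : q ∣ Nat.card G := hqdvd.trans (card_range_normalizerMonoidHom_dvd_card _)
  have hqp : q ≠ p := by
    rintro rfl
    exact not_dvd_card_range_normalizerMonoidHom P hqdvd
  -- the fixed points of α
  let F : Subgroup P :=
    { carrier := {t | α t = t}
      one_mem' := map_one α
      mul_mem' := by
        intro a b ha hb
        simp only [Set.mem_setOf_eq] at ha hb ⊢
        rw [map_mul, ha, hb]
      inv_mem' := by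
        intro a ha
        simp only [Set.mem_setOf_eq] at ha ⊢
        rw [map_inv, ha] }
  have hZ : IsPGroup q (Subgroup.zpowers α) := by
    apply IsPGroup.of_card (n := 1)
    rw [Nat.card_zpowers, hαo, pow_one]
  have hmod := hZ.card_modEq_card_fixedPoints P
  have hfix : (MulAction.fixedPoints (Subgroup.zpowers α) P) = (F : Set P) := by
    ext t
    simp only [MulAction.mem_fixedPoints]
    constructor
    · intro ht
      exact ht ⟨α, Subgroup.mem_zpowers α⟩
    · rintro ht ⟨β, k, rfl⟩
      change (α ^ k) t = t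
      have hcomm : ∀ m : ℕ, (α ^ m) t = t := by
        intro m
        induction m with
        | zero => simp
        | succ m ih => rw [pow_succ, MulAut.mul_apply, ht, ih]
      obtain ⟨m, rfl | rfl⟩ := Int.eq_nat_or_neg k
      · rw [zpow_natCast]; exact hcomm m
      · rw [zpow_neg, zpow_natCast]
        have := hcomm m
        rw [MulAut.inv_apply, MulEquiv.symm_apply_eq]
        exact this.symm
  have hcardfix : Nat.card (MulAction.fixedPoints (Subgroup.zpowers α) P) = Nat.card F := by
    rw [hfix]; rfl
  rw [hcardfix, hcard] at hmod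
  have hFdvd : Nat.card F ∣ p ^ n := by
    rw [← hcard]; exact Subgroup.card_subgroup_dvd_card F
  obtain ⟨m, hmn, hm⟩ := (Nat.dvd_prime_pow hpp).1 hFdvd
  rw [hm] at hmod
  rcases Nat.lt_or_ge m n with hlt | hge
  · -- q divides p ^ m * (p ^ (n - m) - 1)
    have hle : p ^ m ≤ p ^ n := Nat.pow_le_pow_right hpp.pos hmn
    have hd : q ∣ p ^ n - p ^ m := (Nat.modEq_iff_dvd' hle).1 hmod.symm
    have hfac : p ^ n - p ^ m = p ^ m * (p ^ (n - m) - 1) := by
      rw [Nat.mul_sub, mul_one, ← pow_add, Nat.add_sub_cancel' hmn]
    rw [hfac] at hd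
    rcases (Nat.Prime.dvd_mul hq).1 hd with h1 | h1
    · have := hq.dvd_of_dvd_pow h1
      exact hqp ((Nat.prime_dvd_prime_iff_eq hq hpp).1 this)
    · exact h q hq hqG (n - m) (by omega) (by omega) h1
  · -- F = ⊤ so α = 1
    have hmn' : m = n := le_antisymm hmn hge
    have hFtop : F = ⊤ := by
      rw [← Subgroup.card_eq_iff_eq_top, hm, hmn', hcard]
    have hα1 : α = 1 := by
      ext t
      have : t ∈ F := by rw [hFtop]; trivial
      have h2 : α t = t := this
      rw [h2]; rfl
    rw [hα1, orderOf_one] at hαo
    exact hq.one_lt.ne hαo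

/-- A complement to one Sylow `p`-subgroup complements every Sylow `p`-subgroup. -/
theorem isComplement'_sylow_of_isComplement' (P P' : Sylow p G) (K : Subgroup G)
    (h : K.IsComplement' (P' : Subgroup G)) : K.IsComplement' (P : Subgroup G) := by
  have hpp : p.Prime := Fact.out
  have hcard : Nat.card P = Nat.card P' := by
    rw [Sylow.card_eq_multiplicity, Sylow.card_eq_multiplicity]
  apply Subgroup.isComplement'_of_coprime
  · rw [hcard]; exact h.card_mul_card
  · obtain ⟨n, hn⟩ := P.2.exists_card_eq
    rw [hn]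
    apply Nat.Coprime.pow_right
    rw [Nat.coprime_comm, hpp.coprime_iff_not_dvd, ← h.index_eq_card]
    exact P'.not_dvd_index

/-- A normal `p`-complement can be taken relative to any given Sylow `p`-subgroup. -/
theorem hasNormalPComplement_iff (P : Sylow p G) :
    Cfsg.HasNormalPComplement p G ↔ ∃ K : Subgroup G, K.Normal ∧ K.IsComplement' (P : Subgroup G) := by
  constructor
  · rintro ⟨P', K, hK, hc⟩
    exact ⟨K, hK, isComplement'_sylow_of_isComplement' P P' K hc⟩
  · rintro ⟨K, hK, hc⟩
    exact ⟨P, K, hK, hc⟩

end Cfsg.Agent.Helper22
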