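import Mathlib
import Cfsg.Agent.Lib.Helper22.BG13A
import Cfsg.Agent.Lib.Helper22.Burnside
import Cfsg.Agent.Lib.Helper22.SmallOmega
import Cfsg.Agent.Lib.Helper23.BG10B
import Cfsg.Agent.Lib.Helper9.StronglyEmbedded
import Cfsg.Agent.S1452
import Cfsg.Agent.Lib.Helper3.Thompson

/-!
# Bender-Glauberman section 13, part B (helper22): general group-theoretic lemmas for 13.1
-/

set_option autoImplicit false

namespace Cfsg.Agent.Helper22.BG13

open Cfsg Subgroup
open scoped commutatorElement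
open Cfsg.Agent.Helper14.BGTrans Cfsg.Agent.Helper14.BGUniq
open Cfsg.Agent.Helper10 (IsPiNum)
open Cfsg.Agent.Helper15 (IsSylowIn isSylowIn_of_sylow_le isSylowIn_map_subtype isSylowIn_top
  map_conj_eq_of_mem_normalizer map_conj_map_conj card_map_conj
  map_conj_map_conj_inv map_conj_inv_map_conj isPGroup_map_conj map_conj_mono
  map_conj_eq_self_of_mem exists_isSylowIn_ge)

universe u

section general

variable {H : Type*} [Group H]

/-- the derived subgroup of a subgroup, computed inside the subgroup -/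
theorem commutator_eq_map_subtype (S : Subgroup H) :
    ⁅S, S⁆ = (commutator ↥S).map S.subtype := by
  rw [_root_.commutator_def, Subgroup.map_commutator, ← MonoidHom.range_eq_map,
    Subgroup.range_subtype]

theorem commutator_self_le (S : Subgroup H) : ⁅S, S⁆ ≤ S := by
  rw [Subgroup.commutator_le]
  intro a ha b hb
  rw [commutatorElement_def]
  exact S.mul_mem (S.mul_mem (S.mul_mem ha hb) (S.inv_mem ha)) (S.inv_mem hb)

/-- with a normal `p`-complement, a Sylow `p`-subgroup meets the derived subgroup in its own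
derived subgroup -/
theorem sylow_inf_commutator_le [Finite H] {p : ℕ} [Fact p.Prime]
    (h : HasNormalPComplement p H) (T : Sylow p H) :
    (T : Subgroup H) ⊓ commutator H ≤ ⁅(T : Subgroup H), (T : Subgroup H)⁆ := by
  obtain ⟨N, hN, hc⟩ := (hasNormalPComplement_iff T).mp h
  intro x hx
  obtain ⟨hxT, hxc⟩ := hx
  have htop : (T : Subgroup H).map (QuotientGroup.mk' N) = ⊤ := by
    have h1 : N ⊔ (T : Subgroup H) = ⊤ := hc.sup_eq_top
    have h2 := congrArg (Subgroup.map (QuotientGroup.mk' N)) h1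
    rw [Subgroup.map_sup, Subgroup.map_top_of_surjective _ (QuotientGroup.mk'_surjective N),
      QuotientGroup.map_mk'_self, bot_sup_eq] at h2
    exact h2
  have h3 : (QuotientGroup.mk' N) x ∈
      (⁅(T : Subgroup H), (T : Subgroup H)⁆).map (QuotientGroup.mk' N) := by
    rw [Subgroup.map_commutator, htop, ← _root_.commutator_def]
    have h4 : (commutator H).map (QuotientGroup.mk' N) ≤ commutator (H ⧸ N) := by
      rw [_root_.commutator_def, Subgroup.map_commutator, _root_.commutator_def]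
      exact Subgroup.commutator_mono le_top le_top
    exact h4 (Subgroup.mem_map_of_mem _ hxc)
  obtain ⟨t, ht, hte⟩ := h3
  have h4 : t⁻¹ * x ∈ N := by
    rw [← QuotientGroup.eq]; exact hte
  have h5 : t⁻¹ * x ∈ (T : Subgroup H) :=
    mul_mem (inv_mem (commutator_self_le _ ht)) hxT
  have h6 : t⁻¹ * x = 1 := (Subgroup.disjoint_def.mp hc.disjoint) h4 h5
  have h7 : x = t := by
    rw [inv_mul_eq_one] at h6; exact h6.symm
  rw [h7]; exact ht

theorem commutatorElement_mul_central {a b y : H} (hby : b * y = y * b) :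
    ⁅a * b, y⁆ = ⁅a, y⁆ := by
  rw [commutatorElement_def, commutatorElement_def, mul_inv_rev]
  have : a * b * y * (b⁻¹ * a⁻¹) = a * y * a⁻¹ := by
    rw [mul_assoc a b y, hby]; group
  rw [this]

/-- the derived subgroup of a central product `A * B` with `B` abelian -/
theorem commutator_sup_le_of_commute {A B : Subgroup H}
    (hAB : ∀ a ∈ A, ∀ b ∈ B, a * b = b * a) (hB : ∀ b ∈ B, ∀ b' ∈ B, b * b' = b' * b) :
    ⁅A ⊔ B, A ⊔ B⁆ ≤ ⁅A, A⁆ := by
  have hBN : B ≤ normalizer (A : Set H) := by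
    intro b hb
    apply Subgroup.centralizer_le_normalizer
    rw [Subgroup.mem_centralizer_iff]; intro a ha; exact hAB a ha b hb
  have hmem : ∀ x ∈ A ⊔ B, ∃ a ∈ A, ∃ b ∈ B, a * b = x := by
    intro x hx
    have h1 : x ∈ ((A ⊔ B : Subgroup H) : Set H) := hx
    rw [Subgroup.coe_mul_of_right_le_normalizer_left A B hBN] at h1
    exact Set.mem_mul.mp h1
  rw [Subgroup.commutator_le]
  intro x hx y hy
  obtain ⟨a, ha, b, hb, rfl⟩ := hmem x hx
  obtain ⟨a', ha', b', hb', rfl⟩ := hmem y hy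
  have h1 : ⁅a * b, a' * b'⁆ = ⁅a, a' * b'⁆ := by
    apply commutatorElement_mul_central
    rw [← mul_assoc, ← hAB a' ha' b hb, mul_assoc, hB b hb b' hb', ← mul_assoc]
  have h2 : ⁅a, a' * b'⁆ = ⁅a, a'⁆ := by
    rw [← commutatorElement_inv, ← commutatorElement_inv a' a]
    congr 1
    apply commutatorElement_mul_central
    exact (hAB a ha b' hb').symm
  rw [h1, h2]
  exact Subgroup.commutator_mem_commutator ha ha'

/-- a normal subgroup of index at most `p` in a `p`-group contains the derived subgroup -/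
theorem commutator_le_of_relIndex_le [Finite H] {p : ℕ} [Fact p.Prime] {T C : Subgroup H}
    (hT : IsPGroup p ↥T) (hn : T ≤ normalizer (C : Set H)) (hidx : C.relIndex T ≤ p) :
    ⁅T, T⁆ ≤ C := by
  have hpp : p.Prime := Fact.out
  have hnorm : (C.subgroupOf T).Normal := by
    refine ⟨fun n hn' g => ?_⟩
    rw [Subgroup.mem_subgroupOf] at hn' ⊢
    have := (Subgroup.mem_normalizer_iff.mp (hn g.2) (n : H)).mp hn'
    simpa using this
  have hle : commutator ↥T ≤ C.subgroupOf T := by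
    obtain ⟨n, hn'⟩ := hT.index (C.subgroupOf T)
    have hidx' : (C.subgroupOf T).index ≤ p := hidx
    rw [hn'] at hidx'
    have hn1 : n ≤ 1 := by
      by_contra hlt
      have : p ^ 2 ≤ p ^ n := Nat.pow_le_pow_right hpp.pos (by omega)
      have h2 : p < p ^ 2 := by
        have := hpp.one_lt
        nlinarith
      omega
    rcases Nat.lt_or_ge n 1 with h0 | h1
    · have hn0 : n = 0 := by omega
      rw [hn0, pow_zero, Subgroup.index_eq_one] at hn'
      rw [hn']; exact le_top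
    · have hn1' : n = 1 := by omega
      rw [hn1', pow_one] at hn'
      rw [← Subgroup.Normal.quotient_commutative_iff_commutator_le]
      have hc : Nat.card (↥T ⧸ C.subgroupOf T) = p := by
        rw [← Subgroup.index_eq_card, hn']
      exact (isCyclic_of_prime_card hc).isMulCommutative
  intro x hx
  rw [commutator_eq_map_subtype] at hx
  obtain ⟨y, hy, rfl⟩ := hx
  exact Subgroup.mem_subgroupOf.mp (hle hy)

/-- version of `sylow_inf_commutator_le` for subgroups of an ambient group -/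
theorem isSylowIn_inf_commutator_le [Finite H] {p : ℕ} [Fact p.Prime] {S T : Subgroup H}
    (h : HasNormalPComplement p ↥S) (hT : IsSylowIn p T S) : T ⊓ ⁅S, S⁆ ≤ ⁅T, T⁆ := by
  intro x hx
  have hxS : x ∈ S := hT.le hx.1
  have h1 := sylow_inf_commutator_le h hT.toSylow
  have h2 : (⟨x, hxS⟩ : ↥S) ∈ (hT.toSylow : Subgroup ↥S) ⊓ commutator ↥S := by
    refine ⟨?_, ?_⟩
    · rw [hT.coe_toSylow]
      exact Subgroup.mem_subgroupOf.mpr hx.1
    · have hx2 := hx.2
      rw [commutator_eq_map_subtype] at hx2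
      obtain ⟨y, hy, hyx⟩ := hx2
      have : y = ⟨x, hxS⟩ := Subtype.ext hyx
      rwa [← this]
  have h3 := h1 h2
  rw [hT.coe_toSylow] at h3
  have h4 := Subgroup.mem_map_of_mem S.subtype h3
  rw [Subgroup.map_commutator, Subgroup.map_subgroupOf_eq_of_le hT.le] at h4
  exact h4

/-- in a group of order `p ^ 3` the derived subgroup is central (subgroup version) -/
theorem commutator_le_centralizer_of_card_cube [Finite H] {p : ℕ} [Fact p.Prime] {P₁ : Subgroup H}
    (hP : IsPGroup p ↥P₁) (hc : Nat.card ↥P₁ = p ^ 3) :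
    ⁅P₁, P₁⁆ ≤ centralizer (P₁ : Set H) := by
  have h1 := Cfsg.Agent.Helper22.commutator_le_center_of_card_le_cube hP hc.le
  intro x hx
  rw [commutator_eq_map_subtype] at hx
  obtain ⟨y, hy, rfl⟩ := hx
  have hy2 := h1 hy
  rw [Subgroup.mem_centralizer_iff]
  intro a ha
  have := Subgroup.mem_center_iff.mp hy2 ⟨a, ha⟩
  exact congrArg Subtype.val this

end general

section main

variable {G : Type u} [Group G] [Finite G]

open Cfsg.Agent.Helper23.BG10 (isElementaryAbelian_of_card_eq centralizer_ne_top')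

/-- elementary abelian subgroups of order more than `p ^ 2` are uniqueness subgroups -/
theorem inUniqueMaximal_of_elemAb (hG : IsMinSimpleOddOrder G) (h1403 : Hyp1403 G) {p : ℕ}
    [Fact p.Prime] {B : Subgroup G} (hB : IsElementaryAbelian p B)
    (hcard : p ^ 2 < Nat.card ↥B) : InUniqueMaximal B := by
  have hp : p.Prime := Fact.out
  apply h1403 B (ne_top_of_isPGroup hG (isPGroup_of_isElementaryAbelian hB))
  · apply not_rankLE_of_lt le_rfl hB
    exact lt_trans (Nat.pow_lt_pow_right hp.one_lt (by norm_num)) hcard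
  · exact Or.inl (not_rankLE_of_lt le_rfl hB hcard)

theorem card_lt_of_le_of_not_mem {A B : Subgroup G} (hAB : A ≤ B) {y : G} (hyB : y ∈ B)
    (hyA : y ∉ A) : Nat.card ↥A < Nat.card ↥B := by
  by_contra h
  have := Subgroup.eq_of_le_of_card_ge hAB (not_lt.mp h)
  exact hyA (this ▸ hyB)

/-- adjoining a commuting element of order `p` outside an elementary abelian subgroup -/
theorem elemAb_sup_zpowers {p : ℕ} [Fact p.Prime] {E : Subgroup G}
    (hE : IsElementaryAbelian p E) {y : G} (hyC : y ∈ centralizer (E : Set G)) (hyp : y ^ p = 1)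
    (hyE : y ∉ E) :
    IsElementaryAbelian p (E ⊔ zpowers y) ∧ Nat.card ↥E < Nat.card ↥(E ⊔ zpowers y : Subgroup G) := by
  refine ⟨Cfsg.Agent.Helper23.BG10.isElementaryAbelian_sup hE
    (Cfsg.Agent.Helper23.BG10.isElementaryAbelian_zpowers hyp)
    (by rw [Subgroup.zpowers_le]; exact hyC), ?_⟩
  exact card_lt_of_le_of_not_mem le_sup_left
    ((le_sup_right : zpowers y ≤ E ⊔ zpowers y) (Subgroup.mem_zpowers y)) hyE

omit [Finite G] in
theorem card_prime_ne_bot {p : ℕ} [Fact p.Prime] {X : Subgroup G} (hX : Nat.card ↥X = p) :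
    X ≠ ⊥ := by
  intro h
  rw [h, Subgroup.card_bot] at hX
  exact (Fact.out : p.Prime).one_lt.ne hX

/-- adjoining a commuting element of order `p` outside a subgroup of order `p` -/
theorem card_sup_zpowers_eq_sq {p : ℕ} [Fact p.Prime] {X : Subgroup G}
    (hX : Nat.card ↥X = p) {y : G} (hyC : y ∈ centralizer (X : Set G)) (hyp : y ^ p = 1)
    (hyX : y ∉ X) :
    IsElementaryAbelian p (X ⊔ zpowers y) ∧ Nat.card ↥(X ⊔ zpowers y : Subgroup G) = p ^ 2 := by
  have hpp : p.Prime := Fact.out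
  have hXe : IsElementaryAbelian p X := isElementaryAbelian_of_card_eq hX
  obtain ⟨hAe, hAlt⟩ := elemAb_sup_zpowers hXe hyC hyp hyX
  refine ⟨hAe, ?_⟩
  have hYN : zpowers y ≤ normalizer (X : Set G) := by
    rw [Subgroup.zpowers_le]
    exact Subgroup.centralizer_le_normalizer (X : Set G) hyC
  have h1 : Nat.card ↥(X ⊔ zpowers y : Subgroup G) ∣ Nat.card ↥X * Nat.card ↥(zpowers y) :=
    Cfsg.Agent.Helper7.card_sup_dvd_mul_of_le_normalizer hYN
  have h2 : Nat.card ↥(zpowers y) ∣ p := by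
    rw [Nat.card_zpowers]; exact orderOf_dvd_of_pow_eq_one hyp
  have h3 : Nat.card ↥(X ⊔ zpowers y : Subgroup G) ∣ p ^ 2 := by
    rw [sq]
    exact h1.trans (by rw [hX]; exact Nat.mul_dvd_mul_left p h2)
  obtain ⟨i, hi2, hi⟩ := (Nat.dvd_prime_pow hpp).mp h3
  rw [hX, hi] at hAlt
  have h4 : 1 < i := by
    have : p ^ 1 < p ^ i := by rwa [pow_one]
    exact (Nat.pow_lt_pow_iff_right hpp.one_lt).mp this
  have : i = 2 := by omega
  rw [hi, this]

/-- the case `p ∈ β(M)` of 13.1 -/
theorem exists_of_beta (hG : IsMinSimpleOddOrder G) (h1403 : Hyp1403 G) {M : Subgroup G}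
    (hM : IsCoatom M) {p : ℕ} [Fact p.Prime] (hp : p ∈ sigma M) (hβ : p ∈ beta M)
    {X T : Subgroup G} (hX : Nat.card ↥X = p) (hXT : X ≤ T) (hT : IsSylowIn p T M) :
    InUniqueMaximal T ∧ ∃ B : Subgroup G, B ≤ T ∧ InUniqueMaximal B ∧
      B ≤ centralizer (X : Set G) := by
  have hpp : p.Prime := Fact.out
  obtain ⟨⟨-, hα⟩, -, -, hideal⟩ := hβ
  obtain ⟨E₀, hE₀M, hE₀e, hE₀c⟩ := exists_elemAb_of_not_pRankLE hα
  obtain ⟨T', hE₀T', hT'⟩ := exists_isSylowIn_ge (isPGroup_of_isElementaryAbelian hE₀e) hE₀M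
  obtain ⟨k, hkM, hk⟩ := hT'.exists_conj hT
  set E := E₀.map (MulAut.conj k).toMonoidHom with hEdef
  have hET : E ≤ T := by rw [← hk]; exact map_conj_mono hE₀T' k
  have hEe : IsElementaryAbelian p E := Cfsg.Agent.Helper3.isElementaryAbelian_map _ hE₀e
  have hEc : p ^ 2 < Nat.card ↥E := by rw [hEdef, card_map_conj]; exact hE₀c
  have hEU := inUniqueMaximal_of_elemAb hG h1403 hEe hEc
  have hTU : InUniqueMaximal T := inUniqueMaximal_of_le hM hT.le hET hEU
  refine ⟨hTU, ?_⟩
  have hTtop := isSylowIn_top_of_mem_sigma hp hT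
  have hXe : IsElementaryAbelian p X := isElementaryAbelian_of_card_eq hX
  have hX1 : X ≠ ⊥ := card_prime_ne_bot hX
  have hT1 : T ≠ ⊥ := fun h => hX1 (le_bot_iff.mp (h ▸ hXT))
  have hy : ∃ y ∈ T, y ∈ centralizer (X : Set G) ∧ y ^ p = 1 ∧ y ∉ X := by
    obtain ⟨z, hzT, hzo, hzc⟩ := Cfsg.Agent.Helper9.exists_central_order_p T hT.isPGroup hT1
    have hzp : z ^ p = 1 := by rw [← hzo]; exact pow_orderOf_eq_one z
    by_cases hzX : z ∈ X
    · have hz1 : z ≠ 1 := by
        intro h; rw [h, orderOf_one] at hzo; exact hpp.one_lt.ne hzo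
      have hXc : ∀ x ∈ X, ∀ t ∈ T, t * x = x * t := by
        intro x hx t ht
        have h1 : (⟨x, hx⟩ : ↥X) ∈ Subgroup.zpowers (⟨z, hzX⟩ : ↥X) :=
          mem_zpowers_of_prime_card hX (fun h => hz1 (congrArg Subtype.val h))
        obtain ⟨n, hn⟩ := Subgroup.mem_zpowers_iff.mp h1
        have hxz : x = z ^ n := by
          have := congrArg Subtype.val hn
          simpa using this.symm
        rw [hxz]
        exact (Commute.zpow_right (hzc t ht) n).eq
      have hEX : ¬ E ≤ X := by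
        intro h
        have h1 := Subgroup.card_le_of_le h
        have h2 : p < p ^ 2 := by
          have := hpp.one_lt
          nlinarith
        omega
      obtain ⟨y, hyE, hyX⟩ := SetLike.not_le_iff_exists.mp hEX
      refine ⟨y, hET hyE, ?_, hEe.2 y hyE, hyX⟩
      rw [Subgroup.mem_centralizer_iff]
      intro x hx
      exact (hXc x hx y (hET hyE)).symm
    · refine ⟨z, hzT, ?_, hzp, hzX⟩
      rw [Subgroup.mem_centralizer_iff]
      intro x hx
      exact hzc x (hXT hx)
  obtain ⟨y, hyT, hyC, hyp, hyX⟩ := hy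
  obtain ⟨hAe, hAlt⟩ := elemAb_sup_zpowers hXe hyC hyp hyX
  set A := X ⊔ zpowers y with hAdef
  have hXA : X ≤ A := le_sup_left
  have hAT : A ≤ T := sup_le hXT (by rw [Subgroup.zpowers_le]; exact hyT)
  have hAc : Nat.card ↥A = p ^ 2 := by
    have hYN : zpowers y ≤ normalizer (X : Set G) := by
      rw [Subgroup.zpowers_le]
      exact Subgroup.centralizer_le_normalizer (X : Set G) hyC
    have h1 : Nat.card ↥A ∣ Nat.card ↥X * Nat.card ↥(zpowers y) :=
      Cfsg.Agent.Helper7.card_sup_dvd_mul_of_le_normalizer hYN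
    have h2 : Nat.card ↥(zpowers y) ∣ p := by
      rw [Nat.card_zpowers]; exact orderOf_dvd_of_pow_eq_one hyp
    have h3 : Nat.card ↥A ∣ p ^ 2 := by
      rw [sq]
      exact h1.trans (by rw [hX]; exact Nat.mul_dvd_mul_left p h2)
    obtain ⟨i, hi2, hi⟩ := (Nat.dvd_prime_pow hpp).mp h3
    rw [hX, hi] at hAlt
    have h4 : 1 < i := by
      have : p ^ 1 < p ^ i := by rwa [pow_one]
      exact (Nat.pow_lt_pow_iff_right hpp.one_lt).mp this
    have : i = 2 := by omega
    rw [hi, this]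
  obtain ⟨B, hBQ, hBe, hAB⟩ := hideal hTtop.sylowOfTop A hAT hAe hAc
  refine ⟨B, hBQ, ?_, ?_⟩
  · apply inUniqueMaximal_of_elemAb hG h1403 hBe
    rw [← hAc]
    by_contra h
    exact hAB.ne (Subgroup.eq_of_le_of_card_ge hAB.le (not_lt.mp h))
  · exact (le_centralizer_self_of_isElementaryAbelian hBe).trans
      (Subgroup.centralizer_le (hXA.trans hAB.le))

/-- the case `X ≤ (M_σ)'`, `p ∉ β(M)` of 13.1 -/
theorem exists_of_commutator (hG : IsMinSimpleOddOrder G) (h1403 : Hyp1403 G)
    (h1350 : Hyp1350 G) (h1412 : Hyp1412 G) (h1414 : Hyp1414 G) (hR2 : HypR2 G)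
    {M : Subgroup G} (hM : IsCoatom M) {p : ℕ} [Fact p.Prime] (hp : p ∈ sigma M)
    (hβ : p ∉ beta M) {X T : Subgroup G} (hX : Nat.card ↥X = p) (hXT : X ≤ T)
    (hT : IsSylowIn p T M) (hXc : X ≤ ⁅sigmaCore M, sigmaCore M⁆) :
    InUniqueMaximal T ∧ ∃ B : Subgroup G, B ≤ T ∧ InUniqueMaximal B ∧
      B ≤ centralizer (X : Set G) := by
  have hpp : p.Prime := Fact.out
  have hpG : p ∣ Nat.card G :=
    (dvd_card_of_mem_sigma hp).trans (Subgroup.card_subgroup_dvd_card M)
  have hp2 : p ≠ 2 := prime_ne_two_of_dvd hG hpG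
  have hTS : T ≤ sigmaCore M :=
    le_sigmaCore_of_isPiNum h1350 hM hT.le (isPiNum_of_isPGroup hp hT.isPGroup)
  have hTσ : IsSylowIn p T (sigmaCore M) := hT.of_le hTS (sigmaCore_le M)
  have hnpc : HasNormalPComplement p ↥(sigmaCore M) :=
    ((h1414 M hM).2.2.2.2 p hpp (dvd_card_of_mem_sigma hp) hβ).2.1
  have hXTT : X ≤ ⁅T, T⁆ := fun x hx =>
    isSylowIn_inf_commutator_le hnpc hTσ ⟨hXT hx, hXc hx⟩
  have hX1 : X ≠ ⊥ := card_prime_ne_bot hX
  have hXe : IsElementaryAbelian p X := isElementaryAbelian_of_card_eq hX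
  have hna : ¬ IsMulCommutative ↥T := by
    intro h
    have h1 : ⁅T, T⁆ = ⊥ := Subgroup.commutator_eq_bot_iff_le_centralizer.mpr
      (Subgroup.le_centralizer_iff_isMulCommutative.mpr h)
    rw [h1] at hXTT
    exact hX1 (le_bot_iff.mp hXTT)
  have hTtop := isSylowIn_top_of_mem_sigma hp hT
  by_cases hr : PRankLE p 2 ↥T
  · rcases h1412 p hTtop.sylowOfTop hr with hc | ⟨P₁, P₂, hsup, hcomm, hna₁, hc₁, -, hcyc, -⟩
    · exact absurd hc hna
    · have hsup' : P₁ ⊔ P₂ = T := hsup
      have hP₁T : P₁ ≤ T := by rw [← hsup']; exact le_sup_left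
      have hP₁p : IsPGroup p ↥P₁ := hT.isPGroup.to_le hP₁T
      have hTU : InUniqueMaximal T := hR2 p T hTtop hr hna
      refine ⟨hTU, T, le_rfl, hTU, ?_⟩
      have hB : ∀ b ∈ P₂, ∀ b' ∈ P₂, b * b' = b' * b := by
        intro b hb b' hb'
        have := hcyc.isMulCommutative
        have h := mul_comm' (⟨b, hb⟩ : ↥P₂) ⟨b', hb'⟩
        exact congrArg Subtype.val h
      have h1 : ⁅T, T⁆ ≤ ⁅P₁, P₁⁆ := by
        rw [← hsup']; exact commutator_sup_le_of_commute hcomm hB
      have h2 := commutator_le_centralizer_of_card_cube hP₁p hc₁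
      have h3 : X ≤ centralizer (P₁ : Set G) := hXTT.trans (h1.trans h2)
      have h4 : X ≤ P₁ := hXTT.trans (h1.trans (commutator_self_le P₁))
      rw [← hsup']
      apply sup_le
      · exact Subgroup.le_centralizer_iff.mp h3
      · intro b hb
        apply Subgroup.mem_centralizer_iff.mpr
        intro x hx
        exact hcomm x (h4 hx) b hb
  · suffices hex : ∃ B : Subgroup G, B ≤ T ∧ InUniqueMaximal B ∧
        B ≤ centralizer (X : Set G) by
      obtain ⟨B, hBT, hBU, hBC⟩ := hex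
      exact ⟨inUniqueMaximal_of_le hM hT.le hBT hBU, B, hBT, hBU, hBC⟩
    have hnc : ¬ IsCyclic ↥T := fun h => hna h.isMulCommutative
    obtain ⟨E, hET, hTE, hEe, hEc⟩ := exists_normal_elemAb_sq hp2 hT.isPGroup hnc
    have hidx := relIndex_centralizer_le hT.isPGroup hET hTE hEc
    have hTC : T ≤ normalizer ((centralizer (E : Set G) : Subgroup G) : Set G) :=
      hTE.trans (normalizer_le_normalizer_centralizer E)
    have hTTC : ⁅T, T⁆ ≤ centralizer (E : Set G) :=
      commutator_le_of_relIndex_le hT.isPGroup hTC hidx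
    have hXE : X ≤ centralizer (E : Set G) := hXTT.trans hTTC
    have hEX : E ≤ centralizer (X : Set G) := Subgroup.le_centralizer_iff.mp hXE
    have hy : ∃ y ∈ T, y ∈ centralizer (E : Set G) ∧ y ∈ centralizer (X : Set G) ∧
        y ^ p = 1 ∧ y ∉ E := by
      by_cases hXE' : X ≤ E
      · obtain ⟨F, hFT, hFe, hFc⟩ := exists_elemAb_of_not_pRankLE hr
        have hnorm : (E.subgroupOf T).Normal :=
          (Subgroup.normal_subgroupOf_iff_le_normalizer hET).mpr hTE
        have hc : Nat.card ↥(E.subgroupOf T) = p ^ 2 := by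
          rw [Nat.card_congr (Subgroup.subgroupOfEquivOfLe hET).toEquiv]; exact hEc
        have hFc' : p ^ 2 < Nat.card ↥(F.subgroupOf T) := by
          rw [Nat.card_congr (Subgroup.subgroupOfEquivOfLe hFT).toEquiv]; exact hFc
        have hFcomm : ∀ a ∈ F.subgroupOf T, ∀ b ∈ F.subgroupOf T, a * b = b * a := by
          intro a ha b hb
          apply Subtype.ext
          exact Cfsg.Agent.Helper3.IsElementaryAbelian.commute hFe
            (Subgroup.mem_subgroupOf.mp ha) (Subgroup.mem_subgroupOf.mp hb)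
        obtain ⟨x, hx, hxE⟩ := Cfsg.Agent.S1452.exists_mem_centralizer_not_mem (P := ↥T)
          hT.isPGroup (E.subgroupOf T) hc (F.subgroupOf T) hFcomm hFc'
        have hxF : (x : G) ∈ F := Subgroup.mem_subgroupOf.mp hx.1
        have hxC : (x : G) ∈ centralizer (E : Set G) := by
          rw [Subgroup.mem_centralizer_iff]
          intro e he
          have := (Subgroup.mem_centralizer_iff.mp hx.2) ⟨e, hET he⟩
            (Subgroup.mem_subgroupOf.mpr he)
          exact congrArg Subtype.val this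
        exact ⟨(x : G), x.2, hxC, Subgroup.centralizer_le hXE' hxC, hFe.2 _ hxF,
          fun h => hxE (Subgroup.mem_subgroupOf.mpr h)⟩
      · obtain ⟨y, hyX, hyE⟩ := SetLike.not_le_iff_exists.mp hXE'
        exact ⟨y, hXT hyX, hXE hyX, le_centralizer_self_of_isElementaryAbelian hXe hyX,
          hXe.2 y hyX, hyE⟩
    obtain ⟨y, hyT, hyCE, hyCX, hyp, hyE⟩ := hy
    obtain ⟨hBe, hBlt⟩ := elemAb_sup_zpowers hEe hyCE hyp hyE
    refine ⟨E ⊔ zpowers y, sup_le hET (by rw [Subgroup.zpowers_le]; exact hyT), ?_, ?_⟩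
    · apply inUniqueMaximal_of_elemAb hG h1403 hBe
      rw [← hEc]; exact hBlt
    · exact sup_le hEX (by rw [Subgroup.zpowers_le]; exact hyCX)

/-- **BG Theorem 13.1** (the statement of S1423) from the earlier results -/
theorem theorem_13_1 (hG : IsMinSimpleOddOrder G) (h1403 : Hyp1403 G) (h1350 : Hyp1350 G)
    (h1412 : Hyp1412 G) (h1414 : Hyp1414 G) (hR2 : HypR2 G) (M : Subgroup G)
    (hM : IsCoatom M) (p : ℕ) [Fact p.Prime] (hp : p ∈ sigma M) (X : Subgroup G) (hXM : X ≤ M)
    (hX : Nat.card ↥X = p) (P : Sylow p ↥(sigmaCore M))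
    (h : p ∈ beta M ∨ X ≤ ⁅sigmaCore M, sigmaCore M⁆) :
    (centralizer (X : Set G) ≤ M ∧
        ∀ L : Subgroup G, IsCoatom L → centralizer (X : Set G) ≤ L → L = M) ∧
      InUniqueMaximal ((P : Subgroup ↥(sigmaCore M)).map (sigmaCore M).subtype) ∧
      (P : Subgroup ↥(sigmaCore M)).map (sigmaCore M).subtype ≤ M := by
  have hXp : IsPGroup p ↥X := IsPGroup.of_card (n := 1) (by rw [hX, pow_one])
  obtain ⟨T, hXT, hT⟩ := exists_isSylowIn_ge hXp hXM
  have key : InUniqueMaximal T ∧ ∃ B : Subgroup G, B ≤ T ∧ InUniqueMaximal B ∧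
      B ≤ centralizer (X : Set G) := by
    by_cases hβ : p ∈ beta M
    · exact exists_of_beta hG h1403 hM hp hβ hX hXT hT
    · exact exists_of_commutator hG h1403 h1350 h1412 h1414 hR2 hM hp hβ hX hXT hT
        (h.resolve_left hβ)
  obtain ⟨hTU, B, hBT, hBU, hBC⟩ := key
  have hX1 := card_prime_ne_bot hX
  have hCne : centralizer (X : Set G) ≠ ⊤ := centralizer_ne_top' hG hX1
  obtain ⟨M', ⟨hM', hBM'⟩, hu⟩ := hBU
  have hMM' : M = M' := hu M ⟨hM, hBT.trans hT.le⟩
  have huniq : ∀ H : Subgroup G, IsCoatom H ∧ B ≤ H → H = M :=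
    fun H hH => (hu H hH).trans hMM'.symm
  refine ⟨⟨le_of_inUniqueMaximal hCne hBC huniq,
    fun L hL hCL => huniq L ⟨hL, hBC.trans hCL⟩⟩, ?_, ?_⟩
  · have hTS : T ≤ sigmaCore M :=
      le_sigmaCore_of_isPiNum h1350 hM hT.le (isPiNum_of_isPGroup hp hT.isPGroup)
    have hTσ : IsSylowIn p T (sigmaCore M) := hT.of_le hTS (sigmaCore_le M)
    obtain ⟨k, -, hk⟩ := hTσ.exists_conj (isSylowIn_map_subtype P)
    rw [← hk]
    exact inUniqueMaximal_map_conj hTU k
  · exact (Subgroup.map_subtype_le _).trans (sigmaCore_le M)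

end main

end Cfsg.Agent.Helper22.BG13
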