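import Mathlib
import Cfsg.Agent.Lib.Helper22.BG13B

/-!
# Bender-Glauberman section 13, part C (helper22): Frattini arguments, nilpotent normal subgroups
and a consequence of Hall's theorem
-/

set_option autoImplicit false

namespace Cfsg.Agent.Helper22.BG13

open Cfsg Subgroup
open scoped commutatorElement
open Cfsg.Agent.Helper14.BGTrans Cfsg.Agent.Helper14.BGUniq
open Cfsg.Agent.Helper10 (IsPiNum)
open Cfsg.Agent.Helper15 (IsSylowIn isSylowIn_of_sylow_le isSylowIn_map_subtype isSylowIn_top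
  map_conj_eq_of_mem_normalizer map_conj_map_conj card_map_conj
  map_conj_map_conj_inv map_conj_inv_map_conj isPGroup_map_conj map_conj_mono
  map_conj_eq_self_of_mem exists_isSylowIn_ge)

universe u

section typelevel

variable {H : Type u} [Group H] [Finite H]

/-- a consequence of Hall's theorems: if `H = N D` with `N` a normal Hall subgroup of the solvable
group `H`, every subgroup of order prime to `|N|` is conjugate into `D` -/
theorem exists_conj_le_of_hall' [Group.IsSolvable H] (N D Y : Subgroup H) [hN : N.Normal]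
    (hcop : (Nat.card ↥N).Coprime N.index) (hsup : N ⊔ D = ⊤)
    (hY : (Nat.card ↥Y).Coprime (Nat.card ↥N)) :
    ∃ h : H, Y.map (MulAut.conj h).toMonoidHom ≤ D := by
  set n := Nat.card ↥N with hn
  set m := N.index with hm
  have hcard : Nat.card H = m * n := (Subgroup.index_mul_card N).symm
  have hmn : m.Coprime n := hcop.symm
  obtain ⟨H₁, hH₁, hYH₁⟩ := Cfsg.Agent.Helper1.hall_contain m n hcard hmn Y hY
  -- a Hall subgroup of `D`
  have hrel : N.relIndex D = m := by
    have h1 := Subgroup.relIndex_sup_left D N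
    rw [hsup, Subgroup.relIndex_top_right] at h1
    exact h1.symm
  have hDcard : Nat.card ↥D = m * Nat.card ↥(N.subgroupOf D) := by
    have := Subgroup.index_mul_card (N.subgroupOf D)
    rw [← this, ← hrel]
    rfl
  have hdvd : Nat.card ↥(N.subgroupOf D) ∣ n := by
    have h1 : Nat.card ↥(N.subgroupOf D) = Nat.card ↥(N ⊓ D : Subgroup H) := by
      rw [← Subgroup.inf_subgroupOf_right]
      exact Nat.card_congr (Subgroup.subgroupOfEquivOfLe inf_le_right).toEquiv
    rw [h1]
    exact Subgroup.card_dvd_of_le inf_le_left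
  have hmn' : m.Coprime (Nat.card ↥(N.subgroupOf D)) := Nat.Coprime.coprime_dvd_right hdvd hmn
  obtain ⟨K₀, hK₀⟩ := Cfsg.Agent.Helper1.hall_exists (G := ↥D) m _ hDcard hmn'
  set K := K₀.map D.subtype with hK
  have hKcard : Nat.card ↥K = m := by
    rw [hK, Subgroup.card_map_of_injective D.subtype_injective, hK₀]
  have hKD : K ≤ D := Subgroup.map_subtype_le _
  obtain ⟨g, hg⟩ := Cfsg.Agent.Helper1.hall_conj m n hcard hmn H₁ K hH₁ hKcard
  refine ⟨g, ?_⟩
  have h1 : Y.map (MulAut.conj g).toMonoidHom ≤ H₁.map (MulAut.conj g).toMonoidHom :=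
    Subgroup.map_mono hYH₁
  have h2 : H₁.map (MulAut.conj g).toMonoidHom = K := by
    rw [← hg]; rfl
  exact (h1.trans h2.le).trans hKD

end typelevel

section sub

variable {G : Type u} [Group G] [Finite G]

/-- the Frattini argument, as a factorisation -/
theorem frattini_factor {H K R : Subgroup G} {p : ℕ} [Fact p.Prime] (hKH : K ≤ H)
    (hHK : H ≤ normalizer (K : Set G)) (hR : IsSylowIn p R K) :
    ∀ h ∈ H, ∃ k ∈ K, ∃ n ∈ H ⊓ normalizer (R : Set G), h = k * n := by
  intro h hh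
  have h1 : IsSylowIn p (R.map (MulAut.conj h).toMonoidHom) K :=
    hR.map_conj_of_mem_normalizer (hHK hh)
  obtain ⟨k, hk, hkR⟩ := h1.exists_conj hR
  rw [map_conj_map_conj] at hkR
  have h2 : k * h ∈ normalizer (R : Set G) :=
    Cfsg.Agent.Helper15.mem_normalizer_of_map_conj_eq hkR
  refine ⟨k⁻¹, K.inv_mem hk, k * h, ⟨H.mul_mem (hKH hk) hh, h2⟩, by group⟩

/-- Sylow subgroups of a nilpotent subgroup are normal in it -/
theorem le_normalizer_of_isNilpotent {K T : Subgroup G} {r : ℕ} [Fact r.Prime]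
    (hnil : Group.IsNilpotent ↥K) (hT : IsSylowIn r T K) : K ≤ normalizer (T : Set G) := by
  have h0 : ∀ (p : ℕ), Fact (Nat.Prime p) → ∀ (P : Sylow p ↥K), (P : Subgroup ↥K).Normal :=
    ((Group.isNilpotent_of_finite_tfae (G := ↥K)).out 0 3).mp hnil
  have h1 : ((hT.toSylow : Sylow r ↥K) : Subgroup ↥K).Normal := h0 r inferInstance hT.toSylow
  rw [hT.coe_toSylow] at h1
  exact (Subgroup.normal_subgroupOf_iff_le_normalizer hT.le).mp h1

/-- Sylow subgroups of a nilpotent normal subgroup `K` of `H` are normal in `H` -/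
theorem le_normalizer_sylow_of_nilpotent_normal {H K T : Subgroup G} {r : ℕ} [Fact r.Prime]
    (hHK : H ≤ normalizer (K : Set G)) (hnil : Group.IsNilpotent ↥K) (hT : IsSylowIn r T K) :
    H ≤ normalizer (T : Set G) := by
  intro h hh
  have h1 : IsSylowIn r (T.map (MulAut.conj h).toMonoidHom) K :=
    hT.map_conj_of_mem_normalizer (hHK hh)
  obtain ⟨k, hk, hkT⟩ := hT.exists_conj h1
  have h2 : T.map (MulAut.conj k).toMonoidHom = T :=
    map_conj_eq_of_mem_normalizer (le_normalizer_of_isNilpotent hnil hT hk)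
  rw [h2] at hkT
  exact Cfsg.Agent.Helper15.mem_normalizer_of_map_conj_eq hkT.symm

omit [Finite G] in
/-- elements of `A ⊔ B` when `B` normalizes `A` -/
theorem exists_mul_of_mem_sup {A B : Subgroup G} (hBA : B ≤ normalizer (A : Set G)) {x : G}
    (hx : x ∈ A ⊔ B) : ∃ a ∈ A, ∃ b ∈ B, x = a * b := by
  have h1 : x ∈ ((A ⊔ B : Subgroup G) : Set G) := hx
  rw [Subgroup.coe_mul_of_right_le_normalizer_left A B hBA] at h1
  obtain ⟨a, ha, b, hb, hab⟩ := Set.mem_mul.mp h1
  exact ⟨a, ha, b, hb, hab.symm⟩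

/-- subgroup version of `exists_conj_le_of_hall'` -/
theorem exists_conj_le_of_hall {H N D Y : Subgroup G} (hsolv : Group.IsSolvable ↥H)
    (hNH : N ≤ H) (hHN : H ≤ normalizer (N : Set G)) (hDH : D ≤ H) (hYH : Y ≤ H)
    (hcop : (Nat.card ↥N).Coprime (N.relIndex H))
    (hfac : ∀ h ∈ H, ∃ n ∈ N, ∃ d ∈ D, h = n * d)
    (hY : (Nat.card ↥Y).Coprime (Nat.card ↥N)) :
    ∃ h ∈ H, Y.map (MulAut.conj h).toMonoidHom ≤ D := by
  have hnorm : (N.subgroupOf H).Normal :=
    (Subgroup.normal_subgroupOf_iff_le_normalizer hNH).mpr hHN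
  have hcN : Nat.card ↥(N.subgroupOf H) = Nat.card ↥N :=
    Nat.card_congr (Subgroup.subgroupOfEquivOfLe hNH).toEquiv
  have hcY : Nat.card ↥(Y.subgroupOf H) = Nat.card ↥Y :=
    Nat.card_congr (Subgroup.subgroupOfEquivOfLe hYH).toEquiv
  have hsup : N.subgroupOf H ⊔ D.subgroupOf H = ⊤ := by
    rw [eq_top_iff]
    intro x _
    obtain ⟨n, hn, d, hd, hx⟩ := hfac x.1 x.2
    have hx' : x = (⟨n, hNH hn⟩ : ↥H) * ⟨d, hDH hd⟩ := Subtype.ext hx
    rw [hx']
    exact Subgroup.mul_mem _ (Subgroup.mem_sup_left (Subgroup.mem_subgroupOf.mpr hn))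
      (Subgroup.mem_sup_right (Subgroup.mem_subgroupOf.mpr hd))
  obtain ⟨h, hh⟩ := exists_conj_le_of_hall' (N.subgroupOf H) (D.subgroupOf H) (Y.subgroupOf H)
    (by rw [hcN]; exact hcop) hsup (by rw [hcN, hcY]; exact hY)
  refine ⟨h.1, h.2, ?_⟩
  rintro _ ⟨y, hy, rfl⟩
  have h1 : (MulAut.conj h) (⟨y, hYH hy⟩ : ↥H) ∈ D.subgroupOf H :=
    hh (Subgroup.mem_map_of_mem _ (Subgroup.mem_subgroupOf.mpr hy))
  have h2 := Subgroup.mem_subgroupOf.mp h1
  simpa [MulAut.conj_apply] using h2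

end sub

end Cfsg.Agent.Helper22.BG13
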