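import Mathlib
import Cfsg.Agent.Lib.Helper22.BG13C
import Cfsg.Agent.Lib.Helper2.SylowSub

/-!
# Bender-Glauberman section 13, part D (helper22): Theorem 13.2 (the statement of S1424)
-/

set_option autoImplicit false

namespace Cfsg.Agent.Helper22.BG13

open Cfsg Subgroup
open scoped commutatorElement
open Cfsg.Agent.Helper14.BGTrans Cfsg.Agent.Helper14.BGUniq
open Cfsg.Agent.Helper10 (IsPiNum)
open Cfsg.Agent.Helper15 (IsSylowIn isSylowIn_of_sylow_le isSylowIn_map_subtype isSylowIn_top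
  map_conj_eq_of_mem_normalizer map_conj_map_conj card_map_conj
  map_conj_map_conj_inv map_conj_inv_map_conj isPGroup_map_conj map_conj_mono
  map_conj_eq_self_of_mem exists_isSylowIn_ge)

universe u

variable {G : Type u} [Group G] [Finite G]

omit [Finite G] in
/-- elements of `A ⊔ B` when `A` normalizes `B` -/
theorem exists_mul_of_mem_sup' {A B : Subgroup G} (hAB : A ≤ normalizer (B : Set G)) {x : G}
    (hx : x ∈ A ⊔ B) : ∃ a ∈ A, ∃ b ∈ B, x = a * b := by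
  have h1 : x ∈ ((A ⊔ B : Subgroup G) : Set G) := hx
  rw [Subgroup.coe_mul_of_left_le_normalizer_right A B hAB] at h1
  obtain ⟨a, ha, b, hb, hab⟩ := Set.mem_mul.mp h1
  exact ⟨a, ha, b, hb, hab.symm⟩

/-- the normalizer of a cyclic subgroup normalizes each of its subgroups -/
theorem normalizer_le_normalizer_of_le_cyclic {S X : Subgroup G} (hcyc : IsCyclic ↥S)
    (hXS : X ≤ S) : normalizer (S : Set G) ≤ normalizer (X : Set G) := by
  intro g hg
  apply Cfsg.Agent.Helper15.mem_normalizer_of_map_conj_eq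
  have h1 : X.map (MulAut.conj g).toMonoidHom ≤ S := by
    have := map_conj_mono hXS g
    rwa [map_conj_eq_of_mem_normalizer hg] at this
  exact Cfsg.Agent.Helper23.subgroup_eq_of_card_eq_of_le_cyclic S hcyc h1 hXS (card_map_conj X g)

/-- a Sylow subgroup `S` of `M ∩ M*` whose normalizer in a `q`-subgroup `Q ≥ S` of `M` lies in
`M*` is equal to `Q` -/
theorem eq_of_inf_normalizer_le {M Ms S Q : Subgroup G} {q : ℕ} [Fact q.Prime]
    (hS : IsSylowIn q S (M ⊓ Ms)) (hSQ : S ≤ Q) (hQ : IsPGroup q ↥Q) (hQM : Q ≤ M)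
    (h : Q ⊓ normalizer (S : Set G) ≤ Ms) : S = Q := by
  by_contra hne
  obtain ⟨r, hrQ, hrS, hrN⟩ := Cfsg.Agent.Helper2.exists_normalizer_not_mem S Q hQ hSQ hne
  have h1 : S ⊔ zpowers r ≤ Q := sup_le hSQ (by rw [Subgroup.zpowers_le]; exact hrQ)
  have h2 : S ⊔ zpowers r ≤ M ⊓ Ms :=
    sup_le hS.le (by rw [Subgroup.zpowers_le]; exact ⟨hQM hrQ, h ⟨hrQ, hrN⟩⟩)
  have h3 := hS.eq_of_le (hQ.to_le h1) le_sup_left h2
  apply hrS
  rw [← h3]
  exact (le_sup_right : zpowers r ≤ S ⊔ zpowers r) (Subgroup.mem_zpowers r)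

omit [Finite G] in
/-- 13.2(a) -/
theorem not_conj_of_normalizer_le (h1404 : Hyp1404 G) {M : Subgroup G} (hM : IsCoatom M)
    {q : ℕ} [Fact q.Prime] (hq : q ∈ sigma M) {X : Subgroup G} (hXq : IsPGroup q ↥X)
    (hX1 : X ≠ ⊥) (hXM : X ≤ M) {Ms : Subgroup G} (hne : Ms ≠ M)
    (hNX : normalizer (X : Set G) ≤ Ms) :
    ∀ g : G, Ms ≠ M.map (MulAut.conj g).toMonoidHom := by
  intro g hg
  have hXMs : X ≤ Ms := Subgroup.le_normalizer.trans hNX
  have h1 : X.map (MulAut.conj g⁻¹).toMonoidHom ≤ M := by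
    have := map_conj_mono hXMs g⁻¹
    rwa [hg, map_conj_inv_map_conj] at this
  obtain ⟨m, hm, c, hc, hgmc⟩ := (h1404 M hM q hq X hXq hX1 hXM).1 g⁻¹ h1
  have hcMs : c ∈ Ms := hNX (Subgroup.centralizer_le_normalizer (X : Set G) hc)
  have hg' : g = c⁻¹ * m⁻¹ := by rw [← mul_inv_rev, ← hgmc, inv_inv]
  have h2 : M.map (MulAut.conj g).toMonoidHom = M.map (MulAut.conj c⁻¹).toMonoidHom := by
    rw [hg', ← map_conj_map_conj, map_conj_eq_self_of_mem (M.inv_mem hm)]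
  have h3 : Ms.map (MulAut.conj c).toMonoidHom = M := by
    rw [hg, h2, map_conj_map_conj_inv]
  rw [map_conj_eq_self_of_mem hcMs] at h3
  exact hne h3

/-- 13.2(c) -/
theorem isSylowIn_of_normalizer_le (h1404 : Hyp1404 G) (h1413 : Hyp1413 G) {M : Subgroup G}
    (hM : IsCoatom M) {q : ℕ} [Fact q.Prime] (hq : q ∈ sigma M) {X : Subgroup G}
    (hX1 : X ≠ ⊥) {Ms : Subgroup G}
    (hNX : normalizer (X : Set G) ≤ Ms) {S : Subgroup G} (hS : IsSylowIn q S (M ⊓ Ms))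
    (hXS : X ≤ S) : IsSylowIn q S Ms := by
  have hSMs : S ≤ Ms := hS.le.trans inf_le_right
  have hSM : S ≤ M := hS.le.trans inf_le_left
  have hS1 : S ≠ ⊥ := fun h => hX1 (le_bot_iff.mp (h ▸ hXS))
  refine ⟨hSMs, hS.isPGroup, ?_⟩
  intro T' hT' hST' hT'Ms
  by_contra hne
  obtain ⟨r, hrT', hrS, hrN⟩ :=
    Cfsg.Agent.Helper2.exists_normalizer_not_mem S T' hT' hST' (Ne.symm hne)
  set S₁ := S ⊔ zpowers r with hS₁
  have hS₁T' : S₁ ≤ T' := sup_le hST' (by rw [Subgroup.zpowers_le]; exact hrT')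
  have hS₁q : IsPGroup q ↥S₁ := hT'.to_le hS₁T'
  have hS₁Ms : S₁ ≤ Ms := hS₁T'.trans hT'Ms
  have hS₁N : S₁ ≤ normalizer (S : Set G) :=
    sup_le Subgroup.le_normalizer (by rw [Subgroup.zpowers_le]; exact hrN)
  have hrS₁ : r ∈ S₁ := (le_sup_right : zpowers r ≤ S₁) (Subgroup.mem_zpowers r)
  obtain ⟨Q, hSQ, hQ⟩ := exists_isSylowIn_ge hS.isPGroup hSM
  have hQtop := isSylowIn_top_of_mem_sigma hq hQ
  have h2 := (h1413 q hQtop.sylowOfTop).2.1 S hSQ
  have hQN : IsSylowIn q (Q ⊓ normalizer (S : Set G)) (normalizer (S : Set G)) :=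
    Cfsg.Agent.Helper15.isSylowIn_of_not_dvd_relIndex (hQ.isPGroup.to_le inf_le_left)
      inf_le_right h2
  obtain ⟨S₂, hS₁S₂, hS₂⟩ := exists_isSylowIn_ge hS₁q hS₁N
  obtain ⟨n, hn, hnS₂⟩ := hS₂.exists_conj hQN
  have h3 : S₁.map (MulAut.conj n).toMonoidHom ≤ M := by
    have := map_conj_mono hS₁S₂ n
    rw [hnS₂] at this
    exact this.trans (inf_le_left.trans hQ.le)
  have h4 := (h1404 M hM q hq S hS.isPGroup hS1 hSM).2
  have hn' : n ∈ (M ⊓ normalizer (S : Set G)) ⊔ centralizer (S : Set G) := by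
    rw [← h4]; exact hn
  have hAB : M ⊓ normalizer (S : Set G) ≤
      normalizer ((centralizer (S : Set G) : Subgroup G) : Set G) :=
    inf_le_right.trans (normalizer_le_normalizer_centralizer S)
  obtain ⟨m, hm, c, hc, hnmc⟩ := exists_mul_of_mem_sup' hAB hn'
  have h5 : S₁.map (MulAut.conj c).toMonoidHom ≤ M := by
    rw [hnmc, ← map_conj_map_conj] at h3
    have := map_conj_mono h3 m⁻¹
    rwa [map_conj_inv_map_conj, map_conj_eq_self_of_mem (M.inv_mem hm.1)] at this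
  have hcMs : c ∈ Ms :=
    hNX (Subgroup.centralizer_le_normalizer (X : Set G) (Subgroup.centralizer_le hXS hc))
  have h6 : S₁.map (MulAut.conj c).toMonoidHom ≤ Ms := by
    have := map_conj_mono hS₁Ms c
    rwa [map_conj_eq_self_of_mem hcMs] at this
  have h7 : S ≤ S₁.map (MulAut.conj c).toMonoidHom := by
    have := map_conj_mono (le_sup_left : S ≤ S₁) c
    rwa [map_conj_eq_of_mem_normalizer
      (Subgroup.centralizer_le_normalizer (S : Set G) hc)] at this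
  have h8 := hS.eq_of_le (isPGroup_map_conj hS₁q c) h7 (le_inf h5 h6)
  have h9 : Nat.card ↥S₁ = Nat.card ↥S := by rw [← card_map_conj S₁ c, h8]
  have h10 : S = S₁ := Subgroup.eq_of_le_of_card_ge le_sup_left h9.le
  exact hrS (h10 ▸ hrS₁)

/-- 13.2(b) -/
theorem normalizer_le_of_normalizer_le (hG : IsMinSimpleOddOrder G) (h1404 : Hyp1404 G)
    (h1416 : Hyp1416 G) {M : Subgroup G}
    (hM : IsCoatom M) {q : ℕ} [Fact q.Prime] (hq : q ∈ sigma M) {X : Subgroup G}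
    (hX1 : X ≠ ⊥) {Ms : Subgroup G}
    (hNX : normalizer (X : Set G) ≤ Ms) {S : Subgroup G} (hS : IsSylowIn q S (M ⊓ Ms))
    (hXS : X ≤ S) : normalizer (S : Set G) ≤ M := by
  have hSMs : S ≤ Ms := hS.le.trans inf_le_right
  have hSM : S ≤ M := hS.le.trans inf_le_left
  have hS1 : S ≠ ⊥ := fun h => hX1 (le_bot_iff.mp (h ▸ hXS))
  have hqG : q ∣ Nat.card G :=
    (dvd_card_of_mem_sigma hq).trans (Subgroup.card_subgroup_dvd_card M)
  have hq2 : q ≠ 2 := prime_ne_two_of_dvd hG hqG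
  obtain ⟨Q, hSQ, hQ⟩ := exists_isSylowIn_ge hS.isPGroup hSM
  by_cases hcyc : IsCyclic ↥S
  · have hSQ' : S = Q := by
      apply eq_of_inf_normalizer_le hS hSQ hQ.isPGroup hQ.le
      exact inf_le_right.trans ((normalizer_le_normalizer_of_le_cyclic hcyc hXS).trans hNX)
    rw [hSQ']; exact normalizer_le_of_mem_sigma hq hQ
  · obtain ⟨A, hAS, -, hAe, hAc⟩ := exists_normal_elemAb_sq hq2 hS.isPGroup hcyc
    have hCA : centralizer (A : Set G) ≤ M := (h1416 M hM q A ⟨hAS.trans hSM, hAe, hAc⟩).1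
    have h4 := (h1404 M hM q hq S hS.isPGroup hS1 hSM).2
    rw [h4]
    exact sup_le inf_le_left ((Subgroup.centralizer_le hAS).trans hCA)

/-- **BG Theorem 13.2** (the statement of S1424) from the earlier results -/
theorem theorem_13_2 (hG : IsMinSimpleOddOrder G) (h1404 : Hyp1404 G) (h1413 : Hyp1413 G)
    (h1416 : Hyp1416 G) (M : Subgroup G) (hM : IsCoatom M) (q : ℕ) [Fact q.Prime]
    (hq : q ∈ sigma M) (X : Subgroup G) (hXq : IsPGroup q ↥X) (hX1 : X ≠ ⊥) (hXM : X ≤ M)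
    (Mstar : Subgroup G) (_hMs : IsCoatom Mstar) (hne : Mstar ≠ M)
    (hNX : normalizer (X : Set G) ≤ Mstar) (S : Sylow q ↥(M ⊓ Mstar))
    (hXS : X ≤ (S : Subgroup ↥(M ⊓ Mstar)).map (M ⊓ Mstar).subtype) :
    (∀ g : G, Mstar ≠ M.map (MulAut.conj g).toMonoidHom) ∧
      normalizer (((S : Subgroup ↥(M ⊓ Mstar)).map (M ⊓ Mstar).subtype : Subgroup G) : Set G) ≤ M ∧
      ¬ q ∣ ((S : Subgroup ↥(M ⊓ Mstar)).map (M ⊓ Mstar).subtype).relIndex Mstar := by
  have hS := isSylowIn_map_subtype S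
  exact ⟨not_conj_of_normalizer_le h1404 hM hq hXq hX1 hXM hne hNX,
    normalizer_le_of_normalizer_le hG h1404 h1416 hM hq hX1 hNX hS hXS,
    (isSylowIn_of_normalizer_le h1404 h1413 hM hq hX1 hNX hS hXS).not_dvd_relIndex⟩

end Cfsg.Agent.Helper22.BG13
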