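import Mathlib
import Cfsg.Agent.Lib.Helper22.BG13D
import Cfsg.Agent.Lib.Helper1.SolvableBasic

/-!
# Bender-Glauberman section 13, part E (helper22): Theorem 13.3 (the statement of S1425)
-/

set_option autoImplicit false

namespace Cfsg.Agent.Helper22.BG13

open Cfsg Subgroup
open scoped commutatorElement
open Cfsg.Agent.Helper14.BGTrans Cfsg.Agent.Helper14.BGUniq
open Cfsg.Agent.Helper10 (IsPiNum)
open Cfsg.Agent.Helper15 (IsSylowIn isSylowIn_of_sylow_le isSylowIn_map_subtype isSylowIn_top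
  map_conj_eq_of_mem_normalizer map_conj_map_conj card_map_conj map_conj_one
  map_conj_map_conj_inv map_conj_inv_map_conj isPGroup_map_conj map_conj_mono
  map_conj_eq_self_of_mem exists_isSylowIn_ge exists_isSylowIn isSylowIn_of_not_dvd_relIndex)

universe u

variable {G : Type u} [Group G] [Finite G]

/-- Sylow subgroups of rank at least 3 of a maximal subgroup are uniqueness subgroups -/
theorem inUniqueMaximal_of_sylow_of_rank (hG : IsMinSimpleOddOrder G) (h1403 : Hyp1403 G)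
    {M : Subgroup G} (hM : IsCoatom M) {p : ℕ} [Fact p.Prime] (hα : ¬ PRankLE p 2 ↥M)
    {T : Subgroup G} (hT : IsSylowIn p T M) : InUniqueMaximal T := by
  obtain ⟨E₀, hE₀M, hE₀e, hE₀c⟩ := exists_elemAb_of_not_pRankLE hα
  obtain ⟨T', hE₀T', hT'⟩ := exists_isSylowIn_ge (isPGroup_of_isElementaryAbelian hE₀e) hE₀M
  obtain ⟨k, hkM, hk⟩ := hT'.exists_conj hT
  have hEU := inUniqueMaximal_of_elemAb hG h1403 hE₀e hE₀c
  have hT'U : InUniqueMaximal T' := inUniqueMaximal_of_le hM hT'.le hE₀T' hEU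
  rw [← hk]
  exact inUniqueMaximal_map_conj hT'U k

omit [Finite G] in
theorem eq_of_inUniqueMaximal_le {T L₁ L₂ : Subgroup G} (hT : InUniqueMaximal T)
    (h₁ : IsCoatom L₁) (hT₁ : T ≤ L₁) (h₂ : IsCoatom L₂) (hT₂ : T ≤ L₂) : L₁ = L₂ := by
  obtain ⟨L, -, hu⟩ := hT
  rw [hu L₁ ⟨h₁, hT₁⟩, hu L₂ ⟨h₂, hT₂⟩]

omit [Finite G] in
theorem coprime_of_isPiHallOf {π : Set ℕ} {N H : Subgroup G} (h : IsPiHallOf π N H) :
    (Nat.card ↥N).Coprime (N.relIndex H) :=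
  Nat.coprime_of_dvd (fun r hr hrN hrI => h.2.2 r hr (h.2.1 r hr hrN) hrI)

omit [Finite G] in
theorem eq_of_isCoatom_le {A B : Subgroup G} (hA : IsCoatom A) (hB : IsCoatom B) (h : A ≤ B) :
    A = B := by
  by_contra hne
  exact hB.1 (hA.2 B (lt_of_le_of_ne h hne))

theorem relIndex_map_conj_of_mem {H K : Subgroup G} (hHK : H ≤ K) {k : G} (hk : k ∈ K) :
    (H.map (MulAut.conj k).toMonoidHom).relIndex K = H.relIndex K := by
  have h1 : H.map (MulAut.conj k).toMonoidHom ≤ K := by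
    have := map_conj_mono hHK k
    rwa [map_conj_eq_self_of_mem hk] at this
  have h2 := Cfsg.Agent.Helper7.relIndex_mul_card_of_le h1
  have h3 := Cfsg.Agent.Helper7.relIndex_mul_card_of_le hHK
  rw [card_map_conj, ← h3] at h2
  exact Nat.eq_of_mul_eq_mul_right Nat.card_pos h2

/-- if `r ∈ σ(M) ∩ σ(M*)`, a Sylow `r`-subgroup of `M*` is conjugate to one of `M` -/
theorem exists_conj_isSylowIn {M Ms : Subgroup G} {r : ℕ} [Fact r.Prime] (hr : r ∈ sigma M)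
    (hrs : r ∈ sigma Ms) {R : Subgroup G} (hR : IsSylowIn r R Ms) :
    ∃ g : G, IsSylowIn r (R.map (MulAut.conj g).toMonoidHom) M := by
  obtain ⟨R₂, hR₂⟩ := exists_isSylowIn (p := r) M
  have hRtop := isSylowIn_top_of_mem_sigma hrs hR
  have hR₂top := isSylowIn_top_of_mem_sigma hr hR₂
  obtain ⟨g, -, hg⟩ := hRtop.exists_conj hR₂top
  exact ⟨g, hg ▸ hR₂⟩

/-- `σ(M)` is disjoint from the primes of `M*_σ` when the latter is nilpotent and `M*` is not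
conjugate to `M` -/
theorem not_dvd_card_sigmaCore_of_nilpotent (h1350 : Hyp1350 G) {M Ms : Subgroup G}
    (hM : IsCoatom M) (hMs : IsCoatom Ms)
    (hconj : ∀ g : G, Ms ≠ M.map (MulAut.conj g).toMonoidHom)
    (hnil : Group.IsNilpotent ↥(sigmaCore Ms)) :
    ∀ r ∈ sigma M, ¬ r ∣ Nat.card ↥(sigmaCore Ms) := by
  intro r hr hrd
  have : Fact r.Prime := ⟨hr.1⟩
  have hrs : r ∈ sigma Ms := isPiNum_card_sigmaCore Ms r hr.1 hrd
  obtain ⟨R, hR⟩ := exists_isSylowIn (p := r) (sigmaCore Ms)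
  obtain ⟨R₁, hRR₁, hR₁⟩ := exists_isSylowIn_ge hR.isPGroup (hR.le.trans (sigmaCore_le Ms))
  have hR₁σ : R₁ ≤ sigmaCore Ms :=
    le_sigmaCore_of_isPiNum h1350 hMs hR₁.le (isPiNum_of_isPGroup hrs hR₁.isPGroup)
  have hRR : R₁ = R := hR.eq_of_le hR₁.isPGroup hRR₁ hR₁σ
  rw [hRR] at hR₁
  have hMsN : Ms ≤ normalizer (R : Set G) :=
    le_normalizer_sylow_of_nilpotent_normal (le_normalizer_sigmaCore Ms) hnil hR
  obtain ⟨g, hg⟩ := exists_conj_isSylowIn hr hrs hR₁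
  have h1 : normalizer ((R.map (MulAut.conj g).toMonoidHom : Subgroup G) : Set G) ≤ M :=
    normalizer_le_of_mem_sigma hr hg
  rw [Cfsg.Agent.Helper14.normalizer_map_conj] at h1
  have h2 : Ms.map (MulAut.conj g).toMonoidHom ≤ M := (map_conj_mono hMsN g).trans h1
  have h3 := eq_of_isCoatom_le (isCoatom_map_conj hMs g) hM h2
  apply hconj g⁻¹
  rw [← h3, map_conj_inv_map_conj]

/-- `σ(M)` is disjoint from `β(M*)` when `M*` is not conjugate to `M` -/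
theorem not_dvd_card_betaCore (hG : IsMinSimpleOddOrder G) (h1403 : Hyp1403 G)
    {M Ms : Subgroup G} (hM : IsCoatom M) (hMs : IsCoatom Ms)
    (hconj : ∀ g : G, Ms ≠ M.map (MulAut.conj g).toMonoidHom) :
    ∀ r ∈ sigma M, ¬ r ∣ Nat.card ↥(piCoreOf (beta Ms) Ms) := by
  intro r hr hrd
  have : Fact r.Prime := ⟨hr.1⟩
  have hrβ : r ∈ beta Ms := card_piCoreOf (beta Ms) Ms r hr.1 hrd
  have hrs : r ∈ sigma Ms := Cfsg.Agent.Helper23.BG10.alpha_subset_sigma hG h1403 hMs hrβ.1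
  obtain ⟨R, hR⟩ := exists_isSylowIn (p := r) Ms
  have hRU := inUniqueMaximal_of_sylow_of_rank hG h1403 hMs hrβ.1.2 hR
  obtain ⟨g, hg⟩ := exists_conj_isSylowIn hr hrs hR
  have h3 := eq_of_inUniqueMaximal_le (inUniqueMaximal_map_conj hRU g)
    (isCoatom_map_conj hMs g) (map_conj_mono hR.le g) hM hg.le
  apply hconj g⁻¹
  rw [← h3, map_conj_inv_map_conj]

theorem dvd_card_of_isPGroup_ne_bot {q : ℕ} [Fact q.Prime] {X : Subgroup G}
    (hXq : IsPGroup q ↥X) (hX1 : X ≠ ⊥) : q ∣ Nat.card ↥X := by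
  obtain ⟨k, hk⟩ := hXq.exists_card_eq
  have hk0 : k ≠ 0 := by
    rintro rfl
    rw [pow_zero] at hk
    exact hX1 (Subgroup.card_eq_one.mp hk)
  rw [hk]; exact dvd_pow_self q hk0

/-- the case `q ∉ σ(M*)` -/
theorem factor_case_e (hG : IsMinSimpleOddOrder G) (h1403 : Hyp1403 G) (h1404 : Hyp1404 G)
    (h1416 : Hyp1416 G) (h1350 : Hyp1350 G) (h1417 : Hyp1417 G)
    {M : Subgroup G} (hM : IsCoatom M) {q : ℕ} [Fact q.Prime] (hq : q ∈ sigma M)
    {X : Subgroup G} (hXq : IsPGroup q ↥X) (hX1 : X ≠ ⊥)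
    {Ms : Subgroup G} (hMs : IsCoatom Ms) (hNX : normalizer (X : Set G) ≤ Ms)
    {S : Subgroup G} (hS : IsSylowIn q S (M ⊓ Ms)) (hXS : X ≤ S) (hc : IsSylowIn q S Ms)
    (hconj : ∀ g : G, Ms ≠ M.map (MulAut.conj g).toMonoidHom) (hqs : q ∉ sigma Ms) :
    (∀ h ∈ Ms, ∃ n ∈ sigmaCore Ms, ∃ d ∈ M ⊓ Ms, h = n * d) ∧
      ∀ r ∈ sigma M, ¬ r ∣ Nat.card ↥(sigmaCore Ms) := by
  have hqp : q.Prime := Fact.out
  have hSM : S ≤ M := hS.le.trans inf_le_left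
  have hSMs : S ≤ Ms := hc.le
  have hqG : q ∣ Nat.card G :=
    (dvd_card_of_mem_sigma hq).trans (Subgroup.card_subgroup_dvd_card M)
  have hq2 : q ≠ 2 := prime_ne_two_of_dvd hG hqG
  have hXMs : X ≤ Ms := Subgroup.le_normalizer.trans hNX
  have hqMs : q ∣ Nat.card ↥Ms :=
    (dvd_card_of_isPGroup_ne_bot hXq hX1).trans (Subgroup.card_dvd_of_le hXMs)
  have hnc : ¬ IsCyclic ↥S := by
    intro hcyc
    apply hqs
    refine ⟨hqp, hqMs, hc.toSylow, ?_⟩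
    rw [hc.map_toSylow]
    exact (normalizer_le_normalizer_of_le_cyclic hcyc hXS).trans hNX
  obtain ⟨A, hAS, -, hAe, hAc⟩ := exists_normal_elemAb_sq hq2 hS.isPGroup hnc
  have hAM : A ≤ M := hAS.trans hSM
  have hAMs : A ≤ Ms := hAS.trans hSMs
  have hAq : IsPGroup q ↥A := hS.isPGroup.to_le hAS
  have hqq : q < q ^ 2 := by
    have := hqp.one_lt
    nlinarith
  have hA1 : A ≠ ⊥ := by
    intro h
    rw [h, Subgroup.card_bot] at hAc
    have := hqp.one_lt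
    omega
  have hr2 : PRankLE q 2 ↥Ms := by
    by_contra h
    exact hqs (Cfsg.Agent.Helper23.BG10.alpha_subset_sigma hG h1403 hMs ⟨hqp, h⟩)
  have hr1 : ¬ PRankLE q 1 ↥Ms :=
    not_pRankLE_of_le hAMs hAe (by rw [hAc, pow_one]; exact hqq)
  have hτ : q ∈ tau2 Ms := ⟨hqp, hqs, hr2, hr1⟩
  obtain ⟨hnil, -, hnorm, -, hTI, -⟩ := h1417 Ms hMs q hτ A ⟨hAMs, hAe, hAc⟩
  have hNA : normalizer (A : Set G) ≤ M := by
    rw [(h1404 M hM q hq A hAq hA1 hAM).2]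
    exact sup_le inf_le_left (h1416 M hM q A ⟨hAM, hAe, hAc⟩).1
  have hAN : A ≤ normalizer (sigmaCore Ms : Set G) := hAMs.trans (le_normalizer_sigmaCore Ms)
  have hKMs : sigmaCore Ms ⊔ A ≤ Ms := sup_le (sigmaCore_le Ms) hAMs
  have hAK : IsSylowIn q A (sigmaCore Ms ⊔ A) := by
    apply isSylowIn_of_not_dvd_relIndex hAq le_sup_right
    intro hdvd
    have h1 : Nat.card ↥(sigmaCore Ms ⊔ A : Subgroup G) ∣
        Nat.card ↥(sigmaCore Ms) * Nat.card ↥A :=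
      Cfsg.Agent.Helper7.card_sup_dvd_mul_of_le_normalizer hAN
    have h2 : A.relIndex (sigmaCore Ms ⊔ A) * Nat.card ↥A =
        Nat.card ↥(sigmaCore Ms ⊔ A : Subgroup G) :=
      Cfsg.Agent.Helper7.relIndex_mul_card_of_le le_sup_right
    rw [← h2] at h1
    have h3 : A.relIndex (sigmaCore Ms ⊔ A) ∣ Nat.card ↥(sigmaCore Ms) :=
      Nat.dvd_of_mul_dvd_mul_right Nat.card_pos h1
    exact hqs (isPiNum_card_sigmaCore Ms q hqp (hdvd.trans h3))
  refine ⟨?_, not_dvd_card_sigmaCore_of_nilpotent h1350 hM hMs hconj hnil⟩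
  intro h hh
  obtain ⟨k, hk, n, hn, hkn⟩ := frattini_factor hKMs hnorm hAK h hh
  obtain ⟨s, hs, a, ha, hsa⟩ := exists_mul_of_mem_sup hAN hk
  refine ⟨s, hs, a * n, ?_, by rw [hkn, hsa, mul_assoc]⟩
  exact mul_mem (⟨hAM ha, hAMs ha⟩ : a ∈ M ⊓ Ms) (⟨hNA hn.2, hn.1⟩ : n ∈ M ⊓ Ms)

/-- the case `q ∈ σ(M*)` -/
theorem factor_case_d (hG : IsMinSimpleOddOrder G) (h1403 : Hyp1403 G) (h1350 : Hyp1350 G)
    (h1414 : Hyp1414 G) {M : Subgroup G} (hM : IsCoatom M) {q : ℕ} [Fact q.Prime]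
    {Ms : Subgroup G} (hMs : IsCoatom Ms) (hne : Ms ≠ M)
    {S : Subgroup G} (hSM : S ≤ M) (hc : IsSylowIn q S Ms) (hNS : normalizer (S : Set G) ≤ M)
    (hconj : ∀ g : G, Ms ≠ M.map (MulAut.conj g).toMonoidHom) (hqs : q ∈ sigma Ms) :
    (∀ h ∈ Ms, ∃ n ∈ piCoreOf (beta Ms) Ms, ∃ d ∈ M ⊓ Ms, h = n * d) ∧
      ∀ r ∈ sigma M, ¬ r ∣ Nat.card ↥(piCoreOf (beta Ms) Ms) := by
  have hqp : q.Prime := Fact.out
  have hNSs : normalizer (S : Set G) ≤ Ms := normalizer_le_of_mem_sigma hqs hc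
  have hSσ : S ≤ sigmaCore Ms :=
    le_sigmaCore_of_isPiNum h1350 hMs hc.le (isPiNum_of_isPGroup hqs hc.isPGroup)
  have hSσ' : IsSylowIn q S (sigmaCore Ms) := hc.of_le hSσ (sigmaCore_le Ms)
  have hqβ : q ∉ beta Ms := by
    rintro ⟨⟨-, hα⟩, -⟩
    have hSU := inUniqueMaximal_of_sylow_of_rank hG h1403 hMs hα hc
    exact hne (eq_of_inUniqueMaximal_le hSU hMs hc.le hM hSM)
  obtain ⟨hβhall, -, -, ⟨H, hH, hHnil⟩, -⟩ := h1414 Ms hMs
  obtain ⟨S₀, hS₀⟩ := exists_isSylowIn (p := q) H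
  have hqβ' : q ∈ {r : ℕ | r.Prime ∧ r ∉ beta Ms} := ⟨hqp, hqβ⟩
  have hS₀σ : IsSylowIn q S₀ (sigmaCore Ms) := by
    apply isSylowIn_of_not_dvd_relIndex hS₀.isPGroup (hS₀.le.trans hH.1)
    rw [← Subgroup.relIndex_mul_relIndex S₀ H (sigmaCore Ms) hS₀.le hH.1]
    intro hd
    rcases (Nat.Prime.dvd_mul hqp).mp hd with h | h
    · exact hS₀.not_dvd_relIndex h
    · exact hH.2.2 q hqp hqβ' h
  have hHS₀ : H ≤ normalizer (S₀ : Set G) := le_normalizer_of_isNilpotent hHnil hS₀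
  obtain ⟨k, hk, hkS⟩ := hS₀σ.exists_conj hSσ'
  have hH'N : H.map (MulAut.conj k).toMonoidHom ≤ normalizer (S : Set G) := by
    rw [← hkS, Cfsg.Agent.Helper14.normalizer_map_conj]
    exact map_conj_mono hHS₀ k
  have hH'σ : H.map (MulAut.conj k).toMonoidHom ≤ sigmaCore Ms := by
    have := map_conj_mono hH.1 k
    rwa [map_conj_eq_self_of_mem hk] at this
  have hH'idx : (H.map (MulAut.conj k).toMonoidHom).relIndex (sigmaCore Ms) =
      H.relIndex (sigmaCore Ms) := relIndex_map_conj_of_mem hH.1 hk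
  have hβσ : beta Ms ⊆ sigma Ms :=
    fun r hr => Cfsg.Agent.Helper23.BG10.alpha_subset_sigma hG h1403 hMs hr.1
  have hNβσ : piCoreOf (beta Ms) Ms ≤ sigmaCore Ms :=
    le_piCoreOf (sigma Ms) (piCoreOf_le _ _) (le_normalizer_piCoreOf _ _)
      (fun r hr hrd => hβσ (card_piCoreOf (beta Ms) Ms r hr hrd))
  have hKle : piCoreOf (beta Ms) Ms ⊔ H.map (MulAut.conj k).toMonoidHom ≤ sigmaCore Ms :=
    sup_le hNβσ hH'σ
  have hsup : sigmaCore Ms ≤ piCoreOf (beta Ms) Ms ⊔ H.map (MulAut.conj k).toMonoidHom := by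
    rw [← Subgroup.relIndex_eq_one]
    by_contra hne1
    obtain ⟨r, hr, hrd⟩ := Nat.exists_prime_and_dvd hne1
    have h1 : (piCoreOf (beta Ms) Ms ⊔ H.map (MulAut.conj k).toMonoidHom).relIndex (sigmaCore Ms) ∣
        (piCoreOf (beta Ms) Ms).relIndex (sigmaCore Ms) :=
      Dvd.intro_left _ (Subgroup.relIndex_mul_relIndex _ _ _ le_sup_left hKle)
    have h2 : (piCoreOf (beta Ms) Ms ⊔ H.map (MulAut.conj k).toMonoidHom).relIndex (sigmaCore Ms) ∣
        (H.map (MulAut.conj k).toMonoidHom).relIndex (sigmaCore Ms) :=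
      Dvd.intro_left _ (Subgroup.relIndex_mul_relIndex _ _ _ le_sup_right hKle)
    by_cases hrβ : r ∈ beta Ms
    · have h3 : (piCoreOf (beta Ms) Ms).relIndex (sigmaCore Ms) ∣
          (piCoreOf (beta Ms) Ms).relIndex Ms :=
        Dvd.intro _ (Subgroup.relIndex_mul_relIndex _ _ _ hNβσ (sigmaCore_le Ms))
      exact hβhall.2.2 r hr hrβ ((hrd.trans h1).trans h3)
    · rw [hH'idx] at h2
      exact hH.2.2 r hr ⟨hr, hrβ⟩ (hrd.trans h2)
  refine ⟨?_, not_dvd_card_betaCore hG h1403 hM hMs hconj⟩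
  intro h hh
  obtain ⟨s, hs, n, hn, hsn⟩ :=
    frattini_factor (sigmaCore_le Ms) (le_normalizer_sigmaCore Ms) hSσ' h hh
  have hH'Nβ : H.map (MulAut.conj k).toMonoidHom ≤
      normalizer ((piCoreOf (beta Ms) Ms : Subgroup G) : Set G) :=
    (hH'σ.trans (sigmaCore_le Ms)).trans (le_normalizer_piCoreOf _ _)
  obtain ⟨b, hb, h', hh', hbh⟩ := exists_mul_of_mem_sup hH'Nβ (hsup hs)
  refine ⟨b, hb, h' * n, ?_, by rw [hsn, hbh, mul_assoc]⟩
  have h1 : h' ∈ M ⊓ Ms := ⟨hNS (hH'N hh'), hNSs (hH'N hh')⟩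
  have h2 : n ∈ M ⊓ Ms := ⟨hNS hn.2, hn.1⟩
  exact mul_mem h1 h2

/-- when `N_G(X) ≤ M* ≠ M`, the subgroup `M*` is `N (M ∩ M*)` with `N` a normal Hall subgroup of
`M*` of order prime to `σ(M)` -/
theorem exists_normal_hall_factor (hG : IsMinSimpleOddOrder G) (h1403 : Hyp1403 G)
    (h1404 : Hyp1404 G) (h1413 : Hyp1413 G) (h1416 : Hyp1416 G) (h1350 : Hyp1350 G)
    (h1414 : Hyp1414 G) (h1417 : Hyp1417 G)
    {M : Subgroup G} (hM : IsCoatom M) {q : ℕ} [Fact q.Prime] (hq : q ∈ sigma M)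
    {X : Subgroup G} (hXq : IsPGroup q ↥X) (hX1 : X ≠ ⊥) (hXM : X ≤ M)
    {Ms : Subgroup G} (hMs : IsCoatom Ms) (hne : Ms ≠ M) (hNX : normalizer (X : Set G) ≤ Ms) :
    ∃ N : Subgroup G, N ≤ Ms ∧ Ms ≤ normalizer (N : Set G) ∧
      (Nat.card ↥N).Coprime (N.relIndex Ms) ∧
      (∀ h ∈ Ms, ∃ n ∈ N, ∃ d ∈ M ⊓ Ms, h = n * d) ∧ ∀ r ∈ sigma M, ¬ r ∣ Nat.card ↥N := by
  have hXMs : X ≤ Ms := Subgroup.le_normalizer.trans hNX
  obtain ⟨S, hXS, hS⟩ := exists_isSylowIn_ge hXq (le_inf hXM hXMs)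
  have hconj := not_conj_of_normalizer_le h1404 hM hq hXq hX1 hXM hne hNX
  have hb := normalizer_le_of_normalizer_le hG h1404 h1416 hM hq hX1 hNX hS hXS
  have hc := isSylowIn_of_normalizer_le h1404 h1413 hM hq hX1 hNX hS hXS
  by_cases hqs : q ∈ sigma Ms
  · obtain ⟨h1, h2⟩ := factor_case_d hG h1403 h1350 h1414 hM hMs hne (hS.le.trans inf_le_left)
      hc hb hconj hqs
    exact ⟨piCoreOf (beta Ms) Ms, piCoreOf_le _ _, le_normalizer_piCoreOf _ _,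
      coprime_of_isPiHallOf (h1414 Ms hMs).1, h1, h2⟩
  · obtain ⟨h1, h2⟩ := factor_case_e hG h1403 h1404 h1416 h1350 h1417 hM hq hXq hX1 hMs hNX
      hS hXS hc hconj hqs
    exact ⟨sigmaCore Ms, sigmaCore_le Ms, le_normalizer_sigmaCore Ms,
      coprime_of_isPiHallOf (h1350 Ms hMs).1, h1, h2⟩

/-- **BG Theorem 13.3** (the statement of S1425) from the earlier results -/
theorem theorem_13_3 (hG : IsMinSimpleOddOrder G) (h1403 : Hyp1403 G)
    (h1404 : Hyp1404 G) (h1413 : Hyp1413 G) (h1416 : Hyp1416 G) (h1350 : Hyp1350 G)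
    (h1414 : Hyp1414 G) (h1417 : Hyp1417 G) (M : Subgroup G) (hM : IsCoatom M)
    (Y : Subgroup G) (hY1 : Y ≠ ⊥)
    (hY : ∀ p : ℕ, p.Prime → p ∣ Nat.card ↥Y → p ∈ sigma M) :
    ∃ g : G, Y.map (MulAut.conj g).toMonoidHom ≤ sigmaCore M := by
  have hYtop : Y ≠ ⊤ := by
    intro hYt
    have hall : ∀ r : ℕ, r.Prime → r ∣ Nat.card G → r ∈ sigma M := by
      intro r hr hrd
      apply hY r hr
      rw [hYt, Subgroup.card_top]; exact hrd
    apply hM.1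
    rw [← Subgroup.index_eq_one]
    by_contra hne1
    obtain ⟨r, hr, hrd⟩ := Nat.exists_prime_and_dvd hne1
    have : Fact r.Prime := ⟨hr⟩
    have hrσ := hall r hr (hrd.trans (Subgroup.index_dvd_card M))
    obtain ⟨T, hT⟩ := exists_isSylowIn (p := r) M
    have hTtop := isSylowIn_top_of_mem_sigma hrσ hT
    have h1 := hTtop.not_dvd_relIndex
    rw [Subgroup.relIndex_top_right] at h1
    exact h1 (hrd.trans (Subgroup.index_dvd_of_le hT.le))
  have hsolv : Group.IsSolvable ↥Y := hG.2.2.2 Y hYtop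
  have : Nontrivial ↥Y := (Subgroup.nontrivial_iff_ne_bot Y).mpr hY1
  obtain ⟨q, hqp, P, hPn, hP1, hPq⟩ := Cfsg.Agent.Helper1.exists_normal_pSubgroup_of_solvable ↥Y
  have : Fact q.Prime := ⟨hqp⟩
  have hX₀q : IsPGroup q ↥(P.map Y.subtype) := hPq.map _
  have hX₀1 : P.map Y.subtype ≠ ⊥ := by
    intro h
    exact hP1 ((Subgroup.map_eq_bot_iff_of_injective P Y.subtype_injective).mp h)
  have hYX₀ : Y ≤ normalizer ((P.map Y.subtype : Subgroup G) : Set G) :=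
    le_normalizer_map_subtype Y P
  have hqσ : q ∈ sigma M :=
    hY q hqp ((dvd_card_of_isPGroup_ne_bot hX₀q hX₀1).trans
      (Subgroup.card_dvd_of_le (Subgroup.map_subtype_le P)))
  obtain ⟨g, hg⟩ := exists_conj_le_sigmaCore_of_isPGroup h1350 hM hqσ hX₀q
  set X := (P.map Y.subtype).map (MulAut.conj g).toMonoidHom with hX
  set Y' := Y.map (MulAut.conj g).toMonoidHom with hY'
  have hXq : IsPGroup q ↥X := isPGroup_map_conj hX₀q g
  have hX1 : X ≠ ⊥ := by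
    intro h
    exact hX₀1 ((Subgroup.map_eq_bot_iff_of_injective _ (MulAut.conj g).injective).mp h)
  have hXM : X ≤ M := hg.trans (sigmaCore_le M)
  have hY'X : Y' ≤ normalizer (X : Set G) := by
    rw [hX, Cfsg.Agent.Helper14.normalizer_map_conj]
    exact map_conj_mono hYX₀ g
  have hY'π : IsPiNum (sigma M) (Nat.card ↥Y') := by
    rw [hY', card_map_conj]; exact hY
  suffices h : ∃ g' : G, Y'.map (MulAut.conj g').toMonoidHom ≤ M by
    obtain ⟨g', hg'⟩ := h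
    refine ⟨g' * g, ?_⟩
    rw [← map_conj_map_conj]
    exact le_sigmaCore_of_isPiNum h1350 hM hg' (by rw [card_map_conj]; exact hY'π)
  by_cases hNXM : normalizer (X : Set G) ≤ M
  · exact ⟨1, by rw [map_conj_one]; exact hY'X.trans hNXM⟩
  · have hNXtop : normalizer (X : Set G) ≠ ⊤ := normalizer_ne_top_of_isPGroup hG hXq hX1
    obtain ⟨Ms, hMs, hNXMs⟩ := exists_isCoatom_ge hNXtop
    have hne : Ms ≠ M := fun h => hNXM (h ▸ hNXMs)
    obtain ⟨N, hNMs, hMsN, hcop, hfac, hσ⟩ := exists_normal_hall_factor hG h1403 h1404 h1413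
      h1416 h1350 h1414 h1417 hM hqσ hXq hX1 hXM hMs hne hNXMs
    have hY'Ms : Y' ≤ Ms := hY'X.trans hNXMs
    have hcopY : (Nat.card ↥Y').Coprime (Nat.card ↥N) :=
      Nat.coprime_of_dvd (fun r hr hrY hrN => hσ r (hY'π r hr hrY) hrN)
    have hsolvMs : Group.IsSolvable ↥Ms := hG.2.2.2 Ms hMs.1
    obtain ⟨h, -, hle⟩ :=
      exists_conj_le_of_hall hsolvMs hNMs hMsN inf_le_right hY'Ms hcop hfac hcopY
    exact ⟨h, hle.trans inf_le_left⟩

end Cfsg.Agent.Helper22.BG13
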