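import Mathlib

set_option autoImplicit false

/-!
Generic linear algebra for "free module" statements: a subspace `S` is the internal direct sum
of the translates `β h W` of a subspace `W`.
-/

namespace Cfsg.Agent.Helper22.FrobFree

open Module

variable {k : Type*} [Field k] {U : Type*} [AddCommGroup U] [Module k U]

/-- the subspace `S` is the direct sum of the `H`-translates of some subspace `W` -/
def FreeOn {H : Type*} [Monoid H] (β : H →* Module.End k U) (S : Submodule k U) : Prop :=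
  ∃ W : Submodule k U, iSupIndep (fun h : H => W.map (β h)) ∧ ⨆ h : H, W.map (β h) = S

theorem FreeOn.sup {H : Type*} [Monoid H] {β : H →* Module.End k U} {S₁ S₂ : Submodule k U}
    (h₁ : FreeOn β S₁) (h₂ : FreeOn β S₂) (hd : Disjoint S₁ S₂) : FreeOn β (S₁ ⊔ S₂) := by
  obtain ⟨W₁, hi₁, hs₁⟩ := h₁
  obtain ⟨W₂, hi₂, hs₂⟩ := h₂
  refine ⟨W₁ ⊔ W₂, ?_, ?_⟩
  · rw [iSupIndep_iff_finsetSum_eq_zero_imp_eq_zero] at hi₁ hi₂ ⊢
    intro s v hv hsum i hi
    have hdec : ∀ i ∈ s, ∃ a b, a ∈ W₁.map (β i) ∧ b ∈ W₂.map (β i) ∧ v i = a + b := by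
      intro i hi
      have := hv i hi
      rw [Submodule.map_sup, Submodule.mem_sup] at this
      obtain ⟨a, ha, b, hb, hab⟩ := this
      exact ⟨a, b, ha, hb, hab.symm⟩
    choose! a b ha hb hab using hdec
    have hA : ∑ i ∈ s, a i ∈ S₁ := by
      rw [← hs₁]
      exact Submodule.sum_mem _ (fun i hi => Submodule.mem_iSup_of_mem i (ha i hi))
    have hB : ∑ i ∈ s, b i ∈ S₂ := by
      rw [← hs₂]
      exact Submodule.sum_mem _ (fun i hi => Submodule.mem_iSup_of_mem i (hb i hi))
    have h0 : ∑ i ∈ s, a i + ∑ i ∈ s, b i = 0 := by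
      rw [← Finset.sum_add_distrib, ← hsum]
      exact Finset.sum_congr rfl (fun i hi => (hab i hi).symm)
    have hA0 : ∑ i ∈ s, a i = 0 := by
      have h2 : ∑ i ∈ s, a i ∈ S₂ := by
        have h3 : ∑ i ∈ s, a i = - ∑ i ∈ s, b i := eq_neg_of_add_eq_zero_left h0
        rw [h3]
        exact S₂.neg_mem hB
      exact (Submodule.disjoint_def.mp hd) _ hA h2
    have hB0 : ∑ i ∈ s, b i = 0 := by
      rw [hA0, zero_add] at h0
      exact h0
    rw [hab i hi, hi₁ s a ha hA0 i hi, hi₂ s b hb hB0 i hi, add_zero]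
  · simp only [Submodule.map_sup]
    rw [iSup_sup_eq, hs₁, hs₂]

theorem FreeOn.of_subtype {H : Type*} [Monoid H] {β : H →* Module.End k U} {S : Submodule k U}
    {βS : H →* Module.End k S} (hβ : ∀ h (u : S), ((βS h u : S) : U) = β h (u : U))
    (h : FreeOn βS ⊤) : FreeOn β S := by
  obtain ⟨W, hi, hs⟩ := h
  have key : ∀ h, (W.map S.subtype).map (β h) = (W.map (βS h)).map S.subtype := by
    intro h
    ext x
    simp only [Submodule.mem_map]
    constructor
    · rintro ⟨y, ⟨w, hw, rfl⟩, rfl⟩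
      exact ⟨βS h w, ⟨w, hw, rfl⟩, hβ h w⟩
    · rintro ⟨y, ⟨w, hw, rfl⟩, rfl⟩
      exact ⟨w, ⟨w, hw, rfl⟩, (hβ h w).symm⟩
  refine ⟨W.map S.subtype, ?_, ?_⟩
  · rw [iSupIndep_iff_finsetSum_eq_zero_imp_eq_zero] at hi ⊢
    intro s v hv hsum i hi'
    have hdec : ∀ i ∈ s, ∃ w : S, w ∈ W.map (βS i) ∧ (w : U) = v i := by
      intro i hi
      have := hv i hi
      rw [key, Submodule.mem_map] at this
      obtain ⟨w, hw, hwv⟩ := this
      exact ⟨w, hw, hwv⟩
    choose! w hw hwv using hdec
    have hsum' : ∑ i ∈ s, w i = 0 := by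
      apply Subtype.ext
      rw [Submodule.coe_sum, Submodule.coe_zero, ← hsum]
      exact Finset.sum_congr rfl (fun i hi => hwv i hi)
    rw [← hwv i hi', hi s w hw hsum' i hi', Submodule.coe_zero]
  · simp_rw [key]
    rw [← Submodule.map_iSup, hs, Submodule.map_subtype_top]

/-- restriction of an action to an invariant subspace -/
def resHom {G : Type*} [Monoid G] (γ : G →* Module.End k U) (S : Submodule k U)
    (hS : ∀ g, ∀ u ∈ S, γ g u ∈ S) : G →* Module.End k S where
  toFun g := (γ g).restrict (hS g)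
  map_one' := by
    ext u
    simp
  map_mul' a b := by
    ext u
    simp

@[simp] theorem resHom_apply {G : Type*} [Monoid G] (γ : G →* Module.End k U) (S : Submodule k U)
    (hS : ∀ g, ∀ u ∈ S, γ g u ∈ S) (g : G) (u : S) :
    ((resHom γ S hS g u : S) : U) = γ g (u : U) := rfl

theorem FreeOn.of_res {H : Type*} [Monoid H] {β : H →* Module.End k U} {S : Submodule k U}
    (hS : ∀ g, ∀ u ∈ S, β g u ∈ S) (h : FreeOn (resHom β S hS) ⊤) : FreeOn β S :=
  FreeOn.of_subtype (fun _ _ => rfl) h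

/-! ### idempotents -/

theorem idem_mem_range {e : Module.End k U} (he : e * e = e) (u : U) :
    u ∈ LinearMap.range e ↔ e u = u := by
  constructor
  · rintro ⟨w, rfl⟩
    rw [← Module.End.mul_apply, he]
  · intro h
    exact ⟨u, h⟩

theorem idem_disjoint {e : Module.End k U} (he : e * e = e) :
    Disjoint (LinearMap.range e) (LinearMap.ker e) := by
  rw [Submodule.disjoint_def]
  intro u h1 h2
  rw [idem_mem_range he] at h1
  rw [LinearMap.mem_ker] at h2
  rw [← h1, h2]

theorem idem_sup {e : Module.End k U} (he : e * e = e) :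
    LinearMap.range e ⊔ LinearMap.ker e = ⊤ := by
  rw [eq_top_iff]
  intro u _
  rw [Submodule.mem_sup]
  refine ⟨e u, ⟨u, rfl⟩, u - e u, ?_, by abel⟩
  rw [LinearMap.mem_ker, map_sub, ← Module.End.mul_apply, he, sub_self]

theorem idem_range_eq_top {e : Module.End k U} (he : e * e = e)
    (h : LinearMap.range e = ⊤) : e = 1 := by
  ext u
  have : u ∈ LinearMap.range e := by rw [h]; trivial
  rw [idem_mem_range he] at this
  simpa using this

theorem idem_ker_eq_top {e : Module.End k U} (h : LinearMap.ker e = ⊤) : e = 0 := by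
  ext u
  have : u ∈ LinearMap.ker e := by rw [h]; trivial
  simpa using this

theorem FreeOn.of_idem {H : Type*} [Monoid H] {β : H →* Module.End k U}
    {e : Module.End k U} (he : e * e = e)
    (h₁ : FreeOn β (LinearMap.range e)) (h₂ : FreeOn β (LinearMap.ker e)) : FreeOn β ⊤ := by
  rw [← idem_sup he]
  exact h₁.sup h₂ (idem_disjoint he)

theorem commute_range_inv {e T : Module.End k U} (hc : T * e = e * T) :
    ∀ u ∈ LinearMap.range e, T u ∈ LinearMap.range e := by
  rintro u ⟨w, rfl⟩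
  refine ⟨T w, ?_⟩
  rw [← Module.End.mul_apply, ← hc, Module.End.mul_apply]

theorem commute_ker_inv {e T : Module.End k U} (hc : T * e = e * T) :
    ∀ u ∈ LinearMap.ker e, T u ∈ LinearMap.ker e := by
  intro u hu
  rw [LinearMap.mem_ker] at hu ⊢
  rw [← Module.End.mul_apply, ← hc, Module.End.mul_apply, hu, map_zero]

theorem FreeOn.of_subsingleton [Subsingleton U] {H : Type*} [Monoid H]
    (β : H →* Module.End k U) : FreeOn β ⊤ := by
  refine ⟨⊥, ?_, ?_⟩
  · simp only [Submodule.map_bot]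
    exact iSupIndep_def.mpr (fun i => by simp)
  · simp only [Submodule.map_bot]
    rw [iSup_bot]
    exact Subsingleton.elim _ _

end Cfsg.Agent.Helper22.FrobFree
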