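import Mathlib
import Cfsg.Agent.Lib.Helper22.FrobFreeA

set_option autoImplicit false

/-!
Averaging idempotents of subgroups, common fixed vectors of nilpotent groups of unipotent
operators, and the Sylow criterion for unipotence.
-/

namespace Cfsg.Agent.Helper22.FrobFree

open Module

variable {k : Type*} [Field k] {U : Type*} [AddCommGroup U] [Module k U]
variable {F : Type*} [Group F]

section avg

variable [Finite F]

/-- the elements of a subgroup of a finite group as a finset -/
noncomputable def kfin (K : Subgroup F) : Finset F := (Set.toFinite (K : Set F)).toFinset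

theorem mem_kfin (K : Subgroup F) (x : F) : x ∈ kfin K ↔ x ∈ K := by
  simp [kfin]

theorem card_kfin (K : Subgroup F) : (kfin K).card = Nat.card K := by
  rw [kfin, ← Set.ncard_eq_toFinset_card, ← Nat.card_coe_set_eq]
  rfl

/-- the averaging operator of a subgroup -/
noncomputable def avg (α : F →* Module.End k U) (K : Subgroup F) : Module.End k U :=
  (Nat.card K : k)⁻¹ • ∑ x ∈ kfin K, α x

theorem avg_commute (α : F →* Module.End k U) (K : Subgroup F) (T : Module.End k U)
    (σ : F ≃ F) (hσ : ∀ x, x ∈ K ↔ σ x ∈ K)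
    (hT : ∀ x ∈ K, T * α x = α (σ x) * T) : T * avg α K = avg α K * T := by
  unfold avg
  rw [mul_smul_comm, smul_mul_assoc, Finset.mul_sum, Finset.sum_mul]
  congr 1
  refine Finset.sum_equiv σ ?_ ?_
  · intro x
    rw [mem_kfin, mem_kfin]
    exact hσ x
  · intro x hx
    rw [mem_kfin] at hx
    exact hT x hx

theorem alpha_mul_avg (α : F →* Module.End k U) (K : Subgroup F) {y : F} (hy : y ∈ K) :
    α y * avg α K = avg α K := by
  unfold avg
  rw [mul_smul_comm, Finset.mul_sum]
  congr 1
  refine Finset.sum_equiv (Equiv.mulLeft y) ?_ ?_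
  · intro x
    rw [mem_kfin, mem_kfin]
    exact (Subgroup.mul_mem_cancel_left K hy).symm
  · intro x _
    rw [← map_mul]
    rfl

theorem sum_const_avg (K : Subgroup F) (hK : (Nat.card K : k) ≠ 0) (T : Module.End k U) :
    (Nat.card K : k)⁻¹ • ∑ _x ∈ kfin K, T = T := by
  rw [Finset.sum_const, card_kfin, ← Nat.cast_smul_eq_nsmul k, smul_smul, inv_mul_cancel₀ hK,
    one_smul]

theorem avg_idem (α : F →* Module.End k U) (K : Subgroup F) (hK : (Nat.card K : k) ≠ 0) :
    avg α K * avg α K = avg α K := by
  have h1 : avg α K * avg α K = (Nat.card K : k)⁻¹ • ∑ x ∈ kfin K, α x * avg α K := by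
    rw [← Finset.sum_mul, ← smul_mul_assoc]
    rfl
  rw [h1, Finset.sum_congr rfl (fun x hx => alpha_mul_avg α K ((mem_kfin K x).mp hx))]
  exact sum_const_avg K hK _

theorem avg_fixed (α : F →* Module.End k U) (K : Subgroup F) (hK : (Nat.card K : k) ≠ 0)
    {u : U} (hu : ∀ x ∈ K, α x u = u) : avg α K u = u := by
  unfold avg
  rw [LinearMap.smul_apply, LinearMap.sum_apply]
  rw [Finset.sum_congr rfl (fun x hx => hu x ((mem_kfin K x).mp hx))]
  rw [Finset.sum_const, card_kfin, ← Nat.cast_smul_eq_nsmul k, smul_smul, inv_mul_cancel₀ hK,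
    one_smul]

theorem alpha_eq_one_of_avg (α : F →* Module.End k U) (K : Subgroup F)
    (h1 : avg α K = 1) {y : F} (hy : y ∈ K) : α y = 1 := by
  have := alpha_mul_avg α K hy
  rw [h1, mul_one] at this
  exact this

theorem avg_bot (α : F →* Module.End k U) : avg α (⊥ : Subgroup F) = 1 := by
  have h1 : kfin (⊥ : Subgroup F) = {1} := by
    ext x
    rw [mem_kfin, Subgroup.mem_bot, Finset.mem_singleton]
  unfold avg
  rw [h1, Finset.sum_singleton, map_one, Subgroup.card_bot, Nat.cast_one, inv_one, one_smul]

end avg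

section unipotent

/-- common fixed vectors of a set of group elements -/
def fixOf (α : F →* Module.End k U) (T : Set F) : Submodule k U where
  carrier := {u | ∀ x ∈ T, α x u = u}
  add_mem' := by
    intro a b ha hb x hx
    rw [map_add, ha x hx, hb x hx]
  zero_mem' := by
    intro x _
    rw [map_zero]
  smul_mem' := by
    intro c a ha x hx
    rw [map_smul, ha x hx]

theorem mem_fixOf (α : F →* Module.End k U) (T : Set F) (u : U) :
    u ∈ fixOf α T ↔ ∀ x ∈ T, α x u = u := Iff.rfl

theorem exists_fixed_of_commuting (α : F →* Module.End k U)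
    (huni : ∀ f, IsNilpotent (α f - 1))
    (C : Submodule k U) (S₀ : Finset F)
    (hinv : ∀ x ∈ S₀, ∀ u ∈ C, α x u ∈ C)
    (hcomm : ∀ x ∈ S₀, ∀ y ∈ S₀, ∀ u ∈ C, α x (α y u) = α y (α x u))
    (hC : C ≠ ⊥) : ∃ u ∈ C, u ≠ 0 ∧ ∀ x ∈ S₀, α x u = u := by
  classical
  have key : ∀ s : Finset F, s ⊆ S₀ → ∃ u ∈ C, u ≠ 0 ∧ ∀ x ∈ s, α x u = u := by
    intro s
    induction s using Finset.induction_on with
    | empty =>
      intro _
      obtain ⟨u, hu, hu0⟩ := Submodule.exists_mem_ne_zero_of_ne_bot hC
      exact ⟨u, hu, hu0, by simp⟩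
    | insert y s hy ih =>
      intro hsub
      obtain ⟨u₀, hu₀C, hu₀0, hu₀fix⟩ := ih (fun x hx => hsub (Finset.mem_insert_of_mem hx))
      have hyS : y ∈ S₀ := hsub (Finset.mem_insert_self y s)
      have hNapp : ∀ u, (α y - 1) u = α y u - u := by
        intro u
        simp
      have hC' : ∀ u, (u ∈ C ∧ ∀ x ∈ s, α x u = u) →
          ((α y - 1) u ∈ C ∧ ∀ x ∈ s, α x ((α y - 1) u) = (α y - 1) u) := by
        rintro u ⟨huC, hufix⟩
        refine ⟨?_, ?_⟩
        · rw [hNapp]
          exact C.sub_mem (hinv y hyS u huC) huC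
        · intro x hx
          have hxS := hsub (Finset.mem_insert_of_mem hx)
          rw [hNapp, map_sub, hcomm x hxS y hyS u huC, hufix x hx]
      have hpow : ∀ i : ℕ, (((α y - 1) ^ i) u₀ ∈ C ∧
          ∀ x ∈ s, α x (((α y - 1) ^ i) u₀) = ((α y - 1) ^ i) u₀) := by
        intro i
        induction i with
        | zero => simpa using ⟨hu₀C, hu₀fix⟩
        | succ i ihi =>
          rw [pow_succ', Module.End.mul_apply]
          exact hC' _ ihi
      obtain ⟨m, hm⟩ := huni y
      have hex : ∃ j, ((α y - 1 : Module.End k U) ^ j) u₀ = 0 := ⟨m, by rw [hm]; rfl⟩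
      have hj := Nat.find_spec hex
      have hj0 : Nat.find hex ≠ 0 := by
        intro h0
        rw [h0, pow_zero, Module.End.one_apply] at hj
        exact hu₀0 hj
      obtain ⟨j', hj'⟩ := Nat.exists_eq_succ_of_ne_zero hj0
      refine ⟨((α y - 1) ^ j') u₀, (hpow j').1, ?_, ?_⟩
      · intro h0
        exact Nat.find_min hex (m := j') (by omega) h0
      · intro x hx
        rcases Finset.mem_insert.mp hx with hxy | hx
        · have h1 : (α y - 1) (((α y - 1) ^ j') u₀) = 0 := by
            rw [← Module.End.mul_apply, ← pow_succ', ← Nat.succ_eq_add_one, ← hj']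
            exact hj
          rw [hNapp, sub_eq_zero] at h1
          rw [hxy]
          exact h1
        · exact (hpow j').2 x hx
  exact key S₀ (Finset.Subset.refl _)

theorem exists_fixed_of_unipotent [Finite F] [Group.IsNilpotent F] [Nontrivial U]
    (α : F →* Module.End k U) (huni : ∀ f, IsNilpotent (α f - 1)) :
    ∃ u : U, u ≠ 0 ∧ ∀ f, α f u = u := by
  have key : ∀ i : ℕ, ∃ u : U, u ≠ 0 ∧ ∀ x ∈ Subgroup.upperCentralSeries F i, α x u = u := by
    intro i
    induction i with
    | zero =>
      obtain ⟨u, hu⟩ := exists_ne (0 : U)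
      refine ⟨u, hu, ?_⟩
      intro x hx
      rw [Subgroup.upperCentralSeries_zero, Subgroup.mem_bot] at hx
      rw [hx, map_one, Module.End.one_apply]
    | succ i ih =>
      obtain ⟨u₀, hu₀, hfix₀⟩ := ih
      have hC : fixOf α (Subgroup.upperCentralSeries F i : Set F) ≠ ⊥ := by
        intro h
        have : u₀ ∈ fixOf α (Subgroup.upperCentralSeries F i : Set F) := hfix₀
        rw [h, Submodule.mem_bot] at this
        exact hu₀ this
      have hinvall : ∀ x : F, ∀ u ∈ fixOf α (Subgroup.upperCentralSeries F i : Set F),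
          α x u ∈ fixOf α (Subgroup.upperCentralSeries F i : Set F) := by
        intro x u hu z hz
        have h1 : x⁻¹ * z * x ∈ Subgroup.upperCentralSeries F i := by
          have hn : (Subgroup.upperCentralSeries F i).Normal := inferInstance
          have := hn.conj_mem z hz x⁻¹
          simpa using this
        have h2 : α z (α x u) = α x (α (x⁻¹ * z * x) u) := by
          rw [← Module.End.mul_apply, ← Module.End.mul_apply, ← map_mul, ← map_mul]
          congr 2
          group
        rw [h2, hu _ h1]
      have hcm : ∀ x ∈ kfin (Subgroup.upperCentralSeries F (i + 1)),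
          ∀ y ∈ kfin (Subgroup.upperCentralSeries F (i + 1)),
          ∀ u ∈ fixOf α (Subgroup.upperCentralSeries F i : Set F),
          α x (α y u) = α y (α x u) := by
        intro x hx y hy u hu
        rw [mem_kfin] at hx hy
        have hcomm := Subgroup.mem_upperCentralSeries_succ_iff.mp hx y
        rw [commutatorElement_def] at hcomm
        have h1 : α x (α y u) = α (x * y * x⁻¹ * y⁻¹) (α y (α x u)) := by
          simp only [← Module.End.mul_apply, ← map_mul]
          congr 2
          group
        rw [h1]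
        exact (hinvall y _ (hinvall x u hu)) _ hcomm
      obtain ⟨u, huC, hu0, hufix⟩ := exists_fixed_of_commuting α huni
        (fixOf α (Subgroup.upperCentralSeries F i : Set F))
        (kfin (Subgroup.upperCentralSeries F (i + 1))) (fun x _ => hinvall x) hcm hC
      exact ⟨u, hu0, fun x hx => hufix x ((mem_kfin _ _).mpr hx)⟩
  obtain ⟨n, hn⟩ := Group.IsNilpotent.nilpotent' (G := F)
  obtain ⟨u, hu, hfix⟩ := key n
  exact ⟨u, hu, fun f => hfix f (by rw [hn]; trivial)⟩

/-- if all Sylow subgroups for primes invertible in `k` act trivially then every element acts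
unipotently -/
theorem unipotent_of_sylow_trivial [Finite F] [Nontrivial U] (α : F →* Module.End k U)
    (h : ∀ q : ℕ, q.Prime → (q : k) ≠ 0 → ∀ P : Sylow q F, ∀ x ∈ P, α x = 1) :
    ∀ f, IsNilpotent (α f - 1) := by
  intro f
  obtain ⟨p, hp⟩ := CharP.exists k
  have hnormal : (α.ker).Normal := MonoidHom.normal_ker α
  have hindex : ∀ q : ℕ, q.Prime → q ∣ α.ker.index → q = p := by
    intro q hq hdvd
    by_contra hne
    have hqk : (q : k) ≠ 0 := by
      intro h0
      rw [CharP.cast_eq_zero_iff k p] at h0
      rcases CharP.char_is_prime_or_zero k p with hpp | hp0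
      · exact hne ((Nat.prime_dvd_prime_iff_eq hpp hq).mp h0).symm
      · rw [hp0, zero_dvd_iff] at h0
        exact hq.ne_zero h0
    haveI : Fact q.Prime := ⟨hq⟩
    obtain ⟨P⟩ := (inferInstance : Nonempty (Sylow q F))
    have hle : (P : Subgroup F) ≤ α.ker := by
      intro x hx
      rw [MonoidHom.mem_ker]
      exact h q hq hqk P x hx
    have h1 : α.ker.index ∣ (P : Subgroup F).index := Subgroup.index_dvd_of_le hle
    exact P.not_dvd_index (hdvd.trans h1)
  have hidx0 : α.ker.index ≠ 0 := Subgroup.index_ne_zero_of_finite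
  have hpow : f ^ α.ker.index ∈ α.ker := Subgroup.pow_index_mem _ f
  rw [MonoidHom.mem_ker, map_pow] at hpow
  rcases CharP.char_is_prime_or_zero k p with hpp | hp0
  · have hidx : α.ker.index = p ^ α.ker.index.primeFactorsList.length :=
      Nat.eq_prime_pow_of_unique_prime_dvd hidx0 (fun {d} hd hdvd => hindex d hd hdvd)
    haveI : Fact p.Prime := ⟨hpp⟩
    haveI : CharP (Module.End k U) p :=
      charP_of_injective_algebraMap (algebraMap k (Module.End k U)).injective p
    refine ⟨p ^ α.ker.index.primeFactorsList.length, ?_⟩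
    rw [sub_pow_char_pow_of_commute _ _ (Commute.one_right _), one_pow, ← hidx, hpow, sub_self]
  · have hidx : α.ker.index = 1 := by
      by_contra hne
      obtain ⟨q, hq, hdvd⟩ := Nat.exists_prime_and_dvd hne
      have := hindex q hq hdvd
      rw [hp0] at this
      exact hq.ne_zero this
    rw [hidx, pow_one] at hpow
    exact ⟨1, by rw [pow_one, hpow, sub_self]⟩

end unipotent

end Cfsg.Agent.Helper22.FrobFree
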