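import Mathlib
import Cfsg.Agent.Lib.Helper22.BG13E

/-!
# Bender-Glauberman Corollary 12.6 (helper22)

The statement of S1418 as a formal consequence of S1416 (first part) and S1417.
-/

set_option autoImplicit false

namespace Cfsg.Agent.Helper22.BG13

open Cfsg Subgroup
open Cfsg.Agent.Helper14.BGTrans Cfsg.Agent.Helper14.BGUniq
open Cfsg.Agent.Helper15 (IsSylowIn)

universe u

variable {G : Type u} [Group G] [Finite G]

omit [Finite G] in
/-- a subgroup whose conjugates by the elements of `E` stay inside it is normalized by `E` -/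
theorem le_normalizer_of_forall_conj_mem {E A : Subgroup G}
    (h : ∀ e ∈ E, ∀ a ∈ A, e * a * e⁻¹ ∈ A) : E ≤ normalizer (A : Set G) := by
  intro e he
  rw [Subgroup.mem_normalizer_iff]
  intro a
  constructor
  · exact h e he a
  · intro ha
    have := h e⁻¹ (E.inv_mem he) _ ha
    have h2 : e⁻¹ * (e * a * e⁻¹) * e⁻¹⁻¹ = a := by group
    rwa [h2] at this

/-- **BG Corollary 12.6** (the statement of S1418) from S1416 and S1417 -/
theorem theorem_12_6 (hG : IsMinSimpleOddOrder G) (h1416 : Hyp1416 G) (h1417 : Hyp1417 G)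
    (M : Subgroup G) (hM : IsCoatom M) (E : Subgroup G) (hE : IsComplIn E (sigmaCore M) M)
    (p : ℕ) [Fact p.Prime] (hp : p ∈ tau2 M) (A : Subgroup G)
    (hA : A ≤ E ∧ IsElementaryAbelian p A ∧ Nat.card A = p ^ 2) :
    (E ≤ normalizer (A : Set G) ∧ ∀ X : Subgroup G, X ≤ E → Nat.card X = p → X ≤ A) ∧
      (centralizer (A : Set G) ≤ M ⊓ normalizer (A : Set G) ∧
        M ⊓ normalizer (A : Set G) = E ∧ ¬ normalizer (A : Set G) ≤ M) ∧
      ∀ X : Subgroup G, X ≤ A → Nat.card X = p →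
        sigmaCore M ⊓ centralizer (X : Set G) ≠ ⊥ →
        (centralizer (X : Set G) ≤ M ∧ ∀ L : Subgroup G, IsCoatom L →
          centralizer (X : Set G) ≤ L → L = M) := by
  have hpp : p.Prime := Fact.out
  obtain ⟨hAE, hAe, hAc⟩ := hA
  obtain ⟨hEM, hSM, hES, hfac⟩ := hE
  have hAM : A ≤ M := hAE.trans hEM
  obtain ⟨-, hsyl, hnorm, hCA, hstar, -⟩ := h1417 M hM p hp A ⟨hAM, hAe, hAc⟩
  have hCAM : centralizer (A : Set G) ≤ M := (h1416 M hM p A ⟨hAM, hAe, hAc⟩).1
  set S := sigmaCore M with hS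
  have hMS : M ≤ normalizer (S : Set G) := le_normalizer_sigmaCore M
  have hSA : S ⊓ A = ⊥ := by
    rw [eq_bot_iff, ← hES]
    exact fun x hx => ⟨hAE hx.2, hx.1⟩
  have hbot : ∀ x, x ∈ S → x ∈ E → x = 1 := fun x hxS hxE => by
    have : x ∈ E ⊓ S := ⟨hxE, hxS⟩
    rw [hES] at this
    exact Subgroup.mem_bot.mp this
  have hAp : IsPGroup p ↥A := isPGroup_of_isElementaryAbelian hAe
  -- `(S ⊔ A) ⊓ E ≤ A`
  have hSAE : ∀ x, x ∈ S ⊔ A → x ∈ E → x ∈ A := by
    intro x hx hxE
    obtain ⟨s, hs, a, ha, rfl⟩ := exists_mul_of_mem_sup (hAM.trans hMS) hx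
    have hsE : s ∈ E := by
      have := E.mul_mem hxE (E.inv_mem (hAE ha))
      rwa [mul_inv_cancel_right] at this
    rw [hbot s hs hsE, one_mul]; exact ha
  have hEA : E ≤ normalizer (A : Set G) := by
    apply le_normalizer_of_forall_conj_mem
    intro e he a ha
    apply hSAE
    · exact (Subgroup.mem_normalizer_iff.mp (hnorm (hEM he)) a).mp (le_sup_right (a := S) ha)
    · exact E.mul_mem (E.mul_mem he (hAE ha)) (E.inv_mem he)
  -- a Sylow subgroup of `M` over a `p`-subgroup of `M` containing `A`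
  have hsylow : ∀ Y : Subgroup G, IsPGroup p ↥Y → Y ≤ M → A ≤ Y →
      ∃ P : Sylow p ↥M, Y ≤ (P : Subgroup ↥M).map M.subtype := by
    intro Y hY hYM _
    have hY' : IsPGroup p ↥(Y.subgroupOf M) := hY.comap_subtype
    obtain ⟨P, hP⟩ := hY'.exists_le_sylow
    refine ⟨P, ?_⟩
    intro y hy
    exact ⟨⟨y, hYM hy⟩, hP (Subgroup.mem_subgroupOf.mpr hy), rfl⟩
  refine ⟨⟨hEA, ?_⟩, ⟨le_inf hCAM (Subgroup.centralizer_le_normalizer (A : Set G)), ?_, ?_⟩, ?_⟩
  · -- subgroups of order `p` of `E` lie in `A`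
    intro X hXE hXc
    have hXA : X ≤ normalizer (A : Set G) := hXE.trans hEA
    have hcard : Nat.card ↥(A ⊔ X : Subgroup G) ∣ p ^ 3 := by
      have := Cfsg.Agent.Helper7.card_sup_dvd_mul_of_le_normalizer hXA
      rw [hAc, hXc] at this
      rwa [pow_succ]
    obtain ⟨k, -, hk⟩ := (Nat.dvd_prime_pow hpp).mp hcard
    have hYp : IsPGroup p ↥(A ⊔ X : Subgroup G) := IsPGroup.of_card hk
    obtain ⟨P, hP⟩ := hsylow (A ⊔ X) hYp (sup_le hAM (hXE.trans hEM)) le_sup_left
    have hAP : A ≤ (P : Subgroup ↥M).map M.subtype := le_sup_left.trans hP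
    obtain ⟨hΩ, -⟩ := (hsyl P).2 hAP
    intro x hx
    apply (hΩ x (hP (le_sup_right (a := A) hx))).mp
    have := pow_card_eq_one' (G := ↥X) (x := ⟨x, hx⟩)
    rw [hXc] at this
    exact congrArg Subtype.val this
  · -- `N_M(A) = E`
    apply le_antisymm
    · rintro m ⟨hmM, hmN⟩
      obtain ⟨e, he, s, hs, rfl⟩ := hfac m hmM
      have hsN : s ∈ normalizer (A : Set G) := by
        have := (normalizer (A : Set G)).mul_mem ((normalizer (A : Set G)).inv_mem (hEA he)) hmN
        rwa [inv_mul_cancel_left] at this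
      have hsC : s ∈ centralizer (A : Set G) := by
        apply Subgroup.mem_centralizer_iff.mpr
        intro a ha
        have h1 : s * a * s⁻¹ * a⁻¹ ∈ A :=
          A.mul_mem ((Subgroup.mem_normalizer_iff.mp hsN a).mp ha) (A.inv_mem ha)
        have h2 : s * a * s⁻¹ * a⁻¹ ∈ S := by
          have h3 : a * s⁻¹ * a⁻¹ ∈ S :=
            (Subgroup.mem_normalizer_iff.mp (hMS (hAM ha)) _).mp (S.inv_mem hs)
          have h4 := S.mul_mem hs h3
          have h5 : s * (a * s⁻¹ * a⁻¹) = s * a * s⁻¹ * a⁻¹ := by group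
          rwa [h5] at h4
        have h3 : s * a * s⁻¹ * a⁻¹ ∈ S ⊓ A := ⟨h2, h1⟩
        rw [hSA, Subgroup.mem_bot] at h3
        have h4 : s * a * s⁻¹ * a⁻¹ * (a * s) = a * s := by rw [h3, one_mul]
        rw [← h4]; group
      have hs1 : s ∈ S ⊓ centralizer (A : Set G) := ⟨hs, hsC⟩
      rw [hCA, Subgroup.mem_bot] at hs1
      rw [hs1, mul_one]; exact he
    · exact le_inf hEM hEA
  · -- `N_G(A) ≰ M`
    intro hNM
    obtain ⟨P, hP⟩ := hsylow A hAp hAM le_rfl
    obtain ⟨hΩ, hN⟩ := (hsyl P).2 hP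
    apply hN
    refine le_trans ?_ hNM
    apply le_normalizer_of_forall_conj_mem
    intro n hn a ha
    have h1 : n * a * n⁻¹ ∈ (P : Subgroup ↥M).map M.subtype :=
      (Subgroup.mem_normalizer_iff.mp hn a).mp (hP ha)
    apply (hΩ _ h1).mp
    have h2 : (n * a * n⁻¹) ^ p = n * a ^ p * n⁻¹ := by
      rw [conj_pow]
    rw [h2, hAe.2 a ha]; group
  · -- the centralizers of the non-regular points
    intro X hXA hXc hXS
    have hX1 : X ≠ ⊥ := card_prime_ne_bot hXc
    have hAX : A ≤ centralizer (X : Set G) := by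
      intro a ha
      apply Subgroup.mem_centralizer_iff.mpr
      intro x hx
      exact Cfsg.Agent.Helper7.isElementaryAbelian_comm hAe (hXA hx) ha
    have huniq : ∀ L : Subgroup G, IsCoatom L → centralizer (X : Set G) ≤ L → L = M := by
      intro L hL hCL
      by_contra hne
      have h1 := hstar L hL hne (hAX.trans hCL)
      apply hXS
      rw [eq_bot_iff, ← h1]
      exact inf_le_inf_left _ hCL
    obtain ⟨L, hL, hCL⟩ := exists_isCoatom_ge (Cfsg.Agent.Helper23.BG10.centralizer_ne_top' hG hX1)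
    have := huniq L hL hCL
    exact ⟨this ▸ hCL, huniq⟩

end Cfsg.Agent.Helper22.BG13
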