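import Mathlib
import Cfsg.Agent.Lib.Helper22.BG13E
import Cfsg.Agent.Lib.Helper22.SelfCent
import Cfsg.Agent.Lib.Lead.BGNonab
import Cfsg.Agent.Lib.Helper8.NarrowSolv
import Cfsg.Agent.Lib.Helper15.IsoRank3
import Cfsg.Agent.Lib.Helper14.KBal
import Cfsg.Agent.Lib.Helper22.MaxClass

/-!
# Bender-Glauberman section 13, part G (helper22): nonabelian Sylow subgroups of rank two

A nonabelian Sylow `p`-subgroup of `p`-rank at most two of a minimal simple group of odd order lies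
in a unique maximal subgroup (the case of BG Corollary 12.9 which is needed in Theorem 13.1),
following a proof of helper21.
-/

set_option autoImplicit false

namespace Cfsg.Agent.Helper22.BG13

open Cfsg Subgroup
open scoped commutatorElement
open Cfsg.Agent.Helper14.BGTrans Cfsg.Agent.Helper14.BGUniq
open Cfsg.Agent.Helper15 (IsSylowIn)

section quotientTrick

variable {H : Type*} [Group H] [Finite H]

/-- Coprime generation for a class two group `P` acting on `Y` with a central subgroup `Z`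
acting trivially, `P / Z` elementary abelian of order `p ^ 2`. -/
theorem le_iSup_centralizer_of_central_quotient {p : ℕ} [Fact p.Prime] {P Z Y : Subgroup H}
    (hZc : ∀ a ∈ P, ∀ z ∈ Z, a * z = z * a)
    (hcomm : ∀ a ∈ P, ∀ b ∈ P, ⁅a, b⁆ ∈ Z) (hpow : ∀ a ∈ P, a ^ p ∈ Z)
    (hZp : IsPGroup p ↥Z) (hY : ¬ p ∣ Nat.card ↥Y)
    (hPY : P ≤ normalizer (Y : Set H)) (hYZ : ∀ y ∈ Y, ∀ z ∈ Z, y * z = z * y)
    (hidx : Z.relIndex P = p ^ 2) :
    Y ≤ ⨆ u : {u : H // u ∈ P ∧ u ∉ Z}, Y ⊓ centralizer {(u : H)} := by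
  classical
  have hpp : p.Prime := Fact.out
  set S := ⨆ u : {u : H // u ∈ P ∧ u ∉ Z}, Y ⊓ centralizer {(u : H)} with hS
  have hSY : S ≤ Y := iSup_le fun _ => inf_le_left
  set C := centralizer (Z : Set H) with hC
  have hPC : P ≤ C := fun a ha =>
    Subgroup.mem_centralizer_iff.mpr fun z hz => (hZc a ha z hz).symm
  have hYC : Y ≤ C := fun y hy =>
    Subgroup.mem_centralizer_iff.mpr fun z hz => (hYZ y hy z hz).symm
  have hYZbot : ∀ x, x ∈ Y → x ∈ Z → x = 1 := by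
    intro x hxY hxZ
    have h1 : orderOf x ∣ Nat.card ↥Y := by
      have := orderOf_dvd_natCard (⟨x, hxY⟩ : ↥Y)
      rwa [← Subgroup.orderOf_coe] at this
    obtain ⟨k, hk⟩ := (hZp ⟨x, hxZ⟩)
    have hk' : x ^ p ^ k = 1 := by
      have := congrArg Subtype.val hk
      simpa using this
    have h2 : orderOf x ∣ p ^ k := orderOf_dvd_of_pow_eq_one hk'
    have hcop : (Nat.card ↥Y).Coprime (p ^ k) :=
      Nat.Coprime.pow_right k ((Nat.Prime.coprime_iff_not_dvd hpp).mpr hY).symm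
    have h3 : orderOf x = 1 := Nat.eq_one_of_dvd_coprimes hcop h1 h2
    exact orderOf_eq_one_iff.mp h3
  have hn : (Z.subgroupOf C).Normal := by
    refine ⟨fun z hz c => ?_⟩
    rw [Subgroup.mem_subgroupOf] at hz ⊢
    have h1 : (z : H) * (c : H) = (c : H) * (z : H) :=
      Subgroup.mem_centralizer_iff.mp c.2 _ hz
    have h2 : ((c * z * c⁻¹ : ↥C) : H) = (z : H) := by
      push_cast
      rw [← h1]; group
    rw [h2]; exact hz
  set π := QuotientGroup.mk' (Z.subgroupOf C) with hπ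
  have hπ1 : ∀ c : ↥C, π c = 1 ↔ (c : H) ∈ Z := by
    intro c
    rw [hπ, QuotientGroup.mk'_apply, QuotientGroup.eq_one_iff, Subgroup.mem_subgroupOf]
  set E := (P.subgroupOf C).map π with hE
  set X := (Y.subgroupOf C).map π with hX
  have hEe : IsElementaryAbelian p E := by
    constructor
    · rw [isMulCommutative_iff]
      rintro ⟨a, ha⟩ ⟨b, hb⟩
      apply Subtype.ext
      obtain ⟨x, hx, rfl⟩ := ha
      obtain ⟨x', hx', rfl⟩ := hb
      show π x * π x' = π x' * π x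
      rw [← map_mul, ← map_mul, ← mul_inv_eq_one, ← map_inv, ← map_mul, hπ1]
      have hx := Subgroup.mem_subgroupOf.mp hx
      have hx' := Subgroup.mem_subgroupOf.mp hx'
      have := hcomm _ hx _ hx'
      rw [commutatorElement_def] at this
      have h2 : ((x * x' * (x' * x)⁻¹ : ↥C) : H) = (x : H) * (x' : H) * (x : H)⁻¹ * (x' : H)⁻¹ := by
        push_cast; group
      rw [h2]; exact this
    · rintro a ⟨x, hx, rfl⟩
      rw [← map_pow, hπ1]
      have hx := Subgroup.mem_subgroupOf.mp hx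
      have := hpow _ hx
      simpa using this
  have hker : π.ker = Z.subgroupOf C := QuotientGroup.ker_mk' _
  have hEcard : Nat.card ↥E = p ^ 2 := by
    rw [hE, ← Subgroup.relIndex_ker, hker, Subgroup.relIndex_subgroupOf hPC, hidx]
  have hE1 : E ≠ ⊥ := by
    intro h
    rw [h, Subgroup.card_bot] at hEcard
    have := hpp.one_lt
    nlinarith
  have hXp : ¬ p ∣ Nat.card ↥X := by
    intro h
    apply hY
    have h1 := h.trans (Subgroup.card_map_dvd (Y.subgroupOf C) π)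
    rwa [Nat.card_congr (Subgroup.subgroupOfEquivOfLe hYC).toEquiv] at h1
  have hEX : E ≤ normalizer (X : Set (↥C ⧸ Z.subgroupOf C)) := by
    rintro e ⟨a, ha, rfl⟩
    have ha := Subgroup.mem_subgroupOf.mp ha
    rw [Subgroup.mem_normalizer_iff]
    have hconj : ∀ b : ↥C, b ∈ P.subgroupOf C → ∀ x ∈ X, π b * x * (π b)⁻¹ ∈ X := by
      rintro b hb x ⟨y, hy, rfl⟩
      have hb := Subgroup.mem_subgroupOf.mp hb
      have hy := Subgroup.mem_subgroupOf.mp hy
      rw [← map_inv, ← map_mul, ← map_mul]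
      apply Subgroup.mem_map_of_mem
      rw [Subgroup.mem_subgroupOf]
      have := (Subgroup.mem_normalizer_iff.mp (hPY hb) (y : H)).mp hy
      simpa using this
    intro x
    constructor
    · exact hconj a (Subgroup.mem_subgroupOf.mpr ha) x
    · intro hx
      have := hconj a⁻¹ (Subgroup.mem_subgroupOf.mpr (by simpa using P.inv_mem ha)) _ hx
      rw [map_inv] at this
      simpa [mul_assoc] using this
  have key := Cfsg.Agent.Helper14.KBal.le_iSup_hyperplane hEe hE1 hXp hEX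
  have hD : ∀ D : {D : Subgroup (↥C ⧸ Z.subgroupOf C) // D ≤ E ∧ D.relIndex E = p},
      X ⊓ centralizer ((D : Subgroup (↥C ⧸ Z.subgroupOf C)) : Set (↥C ⧸ Z.subgroupOf C)) ≤
        (S.subgroupOf C).map π := by
    rintro ⟨D, hDE, hDr⟩
    have hD1 : D ≠ ⊥ := by
      intro h
      rw [h, Subgroup.relIndex_bot_left, hEcard] at hDr
      have := hpp.one_lt
      nlinarith
    obtain ⟨d, hdD, hd1⟩ := (Subgroup.ne_bot_iff_exists_ne_one (H := D)).mp hD1 |> fun ⟨d, hd⟩ =>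
      (⟨(d : ↥C ⧸ Z.subgroupOf C), d.2, fun h => hd (Subtype.ext h)⟩ :
        ∃ d : ↥C ⧸ Z.subgroupOf C, d ∈ D ∧ d ≠ 1)
    obtain ⟨u, hu, rfl⟩ := hDE hdD
    have hu := Subgroup.mem_subgroupOf.mp hu
    have huZ : (u : H) ∉ Z := fun h => hd1 ((hπ1 u).mpr h)
    rintro x ⟨⟨y, hy, rfl⟩, hxc⟩
    have hy := Subgroup.mem_subgroupOf.mp hy
    have hc : π u * π y = π y * π u := Subgroup.mem_centralizer_iff.mp hxc _ hdD
    have h1 : (y : H) * (u : H) * (y : H)⁻¹ * (u : H)⁻¹ ∈ Z := by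
      have : π (y * u * y⁻¹ * u⁻¹) = 1 := by
        rw [map_mul, map_mul, map_mul, map_inv, map_inv, ← hc]; group
      have := (hπ1 _).mp this
      simpa using this
    have h2 : (y : H) * (u : H) * (y : H)⁻¹ * (u : H)⁻¹ ∈ Y := by
      have h3 : (u : H) * (y : H)⁻¹ * (u : H)⁻¹ ∈ Y :=
        (Subgroup.mem_normalizer_iff.mp (hPY hu) _).mp (Y.inv_mem hy)
      have h4 := Y.mul_mem hy h3
      have h5 : (y : H) * ((u : H) * (y : H)⁻¹ * (u : H)⁻¹) =
          (y : H) * (u : H) * (y : H)⁻¹ * (u : H)⁻¹ := by group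
      rwa [h5] at h4
    have h3 := hYZbot _ h2 h1
    have h4 : (u : H) * (y : H) = (y : H) * (u : H) := by
      have : (y : H) * (u : H) = (u : H) * (y : H) := by
        have h5 : (y : H) * (u : H) * (y : H)⁻¹ * (u : H)⁻¹ * ((u : H) * (y : H)) =
            (y : H) * (u : H) := by group
        rw [← h5, h3, one_mul]
      exact this.symm
    apply Subgroup.mem_map_of_mem
    rw [Subgroup.mem_subgroupOf]
    have h5 : (y : H) ∈ Y ⊓ centralizer {(u : H)} := by
      refine ⟨hy, ?_⟩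
      apply Subgroup.mem_centralizer_singleton_iff.mpr
      first
        | exact h4
        | exact h4.symm
    exact (le_iSup (fun u : {u : H // u ∈ P ∧ u ∉ Z} => Y ⊓ centralizer {(u : H)})
      ⟨(u : H), hu, huZ⟩) h5
  have hXS : X ≤ (S.subgroupOf C).map π := key.trans (iSup_le hD)
  intro y hy
  have h1 : π ⟨y, hYC hy⟩ ∈ X :=
    Subgroup.mem_map_of_mem _ (Subgroup.mem_subgroupOf.mpr hy)
  obtain ⟨s, hs, hse⟩ := hXS h1
  have hs := Subgroup.mem_subgroupOf.mp hs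
  have h2 : π (s⁻¹ * ⟨y, hYC hy⟩) = 1 := by
    rw [map_mul, map_inv, hse]; group
  have h3 := (hπ1 _).mp h2
  have h4 : (s : H)⁻¹ * y ∈ Z := by simpa using h3
  have h5 : (s : H)⁻¹ * y ∈ Y := Y.mul_mem (Y.inv_mem (hSY hs)) hy
  have h6 := hYZbot _ h5 h4
  have h7 : y = (s : H) := by
    rw [inv_mul_eq_one] at h6; exact h6.symm
  rw [h7]; exact hs

end quotientTrick

section extra

variable {H : Type*} [Group H] [Finite H]

/-- the data of a nonabelian subgroup `P₁` of order `p ^ 3` and exponent `p` with centre `Z` -/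
structure ExtraData (p : ℕ) (P₁ Z : Subgroup H) : Prop where
  le : Z ≤ P₁
  central : ∀ a ∈ P₁, ∀ z ∈ Z, a * z = z * a
  comm : ∀ a ∈ P₁, ∀ b ∈ P₁, ⁅a, b⁆ ∈ Z
  pow : ∀ a ∈ P₁, a ^ p = 1
  cardZ : Nat.card ↥Z = p
  card : Nat.card ↥P₁ = p ^ 3
  noncentral : ∀ w ∈ P₁, w ∉ Z → ∃ g ∈ P₁, g * w ≠ w * g

theorem extraData_of_card_cube {p : ℕ} [Fact p.Prime] {P₁ : Subgroup H}
    (hna : ¬ IsMulCommutative ↥P₁) (hc : Nat.card ↥P₁ = p ^ 3)
    (hexp : Monoid.exponent ↥P₁ = p) :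
    ExtraData p P₁ (P₁ ⊓ centralizer (P₁ : Set H)) := by
  have hP₁p : IsPGroup p ↥P₁ := IsPGroup.of_card hc
  have hZeq : P₁ ⊓ centralizer (P₁ : Set H) = (center ↥P₁).map P₁.subtype := by
    ext x
    constructor
    · rintro ⟨hx1, hx2⟩
      refine ⟨⟨x, hx1⟩, ?_, rfl⟩
      apply Subgroup.mem_center_iff.mpr
      intro g
      apply Subtype.ext
      exact Subgroup.mem_centralizer_iff.mp hx2 g g.2
    · rintro ⟨y, hy, rfl⟩
      refine ⟨y.2, ?_⟩
      apply Subgroup.mem_centralizer_iff.mpr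
      intro g hg
      have := Subgroup.mem_center_iff.mp hy ⟨g, hg⟩
      exact congrArg Subtype.val this
  refine ⟨inf_le_left, ?_, ?_, ?_, ?_, hc, ?_⟩
  · intro a ha z hz
    exact Subgroup.mem_centralizer_iff.mp hz.2 a ha
  · intro a ha b hb
    have h1 : ⁅a, b⁆ ∈ ⁅P₁, P₁⁆ := Subgroup.commutator_mem_commutator ha hb
    exact ⟨commutator_self_le P₁ h1, commutator_le_centralizer_of_card_cube hP₁p hc h1⟩
  · intro a ha
    have := Monoid.pow_exponent_eq_one (⟨a, ha⟩ : ↥P₁)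
    rw [hexp] at this
    exact congrArg Subtype.val this
  · rw [hZeq, Subgroup.card_map_of_injective P₁.subtype_injective]
    exact Cfsg.Agent.Helper22.card_center_of_card_cube p hc hna
  · intro w hw hwZ
    by_contra hcon
    push Not at hcon
    apply hwZ
    refine ⟨hw, ?_⟩
    apply Subgroup.mem_centralizer_iff.mpr
    intro g hg
    exact hcon g hg

variable {p : ℕ} [Fact p.Prime] {P₁ Z : Subgroup H}

omit [Finite H] in
theorem ExtraData.relIndex (D : ExtraData p P₁ Z) : Z.relIndex P₁ = p ^ 2 := by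
  have hpp : p.Prime := Fact.out
  have h := Cfsg.Agent.Helper7.relIndex_mul_card_of_le D.le
  rw [D.cardZ, D.card] at h
  have h2 : Z.relIndex P₁ * p = p ^ 2 * p := by rw [h]; ring
  exact Nat.eq_of_mul_eq_mul_right hpp.pos h2

omit [Finite H] [Fact p.Prime] in
theorem ExtraData.isPGroup_center (D : ExtraData p P₁ Z) : IsPGroup p ↥Z :=
  IsPGroup.of_card (n := 1) (by rw [D.cardZ, pow_one])

omit [Finite H] [Fact p.Prime] in
theorem ne_one_of_not_mem' {Z : Subgroup H} {w : H} (hw : w ∉ Z) : w ≠ 1 :=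
  fun h => hw (h ▸ Z.one_mem)

/-- every element of the coset `Z w` of a noncentral element `w` is conjugate to `w` in `P₁` -/
theorem ExtraData.exists_conj (D : ExtraData p P₁ Z) {w : H} (hw : w ∈ P₁) (hwZ : w ∉ Z)
    {z : H} (hz : z ∈ Z) : ∃ g ∈ P₁, g * w * g⁻¹ = z * w := by
  obtain ⟨g₀, hg₀, hne⟩ := D.noncentral w hw hwZ
  set c := g₀ * w * g₀⁻¹ * w⁻¹ with hc
  have hcZ : c ∈ Z := by
    have := D.comm g₀ hg₀ w hw
    rwa [commutatorElement_def] at this
  have hc1 : c ≠ 1 := by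
    intro h
    apply hne
    have : g₀ * w * g₀⁻¹ * w⁻¹ * (w * g₀) = w * g₀ := by rw [← hc, h, one_mul]
    rw [← this]; group
  have hcg : g₀ * c = c * g₀ := D.central g₀ hg₀ c hcZ
  have hpow : ∀ k : ℕ, g₀ ^ k * w * (g₀ ^ k)⁻¹ = c ^ k * w := by
    intro k
    induction k with
    | zero => simp
    | succ k ih =>
      have h1 : g₀ ^ (k + 1) * w * (g₀ ^ (k + 1))⁻¹ = g₀ * (g₀ ^ k * w * (g₀ ^ k)⁻¹) * g₀⁻¹ := by
        rw [pow_succ']; group
      have hck : g₀ * c ^ k = c ^ k * g₀ := (Commute.pow_right (show Commute g₀ c from hcg) k).eq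
      rw [h1, ih, ← mul_assoc, hck, pow_succ]
      have h2 : c ^ k * g₀ * w * g₀⁻¹ = c ^ k * (g₀ * w * g₀⁻¹ * w⁻¹) * w := by group
      rw [h2]
  have htop : zpowers (⟨c, hcZ⟩ : ↥Z) = ⊤ :=
    zpowers_eq_top_of_prime_card D.cardZ (fun h => hc1 (congrArg Subtype.val h))
  have hzmem : (⟨z, hz⟩ : ↥Z) ∈ zpowers (⟨c, hcZ⟩ : ↥Z) := by rw [htop]; trivial
  obtain ⟨k, hk⟩ := mem_powers_iff_mem_zpowers.mpr hzmem
  have hk' : c ^ k = z := by
    have := congrArg Subtype.val hk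
    simpa using this
  exact ⟨g₀ ^ k, P₁.pow_mem hg₀ k, by rw [hpow k, hk']⟩

/-- the elementary abelian subgroup `Z × ⟨u⟩` of order `p ^ 2` -/
theorem ExtraData.elemAb (D : ExtraData p P₁ Z) {u : H} (hu : u ∈ P₁) (huZ : u ∉ Z) :
    IsElementaryAbelian p (Z ⊔ zpowers u) ∧ Nat.card ↥(Z ⊔ zpowers u : Subgroup H) = p ^ 2 ∧
      Z ⊔ zpowers u ≤ P₁ := by
  have h1 : u ∈ centralizer (Z : Set H) :=
    Subgroup.mem_centralizer_iff.mpr fun z hz => (D.central u hu z hz).symm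
  obtain ⟨h2, h3⟩ := card_sup_zpowers_eq_sq D.cardZ h1 (D.pow u hu) huZ
  exact ⟨h2, h3, sup_le D.le (by rw [Subgroup.zpowers_le]; exact hu)⟩

end extra

section pcomplement

variable {H : Type*} [Group H] [Finite H]

/-- a normal `p`-complement of a subgroup `S`, as a subgroup of the ambient group -/
theorem exists_pcomplement_sub {p : ℕ} [Fact p.Prime] {S T : Subgroup H}
    (h : HasNormalPComplement p ↥S) (hT : IsSylowIn p T S) :
    ∃ K : Subgroup H, K ≤ S ∧ S ≤ normalizer (K : Set H) ∧ ¬ p ∣ Nat.card ↥K ∧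
      ∀ s ∈ S, ∃ k ∈ K, ∃ t ∈ T, s = k * t := by
  obtain ⟨N, hN, hc⟩ := (Cfsg.Agent.Helper22.hasNormalPComplement_iff hT.toSylow).mp h
  refine ⟨N.map S.subtype, Subgroup.map_subtype_le _, le_normalizer_map_subtype S N, ?_, ?_⟩
  · rw [Subgroup.card_map_of_injective S.subtype_injective, ← hc.index_eq_card]
    exact Sylow.not_dvd_index _
  · intro s hs
    obtain ⟨⟨n, t⟩, hnt, -⟩ := (Subgroup.isComplement'_def.mp hc).existsUnique ⟨s, hs⟩
    have ht : ((t : ↥S) : H) ∈ T := by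
      have h1 : (t : ↥S) ∈ ((hT.toSylow : Sylow p ↥S) : Subgroup ↥S) := t.2
      have h2 : (t : ↥S) ∈ T.subgroupOf S := hT.coe_toSylow ▸ h1
      exact Subgroup.mem_subgroupOf.mp h2
    refine ⟨((n : ↥S) : H), ⟨(n : ↥S), n.2, rfl⟩, ((t : ↥S) : H), ht, ?_⟩
    have := congrArg Subtype.val hnt
    simpa using this.symm

end pcomplement

section main

universe u

variable {G : Type u} [Group G] [Finite G] {p : ℕ} [Fact p.Prime] {T P₁ Z : Subgroup G}

omit [Fact p.Prime] in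
theorem exists_mem_not_mem_of_card_lt {A B : Subgroup G}
    (h : Nat.card ↥B < Nat.card ↥A) : ∃ a ∈ A, a ∉ B := by
  by_contra hcon
  push Not at hcon
  have hle : A ≤ B := hcon
  exact absurd (Subgroup.card_le_of_le hle) (not_le.mpr h)

/-- the trichotomy for a maximal subgroup containing a nonabelian Sylow subgroup of rank two,
from BG 12.3 -/
theorem rank_two_trichotomy (h1416 : Hyp1416 G) (D : ExtraData p P₁ Z) (hP₁T : P₁ ≤ T)
    {M : Subgroup G} (hM : IsCoatom M) (hTM : T ≤ M) (hTσ : IsSylowIn p T (sigmaCore M)) :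
    M ≤ normalizer (T : Set G) ∨
      (normalizer (Z : Set G) ≤ M ∧
        ∀ L : Subgroup G, IsCoatom L → normalizer (Z : Set G) ≤ L → L = M) ∨
      (∀ u ∈ P₁, u ∉ Z → ∃ w ∈ Z ⊔ zpowers u, w ∉ Z ∧ centralizer {w} ≤ M) := by
  have hpp : p.Prime := Fact.out
  by_cases hN : M ≤ normalizer (T : Set G)
  · exact Or.inl hN
  by_cases hΨ : normalizer (Z : Set G) ≤ M ∧
      ∀ L : Subgroup G, IsCoatom L → normalizer (Z : Set G) ≤ L → L = M
  · exact Or.inr (Or.inl hΨ)
  refine Or.inr (Or.inr ?_)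
  intro u hu huZ
  obtain ⟨hAe, hAc, hAP⟩ := D.elemAb hu huZ
  have hAM : Z ⊔ zpowers u ≤ M := hAP.trans (hP₁T.trans hTM)
  have h := (h1416 M hM p (Z ⊔ zpowers u) ⟨hAM, hAe, hAc⟩).2
  by_contra hcon
  apply hN
  have h2 := h (fun A₀ hA₀ hA₀c hA₀M => ?_)
  · exact le_normalizer_sylow_of_nilpotent_normal (le_normalizer_sigmaCore M) h2.2.2 hTσ
  · by_cases hAZ : A₀ = Z
    · rw [hAZ] at hA₀M
      exact hΨ hA₀M
    · have hex : ∃ w ∈ A₀, w ∉ Z := by
        by_contra hh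
        push Not at hh
        have hle : A₀ ≤ Z := hh
        exact hAZ (Subgroup.eq_of_le_of_card_ge hle (by rw [hA₀c, D.cardZ]))
      obtain ⟨w, hwA₀, hwZ⟩ := hex
      apply hcon
      refine ⟨w, hA₀ hwA₀, hwZ, ?_⟩
      have hw1 : w ≠ 1 := ne_one_of_not_mem' hwZ
      have hwo : orderOf w = p := orderOf_eq_prime (hAe.2 w (hA₀ hwA₀)) hw1
      have hA₀eq : A₀ = zpowers w := Cfsg.Agent.Helper22.eq_zpowers_of_card_eq w hwo A₀ hA₀c hwA₀
      have h3 : centralizer {w} ≤ normalizer (A₀ : Set G) := by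
        rw [hA₀eq, ← Cfsg.Agent.Helper22.centralizer_zpowers_eq]
        exact Subgroup.centralizer_le_normalizer _
      exact h3.trans hA₀M.1

/-- `C_K(Z) ≤ M` when `M` contains enough centralizers of noncentral elements of `P₁` -/
theorem inf_centralizer_le_of_forall (D : ExtraData p P₁ Z) {K M : Subgroup G}
    (hK : ¬ p ∣ Nat.card ↥K) (hPK : P₁ ≤ normalizer (K : Set G))
    (hΦ : ∀ u ∈ P₁, u ∉ Z → ∃ w ∈ Z ⊔ zpowers u, w ∉ Z ∧ centralizer {w} ≤ M) :
    K ⊓ centralizer (Z : Set G) ≤ M := by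
  have hP₁C : P₁ ≤ centralizer (Z : Set G) := fun a ha =>
    Subgroup.mem_centralizer_iff.mpr fun z hz => (D.central a ha z hz).symm
  have hY : ¬ p ∣ Nat.card ↥(K ⊓ centralizer (Z : Set G) : Subgroup G) :=
    fun h => hK (h.trans (Subgroup.card_dvd_of_le inf_le_left))
  have hPY : P₁ ≤ normalizer ((K ⊓ centralizer (Z : Set G) : Subgroup G) : Set G) := by
    refine le_trans ?_ (Subgroup.inf_normalizer_le_normalizer_inf)
    exact le_inf hPK (hP₁C.trans Subgroup.le_normalizer)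
  have hYZ : ∀ y ∈ K ⊓ centralizer (Z : Set G), ∀ z ∈ Z, y * z = z * y := fun y hy z hz =>
    (Subgroup.mem_centralizer_iff.mp hy.2 z hz).symm
  have key := le_iSup_centralizer_of_central_quotient D.central D.comm
    (fun a ha => by rw [D.pow a ha]; exact Z.one_mem) D.isPGroup_center hY hPY hYZ D.relIndex
  refine key.trans (iSup_le ?_)
  rintro ⟨u, hu, huZ⟩ y ⟨hyY, hyu⟩
  obtain ⟨w, hwA, -, hCw⟩ := hΦ u hu huZ
  apply hCw
  have hle : Z ⊔ zpowers u ≤ centralizer {y} := by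
    apply sup_le
    · intro z hz
      apply Subgroup.mem_centralizer_singleton_iff.mpr
      first
        | exact hYZ y hyY z hz
        | exact (hYZ y hyY z hz).symm
    · rw [Subgroup.zpowers_le]
      apply Subgroup.mem_centralizer_singleton_iff.mpr
      have := Subgroup.mem_centralizer_singleton_iff.mp hyu
      exact this.symm
  have h1 := Subgroup.mem_centralizer_singleton_iff.mp (hle hwA)
  apply Subgroup.mem_centralizer_singleton_iff.mpr
  exact h1.symm

/-- a maximal subgroup containing `T` lies in `M` when `M` contains enough centralizers of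
noncentral elements of `P₁` -/
theorem le_of_forall_centralizer_le (h1350 : Hyp1350 G) (h1414 : Hyp1414 G)
    (D : ExtraData p P₁ Z) (hP₁T : P₁ ≤ T) (hT : IsSylowIn p T ⊤)
    {M L : Subgroup G} (hTM : T ≤ M) (hNM : normalizer (T : Set G) ≤ M)
    (hL : IsCoatom L) (hTL : T ≤ L) (hpL : p ∈ sigma L) (hrL : PRankLE p 2 ↥L)
    (hΦ : ∀ u ∈ P₁, u ∉ Z → ∃ w ∈ Z ⊔ zpowers u, w ∉ Z ∧ centralizer {w} ≤ M) : L ≤ M := by
  have hpp : p.Prime := Fact.out
  have hTL' : IsSylowIn p T L := hT.of_le hTL le_top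
  have hTS : T ≤ sigmaCore L :=
    le_sigmaCore_of_isPiNum h1350 hL hTL (isPiNum_of_isPGroup hpL hT.isPGroup)
  have hTσ : IsSylowIn p T (sigmaCore L) := hTL'.of_le hTS (sigmaCore_le L)
  have hβ : p ∉ beta L := fun h => h.1.2 hrL
  have hnpc : HasNormalPComplement p ↥(sigmaCore L) :=
    ((h1414 L hL).2.2.2.2 p hpp (dvd_card_of_mem_sigma hpL) hβ).2.1
  obtain ⟨K, -, hSK, hKp, hfac⟩ := exists_pcomplement_sub hnpc hTσ
  have hTK : T ≤ normalizer (K : Set G) := hTS.trans hSK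
  have hP₁M : P₁ ≤ M := hP₁T.trans hTM
  have hKM : K ≤ M := by
    obtain ⟨u₀, hu₀, hu₀Z⟩ : ∃ u ∈ P₁, u ∉ Z := by
      apply exists_mem_not_mem_of_card_lt
      rw [D.cardZ, D.card]
      calc p = p ^ 1 := (pow_one p).symm
        _ < p ^ 3 := Nat.pow_lt_pow_right hpp.one_lt (by norm_num)
    obtain ⟨w₀, hw₀A, hw₀Z, hCw₀⟩ := hΦ u₀ hu₀ hu₀Z
    have hw₀ : w₀ ∈ P₁ := (D.elemAb hu₀ hu₀Z).2.2 hw₀A
    obtain ⟨hAe, hAc, hAP⟩ := D.elemAb hw₀ hw₀Z
    have hA1 : Z ⊔ zpowers w₀ ≠ ⊥ := by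
      intro h
      rw [h, Subgroup.card_bot] at hAc
      have := hpp.one_lt
      nlinarith
    have key := Cfsg.Agent.Helper14.KBal.le_iSup_hyperplane hAe hA1 hKp
      (hAP.trans (hP₁T.trans hTK))
    refine key.trans (iSup_le ?_)
    rintro ⟨D', hD'A, hD'r⟩
    have hD'c : Nat.card ↥D' = p := by
      have h1 := Cfsg.Agent.Helper14.KBal.card_hyperplane hD'A hD'r
      rw [hAc, sq] at h1
      exact Nat.eq_of_mul_eq_mul_right hpp.pos h1
    by_cases hDZ : D' = Z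
    · show K ⊓ centralizer (D' : Set G) ≤ M
      rw [hDZ]
      exact inf_centralizer_le_of_forall D hKp (hP₁T.trans hTK) hΦ
    · show K ⊓ centralizer (D' : Set G) ≤ M
      -- an element of `Z` outside `D'`
      obtain ⟨z₀, hz₀Z, hz₀D⟩ : ∃ z ∈ Z, z ∉ D' := by
        by_contra hh
        push Not at hh
        have hle : Z ≤ D' := hh
        exact hDZ (Subgroup.eq_of_le_of_card_ge hle (by rw [hD'c, D.cardZ])).symm
      have hcommA : ∀ a ∈ Z ⊔ zpowers w₀, ∀ b ∈ Z ⊔ zpowers w₀, a * b = b * a :=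
        fun a ha b hb => Cfsg.Agent.Helper7.isElementaryAbelian_comm hAe ha hb
      have hz₀C : z₀ ∈ centralizer (D' : Set G) := by
        apply Subgroup.mem_centralizer_iff.mpr
        intro d hd
        exact hcommA d (hD'A hd) z₀ (le_sup_left (a := Z) hz₀Z)
      have hz₀p : z₀ ^ p = 1 := hAe.2 z₀ (le_sup_left (a := Z) hz₀Z)
      obtain ⟨-, hBc⟩ := card_sup_zpowers_eq_sq hD'c hz₀C hz₀p hz₀D
      have hBA : D' ⊔ zpowers z₀ ≤ Z ⊔ zpowers w₀ :=
        sup_le hD'A (by rw [Subgroup.zpowers_le]; exact le_sup_left (a := Z) hz₀Z)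
      have hBeq : D' ⊔ zpowers z₀ = Z ⊔ zpowers w₀ :=
        Subgroup.eq_of_le_of_card_ge hBA (by rw [hBc, hAc])
      have hw₀B : w₀ ∈ D' ⊔ zpowers z₀ := by
        rw [hBeq]; exact le_sup_right (a := Z) (Subgroup.mem_zpowers w₀)
      have hzn : zpowers z₀ ≤ normalizer (D' : Set G) := by
        rw [Subgroup.zpowers_le]
        exact Subgroup.centralizer_le_normalizer (D' : Set G) hz₀C
      obtain ⟨d, hd, z, hz, hdz⟩ := exists_mul_of_mem_sup hzn hw₀B
      have hzZ : z ∈ Z := (Subgroup.zpowers_le.mpr hz₀Z) hz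
      -- `d = z⁻¹ * w₀` is conjugate to `w₀` in `P₁`
      obtain ⟨g, hg, hgw⟩ := D.exists_conj hw₀ hw₀Z (Z.inv_mem hzZ)
      have hd' : d = g * w₀ * g⁻¹ := by
        rw [hgw, hdz]
        have := D.central w₀ hw₀ z⁻¹ (Z.inv_mem hzZ)
        have h2 : d * z = z * d := hcommA d (hD'A hd) z (le_sup_left (a := Z) hzZ)
        rw [h2]; group
      rintro k ⟨hkK, hkC⟩
      have h1 : d * k = k * d := Subgroup.mem_centralizer_iff.mp hkC d hd
      have h2 : g⁻¹ * k * g ∈ centralizer {w₀} := by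
        apply Subgroup.mem_centralizer_singleton_iff.mpr
        rw [hd'] at h1
        have h3 : w₀ * (g⁻¹ * k * g) = g⁻¹ * (g * w₀ * g⁻¹ * k) * g := by group
        have h4 : g⁻¹ * k * g * w₀ = g⁻¹ * (k * (g * w₀ * g⁻¹)) * g := by group
        rw [h3, h4, h1]
      have h3 := hCw₀ h2
      have hgM : g ∈ M := hP₁M hg
      have h4 : g * (g⁻¹ * k * g) * g⁻¹ ∈ M := M.mul_mem (M.mul_mem hgM h3) (M.inv_mem hgM)
      have h5 : g * (g⁻¹ * k * g) * g⁻¹ = k := by group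
      rwa [h5] at h4
  intro l hl
  obtain ⟨s, hs, n, hn, rfl⟩ :=
    frattini_factor (sigmaCore_le L) (le_normalizer_sigmaCore L) hTσ l hl
  obtain ⟨k, hk, t, ht, rfl⟩ := hfac s hs
  exact M.mul_mem (M.mul_mem (hKM hk) (hTM ht)) (hNM hn.2)

/-- **nonabelian Sylow subgroups of rank at most two are uniqueness subgroups** -/
theorem hypR2 (hG : IsMinSimpleOddOrder G) (h1403 : Hyp1403 G) (h1350 : Hyp1350 G)
    (h1412 : Hyp1412 G) (h1414 : Hyp1414 G) (h1416 : Hyp1416 G) (h1417 : Hyp1417 G) :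
    HypR2 G := by
  intro p _ T hT hr hna
  rcases h1412 p hT.sylowOfTop hr with hc | ⟨P₁, P₂, hsup, -, hna₁, hc₁, hexp, -, -⟩
  · exact absurd hc hna
  have hsup' : P₁ ⊔ P₂ = T := hsup
  have hP₁T : P₁ ≤ T := by rw [← hsup']; exact le_sup_left
  have D := extraData_of_card_cube hna₁ hc₁ hexp
  have hrG : PRankLE p 2 G := Cfsg.Agent.Helper8.NarrowSolv.pRankLE_of_sylow 2 hT.sylowOfTop hr
  -- facts on the maximal subgroups containing `T`
  have hfacts : ∀ M : Subgroup G, IsCoatom M → T ≤ M →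
      p ∈ sigma M ∧ normalizer (T : Set G) ≤ M ∧ PRankLE p 2 ↥M ∧
        IsSylowIn p T (sigmaCore M) := by
    intro M hM hTM
    have hpM : p ∈ sigma M :=
      Cfsg.Agent.Lead.BGNonab.mem_sigma_of_nonabelian hG h1403
        (fun M hM p _ hp A hA P => ((h1417 M hM p hp A hA).2.1 P).1) hM hT.isPGroup hna hTM
    have hTM' : IsSylowIn p T M := hT.of_le hTM le_top
    have hTS : T ≤ sigmaCore M :=
      le_sigmaCore_of_isPiNum h1350 hM hTM (isPiNum_of_isPGroup hpM hT.isPGroup)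
    exact ⟨hpM, normalizer_le_of_mem_sigma hpM hTM',
      Cfsg.Agent.Helper15.IsoRank.pRankLE_subgroup hrG M, hTM'.of_le hTS (sigmaCore_le M)⟩
  have huniq : ∀ M L : Subgroup G, IsCoatom M → T ≤ M → IsCoatom L → T ≤ L → L = M := by
    intro M L hM hTM hL hTL
    obtain ⟨hpM, hNM, hrM, hTσM⟩ := hfacts M hM hTM
    obtain ⟨hpL, hNL, hrL, hTσL⟩ := hfacts L hL hTL
    rcases rank_two_trichotomy h1416 D hP₁T hM hTM hTσM with hN | hΨ | hΦ
    · exact (eq_of_isCoatom_le hM hL (hN.trans hNL)).symm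
    · rcases rank_two_trichotomy h1416 D hP₁T hL hTL hTσL with hN' | hΨ' | hΦ'
      · exact eq_of_isCoatom_le hL hM (hN'.trans hNM)
      · exact hΨ.2 L hL hΨ'.1
      · exact (eq_of_isCoatom_le hM hL
          (le_of_forall_centralizer_le h1350 h1414 D hP₁T hT hTL hNL hM hTM hpM hrM hΦ')).symm
    · exact eq_of_isCoatom_le hL hM
        (le_of_forall_centralizer_le h1350 h1414 D hP₁T hT hTM hNM hL hTL hpL hrL hΦ)
  obtain ⟨M, hM, hTM⟩ := exists_isCoatom_ge (ne_top_of_isPGroup hG hT.isPGroup)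
  exact ⟨M, ⟨hM, hTM⟩, fun L hL => huniq M L hM hTM hL.1 hL.2⟩

/-- **BG Theorem 13.1** (the statement of S1423) from the earlier results, without S1422 -/
theorem theorem_13_1' (hG : IsMinSimpleOddOrder G) (h1403 : Hyp1403 G) (h1350 : Hyp1350 G)
    (h1412 : Hyp1412 G) (h1414 : Hyp1414 G) (h1416 : Hyp1416 G) (h1417 : Hyp1417 G)
    (M : Subgroup G) (hM : IsCoatom M) (p : ℕ) [Fact p.Prime] (hp : p ∈ sigma M)
    (X : Subgroup G) (hXM : X ≤ M) (hX : Nat.card ↥X = p) (P : Sylow p ↥(sigmaCore M))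
    (h : p ∈ beta M ∨ X ≤ ⁅sigmaCore M, sigmaCore M⁆) :
    (centralizer (X : Set G) ≤ M ∧
        ∀ L : Subgroup G, IsCoatom L → centralizer (X : Set G) ≤ L → L = M) ∧
      InUniqueMaximal ((P : Subgroup ↥(sigmaCore M)).map (sigmaCore M).subtype) ∧
      (P : Subgroup ↥(sigmaCore M)).map (sigmaCore M).subtype ≤ M :=
  theorem_13_1 hG h1403 h1350 h1412 h1414
    (hypR2 hG h1403 h1350 h1412 h1414 h1416 h1417) M hM p hp X hXM hX P h

end main

end Cfsg.Agent.Helper22.BG13
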