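import Mathlib
import Cfsg.Agent.Lib.Helper22.BG13G
import Cfsg.Agent.Lib.Helper22.BG126
import Cfsg.Agent.Lib.Helper16.TwoIdxB
import Cfsg.Agent.Lib.Helper25.BG36F

/-!
# Bender-Glauberman Corollary 12.7, part A (helper22): a `p`-element acting on a group of order `p ^ 2`

A `p`-element `t` normalizing but not centralizing an elementary abelian group `A` of order `p ^ 2`
fixes exactly one subgroup `Z₁` of order `p` of `A`, and its powers permute the other ones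
transitively.
-/

set_option autoImplicit false

namespace Cfsg.Agent.Helper22.BG127

open Cfsg Subgroup
open Cfsg.Agent.Helper22.BG13
open Cfsg.Agent.Helper15 (IsSylowIn)

section transvection

variable {G : Type*} [Group G]

/-- the commutator map `a ↦ t a t⁻¹ a⁻¹` of an abelian subgroup normalized by `t` -/
def commHom {A : Subgroup G} (hA : ∀ a ∈ A, ∀ b ∈ A, a * b = b * a) {t : G}
    (ht : t ∈ normalizer (A : Set G)) : ↥A →* ↥A where
  toFun a := ⟨t * a * t⁻¹ * (a : G)⁻¹,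
    A.mul_mem ((Subgroup.mem_normalizer_iff.mp ht a).mp a.2) (A.inv_mem a.2)⟩
  map_one' := by
    apply Subtype.ext
    simp
  map_mul' a b := by
    apply Subtype.ext
    show t * ((a : G) * b) * t⁻¹ * ((a : G) * b)⁻¹
      = (t * a * t⁻¹ * (a : G)⁻¹) * (t * b * t⁻¹ * (b : G)⁻¹)
    have hb : t * (b : G) * t⁻¹ * (b : G)⁻¹ ∈ A :=
      A.mul_mem ((Subgroup.mem_normalizer_iff.mp ht b).mp b.2) (A.inv_mem b.2)
    have h1 := hA _ (A.inv_mem a.2) _ hb
    calc t * ((a : G) * b) * t⁻¹ * ((a : G) * b)⁻¹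
        = t * a * t⁻¹ * ((t * b * t⁻¹ * (b : G)⁻¹) * (a : G)⁻¹) := by group
      _ = t * a * t⁻¹ * ((a : G)⁻¹ * (t * b * t⁻¹ * (b : G)⁻¹)) := by rw [h1]
      _ = _ := by group

theorem commHom_coe {A : Subgroup G} (hA : ∀ a ∈ A, ∀ b ∈ A, a * b = b * a) {t : G}
    (ht : t ∈ normalizer (A : Set G)) (a : ↥A) :
    ((commHom hA ht a : ↥A) : G) = t * a * t⁻¹ * (a : G)⁻¹ := rfl

variable [Finite G] {p : ℕ} [Fact p.Prime]

/-- a `p`-element acting nontrivially on an elementary abelian group of order `p ^ 2` -/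
theorem exists_point_of_pElement {A : Subgroup G} (hAe : IsElementaryAbelian p A)
    (hAc : Nat.card ↥A = p ^ 2) {t : G} (htA : t ∈ normalizer (A : Set G))
    (htp : IsPGroup p ↥(zpowers t)) (htC : t ∉ centralizer (A : Set G)) :
    ∃ Z₁ : Subgroup G, Z₁ ≤ A ∧ Nat.card ↥Z₁ = p ∧ (∀ z, z ∈ Z₁ ↔ z ∈ A ∧ t * z = z * t) ∧
      ∀ a ∈ A, a ∉ Z₁ → ∀ z ∈ Z₁, ∃ k : ℕ, t ^ k * a * (t ^ k)⁻¹ = z * a ∧
        (z ≠ 1 → ∃ j : ℕ, (t ^ k) ^ j = t) := by
  have hpp : p.Prime := Fact.out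
  have hcomm : ∀ a ∈ A, ∀ b ∈ A, a * b = b * a :=
    fun a ha b hb => Cfsg.Agent.Helper7.isElementaryAbelian_comm hAe ha hb
  set Z₁ : Subgroup G := A ⊓ centralizer ({t} : Set G) with hZ₁
  have hmemZ : ∀ x, x ∈ Z₁ ↔ x ∈ A ∧ t * x = x * t := by
    intro x
    rw [hZ₁, Subgroup.mem_inf, Subgroup.mem_centralizer_singleton_iff]
    constructor
    · rintro ⟨h1, h2⟩; exact ⟨h1, h2.symm⟩
    · rintro ⟨h1, h2⟩; exact ⟨h1, h2.symm⟩
  have hZA : Z₁ ≤ A := inf_le_left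
  have hinv : ∀ k ∈ zpowers t, ∀ ω ∈ (A : Set G), k * ω * k⁻¹ ∈ (A : Set G) := by
    intro k hk ω hω
    have hkN : k ∈ normalizer (A : Set G) := (Subgroup.zpowers_le.mpr htA) hk
    exact (Subgroup.mem_normalizer_iff.mp hkN ω).mp hω
  -- the fixed points
  have hfix := Cfsg.Agent.Helper16.TwoIdx.card_modEq_card_fixed_conj (zpowers t) htp
    (A : Set G) hinv
  have hcardfix : Nat.card {ω : G // ω ∈ (A : Set G) ∧ ∀ k ∈ zpowers t, k * ω * k⁻¹ = ω}
      = Nat.card ↥Z₁ := by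
    apply Nat.card_congr
    apply Equiv.subtypeEquivRight
    intro ω
    rw [hmemZ]
    constructor
    · rintro ⟨h1, h2⟩
      refine ⟨h1, ?_⟩
      have := h2 t (Subgroup.mem_zpowers t)
      calc t * ω = t * ω * t⁻¹ * t := by group
        _ = ω * t := by rw [this]
    · rintro ⟨h1, h2⟩
      refine ⟨h1, ?_⟩
      intro k hk
      obtain ⟨n, rfl⟩ := Subgroup.mem_zpowers_iff.mp hk
      have hc : Commute t ω := h2
      have := (hc.zpow_left n).eq
      rw [this]; group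
  have hcardA : Nat.card ↥(A : Set G) = p ^ 2 := hAc
  rw [hcardfix, hcardA] at hfix
  have hpZ : p ∣ Nat.card ↥Z₁ := by
    have h1 : p ^ 2 % p = 0 := by rw [sq]; exact Nat.mul_mod_left p p
    have h2 : Nat.card ↥Z₁ % p = 0 := by rw [← hfix, h1]
    exact Nat.dvd_of_mod_eq_zero h2
  have hZne : Z₁ ≠ A := by
    intro h
    apply htC
    apply Subgroup.mem_centralizer_iff.mpr
    intro a ha
    have : a ∈ Z₁ := by rw [h]; exact ha
    exact ((hmemZ a).mp this).2.symm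
  have hZc : Nat.card ↥Z₁ = p := by
    have h1 : Nat.card ↥Z₁ ∣ p ^ 2 := hAc ▸ Subgroup.card_dvd_of_le hZA
    obtain ⟨i, hi2, hi⟩ := (Nat.dvd_prime_pow hpp).mp h1
    have hi0 : i ≠ 0 := by
      rintro rfl
      rw [hi, pow_zero] at hpZ
      exact hpp.one_lt.ne' (Nat.dvd_one.mp hpZ)
    have hi2' : i ≠ 2 := by
      rintro rfl
      exact hZne (Subgroup.eq_of_le_of_card_ge hZA (by rw [hi, hAc]))
    have : i = 1 := by omega
    rw [hi, this, pow_one]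
  -- the commutator map
  set φ := commHom hcomm htA with hφ
  have hker : φ.ker = Z₁.subgroupOf A := by
    ext a
    rw [MonoidHom.mem_ker, Subgroup.mem_subgroupOf, hmemZ]
    constructor
    · intro h
      have h1 : t * (a : G) * t⁻¹ * (a : G)⁻¹ = 1 := by
        have := congrArg Subtype.val h
        simpa [hφ, commHom_coe] using this
      refine ⟨a.2, ?_⟩
      calc t * (a : G) = t * a * t⁻¹ * (a : G)⁻¹ * (a * t) := by group
        _ = a * t := by rw [h1, one_mul]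
    · rintro ⟨-, h⟩
      apply Subtype.ext
      rw [hφ, commHom_coe, h]
      simp
  have hcker : Nat.card ↥φ.ker = p := by
    rw [hker, ← hZc]
    exact Nat.card_congr (Subgroup.subgroupOfEquivOfLe hZA).toEquiv
  have hcrange : Nat.card ↥φ.range = p := by
    have h1 := Subgroup.card_mul_index φ.ker
    rw [Subgroup.index_ker, hcker, hAc, sq] at h1
    exact Nat.eq_of_mul_eq_mul_left hpp.pos h1
  set I : Subgroup G := φ.range.map A.subtype with hI
  have hIc : Nat.card ↥I = p := by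
    rw [hI, Subgroup.card_map_of_injective A.subtype_injective, hcrange]
  have hIA : I ≤ A := Subgroup.map_subtype_le _
  have htI : zpowers t ≤ normalizer (I : Set G) := by
    apply le_normalizer_of_forall_conj_mem
    intro e he x hx
    obtain ⟨n, rfl⟩ := Subgroup.mem_zpowers_iff.mp he
    obtain ⟨y, ⟨a, rfl⟩, rfl⟩ := hx
    have hnN : t ^ n ∈ normalizer (A : Set G) := (normalizer (A : Set G)).zpow_mem htA n
    have ha' : t ^ n * (a : G) * (t ^ n)⁻¹ ∈ A := (Subgroup.mem_normalizer_iff.mp hnN a).mp a.2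
    refine ⟨φ ⟨t ^ n * (a : G) * (t ^ n)⁻¹, ha'⟩, ⟨_, rfl⟩, ?_⟩
    show ((φ ⟨t ^ n * (a : G) * (t ^ n)⁻¹, ha'⟩ : ↥A) : G) = t ^ n * ((φ a : ↥A) : G) * (t ^ n)⁻¹
    rw [hφ, commHom_coe, commHom_coe]
    have hc : Commute t (t ^ n) := (Commute.refl t).zpow_right n
    have hc' : Commute t (t ^ n)⁻¹ := hc.inv_right
    have e1 : t * (t ^ n) = t ^ n * t := hc.eq
    have e2 : t⁻¹ * (t ^ n)⁻¹ = (t ^ n)⁻¹ * t⁻¹ := (hc.inv_left.inv_right).eq
    calc t * (t ^ n * (a : G) * (t ^ n)⁻¹) * t⁻¹ * (t ^ n * (a : G) * (t ^ n)⁻¹)⁻¹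
        = (t * t ^ n) * a * ((t ^ n)⁻¹ * t⁻¹) * (t ^ n * (a : G)⁻¹ * (t ^ n)⁻¹) := by group
      _ = (t ^ n * t) * a * (t⁻¹ * (t ^ n)⁻¹) * (t ^ n * (a : G)⁻¹ * (t ^ n)⁻¹) := by
          rw [e1, e2]
      _ = _ := by group
  have hIp : IsPGroup p ↥I := IsPGroup.of_card (n := 1) (by rw [hIc, pow_one])
  have htcI := Cfsg.Agent.Helper25.BG36.le_centralizer_of_card_le htp hIp hIc.le htI
  have hIZ : I ≤ Z₁ := by
    intro x hx
    rw [hmemZ]
    refine ⟨hIA hx, ?_⟩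
    exact (Subgroup.mem_centralizer_iff.mp (htcI (Subgroup.mem_zpowers t)) x hx).symm
  have hφZ : ∀ a ∈ A, t * a * t⁻¹ * a⁻¹ ∈ Z₁ := by
    intro a ha
    apply hIZ
    exact ⟨φ ⟨a, ha⟩, ⟨_, rfl⟩, rfl⟩
  refine ⟨Z₁, hZA, hZc, hmemZ, ?_⟩
  intro a ha haZ z hz
  set c := t * a * t⁻¹ * a⁻¹ with hc
  have hcZ : c ∈ Z₁ := hφZ a ha
  have hc1 : c ≠ 1 := by
    intro h
    apply haZ
    rw [hmemZ]
    refine ⟨ha, ?_⟩
    calc t * a = t * a * t⁻¹ * a⁻¹ * (a * t) := by group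
      _ = a * t := by rw [← hc, h, one_mul]
  have hct : t * c = c * t := ((hmemZ c).mp hcZ).2
  have hpow : ∀ k : ℕ, t ^ k * a * (t ^ k)⁻¹ = c ^ k * a := by
    intro k
    induction k with
    | zero => simp
    | succ k ih =>
      have h1 : t ^ (k + 1) * a * (t ^ (k + 1))⁻¹ = t * (t ^ k * a * (t ^ k)⁻¹) * t⁻¹ := by
        rw [pow_succ']; group
      have hck : t * c ^ k = c ^ k * t := (Commute.pow_right (show Commute t c from hct) k).eq
      rw [h1, ih, ← mul_assoc, hck, pow_succ]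
      have h2 : c ^ k * t * a * t⁻¹ = c ^ k * (t * a * t⁻¹ * a⁻¹) * a := by group
      rw [h2]
  have htop : zpowers (⟨c, hcZ⟩ : ↥Z₁) = ⊤ :=
    zpowers_eq_top_of_prime_card hZc (fun h => hc1 (congrArg Subtype.val h))
  have hzmem : (⟨z, hz⟩ : ↥Z₁) ∈ zpowers (⟨c, hcZ⟩ : ↥Z₁) := by rw [htop]; trivial
  obtain ⟨k, hk⟩ := mem_powers_iff_mem_zpowers.mpr hzmem
  have hk' : c ^ k = z := by
    have := congrArg Subtype.val hk
    simpa using this
  refine ⟨k, by rw [hpow k, hk'], ?_⟩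
  intro hz1
  apply exists_pow_eq_self_of_coprime
  have hcp : c ^ p = 1 := hAe.2 c (hZA hcZ)
  have hnd : ¬ p ∣ k := by
    rintro ⟨m, rfl⟩
    apply hz1
    rw [← hk', pow_mul, hcp, one_pow]
  obtain ⟨m, hm⟩ := (IsPGroup.iff_orderOf.mp htp) ⟨t, Subgroup.mem_zpowers t⟩
  have hm' : orderOf t = p ^ m := by
    rw [← hm]; exact (Subgroup.orderOf_mk t (Subgroup.mem_zpowers t)).symm
  rw [hm']
  exact Nat.Coprime.pow_right m ((Nat.Prime.coprime_iff_not_dvd hpp).mpr hnd).symm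

omit [Fact p.Prime] in
/-- a subgroup of prime order is generated by each of its nontrivial elements -/
theorem eq_zpowers_of_mem_of_ne_one (hpp : p.Prime) {X : Subgroup G} (hXc : Nat.card ↥X = p)
    {x : G} (hx : x ∈ X) (hx1 : x ≠ 1) : X = zpowers x := by
  apply Cfsg.Agent.Helper22.eq_zpowers_of_card_eq x _ X hXc hx
  have h1 : orderOf x ∣ p := by
    have := orderOf_dvd_natCard (⟨x, hx⟩ : ↥X)
    rw [hXc, Subgroup.orderOf_mk] at this
    exact this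
  rcases (Nat.dvd_prime hpp).mp h1 with h | h
  · exact absurd (orderOf_eq_one_iff.mp h) hx1
  · exact h

omit [Fact p.Prime] in
/-- distinct subgroups of prime order meet trivially -/
theorem eq_one_of_mem_of_mem_of_ne (hpp : p.Prime) {X Y : Subgroup G} (hXc : Nat.card ↥X = p)
    (hYc : Nat.card ↥Y = p) (hXY : X ≠ Y) {x : G} (hxX : x ∈ X) (hxY : x ∈ Y) : x = 1 := by
  by_contra hx1
  apply hXY
  rw [eq_zpowers_of_mem_of_ne_one hpp hXc hxX hx1, eq_zpowers_of_mem_of_ne_one hpp hYc hxY hx1]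

omit [Finite G] [Fact p.Prime] in
theorem exists_ne_one_of_card_prime (hpp : p.Prime) {X : Subgroup G} (hXc : Nat.card ↥X = p) :
    ∃ x ∈ X, x ≠ 1 := by
  have hX1 : X ≠ ⊥ := by
    intro h
    rw [h, Subgroup.card_bot] at hXc
    exact hpp.one_lt.ne hXc
  obtain ⟨x, hx⟩ := (Subgroup.ne_bot_iff_exists_ne_one).mp hX1
  exact ⟨(x : G), x.2, fun h => hx (Subtype.ext h)⟩

/-- the subgroups of order `p` of `A` other than `Z₁` are permuted transitively by the powers of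
`t` -/
theorem exists_conj_point {A Z₁ : Subgroup G} (hAe : IsElementaryAbelian p A)
    (hAc : Nat.card ↥A = p ^ 2) (hZA : Z₁ ≤ A) (hZc : Nat.card ↥Z₁ = p) {t : G}
    (hconj : ∀ a ∈ A, a ∉ Z₁ → ∀ z ∈ Z₁, ∃ k : ℕ, t ^ k * a * (t ^ k)⁻¹ = z * a ∧
        (z ≠ 1 → ∃ j : ℕ, (t ^ k) ^ j = t))
    {X X' : Subgroup G} (hXA : X ≤ A) (hXc : Nat.card ↥X = p) (hXZ : X ≠ Z₁)
    (hX'A : X' ≤ A) (hX'c : Nat.card ↥X' = p) (hX'Z : X' ≠ Z₁) :
    ∃ k : ℕ, X.map (MulAut.conj (t ^ k)).toMonoidHom = X' ∧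
      (X' ≠ X → ∃ j : ℕ, (t ^ k) ^ j = t) := by
  have hpp : p.Prime := Fact.out
  have hcomm : ∀ a ∈ A, ∀ b ∈ A, a * b = b * a :=
    fun a ha b hb => Cfsg.Agent.Helper7.isElementaryAbelian_comm hAe ha hb
  obtain ⟨b₀, hb₀, hb₀1⟩ := exists_ne_one_of_card_prime hpp hXc
  obtain ⟨a', ha', ha'1⟩ := exists_ne_one_of_card_prime hpp hX'c
  have hb₀Z : b₀ ∉ Z₁ := fun h => hb₀1 (eq_one_of_mem_of_mem_of_ne hpp hXc hZc hXZ hb₀ h)
  have hb₀C : b₀ ∈ centralizer (Z₁ : Set G) := by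
    apply Subgroup.mem_centralizer_iff.mpr
    intro z hz
    exact hcomm z (hZA hz) b₀ (hXA hb₀)
  obtain ⟨-, hsq⟩ := card_sup_zpowers_eq_sq hZc hb₀C (hAe.2 b₀ (hXA hb₀)) hb₀Z
  have hXeq : X = zpowers b₀ := eq_zpowers_of_mem_of_ne_one hpp hXc hb₀ hb₀1
  have hsup : Z₁ ⊔ X = A := by
    apply Subgroup.eq_of_le_of_card_ge (sup_le hZA hXA)
    rw [hXeq, hsq, hAc]
  have hXN : X ≤ normalizer (Z₁ : Set G) := by
    intro x hx
    apply Subgroup.centralizer_le_normalizer (Z₁ : Set G)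
    apply Subgroup.mem_centralizer_iff.mpr
    intro z hz
    exact hcomm z (hZA hz) x (hXA hx)
  have ha'A : a' ∈ Z₁ ⊔ X := by rw [hsup]; exact hX'A ha'
  obtain ⟨z, hz, b, hb, hzb⟩ := exists_mul_of_mem_sup hXN ha'A
  have hb1 : b ≠ 1 := by
    intro h
    apply ha'1
    rw [h, mul_one] at hzb
    exact eq_one_of_mem_of_mem_of_ne hpp hX'c hZc hX'Z ha' (hzb ▸ hz)
  have hbZ : b ∉ Z₁ := fun h => hb1 (eq_one_of_mem_of_mem_of_ne hpp hXc hZc hXZ hb h)
  obtain ⟨k, hk, hk2⟩ := hconj b (hXA hb) hbZ z hz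
  refine ⟨k, ?_, ?_⟩
  · rw [eq_zpowers_of_mem_of_ne_one hpp hXc hb hb1,
      eq_zpowers_of_mem_of_ne_one hpp hX'c ha' ha'1, MonoidHom.map_zpowers]
    congr 1
    show t ^ k * b * (t ^ k)⁻¹ = a'
    rw [hk, hzb]
  · intro hne
    apply hk2
    rintro rfl
    apply hne
    rw [one_mul] at hzb
    rw [eq_zpowers_of_mem_of_ne_one hpp hXc hb hb1,
      eq_zpowers_of_mem_of_ne_one hpp hX'c ha' ha'1, hzb]

end transvection

end Cfsg.Agent.Helper22.BG127
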