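import Mathlib
import Cfsg.Agent.Lib.Helper22.BG127A

/-!
# Bender-Glauberman Corollary 12.7, part B (helper22): general lemmas

* the normalizer of a maximal subgroup;
* Sylow subgroups of a nilpotent group for distinct primes commute;
* `p`-th powers in the centralizer of a maximal elementary abelian subgroup of order `p ^ 2`.
-/

set_option autoImplicit false

namespace Cfsg.Agent.Helper22.BG127

open Cfsg Subgroup
open Cfsg.Agent.Helper22.BG13
open Cfsg.Agent.Helper14.BGTrans Cfsg.Agent.Helper14.BGUniq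
open Cfsg.Agent.Helper15 (IsSylowIn)

section general

variable {G : Type*} [Group G] [Finite G]

omit [Finite G] in
/-- the normalizer of a proper nontrivial subgroup is proper -/
theorem normalizer_ne_top_of_simple (hG : IsMinSimpleOddOrder G) {X : Subgroup G} (hX1 : X ≠ ⊥)
    (hX2 : X ≠ ⊤) : normalizer (X : Set G) ≠ ⊤ := by
  intro h
  have hn : X.Normal := Subgroup.normalizer_eq_top_iff.mp h
  have := hG.2.1
  rcases hn.eq_bot_or_eq_top with h' | h'
  · exact hX1 h'
  · exact hX2 h'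

/-- a maximal subgroup is self-normalizing -/
theorem mem_of_map_conj_eq (hG : IsMinSimpleOddOrder G) {M : Subgroup G} (hM : IsCoatom M)
    {g : G} (h : M.map (MulAut.conj g).toMonoidHom = M) : g ∈ M := by
  have hg : g ∈ normalizer (M : Set G) := Cfsg.Agent.Helper15.mem_normalizer_of_map_conj_eq h
  have hM1 : M ≠ ⊥ := by
    intro h0
    apply not_inUniqueMaximal_bot hG
    refine ⟨M, ⟨hM, bot_le⟩, ?_⟩
    rintro L' ⟨hL', -⟩
    by_contra hne
    have hlt : M < L' := by
      rw [h0]; exact bot_lt_iff_ne_bot.mpr (fun h2 => hne (by rw [h2, h0]))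
    exact hL'.1 (hM.2 L' hlt)
  by_contra hgM
  have hlt : M < normalizer (M : Set G) :=
    lt_of_le_of_ne Subgroup.le_normalizer (fun h' => hgM (by rw [h']; exact hg))
  exact normalizer_ne_top_of_simple hG hM1 hM.1 (hM.2 _ hlt)

/-- Sylow subgroups of a nilpotent subgroup for distinct primes commute -/
theorem commute_of_isSylowIn_nilpotent {W T' Q' : Subgroup G} {p q : ℕ} [Fact p.Prime]
    [Fact q.Prime] (hnil : Group.IsNilpotent ↥W) (hT' : IsSylowIn p T' W)
    (hQ' : IsSylowIn q Q' W) (hpq : p ≠ q) : ∀ x ∈ T', ∀ y ∈ Q', x * y = y * x := by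
  intro x hx y hy
  have hTn := le_normalizer_of_isNilpotent hnil hT'
  have hQn := le_normalizer_of_isNilpotent hnil hQ'
  have h1 : x * y * x⁻¹ * y⁻¹ ∈ Q' :=
    Q'.mul_mem ((Subgroup.mem_normalizer_iff.mp (hQn (hT'.le hx)) y).mp hy) (Q'.inv_mem hy)
  have h2 : x * y * x⁻¹ * y⁻¹ ∈ T' := by
    have h3 : y * x⁻¹ * y⁻¹ ∈ T' :=
      (Subgroup.mem_normalizer_iff.mp (hTn (hQ'.le hy)) x⁻¹).mp (T'.inv_mem hx)
    have h4 : x * y * x⁻¹ * y⁻¹ = x * (y * x⁻¹ * y⁻¹) := by group
    rw [h4]; exact T'.mul_mem hx h3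
  have hdisj := IsPGroup.disjoint_of_ne p q hpq T' Q' hT'.isPGroup hQ'.isPGroup
  have h5 : x * y * x⁻¹ * y⁻¹ = 1 := by
    have : x * y * x⁻¹ * y⁻¹ ∈ T' ⊓ Q' := ⟨h2, h1⟩
    rw [hdisj.eq_bot] at this
    exact Subgroup.mem_bot.mp this
  calc x * y = x * y * x⁻¹ * y⁻¹ * (y * x) := by group
    _ = y * x := by rw [h5, one_mul]

end general

section powers

/-- **`p`-th powers, rank two**: in a central product of a group of exponent `p` with a cyclic
group whose elements of order `p` are central, the `p`-th powers of order at most `p` are central -/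
theorem pow_central_of_central_product {G : Type*} [Group G] {p : ℕ} {P₁ P₂ T : Subgroup G}
    (hsup : P₁ ⊔ P₂ = T) (hcomm : ∀ a ∈ P₁, ∀ b ∈ P₂, a * b = b * a)
    (hexp : Monoid.exponent ↥P₁ = p) (hcyc : IsCyclic ↥P₂)
    (hcl : Subgroup.closure {x : G | x ∈ P₂ ∧ x ^ p = 1} = P₁ ⊓ centralizer (P₁ : Set G))
    {x : G} (hx : x ∈ T) (hxp : (x ^ p) ^ p = 1) : ∀ y ∈ T, y * x ^ p = x ^ p * y := by
  have hN : P₂ ≤ normalizer (P₁ : Set G) := by
    intro b hb
    apply Subgroup.centralizer_le_normalizer (P₁ : Set G)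
    apply Subgroup.mem_centralizer_iff.mpr
    intro a ha
    exact hcomm a ha b hb
  have hdec : ∀ y ∈ T, ∃ a ∈ P₁, ∃ b ∈ P₂, y = a * b := by
    intro y hy
    rw [← hsup] at hy
    exact exists_mul_of_mem_sup hN hy
  obtain ⟨a, ha, b, hb, rfl⟩ := hdec x hx
  have hap : a ^ p = 1 := by
    have := Monoid.pow_exponent_eq_one (⟨a, ha⟩ : ↥P₁)
    rw [hexp] at this
    exact congrArg Subtype.val this
  have hpow : (a * b) ^ p = b ^ p := by
    rw [(show Commute a b from hcomm a ha b hb).mul_pow, hap, one_mul]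
  rw [hpow] at hxp ⊢
  have hbp : b ^ p ∈ P₂ := P₂.pow_mem hb p
  have hbc : b ^ p ∈ P₁ ⊓ centralizer (P₁ : Set G) := by
    rw [← hcl]
    exact Subgroup.subset_closure ⟨hbp, hxp⟩
  have hP₂c : ∀ u ∈ P₂, ∀ v ∈ P₂, u * v = v * u := by
    intro u hu v hv
    have hc : IsMulCommutative ↥P₂ := IsCyclic.isMulCommutative
    have h1 := hc.is_comm.comm (⟨u, hu⟩ : ↥P₂) ⟨v, hv⟩
    exact congrArg Subtype.val h1
  intro y hy
  obtain ⟨a', ha', b', hb', rfl⟩ := hdec y hy
  have h1 : a' * b ^ p = b ^ p * a' := Subgroup.mem_centralizer_iff.mp hbc.2 a' ha'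
  have h2 : b' * b ^ p = b ^ p * b' := hP₂c b' hb' _ hbp
  calc a' * b' * b ^ p = a' * (b' * b ^ p) := by group
    _ = a' * (b ^ p * b') := by rw [h2]
    _ = (a' * b ^ p) * b' := by group
    _ = b ^ p * a' * b' := by rw [h1]
    _ = b ^ p * (a' * b') := by group

/-- **`p`-th powers, narrow case**: if `E` is a maximal elementary abelian subgroup of order `p ^ 2`
of the `p`-group `R` not contained in a subgroup `Tc` of index `p` containing the centre, then
`p`-th powers of order at most `p` of elements of `C_R(E)` are central -/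
theorem pow_mem_center_of_index {R : Type*} [Group R] [Finite R] {p : ℕ} [Fact p.Prime]
    (hR : IsPGroup p R) {Tc E : Subgroup R} (hidx : Tc.index = p) (hcen : center R ≤ Tc)
    (hEe : IsElementaryAbelian p E) (hEc : Nat.card ↥E = p ^ 2)
    (hEmax : ∀ B : Subgroup R, IsElementaryAbelian p B → E ≤ B → B = E) (hETc : ¬ E ≤ Tc)
    {x : R} (hxE : x ∈ centralizer (E : Set R)) (hx : (x ^ p) ^ p = 1) : x ^ p ∈ center R := by
  have hpp : p.Prime := Fact.out
  have hcommE : ∀ a ∈ E, ∀ b ∈ E, a * b = b * a :=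
    fun a ha b hb => Cfsg.Agent.Helper7.isElementaryAbelian_comm hEe ha hb
  -- elements of order `p` centralizing `E` lie in `E`
  have hmaxE : ∀ u : R, u ∈ centralizer (E : Set R) → u ^ p = 1 → u ∈ E := by
    intro u huC hup
    by_contra huE
    obtain ⟨h1, h2⟩ := elemAb_sup_zpowers hEe huC hup huE
    have := hEmax _ h1 le_sup_left
    rw [this] at h2
    exact lt_irrefl _ h2
  -- `Tc` is normal
  obtain ⟨n, hn⟩ := hR.exists_card_eq
  have hn0 : n ≠ 0 := by
    rintro rfl
    rw [pow_zero] at hn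
    have h1 : Nat.card ↥E ∣ Nat.card R := Subgroup.card_subgroup_dvd_card E
    rw [hn, hEc] at h1
    have := Nat.le_of_dvd Nat.one_pos h1
    have := hpp.one_lt
    nlinarith
  have hTcn : Tc.Normal := by
    apply Subgroup.normal_of_index_eq_minFac_card
    rw [hidx, hn, Nat.Prime.pow_minFac hpp hn0]
  obtain ⟨a, haE, haT⟩ := SetLike.not_le_iff_exists.mp hETc
  -- `Tc ⊔ ⟨a⟩ = ⊤`
  have htop : Tc ⊔ zpowers a = ⊤ := by
    have h1 : (Tc ⊔ zpowers a).index ∣ p := hidx ▸ Subgroup.index_dvd_of_le le_sup_left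
    rcases (Nat.dvd_prime hpp).mp h1 with h | h
    · exact Subgroup.index_eq_one.mp h
    · exfalso
      have h2 := Subgroup.index_mul_card (Tc ⊔ zpowers a)
      have h3 := Subgroup.index_mul_card Tc
      rw [h, ← h3, hidx] at h2
      have h4 : Nat.card ↥(Tc ⊔ zpowers a : Subgroup R) = Nat.card ↥Tc :=
        Nat.eq_of_mul_eq_mul_left hpp.pos h2
      have h5 : Tc = Tc ⊔ zpowers a := Subgroup.eq_of_le_of_card_ge le_sup_left h4.le
      apply haT
      rw [h5]
      exact (le_sup_right : zpowers a ≤ Tc ⊔ zpowers a) (Subgroup.mem_zpowers a)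
  have hzN : zpowers a ≤ normalizer (Tc : Set R) := by
    rw [Subgroup.normalizer_eq_top_iff.mpr hTcn]; exact le_top
  have hxtop : x ∈ Tc ⊔ zpowers a := by rw [htop]; trivial
  obtain ⟨c, hc, b, hb, hxcb⟩ := exists_mul_of_mem_sup hzN hxtop
  have hbE : b ∈ E := (Subgroup.zpowers_le.mpr haE) hb
  have hcC : c ∈ centralizer (E : Set R) := by
    have hc' : c = x * b⁻¹ := by rw [hxcb]; group
    rw [hc']
    exact (centralizer (E : Set R)).mul_mem hxE ((centralizer (E : Set R)).inv_mem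
      (Subgroup.mem_centralizer_iff.mpr fun e he => hcommE e he b hbE))
  have hcb : Commute c b := (Subgroup.mem_centralizer_iff.mp hcC b hbE).symm
  have hxp : x ^ p = c ^ p := by
    rw [hxcb, hcb.mul_pow, hEe.2 b hbE, mul_one]
  rw [hxp] at hx ⊢
  have huT : c ^ p ∈ Tc := Tc.pow_mem hc p
  have huC : c ^ p ∈ centralizer (E : Set R) := (centralizer (E : Set R)).pow_mem hcC p
  have huE : c ^ p ∈ E := hmaxE _ huC hx
  -- a central element of order `p`
  have : Nontrivial R := by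
    rw [← Finite.one_lt_card_iff_nontrivial, hn]
    exact Nat.one_lt_pow hn0 hpp.one_lt
  have hcn : Nontrivial ↥(center R) := hR.center_nontrivial
  have hpc : p ∣ Nat.card ↥(center R) := by
    obtain ⟨k, hk⟩ := (hR.to_subgroup (center R)).exists_card_eq
    have hk0 : k ≠ 0 := by
      rintro rfl
      rw [pow_zero] at hk
      have := Finite.one_lt_card_iff_nontrivial.mpr hcn
      omega
    rw [hk]
    exact dvd_pow_self p hk0
  obtain ⟨z₀, hz₀⟩ := exists_prime_orderOf_dvd_card' (G := ↥(center R)) p hpc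
  have hz₀o : orderOf (z₀ : R) = p := by rw [Subgroup.orderOf_coe, hz₀]
  have hz₀1 : (z₀ : R) ≠ 1 := by
    intro h
    rw [h, orderOf_one] at hz₀o
    exact hpp.one_lt.ne hz₀o
  have hz₀p : (z₀ : R) ^ p = 1 := by rw [← hz₀o]; exact pow_orderOf_eq_one _
  have hz₀C : (z₀ : R) ∈ centralizer (E : Set R) := by
    apply Subgroup.mem_centralizer_iff.mpr
    intro e _
    exact Subgroup.mem_center_iff.mp z₀.2 e
  have hz₀E : (z₀ : R) ∈ E := hmaxE _ hz₀C hz₀p
  have hz₀T : (z₀ : R) ∈ Tc := hcen z₀.2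
  -- `E ⊓ Tc` has order `p`
  have hIc : Nat.card ↥(E ⊓ Tc : Subgroup R) = p := by
    have h1 : Nat.card ↥(E ⊓ Tc : Subgroup R) ∣ p ^ 2 := hEc ▸ Subgroup.card_dvd_of_le inf_le_left
    obtain ⟨i, hi2, hi⟩ := (Nat.dvd_prime_pow hpp).mp h1
    have hi0 : i ≠ 0 := by
      rintro rfl
      rw [pow_zero] at hi
      have h2 : E ⊓ Tc = ⊥ := Subgroup.card_eq_one.mp hi
      have h3 : (z₀ : R) ∈ E ⊓ Tc := ⟨hz₀E, hz₀T⟩
      rw [h2] at h3
      exact hz₀1 (Subgroup.mem_bot.mp h3)
    have hi2' : i ≠ 2 := by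
      rintro rfl
      have h2 : E ⊓ Tc = E := Subgroup.eq_of_le_of_card_ge inf_le_left (by rw [hi, hEc])
      exact hETc (h2 ▸ inf_le_right)
    have : i = 1 := by omega
    rw [hi, this, pow_one]
  have hIz : E ⊓ Tc = zpowers (z₀ : R) :=
    eq_zpowers_of_mem_of_ne_one hpp hIc ⟨hz₀E, hz₀T⟩ hz₀1
  have hu : c ^ p ∈ zpowers (z₀ : R) := by rw [← hIz]; exact ⟨huE, huT⟩
  exact (Subgroup.zpowers_le.mpr z₀.2) hu

end powers

end Cfsg.Agent.Helper22.BG127
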