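import Mathlib

/-!
# Avoiding finitely many proper affine subspaces

A vector space over a field `K` is not the union of `s < #K` proper affine subspaces
(cosets `c i + U i` of proper subspaces).  Generic helper (e.g. for S2522).
-/

set_option linter.unusedSectionVars false
set_option linter.unusedVariables false

namespace Cfsg.Agent.Helper22.AffineAvoid

open Cardinal

/-- If `s.card < #K` and every `U i` (`i ∈ s`) is a proper subspace, some vector `v` avoids all the
cosets `c i + U i`. -/
theorem exists_forall_sub_notMem {K V ι : Type*} [Field K] [AddCommGroup V] [Module K V]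
    [DecidableEq ι] (s : Finset ι) (U : ι → Submodule K V) (c : ι → V)
    (hU : ∀ i ∈ s, U i ≠ ⊤)
    (hs : (s.card : Cardinal) < Cardinal.mk K) : ∃ v : V, ∀ i ∈ s, v - c i ∉ U i := by
  induction s using Finset.induction_on with
  | empty => exact ⟨0, by simp⟩
  | insert a s ha ih =>
    have hcard : (Finset.card (insert a s)) = s.card + 1 := Finset.card_insert_of_notMem ha
    have hs' : (s.card : Cardinal) < Cardinal.mk K := by
      refine lt_of_le_of_lt ?_ hs
      rw [hcard]
      exact_mod_cast Nat.le_succ _
    obtain ⟨v₀, hv₀⟩ := ih (fun i hi => hU i (Finset.mem_insert_of_mem hi)) hs'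
    by_cases hva : v₀ - c a ∉ U a
    · exact ⟨v₀, fun i hi => by
        rcases Finset.mem_insert.mp hi with rfl | hi
        · exact hva
        · exact hv₀ i hi⟩
    · have hva' : v₀ - c a ∈ U a := not_not.mp hva
      have hUa : U a ≠ ⊤ := hU a (Finset.mem_insert_self a s)
      obtain ⟨w, hw⟩ : ∃ w : V, w ∉ U a := by
        by_contra hcon
        apply hUa
        rw [eq_top_iff]
        intro x _
        by_contra hx
        exact hcon ⟨x, hx⟩
      -- the points `v₀ + t • w`, `t ≠ 0`, are never in `c a + U a`
      have hline : ∀ t : K, t ≠ 0 → (v₀ + t • w) - c a ∉ U a := by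
        intro t ht0 ht
        apply hw
        have h1 : t • w ∈ U a := by
          have : t • w = ((v₀ + t • w) - c a) - (v₀ - c a) := by abel
          rw [this]
          exact (U a).sub_mem ht hva'
        have := (U a).smul_mem t⁻¹ h1
        rwa [smul_smul, inv_mul_cancel₀ ht0, one_smul] at this
      by_contra hcon
      have hall : ∀ t : K, t ≠ 0 → ∃ i ∈ s, (v₀ + t • w) - c i ∈ U i := by
        intro t ht0
        by_contra ht
        apply hcon
        refine ⟨v₀ + t • w, fun i hi => ?_⟩
        rcases Finset.mem_insert.mp hi with rfl | hi
        · exact hline t ht0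
        · intro hmem
          exact ht ⟨i, hi, hmem⟩
      classical
      choose φ hφs hφ using hall
      let ψ : K → Option s := fun t => if h : t = 0 then none else some ⟨φ t h, hφs t h⟩
      have hinj : Function.Injective ψ := by
        intro t t' htt
        by_cases h0 : t = 0
        · by_cases h0' : t' = 0
          · rw [h0, h0']
          · simp [ψ, h0, h0'] at htt
        · by_cases h0' : t' = 0
          · simp [ψ, h0, h0'] at htt
          · simp only [ψ, h0, h0', dif_neg, not_false_eq_true, Option.some.injEq,
              Subtype.mk.injEq] at htt
            by_contra hne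
            have h1 := hφ t h0
            have h2 := hφ t' h0'
            rw [← htt] at h2
            have hsub : (t - t') • w ∈ U (φ t h0) := by
              have : (t - t') • w = ((v₀ + t • w) - c (φ t h0)) - ((v₀ + t' • w) - c (φ t h0)) := by
                rw [sub_smul]; abel
              rw [this]
              exact (U (φ t h0)).sub_mem h1 h2
            have hne' : t - t' ≠ 0 := sub_ne_zero.mpr hne
            have hwU : w ∈ U (φ t h0) := by
              have := (U (φ t h0)).smul_mem (t - t')⁻¹ hsub
              rwa [smul_smul, inv_mul_cancel₀ hne', one_smul] at this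
            have : v₀ - c (φ t h0) ∈ U (φ t h0) := by
              have h3 : v₀ - c (φ t h0) = ((v₀ + t • w) - c (φ t h0)) - t • w := by abel
              rw [h3]
              exact (U (φ t h0)).sub_mem h1 ((U (φ t h0)).smul_mem t hwU)
            exact hv₀ _ (hφs t h0) this
      have hfin : Finite K := Finite.of_injective _ hinj
      have hle : Nat.card K ≤ Nat.card (Option s) := Nat.card_le_card_of_injective _ hinj
      have hmk : Nat.card (Option s) = s.card + 1 := by
        rw [Nat.card_eq_fintype_card, Fintype.card_option]
        simp
      rw [hmk] at hle
      have hK : (Nat.card K : Cardinal) = Cardinal.mk K := Nat.cast_card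
      rw [← hK, hcard] at hs
      have : s.card + 1 < Nat.card K := by exact_mod_cast hs
      omega

end Cfsg.Agent.Helper22.AffineAvoid
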