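import Mathlib

/-!
# Avoiding finitely many proper subspaces (sharp count)

A vector space over a field `K` is not the union of `s ≤ #K` proper subspaces.
(Generic helper, e.g. for S2522: choosing a vector outside at most 4 proper subspaces when `4 ≤ #K`.)
-/

set_option linter.unusedSectionVars false
set_option linter.unusedVariables false

namespace Cfsg.Agent.Helper22.SubspaceAvoid

open Cardinal

/-- If `s.card ≤ #K` and every `U i` (`i ∈ s`) is a proper subspace, some vector avoids all of them. -/
theorem exists_forall_notMem {K V ι : Type*} [Field K] [AddCommGroup V] [Module K V]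
    [DecidableEq ι] (s : Finset ι) (U : ι → Submodule K V) (hU : ∀ i ∈ s, U i ≠ ⊤)
    (hs : (s.card : Cardinal) ≤ Cardinal.mk K) : ∃ v : V, ∀ i ∈ s, v ∉ U i := by
  induction s using Finset.induction_on with
  | empty => exact ⟨0, by simp⟩
  | insert a s ha ih =>
    have hcard : (Finset.card (insert a s)) = s.card + 1 := Finset.card_insert_of_notMem ha
    have hs' : (s.card : Cardinal) ≤ Cardinal.mk K := by
      refine le_trans ?_ hs
      rw [hcard]
      exact_mod_cast Nat.le_succ _
    obtain ⟨v₀, hv₀⟩ := ih (fun i hi => hU i (Finset.mem_insert_of_mem hi)) hs'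
    by_cases hva : v₀ ∉ U a
    · exact ⟨v₀, fun i hi => by
        rcases Finset.mem_insert.mp hi with rfl | hi
        · exact hva
        · exact hv₀ i hi⟩
    · have hva' : v₀ ∈ U a := not_not.mp hva
      have hUa : U a ≠ ⊤ := hU a (Finset.mem_insert_self a s)
      obtain ⟨w, hw⟩ : ∃ w : V, w ∉ U a := by
        by_contra hcon
        apply hUa
        rw [eq_top_iff]
        intro x _
        by_contra hx
        exact hcon ⟨x, hx⟩
      -- the points `w + t • v₀` are never in `U a`
      have hline : ∀ t : K, w + t • v₀ ∉ U a := by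
        intro t ht
        apply hw
        have : w = (w + t • v₀) - t • v₀ := by abel
        rw [this]
        exact (U a).sub_mem ht ((U a).smul_mem t hva')
      by_contra hcon
      have hall : ∀ t : K, ∃ i ∈ s, w + t • v₀ ∈ U i := by
        intro t
        by_contra ht
        apply hcon
        refine ⟨w + t • v₀, fun i hi => ?_⟩
        rcases Finset.mem_insert.mp hi with rfl | hi
        · exact hline t
        · intro hmem
          exact ht ⟨i, hi, hmem⟩
      choose φ hφs hφ using hall
      have hinj : Function.Injective (fun t : K => (⟨φ t, hφs t⟩ : s)) := by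
        intro t t' htt
        have hi : φ t = φ t' := congrArg Subtype.val htt
        by_contra hne
        have h1 := hφ t
        have h2 := hφ t'
        rw [← hi] at h2
        have hsub : (t - t') • v₀ ∈ U (φ t) := by
          have : (t - t') • v₀ = (w + t • v₀) - (w + t' • v₀) := by
            rw [sub_smul]; abel
          rw [this]
          exact (U (φ t)).sub_mem h1 h2
        have hne' : t - t' ≠ 0 := sub_ne_zero.mpr hne
        have : v₀ ∈ U (φ t) := by
          have := (U (φ t)).smul_mem (t - t')⁻¹ hsub
          rwa [smul_smul, inv_mul_cancel₀ hne', one_smul] at this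
        exact hv₀ _ (hφs t) this
      have hfin : Finite K := Finite.of_injective _ hinj
      have hle : Nat.card K ≤ Nat.card s := Nat.card_le_card_of_injective _ hinj
      have hmk : Nat.card s = s.card := by simp
      rw [hmk] at hle
      have hK : (Nat.card K : Cardinal) = Cardinal.mk K := Nat.cast_card
      rw [← hK, hcard] at hs
      have : s.card + 1 ≤ Nat.card K := by exact_mod_cast hs
      omega

/-- Version with a list of four subspaces, as used with `4 ≤ #K`. -/
theorem exists_notMem_four {K V : Type*} [Field K] [AddCommGroup V] [Module K V]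
    (hK : 4 ≤ Cardinal.mk K) (U₁ U₂ U₃ U₄ : Submodule K V)
    (h₁ : U₁ ≠ ⊤) (h₂ : U₂ ≠ ⊤) (h₃ : U₃ ≠ ⊤) (h₄ : U₄ ≠ ⊤) :
    ∃ v : V, v ∉ U₁ ∧ v ∉ U₂ ∧ v ∉ U₃ ∧ v ∉ U₄ := by
  classical
  let U : Fin 4 → Submodule K V := ![U₁, U₂, U₃, U₄]
  have hU : ∀ i ∈ (Finset.univ : Finset (Fin 4)), U i ≠ ⊤ := by
    intro i _
    fin_cases i <;> simp [U] <;> assumption
  have hs : ((Finset.univ : Finset (Fin 4)).card : Cardinal) ≤ Cardinal.mk K := by
    simpa using hK
  obtain ⟨v, hv⟩ := exists_forall_notMem Finset.univ U hU hs
  exact ⟨v, hv 0 (Finset.mem_univ _), hv 1 (Finset.mem_univ _), hv 2 (Finset.mem_univ _),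
    hv 3 (Finset.mem_univ _)⟩

end Cfsg.Agent.Helper22.SubspaceAvoid
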