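import Mathlib

/-!
# Point stabilizers acting on the complement: tools for inductions on multiple transitivity

Shared library of helper22.  Everything lives in `Cfsg.Agent.Helper22`.
-/

set_option autoImplicit false

namespace Cfsg.Agent.Helper22

open MulAction SubMulAction

variable {G X : Type*} [Group G] [MulAction G X]

/-- The stabilizer of a point acts faithfully on the complement of the point. -/
theorem faithfulSMul_ofStabilizer [FaithfulSMul G X] (a : X) :
    FaithfulSMul (stabilizer G a) (ofStabilizer G a) := by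
  refine ⟨fun {g h} hgh => ?_⟩
  apply Subtype.ext
  apply FaithfulSMul.eq_of_smul_eq_smul (α := X)
  intro x
  by_cases hx : x = a
  · rw [hx]
    have h1 : (g : G) • a = a := g.2
    have h2 : (h : G) • a = a := h.2
    rw [h1, h2]
  · have := hgh ⟨x, hx⟩
    exact congrArg Subtype.val this

/-- Bridge: if `N ∩ G_a` is `j`-transitive on the complement of `a` and `N` is transitive, then
`N` is `(j+1)`-transitive. -/
theorem isMultiplyPretransitive_succ_of_subgroupOf (N : Subgroup G) (a : X) (j : ℕ)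
    [IsPretransitive N X]
    (h : IsMultiplyPretransitive (N.subgroupOf (stabilizer G a)) (ofStabilizer G a) j) :
    IsMultiplyPretransitive N X (j + 1) := by
  rw [ofStabilizer.isMultiplyPretransitive (a := a)]
  refine ⟨fun x y => ?_⟩
  let x' : Fin j ↪ ofStabilizer G a :=
    ⟨fun i => ⟨(x i : X), (x i).2⟩, fun i i' hii' => x.injective (Subtype.ext (by
      have := congrArg Subtype.val hii'
      exact this))⟩
  let y' : Fin j ↪ ofStabilizer G a :=
    ⟨fun i => ⟨(y i : X), (y i).2⟩, fun i i' hii' => y.injective (Subtype.ext (by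
      have := congrArg Subtype.val hii'
      exact this))⟩
  obtain ⟨g, hg⟩ := h.exists_smul_eq x' y'
  have hgN : (g.1.1 : G) ∈ N := g.2
  have hga : (⟨g.1.1, hgN⟩ : N) ∈ stabilizer N a := by
    rw [mem_stabilizer_iff]
    exact g.1.2
  refine ⟨⟨⟨g.1.1, hgN⟩, hga⟩, ?_⟩
  ext i
  have := congrArg (fun z : Fin j ↪ ofStabilizer G a => ((z i : ofStabilizer G a) : X)) hg
  exact this

/-- Converse bridge. -/
theorem isMultiplyPretransitive_subgroupOf_of_succ (N : Subgroup G) (a : X) (j : ℕ)
    [IsPretransitive N X] (h : IsMultiplyPretransitive N X (j + 1)) :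
    IsMultiplyPretransitive (N.subgroupOf (stabilizer G a)) (ofStabilizer G a) j := by
  rw [ofStabilizer.isMultiplyPretransitive (a := a)] at h
  refine ⟨fun x y => ?_⟩
  let x' : Fin j ↪ ofStabilizer N a :=
    ⟨fun i => ⟨(x i : X), (x i).2⟩, fun i i' hii' => x.injective (Subtype.ext (by
      have := congrArg Subtype.val hii'
      exact this))⟩
  let y' : Fin j ↪ ofStabilizer N a :=
    ⟨fun i => ⟨(y i : X), (y i).2⟩, fun i i' hii' => y.injective (Subtype.ext (by
      have := congrArg Subtype.val hii'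
      exact this))⟩
  obtain ⟨g, hg⟩ := h.exists_smul_eq x' y'
  have hga : (g.1.1 : G) ∈ stabilizer G a := by
    rw [mem_stabilizer_iff]
    exact g.2
  have hgN : (⟨g.1.1, hga⟩ : stabilizer G a) ∈ N.subgroupOf (stabilizer G a) := by
    rw [Subgroup.mem_subgroupOf]
    exact g.1.2
  refine ⟨⟨⟨g.1.1, hga⟩, hgN⟩, ?_⟩
  ext i
  have := congrArg (fun z : Fin j ↪ ofStabilizer N a => ((z i : ofStabilizer N a) : X)) hg
  exact this

/-- Multiple transitivity on tuples given as injective functions. -/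
theorem exists_smul_eq_of_injective {j : ℕ} (hG : IsMultiplyPretransitive G X j)
    (x y : Fin j → X) (hx : Function.Injective x) (hy : Function.Injective y) :
    ∃ g : G, ∀ i, g • x i = y i := by
  obtain ⟨g, hg⟩ := hG.exists_smul_eq (⟨x, hx⟩ : Fin j ↪ X) ⟨y, hy⟩
  exact ⟨g, fun i => congrArg (fun z : Fin j ↪ X => z i) hg⟩

/-- A commutative transitive faithful action is free. -/
theorem eq_one_of_smul_eq_of_comm {A Y : Type*} [Group A] [MulAction A Y] [IsPretransitive A Y]
    [FaithfulSMul A Y] (hA : ∀ a b : A, a * b = b * a) (n : A) (y : Y) (hn : n • y = y) :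
    n = 1 := by
  apply FaithfulSMul.eq_of_smul_eq_smul (α := Y)
  intro z
  obtain ⟨h, rfl⟩ := exists_smul_eq A y z
  rw [one_smul, smul_smul, hA, ← smul_smul, hn]

/-- A transitive group whose point stabilizer has exponent two and acts regularly on the remaining
points has degree at most three. -/
theorem false_of_stabilizer_exponent_two {N : Type*} [Group N] [MulAction N X] [Fintype X]
    [IsPretransitive N X] (hcard : 4 ≤ Fintype.card X) (a : X)
    (hexp : ∀ n : N, n • a = a → n * n = 1)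
    (htr : ∀ b c : X, b ≠ a → c ≠ a → ∃ n : N, n • a = a ∧ n • b = c)
    (hfree : ∀ n : N, ∀ b : X, b ≠ a → n • a = a → n • b = b → n = 1) : False := by
  classical
  -- general freeness
  have hfree' : ∀ n : N, ∀ b c : X, b ≠ c → n • b = b → n • c = c → n = 1 := by
    intro n b c hbc hb hc
    obtain ⟨h, hh⟩ := exists_smul_eq N a b
    have h1 : (h⁻¹ * n * h) • a = a := by
      rw [mul_smul, mul_smul, hh, hb, ← hh, inv_smul_smul]
    have h2 : (h⁻¹ * n * h) • (h⁻¹ • c) = h⁻¹ • c := by
      rw [mul_smul, mul_smul, smul_inv_smul, hc]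
    have h3 : h⁻¹ • c ≠ a := by
      intro hcon
      apply hbc
      rw [← hh, ← hcon, smul_inv_smul]
    have h4 := hfree _ _ h3 h1 h2
    have : n = h * (h⁻¹ * n * h) * h⁻¹ := by group
    rw [this, h4]
    group
  -- three further points
  obtain ⟨b, hb⟩ : ∃ b : X, b ≠ a := by
    by_contra hcon
    push Not at hcon
    have : Fintype.card X ≤ 1 := Fintype.card_le_one_iff.mpr (fun x y => by rw [hcon x, hcon y])
    omega
  obtain ⟨c, hca, hcb⟩ : ∃ c : X, c ≠ a ∧ c ≠ b := by
    by_contra hcon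
    push Not at hcon
    have hsub : (Finset.univ : Finset X) ⊆ {a, b} := by
      intro x _
      by_cases hxa : x = a
      · simp [hxa]
      · simp [hcon x hxa]
    have := Finset.card_le_card hsub
    have h2 : ({a, b} : Finset X).card ≤ 2 := Finset.card_le_two
    rw [Finset.card_univ] at this
    omega
  obtain ⟨d, hda, hdb, hdc⟩ : ∃ d : X, d ≠ a ∧ d ≠ b ∧ d ≠ c := by
    by_contra hcon
    push Not at hcon
    have hsub : (Finset.univ : Finset X) ⊆ {a, b, c} := by
      intro x _
      by_cases hxa : x = a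
      · simp [hxa]
      · by_cases hxb : x = b
        · simp [hxb]
        · simp [hcon x hxa hxb]
    have := Finset.card_le_card hsub
    have h2 : ({a, b, c} : Finset X).card ≤ 3 := Finset.card_le_three
    rw [Finset.card_univ] at this
    omega
  obtain ⟨t, hta, htb⟩ := htr b c hb hca
  have htc : t • c = b := by
    rw [← htb, smul_smul, hexp t hta, one_smul]
  obtain ⟨g, hg⟩ := exists_smul_eq N a d
  have hgb : g⁻¹ • b ≠ a := by
    intro hcon
    apply hdb
    rw [← hg, ← hcon, smul_inv_smul]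
  have hgc : g⁻¹ • c ≠ a := by
    intro hcon
    apply hdc
    rw [← hg, ← hcon, smul_inv_smul]
  obtain ⟨u', hu'a, hu'b⟩ := htr _ _ hgb hgc
  set u := g * u' * g⁻¹ with hu
  have hud : u • d = d := by
    rw [hu, mul_smul, mul_smul, ← hg, inv_smul_smul, hu'a]
  have hub : u • b = c := by
    rw [hu, mul_smul, mul_smul, hu'b, smul_inv_smul]
  have huu : u * u = 1 := by
    have : u * u = g * (u' * u') * g⁻¹ := by rw [hu]; group
    rw [this, hexp u' hu'a]
    group
  have huc : u • c = b := by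
    rw [← hub, smul_smul, huu, one_smul]
  have hw : t⁻¹ * u = 1 := by
    apply hfree' _ b c (Ne.symm hcb)
    · rw [mul_smul, hub, inv_smul_eq_iff, htb]
    · rw [mul_smul, huc, inv_smul_eq_iff, htc]
  have hut : u = t := by
    have : u = t * (t⁻¹ * u) := by group
    rw [this, hw, mul_one]
  rw [hut] at hud
  have ht1 := hfree t d hda hta hud
  rw [ht1, one_smul] at htb
  exact hcb htb.symm

/-- In a faithful preprimitive action, a nontrivial normal subgroup is transitive. -/
theorem isPretransitive_of_normal_of_ne_bot [FaithfulSMul G X] [IsPreprimitive G X]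
    (N : Subgroup G) [N.Normal] (hN : N ≠ ⊥) : IsPretransitive N X := by
  apply IsQuasiPreprimitive.isPretransitive_of_normal (G := G)
  intro hfix
  apply hN
  rw [Subgroup.eq_bot_iff_forall]
  intro n hn
  apply FaithfulSMul.eq_of_smul_eq_smul (α := X)
  intro x
  have hx : x ∈ fixedPoints N X := by rw [hfix]; trivial
  rw [one_smul]
  exact hx ⟨n, hn⟩

theorem injective_vec3 {Y : Type*} {x y z : Y} (h12 : x ≠ y) (h13 : x ≠ z) (h23 : y ≠ z) :
    Function.Injective ![x, y, z] := by
  intro i j hij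
  fin_cases i <;> fin_cases j <;> simp_all

theorem injective_vec4 {Y : Type*} {x y z w : Y} (h12 : x ≠ y) (h13 : x ≠ z) (h14 : x ≠ w)
    (h23 : y ≠ z) (h24 : y ≠ w) (h34 : z ≠ w) :
    Function.Injective ![x, y, z, w] := by
  intro i j hij
  fin_cases i <;> fin_cases j <;> simp_all

/-- Three-point transitivity in explicit form. -/
theorem exists_smul_eq_three (hG : IsMultiplyPretransitive G X 3) {x₁ x₂ x₃ y₁ y₂ y₃ : X}
    (h12 : x₁ ≠ x₂) (h13 : x₁ ≠ x₃) (h23 : x₂ ≠ x₃) (k12 : y₁ ≠ y₂) (k13 : y₁ ≠ y₃)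
    (k23 : y₂ ≠ y₃) : ∃ g : G, g • x₁ = y₁ ∧ g • x₂ = y₂ ∧ g • x₃ = y₃ := by
  obtain ⟨g, hg⟩ := exists_smul_eq_of_injective hG ![x₁, x₂, x₃] ![y₁, y₂, y₃]
    (injective_vec3 h12 h13 h23) (injective_vec3 k12 k13 k23)
  exact ⟨g, hg 0, hg 1, hg 2⟩

/-- Four-point transitivity in explicit form. -/
theorem exists_smul_eq_four (hG : IsMultiplyPretransitive G X 4)
    {x₁ x₂ x₃ x₄ y₁ y₂ y₃ y₄ : X}
    (h12 : x₁ ≠ x₂) (h13 : x₁ ≠ x₃) (h14 : x₁ ≠ x₄) (h23 : x₂ ≠ x₃) (h24 : x₂ ≠ x₄)
    (h34 : x₃ ≠ x₄) (k12 : y₁ ≠ y₂) (k13 : y₁ ≠ y₃) (k14 : y₁ ≠ y₄) (k23 : y₂ ≠ y₃)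
    (k24 : y₂ ≠ y₄) (k34 : y₃ ≠ y₄) :
    ∃ g : G, g • x₁ = y₁ ∧ g • x₂ = y₂ ∧ g • x₃ = y₃ ∧ g • x₄ = y₄ := by
  obtain ⟨g, hg⟩ := exists_smul_eq_of_injective hG ![x₁, x₂, x₃, x₄] ![y₁, y₂, y₃, y₄]
    (injective_vec4 h12 h13 h14 h23 h24 h34) (injective_vec4 k12 k13 k14 k23 k24 k34)
  exact ⟨g, hg 0, hg 1, hg 2, hg 3⟩

/-- A point outside a finite list of at most `m` points exists when the type has more than `m`
points. -/
theorem exists_notMem_of_card_lt [Fintype X] [DecidableEq X] (s : Finset X)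
    (h : s.card < Fintype.card X) : ∃ x : X, x ∉ s := by
  by_contra hcon
  push Not at hcon
  have : (Finset.univ : Finset X) ⊆ s := fun x _ => hcon x
  have := Finset.card_le_card this
  rw [Finset.card_univ] at this
  omega

end Cfsg.Agent.Helper22
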