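import Mathlib
import Cfsg.Agent.Lib.Helper22.Sharp3
import Cfsg.Agent.Lib.Helper22.StabAction

/-!
# Sharply 4-transitive groups: basic tools and the case of even degree (helper22's library)

`Tr4`/`Uq4` are the elementwise forms of sharp 4-transitivity.  Main result of this file:
`even_card_le_six`: a sharply 4-transitive group of even degree has degree at most 6.
-/

set_option autoImplicit false

namespace Cfsg.Agent.Helper22.SharpFour

/-- four pairwise distinct points -/
structure D4 {α : Type*} (a b c d : α) : Prop where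
  ab : a ≠ b
  ac : a ≠ c
  ad : a ≠ d
  bc : b ≠ c
  bd : b ≠ d
  cd : c ≠ d

/-- quadruple transitivity -/
def Tr4 (G α : Type*) [SMul G α] : Prop :=
  ∀ a b c d a' b' c' d' : α, D4 a b c d → D4 a' b' c' d' →
    ∃ g : G, g • a = a' ∧ g • b = b' ∧ g • c = c' ∧ g • d = d'

/-- only the identity fixes four points -/
def Uq4 (G α : Type*) [One G] [SMul G α] : Prop :=
  ∀ g : G, ∀ a b c d : α, D4 a b c d → g • a = a → g • b = b → g • c = c → g • d = d → g = 1

variable {G : Type*} [Group G] {α : Type*} [MulAction G α]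

theorem eq_of_four (hU : Uq4 G α) {g h : G} {a b c d : α} (hd : D4 a b c d)
    (ha : g • a = h • a) (hb : g • b = h • b) (hc : g • c = h • c) (hdd : g • d = h • d) :
    g = h := by
  have := hU (h⁻¹ * g) a b c d hd (by rw [mul_smul, ha, inv_smul_smul])
    (by rw [mul_smul, hb, inv_smul_smul]) (by rw [mul_smul, hc, inv_smul_smul])
    (by rw [mul_smul, hdd, inv_smul_smul])
  exact (inv_mul_eq_one.mp this).symm

theorem smul_of_sq {g : G} (hg : g * g = 1) {x y : α} (h : g • x = y) : g • y = x := by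
  rw [← h, ← mul_smul, hg, one_smul]

theorem inv_of_sq {g : G} (hg : g * g = 1) : g⁻¹ = g := inv_eq_of_mul_eq_one_left hg

/-- a nonidentity element fixing three points fixes no other -/
theorem fix_mem_of_three (hU : Uq4 G α) {g : G} (hg : g ≠ 1) {x y z w : α} (hxy : x ≠ y)
    (hxz : x ≠ z) (hyz : y ≠ z) (hx : g • x = x) (hy : g • y = y) (hz : g • z = z)
    (hw : g • w = w) : w = x ∨ w = y ∨ w = z := by
  by_contra hcon
  push Not at hcon
  exact hg (hU g x y z w ⟨hxy, hxz, hcon.1.symm, hyz, hcon.2.1.symm, hcon.2.2.symm⟩ hx hy hz hw)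

section parity

variable [Fintype α] [DecidableEq α]

/-- parity of fixed points of an involution -/
theorem card_mod_fix {v : G} (hv : v * v = 1) :
    Fintype.card α % 2 = (Finset.univ.filter (fun x : α => v • x = x)).card % 2 := by
  let f : Function.End α := fun x => v • x
  have hf : f ^ 2 ^ 1 = 1 := by
    rw [pow_one, sq]
    funext x
    show v • v • x = x
    rw [← mul_smul, hv, one_smul]
  have : Fact (Nat.Prime 2) := ⟨Nat.prime_two⟩
  have hmod := Equiv.Perm.card_fixedPoints_modEq (α := α) hf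
  have hcard : Fintype.card (Function.fixedPoints f) =
      (Finset.univ.filter (fun x : α => v • x = x)).card := by
    rw [← Fintype.card_subtype]
    rfl
  rw [← hcard]
  exact hmod

/-- four distinct elements of a finset with more than three elements -/
theorem exists_four (s : Finset α) (h : 3 < s.card) :
    ∃ a b c d, a ∈ s ∧ b ∈ s ∧ c ∈ s ∧ d ∈ s ∧ D4 a b c d := by
  have hne : s.Nonempty := Finset.card_pos.mp (by omega)
  obtain ⟨a, ha⟩ := hne
  have h2 : 2 < (s.erase a).card := by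
    rw [Finset.card_erase_of_mem ha]; omega
  obtain ⟨b, hb, c, hc, d, hd, hbc, hbd, hcd⟩ := Finset.two_lt_card.mp h2
  rw [Finset.mem_erase] at hb hc hd
  exact ⟨a, b, c, d, ha, hb.2, hc.2, hd.2, ⟨hb.1.symm, hc.1.symm, hd.1.symm, hbc, hbd, hcd⟩⟩

/-- the number of fixed points of a nonidentity element is at most three -/
theorem card_fix_le_three (hU : Uq4 G α) {g : G} (hg : g ≠ 1) :
    (Finset.univ.filter (fun x : α => g • x = x)).card ≤ 3 := by
  by_contra hcon
  push Not at hcon
  obtain ⟨a, b, c, d, ha, hb, hc, hd, hD⟩ := exists_four _ hcon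
  rw [Finset.mem_filter] at ha hb hc hd
  exact hg (hU g a b c d hD ha.2 hb.2 hc.2 hd.2)

/-- even degree: an involution with two fixed points has no other -/
theorem even_fix_two (hU : Uq4 G α) (heven : Even (Fintype.card α)) {s : G} (hs2 : s * s = 1)
    (hs1 : s ≠ 1) {x y z : α} (hxy : x ≠ y) (hx : s • x = x) (hy : s • y = y) (hz : s • z = z) :
    z = x ∨ z = y := by
  by_contra hcon
  push Not at hcon
  have h1 := card_mod_fix (α := α) hs2
  have h2 : Fintype.card α % 2 = 0 := Nat.even_iff.mp heven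
  have h3 := card_fix_le_three (α := α) hU hs1
  have hsub : ({x, y, z} : Finset α) ⊆ Finset.univ.filter (fun w : α => s • w = w) := by
    intro w hw
    rw [Finset.mem_insert, Finset.mem_insert, Finset.mem_singleton] at hw
    rw [Finset.mem_filter]
    rcases hw with rfl | rfl | rfl
    · exact ⟨Finset.mem_univ _, hx⟩
    · exact ⟨Finset.mem_univ _, hy⟩
    · exact ⟨Finset.mem_univ _, hz⟩
  have h4 := Finset.card_le_card hsub
  have h5 : ({x, y, z} : Finset α).card = 3 := by
    rw [Finset.card_insert_of_notMem, Finset.card_pair hcon.2.symm]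
    rw [Finset.mem_insert, Finset.mem_singleton]
    push Not
    exact ⟨hxy, hcon.1.symm⟩
  omega

/-- odd degree: an involution with two fixed points has exactly one more -/
theorem odd_fix_three (hodd : Odd (Fintype.card α)) {s : G} (hs2 : s * s = 1)
    {x y : α} (hxy : x ≠ y) (hx : s • x = x) (hy : s • y = y) :
    ∃ z, z ≠ x ∧ z ≠ y ∧ s • z = z := by
  have h1 := card_mod_fix (α := α) hs2
  have h2 : Fintype.card α % 2 = 1 := Nat.odd_iff.mp hodd
  have hsub : ({x, y} : Finset α) ⊆ Finset.univ.filter (fun w : α => s • w = w) := by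
    intro w hw
    rw [Finset.mem_insert, Finset.mem_singleton] at hw
    rw [Finset.mem_filter]
    rcases hw with rfl | rfl
    · exact ⟨Finset.mem_univ _, hx⟩
    · exact ⟨Finset.mem_univ _, hy⟩
  have h4 := Finset.card_le_card hsub
  rw [Finset.card_pair hxy] at h4
  have h5 : 2 < (Finset.univ.filter (fun w : α => s • w = w)).card := by omega
  obtain ⟨a, ha, b, hb, c, hc, hab, hac, hbc⟩ := Finset.two_lt_card.mp h5
  rw [Finset.mem_filter] at ha hb hc
  by_cases hax : a = x ∨ a = y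
  · by_cases hbx : b = x ∨ b = y
    · refine ⟨c, ?_, ?_, hc.2⟩
      · rintro rfl
        rcases hax with rfl | rfl
        · exact hac rfl
        · rcases hbx with rfl | rfl
          · exact hbc rfl
          · exact hab rfl
      · rintro rfl
        rcases hax with rfl | rfl
        · rcases hbx with rfl | rfl
          · exact hab rfl
          · exact hbc rfl
        · exact hac rfl
    · push Not at hbx
      exact ⟨b, hbx.1, hbx.2, hb.2⟩
  · push Not at hax
    exact ⟨a, hax.1, hax.2, ha.2⟩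

end parity

/-! ### Even degree -/

section even

variable [Fintype α] [DecidableEq α] (hT : Tr4 G α) (hU : Uq4 G α)
  (heven : Even (Fintype.card α)) {p₁ p₂ p₃ p₄ : α} (hD : D4 p₁ p₂ p₃ p₄)

/-- involutions fixing `p₃` and `p₄` -/
def IsJ (p₃ p₄ : α) (s : G) : Prop := s • p₃ = p₃ ∧ s • p₄ = p₄ ∧ s * s = 1 ∧ s ≠ 1

include hU heven in
theorem J_fpf (h34 : p₃ ≠ p₄) {s : G} (hs : IsJ p₃ p₄ s) {x : α} (hx3 : x ≠ p₃) (hx4 : x ≠ p₄) :
    s • x ≠ x := by
  intro h
  rcases even_fix_two hU heven hs.2.2.1 hs.2.2.2 h34 hs.1 hs.2.1 h with h' | h'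
  · exact hx3 h'
  · exact hx4 h'

include hT hU in
theorem exists_swap (h34 : p₃ ≠ p₄) {x y : α} (hx3 : x ≠ p₃) (hx4 : x ≠ p₄) (hy3 : y ≠ p₃)
    (hy4 : y ≠ p₄) (hxy : x ≠ y) : ∃ s : G, IsJ p₃ p₄ s ∧ s • x = y ∧ s • y = x := by
  have hd : D4 x y p₃ p₄ := ⟨hxy, hx3, hx4, hy3, hy4, h34⟩
  have hd' : D4 y x p₃ p₄ := ⟨hxy.symm, hy3, hy4, hx3, hx4, h34⟩
  obtain ⟨s, h1, h2, h3, h4⟩ := hT x y p₃ p₄ y x p₃ p₄ hd hd'
  refine ⟨s, ⟨h3, h4, ?_, ?_⟩, h1, h2⟩
  · apply hU (s * s) x y p₃ p₄ hd
    · rw [mul_smul, h1, h2]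
    · rw [mul_smul, h2, h1]
    · rw [mul_smul, h3, h3]
    · rw [mul_smul, h4, h4]
  · intro hs
    rw [hs, one_smul] at h1
    exact hxy h1

theorem smul_ne_of_fix {s : G} {p x : α} (hs : s • p = p) (hx : x ≠ p) : s • x ≠ p := by
  intro h
  apply hx
  have h' : s • x = s • p := by rw [h, hs]
  exact MulAction.injective s h'

include hU heven in
theorem J_unique (h34 : p₃ ≠ p₄) {s t : G} (hs : IsJ p₃ p₄ s) (ht : IsJ p₃ p₄ t) {x : α}
    (hx3 : x ≠ p₃) (hx4 : x ≠ p₄) (h : s • x = t • x) : s = t := by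
  have hd : D4 p₃ p₄ x (s • x) :=
    ⟨h34, hx3.symm, (smul_ne_of_fix hs.1 hx3).symm, hx4.symm, (smul_ne_of_fix hs.2.1 hx4).symm,
      (J_fpf hU heven h34 hs hx3 hx4).symm⟩
  apply eq_of_four hU hd
  · rw [hs.1, ht.1]
  · rw [hs.2.1, ht.2.1]
  · exact h
  · rw [smul_of_sq hs.2.2.1 rfl, h, smul_of_sq ht.2.2.1 rfl]

include hT hU heven hD in
/-- an element fixing `p₃`, `p₄` and nothing else is an involution -/
theorem fpf_isJ {c : G} (hc3 : c • p₃ = p₃) (hc4 : c • p₄ = p₄)
    (hfpf : ∀ x, x ≠ p₃ → x ≠ p₄ → c • x ≠ x) : IsJ p₃ p₄ c := by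
  classical
  by_contra hcon
  have hex : ∀ x : {x : α // x ≠ p₃ ∧ x ≠ p₄}, ∃ u : G, IsJ p₃ p₄ u ∧ u • (x : α) = c • (x : α) := by
    intro x
    obtain ⟨u, hu, hu1, -⟩ := exists_swap hT hU hD.cd x.2.1 x.2.2 (smul_ne_of_fix hc3 x.2.1)
      (smul_ne_of_fix hc4 x.2.2) (hfpf x x.2.1 x.2.2).symm
    exact ⟨u, hu, hu1⟩
  choose u hu using hex
  let f : {x : α // x ≠ p₃ ∧ x ≠ p₄} → {x : α // x ≠ p₃ ∧ x ≠ p₄} := fun x =>
    ⟨u x • p₁, smul_ne_of_fix (hu x).1.1 hD.ac, smul_ne_of_fix (hu x).1.2.1 hD.ad⟩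
  have hinj : Function.Injective f := by
    intro x y hxy
    have hxy' : u x • p₁ = u y • p₁ := congrArg Subtype.val hxy
    have huu : u x = u y := J_unique hU heven hD.cd (hu x).1 (hu y).1 hD.ac hD.ad hxy'
    by_contra hne
    apply hcon
    have hne' : (x : α) ≠ (y : α) := fun h => hne (Subtype.ext h)
    have : u x = c := by
      apply eq_of_four hU (a := p₃) (b := p₄) (c := (x : α)) (d := (y : α))
        ⟨hD.cd, x.2.1.symm, y.2.1.symm, x.2.2.symm, y.2.2.symm, hne'⟩
      · rw [(hu x).1.1, hc3]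
      · rw [(hu x).1.2.1, hc4]
      · exact (hu x).2
      · rw [huu]; exact (hu y).2
    rw [← this]
    exact (hu x).1
  have hsurj : Function.Surjective f := Finite.surjective_of_injective hinj
  obtain ⟨x, hx⟩ := hsurj ⟨p₁, hD.ac, hD.ad⟩
  have hx' : u x • p₁ = p₁ := congrArg Subtype.val hx
  exact J_fpf hU heven hD.cd (hu x).1 hD.ac hD.ad hx'

include hT hU heven hD in
/-- the product of two involutions fixing `p₃`, `p₄` is `1` or such an involution -/
theorem J_mul {s t : G} (hs : IsJ p₃ p₄ s) (ht : IsJ p₃ p₄ t) : s * t = 1 ∨ IsJ p₃ p₄ (s * t) := by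
  by_cases hst : s = t
  · left; rw [hst]; exact ht.2.2.1
  · right
    apply fpf_isJ hT hU heven hD
    · rw [mul_smul, ht.1, hs.1]
    · rw [mul_smul, ht.2.1, hs.2.1]
    · intro x hx3 hx4 hfix
      apply hst
      apply J_unique hU heven hD.cd hs ht hx3 hx4
      have h1 : t • x = s⁻¹ • x := by rw [eq_inv_smul_iff, ← mul_smul, hfix]
      rw [inv_of_sq hs.2.2.1] at h1
      exact h1.symm

include hT hU heven hD in
theorem J_comm {s t : G} (hs : IsJ p₃ p₄ s) (ht : IsJ p₃ p₄ t) : s * t = t * s := by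
  have h1 : (s * t) * (s * t) = 1 := by
    rcases J_mul hT hU heven hD hs ht with h | h
    · rw [h, one_mul]
    · exact h.2.2.1
  have h2 : (s * t)⁻¹ = s * t := inv_of_sq h1
  calc s * t = (s * t)⁻¹ := h2.symm
    _ = t⁻¹ * s⁻¹ := mul_inv_rev s t
    _ = t * s := by rw [inv_of_sq hs.2.2.1, inv_of_sq ht.2.2.1]

include hT hU heven hD in
/-- even degree at least 7 is impossible -/
theorem even_false (h7 : 7 ≤ Fintype.card α) : False := by
  classical
  have h12 := hD.ab
  have h13 := hD.ac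
  have h14 := hD.ad
  have h23 := hD.bc
  have h24 := hD.bd
  have h34 := hD.cd
  -- the involutions `a` and `a'`
  obtain ⟨a, haJ, ha1, ha2⟩ := exists_swap hT hU h34 h13 h14 h23 h24 h12
  obtain ⟨a', h'1, h'2, h'3, h'4⟩ := hT p₁ p₂ p₃ p₄ p₁ p₂ p₄ p₃ hD
    ⟨h12, h14, h13, h24, h23, h34.symm⟩
  have ha'2 : a' * a' = 1 := by
    apply hU (a' * a') p₁ p₂ p₃ p₄ hD
    · rw [mul_smul, h'1, h'1]
    · rw [mul_smul, h'2, h'2]
    · rw [mul_smul, h'3, h'4]
    · rw [mul_smul, h'4, h'3]
  have ha'1 : a' ≠ 1 := by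
    intro h
    rw [h, one_smul] at h'3
    exact h34 h'3
  have ha'i : a'⁻¹ = a' := inv_of_sq ha'2
  have hfixa' : ∀ z, a' • z = z → z = p₁ ∨ z = p₂ :=
    fun z hz => even_fix_two hU heven ha'2 ha'1 h12 h'1 h'2 hz
  -- conjugation by `a'` preserves the set of involutions
  have hconj : ∀ k : G, IsJ p₃ p₄ k → IsJ p₃ p₄ (a' * k * a') := by
    intro k hk
    refine ⟨?_, ?_, ?_, ?_⟩
    · rw [mul_smul, mul_smul, h'3, hk.2.1, h'4]
    · rw [mul_smul, mul_smul, h'4, hk.1, h'3]
    · calc a' * k * a' * (a' * k * a') = a' * k * (a' * a') * k * a' := by group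
        _ = a' * (k * k) * a' := by rw [ha'2]; group
        _ = 1 := by rw [hk.2.2.1, mul_one, ha'2]
    · intro h
      apply hk.2.2.2
      calc k = a' * (a' * k * a') * a' := by
            calc k = (a' * a') * k * (a' * a') := by rw [ha'2, one_mul, mul_one]
              _ = a' * (a' * k * a') * a' := by group
        _ = 1 := by rw [h, mul_one, ha'2]
  -- centraliser of `a'`
  have hcent : ∀ k : G, IsJ p₃ p₄ k → a' * k = k * a' → k = a := by
    intro k hk hcomm
    have h1 : a' • (k • p₁) = k • p₁ := by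
      rw [← mul_smul, hcomm, mul_smul, h'1]
    rcases hfixa' _ h1 with h2 | h2
    · exact absurd h2 (J_fpf hU heven h34 hk h13 h14)
    · apply J_unique hU heven h34 hk haJ h13 h14
      rw [h2, ha1]
  -- key relation
  have hkey : ∀ k : G, IsJ p₃ p₄ k → k ≠ a → a' * k * a' = k * a := by
    intro k hk hka
    have hk' := hconj k hk
    rcases J_mul hT hU heven hD hk hk' with h | h
    · -- `a' k a' = k`, so `k` commutes with `a'`
      exfalso
      apply hka
      apply hcent k hk
      have h1 : a' * k * a' = k := by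
        calc a' * k * a' = (k * k) * (a' * k * a') := by rw [hk.2.2.1, one_mul]
          _ = k * (k * (a' * k * a')) := by group
          _ = k := by rw [h, mul_one]
      calc a' * k = (a' * k * a') * a' := by
            calc a' * k = a' * k * (a' * a') := by rw [ha'2, mul_one]
              _ = (a' * k * a') * a' := by group
        _ = k * a' := by rw [h1]
    · -- `z = k * (a' k a')` is an involution commuting with `a'`
      have hz : k * (a' * k * a') = a := by
        apply hcent _ h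
        have hc := J_comm hT hU heven hD hk hk'
        calc a' * (k * (a' * k * a')) = ((a' * k * a') * k) * a' := by group
          _ = (k * (a' * k * a')) * a' := by rw [← hc]
      calc a' * k * a' = (k * k) * (a' * k * a') := by rw [hk.2.2.1, one_mul]
        _ = k * (k * (a' * k * a')) := by group
        _ = k * a := by rw [hz]
  -- choose two more points
  obtain ⟨y₁, hy₁⟩ := exists_notMem_of_card_lt ({p₁, p₂, p₃, p₄} : Finset α) (by
    have : ({p₁, p₂, p₃, p₄} : Finset α).card ≤ 4 := Finset.card_le_four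
    omega)
  simp only [Finset.mem_insert, Finset.mem_singleton, not_or] at hy₁
  obtain ⟨hy11, hy12, hy13, hy14⟩ := hy₁
  obtain ⟨k₁, hk₁J, hk₁1, -⟩ := exists_swap hT hU h34 h13 h14 hy13 hy14 (Ne.symm hy11)
  obtain ⟨y₂, hy₂⟩ := exists_notMem_of_card_lt ({p₁, p₂, p₃, p₄, y₁, k₁ • p₂} : Finset α) (by
    have : ({p₁, p₂, p₃, p₄, y₁, k₁ • p₂} : Finset α).card ≤ 6 := Finset.card_le_six
    omega)
  simp only [Finset.mem_insert, Finset.mem_singleton, not_or] at hy₂
  obtain ⟨hy21, hy22, hy23, hy24, hy2y, hy2k⟩ := hy₂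
  obtain ⟨k₂, hk₂J, hk₂1, -⟩ := exists_swap hT hU h34 h13 h14 hy23 hy24 (Ne.symm hy21)
  have hk₁a : k₁ ≠ a := by
    intro h
    rw [h, ha1] at hk₁1
    exact hy12 hk₁1.symm
  have hk₂a : k₂ ≠ a := by
    intro h
    rw [h, ha1] at hk₂1
    exact hy22 hk₂1.symm
  have hk₁i : k₁⁻¹ = k₁ := inv_of_sq hk₁J.2.2.1
  rcases J_mul hT hU heven hD hk₁J hk₂J with h | h
  · -- `k₂ = k₁`
    have : k₂ = k₁ := by
      calc k₂ = k₁⁻¹ * (k₁ * k₂) := by group
        _ = k₁ := by rw [h, mul_one, hk₁i]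
    rw [this, hk₁1] at hk₂1
    exact hy2y hk₂1.symm
  · have hne : k₁ * k₂ ≠ a := by
      intro h'
      have : k₂ = k₁ * a := by
        calc k₂ = k₁⁻¹ * (k₁ * k₂) := by group
          _ = k₁ * a := by rw [h', hk₁i]
      rw [this, mul_smul, ha1] at hk₂1
      exact hy2k hk₂1.symm
    have e1 := hkey k₁ hk₁J hk₁a
    have e2 := hkey k₂ hk₂J hk₂a
    have e3 := hkey (k₁ * k₂) h hne
    have hc2 := J_comm hT hU heven hD haJ hk₂J
    have e4 : a' * (k₁ * k₂) * a' = k₁ * k₂ := by
      calc a' * (k₁ * k₂) * a' = (a' * k₁ * a') * (a' * k₂ * a') := by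
            calc a' * (k₁ * k₂) * a' = a' * k₁ * 1 * k₂ * a' := by group
              _ = a' * k₁ * (a' * a') * k₂ * a' := by rw [ha'2]
              _ = (a' * k₁ * a') * (a' * k₂ * a') := by group
        _ = (k₁ * a) * (k₂ * a) := by rw [e1, e2]
        _ = k₁ * (a * k₂) * a := by group
        _ = k₁ * (k₂ * a) * a := by rw [hc2]
        _ = k₁ * k₂ * (a * a) := by group
        _ = k₁ * k₂ := by rw [haJ.2.2.1, mul_one]
    rw [e4] at e3
    apply haJ.2.2.2
    calc a = (k₁ * k₂)⁻¹ * (k₁ * k₂ * a) := by group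
      _ = 1 := by rw [← e3]; group

end even

end Cfsg.Agent.Helper22.SharpFour
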