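import Mathlib
import Cfsg.Agent.Lib.Helper22.SharpFour

/-!
# Sharply 4-transitive groups of odd degree at least 7 have degree 11 (helper22's library)
-/

set_option autoImplicit false

namespace Cfsg.Agent.Helper22.SharpFour

open Cfsg.Agent.Helper22.Sharp3 (inverts_of_fpf comm_of_inverts)

variable {G : Type*} [Group G] {α : Type*} [MulAction G α]

section odd

variable [Fintype α] [DecidableEq α]

theorem card_fix_subtype_le_three (hU : Uq4 G α) {g : G} (hg : g ≠ 1) :
    Nat.card {w : α // g • w = w} ≤ 3 := by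
  rw [Nat.card_eq_fintype_card, Fintype.card_subtype]
  exact card_fix_le_three hU hg

theorem card_compl_two {p₁ p₂ : α} (h12 : p₁ ≠ p₂) :
    Nat.card {x : α // x ≠ p₁ ∧ x ≠ p₂} = Fintype.card α - 2 := by
  rw [Nat.card_eq_fintype_card, Fintype.card_subtype]
  have : (Finset.univ.filter (fun x : α => x ≠ p₁ ∧ x ≠ p₂)) = (Finset.univ.erase p₁).erase p₂ := by
    ext x
    simp only [Finset.mem_filter, Finset.mem_univ, true_and, Finset.mem_erase, and_true]
    tauto
  rw [this, Finset.card_erase_of_mem, Finset.card_erase_of_mem (Finset.mem_univ _),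
    Finset.card_univ]
  · omega
  · rw [Finset.mem_erase]
    exact ⟨h12.symm, Finset.mem_univ _⟩

variable (hT : Tr4 G α) (hU : Uq4 G α) (hodd : Odd (Fintype.card α)) {p₁ p₂ p₃ p₄ : α}
  (hD : D4 p₁ p₂ p₃ p₄)

include hT hU hodd hD in
/-- odd degree at least 7 forces degree 11 -/
theorem odd_card (h7 : 7 ≤ Fintype.card α) : Fintype.card α = 11 := by
  classical
  have h12 := hD.ab
  have h13 := hD.ac
  have h14 := hD.ad
  have h23 := hD.bc
  have h24 := hD.bd
  have h34 := hD.cd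
  -- the involution `a`
  obtain ⟨a, ha1, ha2, ha3, ha4⟩ := hT p₁ p₂ p₃ p₄ p₂ p₁ p₃ p₄ hD
    ⟨h12.symm, h23, h24, h13, h14, h34⟩
  have haa : a * a = 1 := by
    apply hU (a * a) p₁ p₂ p₃ p₄ hD
    · rw [mul_smul, ha1, ha2]
    · rw [mul_smul, ha2, ha1]
    · rw [mul_smul, ha3, ha3]
    · rw [mul_smul, ha4, ha4]
  have hane : a ≠ 1 := by
    intro h
    rw [h, one_smul] at ha1
    exact h12 ha1
  have hai : a⁻¹ = a := inv_of_sq haa
  obtain ⟨c, hc3, hc4, hac⟩ := odd_fix_three hodd haa h34 ha3 ha4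
  have hc1 : c ≠ p₁ := by
    rintro rfl
    rw [ha1] at hac
    exact h12 hac.symm
  have hc2 : c ≠ p₂ := by
    rintro rfl
    rw [ha2] at hac
    exact h12 hac
  have hfixa : ∀ w, a • w = w → w = p₃ ∨ w = p₄ ∨ w = c := fun w hw =>
    fix_mem_of_three hU hane h34 hc3.symm hc4.symm ha3 ha4 hac hw
  -- the involution `a'`
  obtain ⟨a', h'1, h'2, h'3, h'4⟩ := hT p₁ p₂ p₃ p₄ p₁ p₂ p₄ p₃ hD
    ⟨h12, h14, h13, h24, h23, h34.symm⟩
  have ha'2 : a' * a' = 1 := by
    apply hU (a' * a') p₁ p₂ p₃ p₄ hD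
    · rw [mul_smul, h'1, h'1]
    · rw [mul_smul, h'2, h'2]
    · rw [mul_smul, h'3, h'4]
    · rw [mul_smul, h'4, h'3]
  have ha'ne : a' ≠ 1 := by
    intro h
    rw [h, one_smul] at h'3
    exact h34 h'3
  have ha'i : a'⁻¹ = a' := inv_of_sq ha'2
  have hcomm : a * a' = a' * a := by
    apply eq_of_four hU hD
    · rw [mul_smul, mul_smul, h'1, ha1, h'2]
    · rw [mul_smul, mul_smul, h'2, ha2, h'1]
    · rw [mul_smul, mul_smul, h'3, ha4, ha3, h'3]
    · rw [mul_smul, mul_smul, h'4, ha3, ha4, h'4]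
  have h'c : a' • c = c := by
    have h1 : a • (a' • c) = a' • c := by rw [← mul_smul, hcomm, mul_smul, hac]
    rcases hfixa _ h1 with h | h | h
    · exfalso
      apply hc4
      exact smul_left_cancel a' (by rw [h, h'4])
    · exfalso
      apply hc3
      exact smul_left_cancel a' (by rw [h, h'3])
    · exact h
  have hfixa' : ∀ w, a' • w = w → w = p₁ ∨ w = p₂ ∨ w = c := fun w hw =>
    fix_mem_of_three hU ha'ne h12 hc1.symm hc2.symm h'1 h'2 h'c hw
  -- the element `σ` of order three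
  obtain ⟨σ, hσ1, hσ2, hσ3, hσ4⟩ := hT p₁ p₂ p₃ p₄ p₁ p₂ p₄ c hD
    ⟨h12, h14, hc1.symm, h24, hc2.symm, hc4.symm⟩
  have haσ : a * σ = σ * a := by
    apply eq_of_four hU hD
    · rw [mul_smul, mul_smul, hσ1, ha1, hσ2]
    · rw [mul_smul, mul_smul, hσ2, ha2, hσ1]
    · rw [mul_smul, mul_smul, hσ3, ha4, ha3, hσ3]
    · rw [mul_smul, mul_smul, hσ4, hac, ha4, hσ4]
  have hσc : σ • c = p₃ := by
    have h1 : a • (σ • c) = σ • c := by rw [← mul_smul, haσ, mul_smul, hac]
    rcases hfixa _ h1 with h | h | h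
    · exact h
    · exfalso
      apply hc3
      exact smul_left_cancel σ (by rw [h, hσ3])
    · exfalso
      apply hc4
      exact smul_left_cancel σ (by rw [h, hσ4])
  have hσσσ : σ * σ * σ = 1 := by
    apply hU _ p₁ p₂ p₃ p₄ hD
    · rw [mul_smul, mul_smul, hσ1, hσ1, hσ1]
    · rw [mul_smul, mul_smul, hσ2, hσ2, hσ2]
    · rw [mul_smul, mul_smul, hσ3, hσ4, hσc]
    · rw [mul_smul, mul_smul, hσ4, hσc, hσ3]
  have hσne : σ ≠ 1 := by
    intro h
    rw [h, one_smul] at hσ3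
    exact h34 hσ3
  have hσi : σ⁻¹ = σ * σ := by
    apply inv_eq_of_mul_eq_one_left
    exact hσσσ
  have hinv : a' * σ * a' * σ = 1 := by
    apply hU _ p₁ p₂ p₃ p₄ hD
    · rw [mul_smul, mul_smul, mul_smul, hσ1, h'1, hσ1, h'1]
    · rw [mul_smul, mul_smul, mul_smul, hσ2, h'2, hσ2, h'2]
    · rw [mul_smul, mul_smul, mul_smul, hσ3, h'4, hσ3, h'4]
    · rw [mul_smul, mul_smul, mul_smul, hσ4, h'c, hσc, h'3]
  -- `a' σ a' = σ⁻¹`
  have hinv' : a' * σ * a' = σ⁻¹ := by
    calc a' * σ * a' = (a' * σ * a' * σ) * σ⁻¹ := by group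
      _ = σ⁻¹ := by rw [hinv, one_mul]
  have hσa' : σ * a' = a' * σ⁻¹ := by
    calc σ * a' = (a' * a') * σ * a' := by rw [ha'2, one_mul]
      _ = a' * (a' * σ * a') := by group
      _ = a' * σ⁻¹ := by rw [hinv']
  -- `σ` moves every point other than `p₁`, `p₂`
  have hσfpf : ∀ e, e ≠ p₁ → e ≠ p₂ → σ • e ≠ e := by
    intro e he1 he2 hfix
    have hfix' : σ⁻¹ • e = e := by rw [inv_smul_eq_iff, hfix]
    have h1 : σ • (a' • e) = a' • e := by
      rw [← mul_smul, hσa', mul_smul, hfix']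
    rcases fix_mem_of_three hU hσne h12 (Ne.symm he1) (Ne.symm he2) hσ1 hσ2 hfix h1 with h | h | h
    · apply he1
      exact smul_left_cancel a' (by rw [h, h'1])
    · apply he2
      exact smul_left_cancel a' (by rw [h, h'2])
    · rcases hfixa' e h with h | h | h
      · exact he1 h
      · exact he2 h
      · rw [h, hσc] at hfix
        exact hc3 hfix.symm
  have hσM : ∀ e, e ≠ p₁ → e ≠ p₂ → σ • e ≠ p₁ ∧ σ • e ≠ p₂ := by
    intro e he1 he2
    exact ⟨smul_ne_of_fix hσ1 he1, smul_ne_of_fix hσ2 he2⟩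
  -- the group `K`
  let K : Subgroup G :=
    { carrier := {g | g • p₁ = p₁ ∧ g • p₂ = p₂ ∧ g * σ = σ * g}
      one_mem' := ⟨one_smul _ _, one_smul _ _, by rw [one_mul, mul_one]⟩
      mul_mem' := by
        rintro g h ⟨hg1, hg2, hg3⟩ ⟨hh1, hh2, hh3⟩
        refine ⟨by rw [mul_smul, hh1, hg1], by rw [mul_smul, hh2, hg2], ?_⟩
        calc g * h * σ = g * (h * σ) := by group
          _ = g * (σ * h) := by rw [hh3]
          _ = (g * σ) * h := by group
          _ = σ * g * h := by rw [hg3]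
          _ = σ * (g * h) := by group
      inv_mem' := by
        rintro g ⟨hg1, hg2, hg3⟩
        refine ⟨by rw [inv_smul_eq_iff, hg1], by rw [inv_smul_eq_iff, hg2], ?_⟩
        calc g⁻¹ * σ = g⁻¹ * (σ * g) * g⁻¹ := by group
          _ = g⁻¹ * (g * σ) * g⁻¹ := by rw [hg3]
          _ = σ * g⁻¹ := by group }
  have hKmem : ∀ g : G, g ∈ K ↔ g • p₁ = p₁ ∧ g • p₂ = p₂ ∧ g * σ = σ * g := fun g => Iff.rfl
  have hσK : σ ∈ K := ⟨hσ1, hσ2, rfl⟩
  -- freeness
  have hfree : ∀ g ∈ K, ∀ x, x ≠ p₁ → x ≠ p₂ → g • x = x → g = 1 := by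
    intro g hg x hx1 hx2 hgx
    obtain ⟨hg1, hg2, hg3⟩ := hg
    have hσx := hσM x hx1 hx2
    apply hU g p₁ p₂ x (σ • x) ⟨h12, hx1.symm, hσx.1.symm, hx2.symm, hσx.2.symm,
      (hσfpf x hx1 hx2).symm⟩ hg1 hg2 hgx
    rw [← mul_smul, hg3, mul_smul, hgx]
  -- transitivity
  have htrans : ∀ x y, x ≠ p₁ → x ≠ p₂ → y ≠ p₁ → y ≠ p₂ → ∃ g ∈ K, g • x = y := by
    intro x y hx1 hx2 hy1 hy2
    have hd : ∀ z, z ≠ p₁ → z ≠ p₂ → D4 p₁ z (σ • z) (σ • σ • z) := by
      intro z hz1 hz2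
      have hσz := hσM z hz1 hz2
      have hσσz := hσM (σ • z) hσz.1 hσz.2
      refine ⟨hz1.symm, hσz.1.symm, hσσz.1.symm, (hσfpf z hz1 hz2).symm, ?_,
        (hσfpf _ hσz.1 hσz.2).symm⟩
      intro h
      apply hσfpf z hz1 hz2
      have h3 : σ • σ • σ • z = z := by
        rw [← mul_smul, ← mul_smul, hσσσ, one_smul]
      rw [← h] at h3
      exact h3
    obtain ⟨g, hg1, hg2, hg3, hg4⟩ := hT _ _ _ _ _ _ _ _ (hd x hx1 hx2) (hd y hy1 hy2)
    have hgi1 : g⁻¹ • p₁ = p₁ := by rw [inv_smul_eq_iff, hg1]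
    have hgiy : g⁻¹ • y = x := by rw [inv_smul_eq_iff, hg2]
    have hgiσy : g⁻¹ • σ • y = σ • x := by rw [inv_smul_eq_iff, hg3]
    have hgiσσy : g⁻¹ • σ • σ • y = σ • σ • x := by rw [inv_smul_eq_iff, hg4]
    have hσ3x : σ • σ • σ • x = x := by
      rw [← mul_smul, ← mul_smul, hσσσ, one_smul]
    have hσ3y : σ • σ • σ • y = y := by
      rw [← mul_smul, ← mul_smul, hσσσ, one_smul]
    have hconj : g * σ * g⁻¹ = σ := by
      apply eq_of_four hU (hd y hy1 hy2)
      · rw [mul_smul, mul_smul, hgi1, hσ1, hg1]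
      · rw [mul_smul, mul_smul, hgiy, hg3]
      · rw [mul_smul, mul_smul, hgiσy, hg4]
      · rw [mul_smul, mul_smul, hgiσσy, hσ3x, hg2, hσ3y]
    have hgσ : g * σ = σ * g := by
      calc g * σ = (g * σ * g⁻¹) * g := by group
        _ = σ * g := by rw [hconj]
    have hg2' : g • p₂ = p₂ := by
      have h1 : σ • (g • p₂) = g • p₂ := by rw [← mul_smul, ← hgσ, mul_smul, hσ2]
      by_contra hne
      have hne1 : g • p₂ ≠ p₁ := by
        intro h
        apply h12
        exact smul_left_cancel g (by rw [hg1, h])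
      exact hσfpf _ hne1 hne h1
    exact ⟨g, ⟨hg1, hg2', hgσ⟩, hg2⟩
  -- the equivalence with the points
  let e : K → {x : α // x ≠ p₁ ∧ x ≠ p₂} := fun k =>
    ⟨(k : G) • c, smul_ne_of_fix k.2.1 hc1, smul_ne_of_fix k.2.2.1 hc2⟩
  have heinj : Function.Injective e := by
    intro k l hkl
    have h1 : (k : G) • c = (l : G) • c := congrArg Subtype.val hkl
    have h2 : ((l : G)⁻¹ * (k : G)) • c = c := by rw [mul_smul, h1, inv_smul_smul]
    have h3 := hfree _ (K.mul_mem (K.inv_mem l.2) k.2) c hc1 hc2 h2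
    apply Subtype.ext
    exact (inv_mul_eq_one.mp h3).symm
  have hesurj : Function.Surjective e := by
    rintro ⟨y, hy1, hy2⟩
    obtain ⟨g, hg, hgy⟩ := htrans c y hc1 hc2 hy1 hy2
    exact ⟨⟨g, hg⟩, Subtype.ext hgy⟩
  haveI : Finite K := Finite.of_injective e heinj
  have hcardK : Nat.card K = Fintype.card α - 2 := by
    rw [← card_compl_two h12]
    exact Nat.card_congr (Equiv.ofBijective e ⟨heinj, hesurj⟩)
  -- `a'` inverts `K`
  have hnorm' : ∀ h ∈ K, a' * h * a'⁻¹ ∈ K := by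
    rintro h ⟨hh1, hh2, hh3⟩
    rw [ha'i]
    refine ⟨by rw [mul_smul, mul_smul, h'1, hh1, h'1], by rw [mul_smul, mul_smul, h'2, hh2, h'2], ?_⟩
    have hh3' : h * σ⁻¹ = σ⁻¹ * h := by
      calc h * σ⁻¹ = σ⁻¹ * (σ * h) * σ⁻¹ := by group
        _ = σ⁻¹ * (h * σ) * σ⁻¹ := by rw [hh3]
        _ = σ⁻¹ * h := by group
    have hσ'a' : a' * σ = σ⁻¹ * a' := by
      calc a' * σ = (a' * σ * a') * a'⁻¹ := by group
        _ = σ⁻¹ * a' := by rw [hinv', ha'i]
    calc a' * h * a' * σ = a' * h * (a' * σ) := by group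
      _ = a' * h * (σ⁻¹ * a') := by rw [hσ'a']
      _ = a' * (h * σ⁻¹) * a' := by group
      _ = a' * (σ⁻¹ * h) * a' := by rw [hh3']
      _ = (a' * σ⁻¹) * h * a' := by group
      _ = (σ * a') * h * a' := by rw [hσa']
      _ = σ * (a' * h * a') := by group
  have hfix' : ∀ h ∈ K, a' * h * a'⁻¹ = h → h = 1 := by
    intro h hh hcomm'
    rw [ha'i] at hcomm'
    have h1 : a' * h = h * a' := by
      calc a' * h = (a' * h * a') * a'⁻¹ := by group
        _ = h * a' := by rw [hcomm', ha'i]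
    have h2 : a' • (h • c) = h • c := by rw [← mul_smul, h1, mul_smul, h'c]
    rcases hfixa' _ h2 with h3 | h3 | h3
    · exact absurd h3 (smul_ne_of_fix hh.1 hc1)
    · exact absurd h3 (smul_ne_of_fix hh.2.1 hc2)
    · exact hfree h hh c hc1 hc2 h3
  have hinvK := inverts_of_fpf K a' ha'2 hnorm' hfix'
  have hcommK : ∀ x y : G, x ∈ K → y ∈ K → x * y = y * x := fun x y hx hy =>
    comm_of_inverts K a' hinvK hx hy
  -- `a` normalises `K`
  have hnormA : ∀ h ∈ K, a * h * a⁻¹ ∈ K := by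
    rintro h ⟨hh1, hh2, hh3⟩
    rw [hai]
    refine ⟨by rw [mul_smul, mul_smul, ha1, hh2, ha2], by rw [mul_smul, mul_smul, ha2, hh1, ha1], ?_⟩
    calc a * h * a * σ = a * h * (a * σ) := by group
      _ = a * h * (σ * a) := by rw [haσ]
      _ = a * (h * σ) * a := by group
      _ = a * (σ * h) * a := by rw [hh3]
      _ = (a * σ) * h * a := by group
      _ = (σ * a) * h * a := by rw [haσ]
      _ = σ * (a * h * a) := by group
  -- the homomorphism `k ↦ k⁻¹ (a k a⁻¹)`
  let ψ : K →* K :=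
    { toFun := fun k => ⟨(k : G)⁻¹ * (a * k * a⁻¹), K.mul_mem (K.inv_mem k.2) (hnormA k k.2)⟩
      map_one' := by
        apply Subtype.ext
        show ((1 : K) : G)⁻¹ * (a * ((1 : K) : G) * a⁻¹) = 1
        simp
      map_mul' := by
        intro k l
        apply Subtype.ext
        show ((k * l : K) : G)⁻¹ * (a * ((k * l : K) : G) * a⁻¹) =
          ((k : G)⁻¹ * (a * k * a⁻¹)) * ((l : G)⁻¹ * (a * l * a⁻¹))
        have h1 := hcommK _ _ (hnormA k k.2) (K.inv_mem l.2)
        have h2 := hcommK _ _ (K.inv_mem l.2) (K.inv_mem k.2)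
        calc ((k * l : K) : G)⁻¹ * (a * ((k * l : K) : G) * a⁻¹)
            = ((l : G)⁻¹ * (k : G)⁻¹) * ((a * k * a⁻¹) * (a * l * a⁻¹)) := by
              rw [Subgroup.coe_mul]; group
          _ = ((k : G)⁻¹ * (l : G)⁻¹) * ((a * k * a⁻¹) * (a * l * a⁻¹)) := by rw [h2]
          _ = (k : G)⁻¹ * ((l : G)⁻¹ * (a * k * a⁻¹)) * (a * l * a⁻¹) := by group
          _ = (k : G)⁻¹ * ((a * k * a⁻¹) * (l : G)⁻¹) * (a * l * a⁻¹) := by rw [h1]
          _ = ((k : G)⁻¹ * (a * k * a⁻¹)) * ((l : G)⁻¹ * (a * l * a⁻¹)) := by group }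
  have hψ : ∀ k : K, ((ψ k : K) : G) = (k : G)⁻¹ * (a * k * a⁻¹) := fun k => rfl
  -- the kernel has at most three elements
  have hker : Nat.card ψ.ker ≤ 3 := by
    let f : ψ.ker → {w : α // a • w = w} := fun k => ⟨((k : K) : G) • p₃, by
      have hk : ψ (k : K) = 1 := k.2
      have hk' : ((k : K) : G)⁻¹ * (a * ((k : K) : G) * a⁻¹) = 1 := by
        rw [← hψ, hk]; rfl
      have h1 : a * ((k : K) : G) = ((k : K) : G) * a := by
        calc a * ((k : K) : G) = ((k : K) : G) * (((k : K) : G)⁻¹ * (a * ((k : K) : G) * a⁻¹)) * a := by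
              group
          _ = ((k : K) : G) * a := by rw [hk', mul_one]
      rw [← mul_smul, h1, mul_smul, ha3]⟩
    have hf : Function.Injective f := by
      intro k l hkl
      have h1 : ((k : K) : G) • p₃ = ((l : K) : G) • p₃ := congrArg Subtype.val hkl
      have h2 : (((l : K) : G)⁻¹ * ((k : K) : G)) • p₃ = p₃ := by rw [mul_smul, h1, inv_smul_smul]
      have h3 := hfree _ (K.mul_mem (K.inv_mem (l : K).2) (k : K).2) p₃ h13.symm h23.symm h2
      apply Subtype.ext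
      apply Subtype.ext
      exact (inv_mul_eq_one.mp h3).symm
    exact (Nat.card_le_card_of_injective f hf).trans (card_fix_subtype_le_three hU hane)
  -- the range has at most three elements
  have hbne : a * a' ≠ 1 := by
    intro h
    have := congrArg (fun g : G => g • p₁) h
    simp only [mul_smul, one_smul, h'1, ha1] at this
    exact h12 this.symm
  have hbc : (a * a') • c = c := by rw [mul_smul, h'c, hac]
  have hrange : Nat.card ψ.range ≤ 3 := by
    let f : ψ.range → {w : α // (a * a') • w = w} := fun z => ⟨((z : K) : G) • c, by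
      obtain ⟨k, hk⟩ := z.2
      have hz : ((z : K) : G) = (k : G)⁻¹ * (a * k * a⁻¹) := by rw [← hk]; rfl
      -- `a z a⁻¹ = z⁻¹`
      have hz1 : a * ((z : K) : G) * a⁻¹ = ((z : K) : G)⁻¹ := by
        have e1 : ((k : G)⁻¹ * (a * k * a))⁻¹ = a⁻¹ * (k : G)⁻¹ * a⁻¹ * k := by group
        rw [hz, hai, e1, hai]
        calc a * ((k : G)⁻¹ * (a * k * a)) * a = a * (k : G)⁻¹ * a * k * (a * a) := by group
          _ = a * (k : G)⁻¹ * a * k := by rw [haa, mul_one]
      have hz2 : a' * ((z : K) : G)⁻¹ * a'⁻¹ = ((z : K) : G) := by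
        have := hinvK _ (K.inv_mem (z : K).2)
        rw [this, inv_inv]
      have hz3 : (a * a') * ((z : K) : G) = ((z : K) : G) * (a * a') := by
        have hz1' : a * ((z : K) : G) = ((z : K) : G)⁻¹ * a := by
          calc a * ((z : K) : G) = (a * ((z : K) : G) * a⁻¹) * a := by group
            _ = ((z : K) : G)⁻¹ * a := by rw [hz1]
        have hz2' : a' * ((z : K) : G)⁻¹ = ((z : K) : G) * a' := by
          calc a' * ((z : K) : G)⁻¹ = (a' * ((z : K) : G)⁻¹ * a'⁻¹) * a' := by group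
            _ = ((z : K) : G) * a' := by rw [hz2]
        calc (a * a') * ((z : K) : G) = (a' * a) * ((z : K) : G) := by rw [hcomm]
          _ = a' * (a * ((z : K) : G)) := by group
          _ = a' * (((z : K) : G)⁻¹ * a) := by rw [hz1']
          _ = (a' * ((z : K) : G)⁻¹) * a := by group
          _ = (((z : K) : G) * a') * a := by rw [hz2']
          _ = ((z : K) : G) * (a' * a) := by group
          _ = ((z : K) : G) * (a * a') := by rw [hcomm]
      rw [← mul_smul, hz3, mul_smul, hbc]⟩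
    have hf : Function.Injective f := by
      intro k l hkl
      have h1 : ((k : K) : G) • c = ((l : K) : G) • c := congrArg Subtype.val hkl
      have h2 : (((l : K) : G)⁻¹ * ((k : K) : G)) • c = c := by rw [mul_smul, h1, inv_smul_smul]
      have h3 := hfree _ (K.mul_mem (K.inv_mem (l : K).2) (k : K).2) c hc1 hc2 h2
      apply Subtype.ext
      apply Subtype.ext
      exact (inv_mul_eq_one.mp h3).symm
    exact (Nat.card_le_card_of_injective f hf).trans (card_fix_subtype_le_three hU hbne)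
  -- the order of `K`
  have hcard9 : Nat.card K ≤ 9 := by
    have h1 : Nat.card K = Nat.card (K ⧸ ψ.ker) * Nat.card ψ.ker :=
      Subgroup.card_eq_card_quotient_mul_card_subgroup ψ.ker
    have h2 : Nat.card (K ⧸ ψ.ker) = Nat.card ψ.range :=
      Nat.card_congr (QuotientGroup.quotientKerEquivRange ψ).toEquiv
    rw [h1, h2]
    calc Nat.card ψ.range * Nat.card ψ.ker ≤ 3 * 3 := Nat.mul_le_mul hrange hker
      _ = 9 := rfl
  have h3dvd : 3 ∣ Nat.card K := by
    have h1 : orderOf (⟨σ, hσK⟩ : K) = 3 := by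
      apply orderOf_eq_prime
      · apply Subtype.ext
        show σ ^ 3 = 1
        rw [pow_succ, pow_two, hσσσ]
      · intro h
        exact hσne (congrArg Subtype.val h)
    rw [← h1]
    exact orderOf_dvd_natCard _
  rw [hcardK] at hcard9 h3dvd
  rcases hodd with ⟨m, hm⟩
  omega

end odd

end Cfsg.Agent.Helper22.SharpFour
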