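import Mathlib
import Cfsg.Agent.Lib.Helper22.SharpFourOdd

/-!
# Sharply `k`-transitive actions: descent to point stabilisers, orders, degrees for `k = 4, 5`
(helper22's library)
-/

set_option autoImplicit false

namespace Cfsg.Agent.Helper22.SharpK

open MulAction SubMulAction Cfsg.Agent.Helper22.SharpFour

variable {G : Type*} [Group G] {α : Type*} [MulAction G α]

/-- sharp `k`-transitivity of an action -/
def Sharp (G α : Type*) [Group G] [MulAction G α] (k : ℕ) : Prop :=
  IsMultiplyPretransitive G α k ∧ ∀ (x : Fin k ↪ α) (g : G), g • x = x → g = 1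

theorem Sharp.isPretransitive [Finite α] {k : ℕ} (h : Sharp G α k) (hk : 1 ≤ k)
    (hcard : k ≤ Nat.card α) : IsPretransitive G α := by
  haveI := h.1
  rw [← is_one_pretransitive_iff]
  exact isMultiplyPretransitive_of_le (n := k) hk hcard

theorem Sharp.two [Finite α] {k : ℕ} (h : Sharp G α k) (hk : 2 ≤ k)
    (hcard : k ≤ Nat.card α) : IsMultiplyPretransitive G α 2 := by
  haveI := h.1
  exact isMultiplyPretransitive_of_le (n := k) hk hcard

/-- descent to the stabiliser of a point -/
theorem Sharp.stab {k : ℕ} (h : Sharp G α (k + 1)) [IsPretransitive G α] (a : α) :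
    Sharp (stabilizer G a) (ofStabilizer G a) k := by
  refine ⟨(ofStabilizer.isMultiplyPretransitive (a := a)).mp h.1, ?_⟩
  intro x g hg
  have h1 : (g : G) • ofStabilizer.snoc x = ofStabilizer.snoc x := by
    ext i
    rw [Function.Embedding.smul_apply]
    rcases Fin.eq_castSucc_or_eq_last i with ⟨j, rfl⟩ | rfl
    · rw [ofStabilizer.snoc_castSucc]
      have := congrArg (fun z : Fin k ↪ ofStabilizer G a => ((z j : ofStabilizer G a) : α)) hg
      exact this
    · rw [ofStabilizer.snoc_last]
      exact g.2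
  have h2 := h.2 _ _ h1
  exact Subtype.ext h2

/-- a sharply `k`-transitive group is in bijection with the injective `k`-tuples -/
theorem Sharp.card_eq [Finite α] {k : ℕ} (h : Sharp G α k) (hcard : k ≤ Nat.card α) :
    Nat.card G = (Nat.card α).descFactorial k := by
  classical
  haveI := Fintype.ofFinite α
  have hne : Nonempty (Fin k ↪ α) := by
    rw [Function.Embedding.nonempty_iff_card_le, Fintype.card_fin, ← Nat.card_eq_fintype_card]
    exact hcard
  obtain ⟨x₀⟩ := hne
  haveI := h.1
  have hbij : Function.Bijective (fun g : G => g • x₀) := by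
    constructor
    · intro g g' hgg'
      have h1 : (g'⁻¹ * g) • x₀ = x₀ := by
        rw [mul_smul]
        show g'⁻¹ • (g • x₀) = x₀
        have : g • x₀ = g' • x₀ := hgg'
        rw [this, inv_smul_smul]
      have h2 := h.2 _ _ h1
      exact (inv_mul_eq_one.mp h2).symm
    · intro y
      exact exists_smul_eq G x₀ y
  rw [Nat.card_congr (Equiv.ofBijective _ hbij), Nat.card_eq_fintype_card,
    Fintype.card_embedding_eq, Fintype.card_fin, Nat.card_eq_fintype_card]

theorem Sharp.finite [Finite α] {k : ℕ} (h : Sharp G α k) (hcard : k ≤ Nat.card α) :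
    Finite G := by
  classical
  haveI := Fintype.ofFinite α
  have hne : Nonempty (Fin k ↪ α) := by
    rw [Function.Embedding.nonempty_iff_card_le, Fintype.card_fin, ← Nat.card_eq_fintype_card]
    exact hcard
  obtain ⟨x₀⟩ := hne
  apply Finite.of_injective (fun g : G => g • x₀)
  intro g g' hgg'
  have h1 : (g'⁻¹ * g) • x₀ = x₀ := by
    rw [mul_smul]
    show g'⁻¹ • (g • x₀) = x₀
    have : g • x₀ = g' • x₀ := hgg'
    rw [this, inv_smul_smul]
  have h2 := h.2 _ _ h1
  exact (inv_mul_eq_one.mp h2).symm

/-- a sharply `k`-transitive action of degree at least `k` is faithful -/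
theorem Sharp.eq_one_of_forall [Finite α] {k : ℕ} (h : Sharp G α k) (hcard : k ≤ Nat.card α)
    (g : G) (hg : ∀ x : α, g • x = x) : g = 1 := by
  classical
  haveI := Fintype.ofFinite α
  have hne : Nonempty (Fin k ↪ α) := by
    rw [Function.Embedding.nonempty_iff_card_le, Fintype.card_fin, ← Nat.card_eq_fintype_card]
    exact hcard
  obtain ⟨x₀⟩ := hne
  apply h.2 x₀ g
  ext i
  rw [Function.Embedding.smul_apply]
  exact hg _

theorem Sharp.faithful [Finite α] {k : ℕ} (h : Sharp G α k) (hcard : k ≤ Nat.card α) :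
    FaithfulSMul G α := by
  refine ⟨fun {g g'} hgg' => ?_⟩
  have h1 := h.eq_one_of_forall hcard (g'⁻¹ * g) (by
    intro x
    rw [mul_smul, hgg' x, inv_smul_smul])
  exact (inv_mul_eq_one.mp h1).symm

/-- the elementwise forms for `k = 4` -/
theorem Sharp.tr4 (h : Sharp G α 4) : Tr4 G α := by
  intro a b c d a' b' c' d' hd hd'
  exact Cfsg.Agent.Helper22.exists_smul_eq_four h.1 hd.ab hd.ac hd.ad hd.bc hd.bd hd.cd
    hd'.ab hd'.ac hd'.ad hd'.bc hd'.bd hd'.cd

theorem Sharp.uq4 (h : Sharp G α 4) : Uq4 G α := by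
  intro g a b c d hd ha hb hc hdd
  let x : Fin 4 ↪ α := ⟨![a, b, c, d],
    Cfsg.Agent.Helper22.injective_vec4 hd.ab hd.ac hd.ad hd.bc hd.bd hd.cd⟩
  apply h.2 x g
  ext i
  rw [Function.Embedding.smul_apply]
  fin_cases i
  · exact ha
  · exact hb
  · exact hc
  · exact hdd

/-- Jordan: the degree of a sharply 4-transitive group -/
theorem card_of_sharp_four [Finite α] (h : Sharp G α 4) (h4 : 4 ≤ Nat.card α) :
    Nat.card α = 4 ∨ Nat.card α = 5 ∨ Nat.card α = 6 ∨ Nat.card α = 11 := by
  classical
  haveI := Fintype.ofFinite α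
  rw [Nat.card_eq_fintype_card] at h4 ⊢
  have hT := h.tr4
  have hU := h.uq4
  obtain ⟨p₁, p₂, p₃, p₄, -, -, -, -, hD⟩ := exists_four (Finset.univ : Finset α) (by
    rw [Finset.card_univ]; omega)
  by_cases h6 : Fintype.card α ≤ 6
  · omega
  · push Not at h6
    rcases Nat.even_or_odd (Fintype.card α) with heven | hodd
    · exact absurd (even_false hT hU heven hD (by omega)) id
    · right; right; right
      exact odd_card hT hU hodd hD (by omega)

/-- Jordan: the degree of a sharply 5-transitive group -/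
theorem card_of_sharp_five [Finite α] (h : Sharp G α 5) (h5 : 5 ≤ Nat.card α) :
    Nat.card α = 5 ∨ Nat.card α = 6 ∨ Nat.card α = 7 ∨ Nat.card α = 12 := by
  haveI := h.isPretransitive (by norm_num) h5
  have hne : Nonempty α := by
    rw [← Finite.card_pos_iff]; omega
  obtain ⟨a⟩ := hne
  have h' := h.stab a
  have hc := nat_card_ofStabilizer_eq G a
  have := card_of_sharp_four h' (by rw [hc]; omega)
  rw [hc] at this
  omega

end Cfsg.Agent.Helper22.SharpK
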