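import Mathlib
import Cfsg.Agent.Lib.Helper22.SharpK

/-!
# Sharply `k`-transitive actions for `k ≥ 6`, and Sylow subgroups in prime degree
(helper22's library)
-/

set_option autoImplicit false

namespace Cfsg.Agent.Helper22.SharpK

open MulAction SubMulAction

universe u v

variable {G : Type*} [Group G] {α : Type*} [MulAction G α]

/-- In a faithful action of prime degree `p`, a Sylow `p`-subgroup of order `p` is transitive,
self-centralising, and its normaliser has order `p * d` with `d ∣ p - 1`. -/
theorem card_normalizer_of_prime_degree {p : ℕ} [hp : Fact p.Prime] [Finite G] [Finite α]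
    (hfaith : ∀ g : G, (∀ x : α, g • x = x) → g = 1) (hα : Nat.card α = p)
    (P : Sylow p G) (hP : Nat.card (P : Subgroup G) = p) :
    ∃ d : ℕ, d ∣ p - 1 ∧ Nat.card (Subgroup.normalizer ((P : Subgroup G) : Set G)) = p * d := by
  classical
  -- a nonidentity element of `P` and a point it moves
  haveI : Nontrivial (P : Subgroup G) := by
    rw [← Finite.one_lt_card_iff_nontrivial, hP]
    exact hp.out.one_lt
  obtain ⟨x, hx⟩ := exists_ne (1 : (P : Subgroup G))
  have hx1 : (x : G) ≠ 1 := fun h => hx (Subtype.ext h)
  have hmove : ∃ w : α, (x : G) • w ≠ w := by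
    by_contra hcon
    push Not at hcon
    exact hx1 (hfaith _ hcon)
  obtain ⟨w, hw⟩ := hmove
  -- `P` is commutative
  haveI : IsCyclic (P : Subgroup G) := isCyclic_of_prime_card hP
  have hPcomm : ∀ a b : G, a ∈ (P : Subgroup G) → b ∈ (P : Subgroup G) → a * b = b * a := by
    intro a b ha hb
    obtain ⟨g₀, hg₀⟩ := IsCyclic.exists_generator (α := (P : Subgroup G))
    obtain ⟨i, hi⟩ := Subgroup.mem_zpowers_iff.mp (hg₀ ⟨a, ha⟩)
    obtain ⟨j, hj⟩ := Subgroup.mem_zpowers_iff.mp (hg₀ ⟨b, hb⟩)
    have h1 : (⟨a, ha⟩ : (P : Subgroup G)) * ⟨b, hb⟩ = ⟨b, hb⟩ * ⟨a, ha⟩ := by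
      rw [← hi, ← hj]
      exact (Commute.zpow_zpow_self g₀ i j).eq
    exact congrArg Subtype.val h1
  -- the stabiliser of `w` in `P` is trivial
  have hstab : ∀ g : G, g ∈ (P : Subgroup G) → g • w = w → g = 1 := by
    intro g hg hgw
    let S : Subgroup G := (P : Subgroup G) ⊓ stabilizer G w
    have hSle : S ≤ (P : Subgroup G) := inf_le_left
    have h1 : Nat.card S ∣ p := by
      rw [← hP]
      exact Subgroup.card_dvd_of_le hSle
    rcases (Nat.dvd_prime hp.out).mp h1 with h2 | h2
    · have h3 : S = ⊥ := Subgroup.card_eq_one.mp h2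
      have h4 : g ∈ S := Subgroup.mem_inf.mpr ⟨hg, mem_stabilizer_iff.mpr hgw⟩
      rw [h3, Subgroup.mem_bot] at h4
      exact h4
    · exfalso
      have h3 : S = (P : Subgroup G) := by
        apply Subgroup.eq_of_le_of_card_ge hSle
        rw [h2, hP]
      have h4 : (x : G) ∈ S := by rw [h3]; exact x.2
      exact hw (mem_stabilizer_iff.mp (Subgroup.mem_inf.mp h4).2)
  -- `P` is transitive
  have hinj : Function.Injective (fun g : (P : Subgroup G) => (g : G) • w) := by
    intro g g' hgg'
    have h1 : ((g' : G)⁻¹ * (g : G)) • w = w := by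
      rw [mul_smul]
      have : (g : G) • w = (g' : G) • w := hgg'
      rw [this, inv_smul_smul]
    have h2 := hstab _ ((P : Subgroup G).mul_mem ((P : Subgroup G).inv_mem g'.2) g.2) h1
    apply Subtype.ext
    exact (inv_mul_eq_one.mp h2).symm
  have hbij : Function.Bijective (fun g : (P : Subgroup G) => (g : G) • w) := by
    rw [Nat.bijective_iff_injective_and_card]
    exact ⟨hinj, by rw [hP, hα]⟩
  have htrans : ∀ y : α, ∃ g ∈ (P : Subgroup G), g • w = y := by
    intro y
    obtain ⟨g, hg⟩ := hbij.2 y
    exact ⟨g, g.2, hg⟩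
  -- the centraliser of `P` is `P`
  have hcent : Subgroup.centralizer ((P : Subgroup G) : Set G) = (P : Subgroup G) := by
    apply le_antisymm
    · intro y hy
      obtain ⟨g, hg, hgy⟩ := htrans (y • w)
      have hz : g⁻¹ * y = 1 := by
        apply hfaith
        intro v
        obtain ⟨h', hh', rfl⟩ := htrans v
        have e1 : y * h' = h' * y := (Subgroup.mem_centralizer_iff.mp hy h' hh').symm
        have e2 : g⁻¹ * h' = h' * g⁻¹ := hPcomm _ _ ((P : Subgroup G).inv_mem hg) hh'
        calc (g⁻¹ * y) • h' • w = (g⁻¹ * (y * h')) • w := by rw [← mul_smul, mul_assoc]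
          _ = (g⁻¹ * (h' * y)) • w := by rw [e1]
          _ = ((g⁻¹ * h') * y) • w := by rw [mul_assoc]
          _ = ((h' * g⁻¹) * y) • w := by rw [e2]
          _ = h' • g⁻¹ • y • w := by rw [mul_smul, mul_smul]
          _ = h' • w := by rw [← hgy, inv_smul_smul]
      have : y = g := by
        calc y = g * (g⁻¹ * y) := by group
          _ = g := by rw [hz, mul_one]
      rw [this]
      exact hg
    · intro y hy
      rw [Subgroup.mem_centralizer_iff]
      intro h' hh'
      exact hPcomm _ _ hh' hy
  -- the normaliser modulo the centraliser embeds in the automorphism group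
  set N := Subgroup.normalizer ((P : Subgroup G) : Set G) with hN
  let f := (P : Subgroup G).normalizerMonoidHom
  have hker : f.ker = (P : Subgroup G).subgroupOf N := by
    rw [Subgroup.normalizerMonoidHom_ker, hcent]
  have hcardker : Nat.card f.ker = p := by
    rw [hker]
    exact (Nat.card_congr (Subgroup.subgroupOfEquivOfLe Subgroup.le_normalizer).toEquiv).trans hP
  have hrange : Nat.card f.range ∣ p - 1 := by
    have h1 : Nat.card (MulAut (P : Subgroup G)) = p - 1 := by
      rw [IsCyclic.card_mulAut, hP, Nat.totient_prime hp.out]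
    rw [← h1]
    exact Subgroup.card_subgroup_dvd_card f.range
  refine ⟨Nat.card f.range, hrange, ?_⟩
  have h1 : Nat.card N = Nat.card (N ⧸ f.ker) * Nat.card f.ker :=
    Subgroup.card_eq_card_quotient_mul_card_subgroup f.ker
  have h2 : Nat.card (N ⧸ f.ker) = Nat.card f.range :=
    Nat.card_congr (QuotientGroup.quotientKerEquivRange f).toEquiv
  rw [h1, h2, hcardker, mul_comm]

/-- the order of a Sylow subgroup when the prime divides the group order exactly once -/
theorem card_sylow_of_exact {p m : ℕ} [hp : Fact p.Prime] [Finite G] (hG : Nat.card G = p * m)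
    (hm : ¬ p ∣ m) (P : Sylow p G) : Nat.card (P : Subgroup G) = p := by
  have hm0 : m ≠ 0 := by
    rintro rfl
    exact hm (dvd_zero p)
  have hfac : (Nat.card G).factorization p = 1 := by
    rw [hG, Nat.factorization_mul hp.out.ne_zero hm0, Finsupp.add_apply,
      Nat.Prime.factorization_self hp.out, Nat.factorization_eq_zero_of_not_dvd hm]
  rw [Sylow.card_eq_multiplicity, hfac, pow_one]

/-- there is no sharply 6-transitive group of degree 13 -/
theorem no_sharp_six_thirteen [Finite α] (h : Sharp G α 6) (h13 : Nat.card α = 13) : False := by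
  haveI : Finite G := h.finite (by omega)
  have hcard : Nat.card G = 13 * 95040 := by
    rw [h.card_eq (by omega), h13]
    decide
  haveI : Fact (Nat.Prime 13) := ⟨by norm_num⟩
  obtain ⟨P⟩ := (inferInstance : Nonempty (Sylow 13 G))
  have hP : Nat.card (P : Subgroup G) = 13 := card_sylow_of_exact hcard (by norm_num) P
  obtain ⟨d, hd, hN⟩ := card_normalizer_of_prime_degree (h.eq_one_of_forall (by omega)) h13 P hP
  have h1 : Nat.card (Sylow 13 G) = (Subgroup.normalizer ((P : Subgroup G) : Set G)).index :=
    Sylow.card_eq_index_normalizer P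
  have h2 : Nat.card (Sylow 13 G) ≡ 1 [MOD 13] := card_sylow_modEq_one 13 G
  have h3 := Subgroup.card_mul_index (Subgroup.normalizer ((P : Subgroup G) : Set G))
  rw [hN, hcard, ← h1] at h3
  have hd12 : d ≤ 12 := Nat.le_of_dvd (by norm_num) hd
  have hmod : Nat.card (Sylow 13 G) % 13 = 1 := h2
  have hd' : d ∣ 12 := hd
  interval_cases d <;> omega

/-- Jordan: for `k ≥ 6` a sharply `k`-transitive group has degree `k`, `k + 1` or `k + 2` -/
theorem card_of_sharp_ge_six : ∀ k : ℕ, 6 ≤ k → ∀ (G : Type u) (α : Type v) [Group G]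
    [MulAction G α] [Finite α], Sharp G α k → k ≤ Nat.card α →
    Nat.card α = k ∨ Nat.card α = k + 1 ∨ Nat.card α = k + 2 := by
  intro k hk
  induction k, hk using Nat.le_induction with
  | base =>
    intro G α _ _ _ h h6
    haveI := h.isPretransitive (by norm_num) h6
    have hne : Nonempty α := by
      rw [← Finite.card_pos_iff]; omega
    obtain ⟨a⟩ := hne
    have h' := h.stab a
    have hc := nat_card_ofStabilizer_eq G a
    have h5 := card_of_sharp_five h' (by rw [hc]; omega)
    rw [hc] at h5
    by_cases h13 : Nat.card α = 13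
    · exact absurd (no_sharp_six_thirteen h h13) id
    · omega
  | succ k hk ih =>
    intro G α _ _ _ h hcard
    haveI := h.isPretransitive (by omega) hcard
    have hne : Nonempty α := by
      rw [← Finite.card_pos_iff]; omega
    obtain ⟨a⟩ := hne
    have h' := h.stab a
    have hc := nat_card_ofStabilizer_eq G a
    have h5 := ih (stabilizer G a) (ofStabilizer G a) h' (by rw [hc]; omega)
    rw [hc] at h5
    omega

end Cfsg.Agent.Helper22.SharpK
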