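import Mathlib
import Cfsg.Agent.Lib.Helper22.SharpSylow
import Cfsg.Agent.Lib.Helper22.StabAction

/-!
# Transitive groups of prime degree: Sylow data
(helper22's library)
-/

set_option autoImplicit false

namespace Cfsg.Agent.Helper22.PrimeDeg

open MulAction SubMulAction Cfsg.Agent.Helper22.SharpK

variable {H : Type*} [Group H] {α : Type*} [MulAction H α]

/-- a group acting faithfully on a finite set is finite, of order dividing the factorial -/
theorem card_dvd_factorial [Finite α] [FaithfulSMul H α] :
    Nat.card H ∣ (Nat.card α).factorial := by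
  rw [← Nat.card_perm]
  exact Subgroup.card_dvd_of_injective (MulAction.toPermHom H α) MulAction.toPerm_injective

theorem finite_of_faithful [Finite α] [FaithfulSMul H α] : Finite H :=
  Finite.of_injective (MulAction.toPermHom H α) MulAction.toPerm_injective

/-- `p ^ 2` does not divide `p !` -/
theorem not_sq_dvd_factorial {p : ℕ} (hp : p.Prime) : ¬ p * p ∣ p.factorial := by
  intro h
  obtain ⟨k, hk⟩ := Nat.exists_eq_succ_of_ne_zero hp.ne_zero
  rw [hk, Nat.factorial_succ] at h
  have h1 : k + 1 ∣ k.factorial := Nat.dvd_of_mul_dvd_mul_left (Nat.succ_pos k) h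
  have h1' : p ∣ k.factorial := by rw [hk]; exact h1
  have h2 := (Nat.Prime.dvd_factorial hp).mp h1'
  omega

variable {p : ℕ} [hp : Fact p.Prime]

/-- the order of a transitive group of prime degree `p` is `p * m` with `p ∤ m` -/
theorem exists_card_eq [Finite α] [FaithfulSMul H α] [IsPretransitive H α]
    (hα : Nat.card α = p) : ∃ m : ℕ, Nat.card H = p * m ∧ ¬ p ∣ m := by
  have hne : Nonempty α := by
    rw [← Finite.card_pos_iff, hα]; exact hp.out.pos
  obtain ⟨a⟩ := hne
  have h1 : p ∣ Nat.card H := by
    rw [← hα, ← index_stabilizer_of_transitive H a]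
    exact Subgroup.index_dvd_card _
  obtain ⟨m, hm⟩ := h1
  refine ⟨m, hm, ?_⟩
  rintro ⟨m', rfl⟩
  have h2 : Nat.card H ∣ p.factorial := by
    have := card_dvd_factorial (H := H) (α := α)
    rwa [hα] at this
  apply not_sq_dvd_factorial hp.out
  refine Dvd.dvd.trans ?_ h2
  rw [hm]
  exact ⟨m', by ring⟩

/-- In a faithful action of prime degree `p`, a Sylow `p`-subgroup of order `p` is
self-centralising. -/
theorem centralizer_eq_of_prime_degree [Finite H] [Finite α]
    (hfaith : ∀ g : H, (∀ x : α, g • x = x) → g = 1) (hα : Nat.card α = p)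
    (P : Sylow p H) (hP : Nat.card (P : Subgroup H) = p) :
    Subgroup.centralizer ((P : Subgroup H) : Set H) = (P : Subgroup H) := by
  classical
  haveI : Nontrivial (P : Subgroup H) := by
    rw [← Finite.one_lt_card_iff_nontrivial, hP]
    exact hp.out.one_lt
  obtain ⟨x, hx⟩ := exists_ne (1 : (P : Subgroup H))
  have hx1 : (x : H) ≠ 1 := fun h => hx (Subtype.ext h)
  have hmove : ∃ w : α, (x : H) • w ≠ w := by
    by_contra hcon
    push Not at hcon
    exact hx1 (hfaith _ hcon)
  obtain ⟨w, hw⟩ := hmove
  haveI : IsCyclic (P : Subgroup H) := isCyclic_of_prime_card hP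
  have hPcomm : ∀ a b : H, a ∈ (P : Subgroup H) → b ∈ (P : Subgroup H) → a * b = b * a := by
    intro a b ha hb
    obtain ⟨g₀, hg₀⟩ := IsCyclic.exists_generator (α := (P : Subgroup H))
    obtain ⟨i, hi⟩ := Subgroup.mem_zpowers_iff.mp (hg₀ ⟨a, ha⟩)
    obtain ⟨j, hj⟩ := Subgroup.mem_zpowers_iff.mp (hg₀ ⟨b, hb⟩)
    have h1 : (⟨a, ha⟩ : (P : Subgroup H)) * ⟨b, hb⟩ = ⟨b, hb⟩ * ⟨a, ha⟩ := by
      rw [← hi, ← hj]
      exact (Commute.zpow_zpow_self g₀ i j).eq
    exact congrArg Subtype.val h1
  have hstab : ∀ g : H, g ∈ (P : Subgroup H) → g • w = w → g = 1 := by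
    intro g hg hgw
    let S : Subgroup H := (P : Subgroup H) ⊓ stabilizer H w
    have hSle : S ≤ (P : Subgroup H) := inf_le_left
    have h1 : Nat.card S ∣ p := by
      rw [← hP]
      exact Subgroup.card_dvd_of_le hSle
    rcases (Nat.dvd_prime hp.out).mp h1 with h2 | h2
    · have h3 : S = ⊥ := Subgroup.card_eq_one.mp h2
      have h4 : g ∈ S := Subgroup.mem_inf.mpr ⟨hg, mem_stabilizer_iff.mpr hgw⟩
      rw [h3, Subgroup.mem_bot] at h4
      exact h4
    · exfalso
      have h3 : S = (P : Subgroup H) := by
        apply Subgroup.eq_of_le_of_card_ge hSle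
        rw [h2, hP]
      have h4 : (x : H) ∈ S := by rw [h3]; exact x.2
      exact hw (mem_stabilizer_iff.mp (Subgroup.mem_inf.mp h4).2)
  have hinj : Function.Injective (fun g : (P : Subgroup H) => (g : H) • w) := by
    intro g g' hgg'
    have h1 : ((g' : H)⁻¹ * (g : H)) • w = w := by
      rw [mul_smul]
      have : (g : H) • w = (g' : H) • w := hgg'
      rw [this, inv_smul_smul]
    have h2 := hstab _ ((P : Subgroup H).mul_mem ((P : Subgroup H).inv_mem g'.2) g.2) h1
    apply Subtype.ext
    exact (inv_mul_eq_one.mp h2).symm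
  have hbij : Function.Bijective (fun g : (P : Subgroup H) => (g : H) • w) := by
    rw [Nat.bijective_iff_injective_and_card]
    exact ⟨hinj, by rw [hP, hα]⟩
  have htrans : ∀ y : α, ∃ g ∈ (P : Subgroup H), g • w = y := by
    intro y
    obtain ⟨g, hg⟩ := hbij.2 y
    exact ⟨g, g.2, hg⟩
  apply le_antisymm
  · intro y hy
    obtain ⟨g, hg, hgy⟩ := htrans (y • w)
    have hz : g⁻¹ * y = 1 := by
      apply hfaith
      intro v
      obtain ⟨h', hh', rfl⟩ := htrans v
      have e1 : y * h' = h' * y := (Subgroup.mem_centralizer_iff.mp hy h' hh').symm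
      have e2 : g⁻¹ * h' = h' * g⁻¹ := hPcomm _ _ ((P : Subgroup H).inv_mem hg) hh'
      calc (g⁻¹ * y) • h' • w = (g⁻¹ * (y * h')) • w := by rw [← mul_smul, mul_assoc]
        _ = (g⁻¹ * (h' * y)) • w := by rw [e1]
        _ = ((g⁻¹ * h') * y) • w := by rw [mul_assoc]
        _ = ((h' * g⁻¹) * y) • w := by rw [e2]
        _ = h' • g⁻¹ • y • w := by rw [mul_smul, mul_smul]
        _ = h' • w := by rw [← hgy, inv_smul_smul]
    have : y = g := by
      calc y = g * (g⁻¹ * y) := by group
        _ = g := by rw [hz, mul_one]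
    rw [this]
    exact hg
  · intro y hy
    rw [Subgroup.mem_centralizer_iff]
    intro h' hh'
    exact hPcomm _ _ hh' hy

omit hp in
/-- the normaliser of a self-centralising cyclic subgroup is solvable -/
theorem isSolvable_normalizer (P : Subgroup H) [IsCyclic P]
    (hcent : Subgroup.centralizer (P : Set H) = P) :
    Group.IsSolvable (Subgroup.normalizer (P : Set H)) := by
  have hker : P.normalizerMonoidHom.ker =
      (Subgroup.inclusion (Subgroup.le_normalizer (H := P))).range := by
    rw [Subgroup.normalizerMonoidHom_ker, hcent, Subgroup.inclusion_range]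
  haveI : Group.IsSolvable P := by
    apply Group.isSolvable_of_comm
    intro a b
    obtain ⟨g₀, hg₀⟩ := IsCyclic.exists_generator (α := P)
    obtain ⟨i, hi⟩ := Subgroup.mem_zpowers_iff.mp (hg₀ a)
    obtain ⟨j, hj⟩ := Subgroup.mem_zpowers_iff.mp (hg₀ b)
    rw [← hi, ← hj]
    exact (Commute.zpow_zpow_self g₀ i j).eq
  haveI : Group.IsSolvable (MulAut P) := by
    apply Group.isSolvable_of_comm
    intro a b
    apply (IsCyclic.mulAutMulEquiv P).injective
    rw [map_mul, map_mul, mul_comm]
  exact Group.isSolvable_of_ker_le_range (Subgroup.inclusion Subgroup.le_normalizer)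
    P.normalizerMonoidHom hker.le

/-- order of a Sylow `p`-subgroup of a transitive group of degree `p` -/
theorem card_sylow [Finite H] [Finite α] [FaithfulSMul H α] [IsPretransitive H α]
    (hα : Nat.card α = p) (P : Sylow p H) : Nat.card (P : Subgroup H) = p := by
  obtain ⟨m, hm, hpm⟩ := exists_card_eq (H := H) hα
  exact card_sylow_of_exact hm hpm P

theorem faith [FaithfulSMul H α] (g : H) (hg : ∀ x : α, g • x = x) : g = 1 := by
  apply FaithfulSMul.eq_of_smul_eq_smul (α := α)
  intro x
  rw [hg x, one_smul]

/-- Burnside transfer: if a Sylow `p`-subgroup of a transitive group of prime degree `p` is its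
own normaliser, then the group has order `p`. -/
theorem card_eq_of_normalizer_eq [Finite H] [Finite α] [FaithfulSMul H α] [IsPretransitive H α]
    (hα : Nat.card α = p) (P : Sylow p H)
    (hN : Nat.card (Subgroup.normalizer ((P : Subgroup H) : Set H)) = p) : Nat.card H = p := by
  have hP := card_sylow hα P
  have hcent := centralizer_eq_of_prime_degree (faith (H := H) (α := α)) hα P hP
  have hNP : Subgroup.normalizer ((P : Subgroup H) : Set H) = (P : Subgroup H) := by
    symm
    apply Subgroup.eq_of_le_of_card_ge Subgroup.le_normalizer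
    rw [hN, hP]
  have hle : Subgroup.normalizer ((P : Subgroup H) : Set H) ≤
      Subgroup.centralizer ((P : Subgroup H) : Set H) := by
    rw [hNP, hcent]
  have hc := MonoidHom.ker_transferSylow_isComplement' P hle
  have hmul := hc.card_mul_card
  rw [hP] at hmul
  set K := (MonoidHom.transferSylow P hle).ker with hK
  by_cases hbot : K = ⊥
  · rw [hbot, Subgroup.card_bot, one_mul] at hmul
    exact hmul.symm
  · exfalso
    haveI : IsPreprimitive H α := IsPreprimitive.of_prime_card (by rw [hα]; exact hp.out)
    haveI : K.Normal := by rw [hK]; infer_instance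
    haveI := Cfsg.Agent.Helper22.isPretransitive_of_normal_of_ne_bot (X := α) K hbot
    have hne : Nonempty α := by
      rw [← Finite.card_pos_iff, hα]; exact hp.out.pos
    obtain ⟨a⟩ := hne
    have h1 : p ∣ Nat.card K := by
      rw [← hα, ← index_stabilizer_of_transitive K a]
      exact Subgroup.index_dvd_card _
    obtain ⟨m, hm, hpm⟩ := exists_card_eq (H := H) hα
    obtain ⟨k, hk⟩ := h1
    apply hpm
    refine ⟨k, ?_⟩
    have : p * m = p * (p * k) := by
      rw [← hm, ← hmul, hk]; ring
    exact Nat.eq_of_mul_eq_mul_left hp.out.pos this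

/-- Sylow data of a transitive group of prime degree -/
theorem data [Finite H] [Finite α] [FaithfulSMul H α] [IsPretransitive H α]
    (hα : Nat.card α = p) :
    ∃ d : ℕ, d ∣ p - 1 ∧ Nat.card H = p * d * Nat.card (Sylow p H) ∧
      (∀ P : Sylow p H, Nat.card (P : Subgroup H) = p ∧
        Nat.card (Subgroup.normalizer ((P : Subgroup H) : Set H)) = p * d ∧
        Subgroup.centralizer ((P : Subgroup H) : Set H) = (P : Subgroup H)) ∧
      (d = 1 → Nat.card H = p) := by
  obtain ⟨P₀⟩ := (inferInstance : Nonempty (Sylow p H))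
  have hP₀ := card_sylow hα P₀
  obtain ⟨d, hd, hN₀⟩ := card_normalizer_of_prime_degree (faith (H := H) (α := α)) hα P₀ hP₀
  have hidx : ∀ P : Sylow p H, Nat.card (Sylow p H) =
      (Subgroup.normalizer ((P : Subgroup H) : Set H)).index :=
    fun P => Sylow.card_eq_index_normalizer P
  have hmul : ∀ P : Sylow p H, Nat.card (Subgroup.normalizer ((P : Subgroup H) : Set H)) *
      Nat.card (Sylow p H) = Nat.card H := by
    intro P
    rw [hidx P]
    exact Subgroup.card_mul_index _
  have hpos : 0 < Nat.card (Sylow p H) := Nat.card_pos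
  refine ⟨d, hd, ?_, ?_, ?_⟩
  · rw [← hmul P₀, hN₀]
  · intro P
    refine ⟨card_sylow hα P, ?_,
      centralizer_eq_of_prime_degree (faith (H := H) (α := α)) hα P (card_sylow hα P)⟩
    have := (hmul P).trans (hmul P₀).symm
    rw [← hN₀]
    exact Nat.eq_of_mul_eq_mul_right hpos this
  · intro hd1
    apply card_eq_of_normalizer_eq hα P₀
    rw [hN₀, hd1, mul_one]

/-- a transitive group of prime degree with a unique Sylow `p`-subgroup is solvable -/
theorem isSolvable_of_card_sylow_eq_one [Finite H] [Finite α] [FaithfulSMul H α]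
    [IsPretransitive H α] (hα : Nat.card α = p) (h1 : Nat.card (Sylow p H) = 1) :
    Group.IsSolvable H := by
  obtain ⟨P⟩ := (inferInstance : Nonempty (Sylow p H))
  have hP := card_sylow hα P
  have hcent := centralizer_eq_of_prime_degree (faith (H := H) (α := α)) hα P hP
  haveI : IsCyclic (P : Subgroup H) := isCyclic_of_prime_card hP
  haveI := isSolvable_normalizer (P : Subgroup H) hcent
  have htop : Subgroup.normalizer ((P : Subgroup H) : Set H) = ⊤ := by
    rw [← Subgroup.index_eq_one]
    have e : Nat.card (Sylow p H) =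
        (Subgroup.normalizer ((P : Subgroup H) : Set H)).index := Sylow.card_eq_index_normalizer P
    rw [← e, h1]
  have hinj : Function.Injective (fun g : H =>
      (⟨g, by rw [htop]; trivial⟩ : Subgroup.normalizer ((P : Subgroup H) : Set H))) := by
    intro a b hab
    exact congrArg Subtype.val hab
  let f : H →* Subgroup.normalizer ((P : Subgroup H) : Set H) :=
    { toFun := fun g => ⟨g, by rw [htop]; trivial⟩
      map_one' := rfl
      map_mul' := fun _ _ => rfl }
  exact Group.isSolvable_of_isSolvable_injective (f := f) hinj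

end Cfsg.Agent.Helper22.PrimeDeg
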