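import Mathlib

/-!
# Conjugacy classes of a central quotient

For a central subgroup `Z` of a finite group `G`, the conjugacy classes of `G ⧸ Z` are the orbits of `Z`
acting on the conjugacy classes of `G` by multiplication; Burnside's lemma then gives
`k(G/Z) * |Z| = ∑_{z ∈ Z} #{classes C of G with z C = C}`.
-/

set_option autoImplicit false
set_option linter.unusedSectionVars false
set_option linter.unusedVariables false

namespace Cfsg.Agent.Helper22.CentralQuotClasses

variable {G : Type*} [Group G]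

/-- Multiplication by a central element on conjugacy classes. -/
def mulClass (Z : Subgroup G) (hZ : Z ≤ Subgroup.center G) (z : Z) : ConjClasses G → ConjClasses G :=
  Quotient.map (fun g => (z : G) * g) (by
    intro a b hab
    obtain ⟨c, hc⟩ := (isConj_iff.1 hab)
    refine isConj_iff.2 ⟨c, ?_⟩
    have hz : (z : G) ∈ Subgroup.center G := hZ z.2
    have h1 : c * (z : G) = (z : G) * c := (Subgroup.mem_center_iff.1 hz c)
    calc c * ((z : G) * a) * c⁻¹ = (c * (z : G)) * a * c⁻¹ := by group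
      _ = ((z : G) * c) * a * c⁻¹ := by rw [h1]
      _ = (z : G) * (c * a * c⁻¹) := by group
      _ = (z : G) * b := by rw [hc])

theorem mulClass_mk (Z : Subgroup G) (hZ : Z ≤ Subgroup.center G) (z : Z) (g : G) :
    mulClass Z hZ z (ConjClasses.mk g) = ConjClasses.mk ((z : G) * g) := rfl

/-- The action of a central subgroup on the conjugacy classes. -/
@[instance_reducible]
def classAction (Z : Subgroup G) (hZ : Z ≤ Subgroup.center G) : MulAction Z (ConjClasses G) where
  smul z C := mulClass Z hZ z C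
  one_smul C := by
    obtain ⟨g, rfl⟩ := ConjClasses.exists_rep C
    show mulClass Z hZ 1 (ConjClasses.mk g) = _
    rw [mulClass_mk]; simp
  mul_smul a b C := by
    obtain ⟨g, rfl⟩ := ConjClasses.exists_rep C
    show mulClass Z hZ (a * b) (ConjClasses.mk g) = mulClass Z hZ a (mulClass Z hZ b (ConjClasses.mk g))
    rw [mulClass_mk, mulClass_mk, mulClass_mk]; simp [mul_assoc]

theorem classAction_smul_mk (Z : Subgroup G) (hZ : Z ≤ Subgroup.center G) (z : Z) (g : G) :
    (classAction Z hZ).toSMul.smul z (ConjClasses.mk g) = ConjClasses.mk ((z : G) * g) := rfl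

/-- The map from orbits of `Z` on classes of `G` to classes of `G ⧸ Z`. -/
theorem mk_quot_eq_iff (Z : Subgroup G) [Z.Normal] (hZ : Z ≤ Subgroup.center G) (g g' : G) :
    ConjClasses.mk (g : G ⧸ Z) = ConjClasses.mk (g' : G ⧸ Z) ↔
      ∃ z : Z, ConjClasses.mk ((z : G) * g) = ConjClasses.mk g' := by
  constructor
  · intro h
    obtain ⟨c, hc⟩ := isConj_iff.1 (ConjClasses.mk_eq_mk_iff_isConj.1 h)
    obtain ⟨c, rfl⟩ := QuotientGroup.mk_surjective c
    have h1 : ((c * g * c⁻¹ : G) : G ⧸ Z) = (g' : G ⧸ Z) := by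
      simpa using hc
    have h2 : (c * g * c⁻¹)⁻¹ * g' ∈ Z := QuotientGroup.eq.1 h1
    -- g' = (c g c⁻¹) * z  with z ∈ Z central
    refine ⟨⟨(c * g * c⁻¹)⁻¹ * g', h2⟩, ?_⟩
    refine ConjClasses.mk_eq_mk_iff_isConj.2 (isConj_iff.2 ⟨c, ?_⟩)
    have hz : (c * g * c⁻¹)⁻¹ * g' ∈ Subgroup.center G := hZ h2
    have hcomm := Subgroup.mem_center_iff.1 hz
    show c * (((c * g * c⁻¹)⁻¹ * g') * g) * c⁻¹ = g'
    calc c * (((c * g * c⁻¹)⁻¹ * g') * g) * c⁻¹
        = (c * ((c * g * c⁻¹)⁻¹ * g')) * g * c⁻¹ := by group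
      _ = (((c * g * c⁻¹)⁻¹ * g') * c) * g * c⁻¹ := by rw [hcomm c]
      _ = ((c * g * c⁻¹)⁻¹ * g') * (c * g * c⁻¹) := by group
      _ = (c * g * c⁻¹) * ((c * g * c⁻¹)⁻¹ * g') := by rw [hcomm (c * g * c⁻¹)]
      _ = g' := by group
  · rintro ⟨z, hz⟩
    obtain ⟨c, hc⟩ := isConj_iff.1 (ConjClasses.mk_eq_mk_iff_isConj.1 hz)
    refine ConjClasses.mk_eq_mk_iff_isConj.2 (isConj_iff.2 ⟨(c : G ⧸ Z), ?_⟩)
    have h1 : (((z : G) * g : G) : G ⧸ Z) = (g : G ⧸ Z) := by
      rw [QuotientGroup.mk_mul, (QuotientGroup.eq_one_iff (z : G)).2 z.2, one_mul]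
    rw [← hc]
    rw [QuotientGroup.mk_mul, QuotientGroup.mk_mul, h1, QuotientGroup.mk_inv]

/-- Classes of `G ⧸ Z` are the `Z`-orbits on the classes of `G`. -/
theorem card_orbits_eq (Z : Subgroup G) [Z.Normal] (hZ : Z ≤ Subgroup.center G) :
    Nat.card (Quotient (@MulAction.orbitRel Z (ConjClasses G) _ (classAction Z hZ))) =
      Nat.card (ConjClasses (G ⧸ Z)) := by
  let _ := classAction Z hZ
  have hwd : ∀ C C' : ConjClasses G, (MulAction.orbitRel Z (ConjClasses G)) C C' →
      ConjClasses.map (QuotientGroup.mk' Z) C = ConjClasses.map (QuotientGroup.mk' Z) C' := by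
    intro C C' h
    obtain ⟨g, rfl⟩ := ConjClasses.exists_rep C
    obtain ⟨g', rfl⟩ := ConjClasses.exists_rep C'
    obtain ⟨z, hz⟩ := (MulAction.orbitRel_apply.1 h)
    have hz' : ConjClasses.mk ((z : G) * g') = ConjClasses.mk g := hz
    exact ((mk_quot_eq_iff Z hZ g' g).2 ⟨z, hz'⟩).symm
  refine Nat.card_congr (Equiv.ofBijective
    (Quotient.lift (fun C => ConjClasses.map (QuotientGroup.mk' Z) C) hwd) ⟨?_, ?_⟩)
  · intro a b hab
    induction a using Quotient.inductionOn with
    | _ C =>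
    induction b using Quotient.inductionOn with
    | _ C' =>
    obtain ⟨g, rfl⟩ := ConjClasses.exists_rep C
    obtain ⟨g', rfl⟩ := ConjClasses.exists_rep C'
    have h1 : ConjClasses.mk (g : G ⧸ Z) = ConjClasses.mk (g' : G ⧸ Z) := hab
    obtain ⟨z, hz⟩ := (mk_quot_eq_iff Z hZ g g').1 h1
    refine Quotient.sound ?_
    refine MulAction.orbitRel_apply.2 ⟨z⁻¹, ?_⟩
    show mulClass Z hZ z⁻¹ (ConjClasses.mk g') = ConjClasses.mk g
    rw [← hz]
    show mulClass Z hZ z⁻¹ (mulClass Z hZ z (ConjClasses.mk g)) = ConjClasses.mk g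
    rw [mulClass_mk, mulClass_mk]
    simp
  · intro C
    obtain ⟨g, rfl⟩ := ConjClasses.exists_rep C
    obtain ⟨g, rfl⟩ := QuotientGroup.mk_surjective g
    exact ⟨Quotient.mk _ (ConjClasses.mk g), rfl⟩

/-- Burnside count: `k(G/Z) * |Z| = ∑_{z ∈ Z} #{classes C of G with z C = C}` for central `Z`. -/
theorem card_conjClasses_quotient_mul_card [Finite G] (Z : Subgroup G) [Z.Normal]
    (hZ : Z ≤ Subgroup.center G) :
    Nat.card (ConjClasses (G ⧸ Z)) * Nat.card Z =
      ∑ᶠ z : Z, Nat.card {C : ConjClasses G // mulClass Z hZ z C = C} := by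
  classical
  let _ := classAction Z hZ
  have : Fintype Z := Fintype.ofFinite Z
  have : Fintype (ConjClasses G) := Fintype.ofFinite _
  have : Fintype (Quotient (MulAction.orbitRel Z (ConjClasses G))) := Fintype.ofFinite _
  have hB := MulAction.sum_card_fixedBy_eq_card_orbits_mul_card_group Z (ConjClasses G)
  rw [← card_orbits_eq Z hZ, finsum_eq_sum_of_fintype, Nat.card_eq_fintype_card,
    Nat.card_eq_fintype_card, ← hB]
  refine Finset.sum_congr rfl (fun z _ => ?_)
  rw [← Nat.card_eq_fintype_card]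
  rfl

/-- Element form of the fixed-class condition. -/
theorem mulClass_eq_iff (Z : Subgroup G) (hZ : Z ≤ Subgroup.center G) (z : Z) (g : G) :
    mulClass Z hZ z (ConjClasses.mk g) = ConjClasses.mk g ↔ IsConj ((z : G) * g) g := by
  rw [mulClass_mk, ConjClasses.mk_eq_mk_iff_isConj]

end Cfsg.Agent.Helper22.CentralQuotClasses
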