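import Mathlib
import Cfsg.Prelude.Def_Characters
import Cfsg.Prelude.Def_Perm
import Cfsg.Agent.Lib.Helper24.CharCentral
import Cfsg.Agent.Lib.Helper24.CharAlgebra

/-!
# Centralizer ring of a representation: central idempotents, multiplicity-freeness (helper22)
-/

set_option autoImplicit false

namespace Cfsg.Agent.Helper22.PermCent

open Cfsg Cfsg.Agent.Helper24 Module

open scoped ComplexConjugate

universe u v w

section General

variable {G : Type u} [Group G] [Fintype G]
variable {V : Type v} [AddCommGroup V] [Module ℂ V]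

theorem card_ne_zero : (Nat.card G : ℂ) ≠ 0 := by
  exact_mod_cast (Nat.card_pos (α := G)).ne'

/-- product of two function operators is the operator of the convolution -/
theorem fnOp_mul (f f' : G → ℂ) (ρ : Representation ℂ G V) :
    fnOp f ρ * fnOp f' ρ = fnOp (fun w => ∑ g : G, f g * f' (w * g⁻¹)) ρ := by
  have hL : fnOp f ρ * fnOp f' ρ = ∑ g : G, ∑ h : G, (f g * f' h) • ρ (g⁻¹ * h⁻¹) := by
    simp only [fnOp]
    rw [Finset.sum_mul_sum]
    refine Finset.sum_congr rfl fun g _ => Finset.sum_congr rfl fun h _ => ?_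
    rw [smul_mul_smul_comm, map_mul]
  have hR : fnOp (fun w => ∑ g : G, f g * f' (w * g⁻¹)) ρ =
      ∑ g : G, ∑ h : G, (f g * f' h) • ρ (g⁻¹ * h⁻¹) := by
    simp only [fnOp, Finset.sum_smul]
    rw [Finset.sum_comm]
    refine Finset.sum_congr rfl fun g _ => ?_
    rw [← Equiv.sum_comp (Equiv.mulRight g)]
    refine Finset.sum_congr rfl fun h _ => ?_
    simp only [Equiv.coe_mulRight, mul_inv_cancel_right, mul_inv_rev]
  rw [hL, hR]

/-- the central idempotent attached to an irreducible character -/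
noncomputable def idem (χ : G → ℂ) (ρ : Representation ℂ G V) : Module.End ℂ V :=
  fnOp (fun g => χ 1 / (Nat.card G : ℂ) * χ g) ρ

theorem idem_comm {χ : G → ℂ} (hχ : IsClassFunction G χ) (ρ : Representation ℂ G V) (h : G) :
    idem χ ρ ∘ₗ ρ h = ρ h ∘ₗ idem χ ρ := by
  apply fnOp_comm
  intro g k
  simp only [hχ g k]

omit [Fintype G] in
theorem irr_one_ne_zero {χ : G → ℂ} (hχ : IsIrrCharacter G χ) : χ 1 ≠ 0 := by
  obtain ⟨n, hn, h⟩ := irr_one_eq hχ
  rw [h]
  exact_mod_cast hn.ne'

theorem idem_mul_idem {χ ψ : G → ℂ} (hχ : IsIrrCharacter G χ) (hψ : IsIrrCharacter G ψ)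
    (ρ : Representation ℂ G V) :
    idem χ ρ * idem ψ ρ = if χ = ψ then idem χ ρ else 0 := by
  have hψc := isClassFunction_of_isIrrCharacter hψ
  rw [idem, idem, fnOp_mul]
  have key : ∀ w : G, ∑ g : G, (χ 1 / (Nat.card G : ℂ) * χ g) *
      (ψ 1 / (Nat.card G : ℂ) * ψ (w * g⁻¹)) =
      if χ = ψ then χ 1 / (Nat.card G : ℂ) * χ w else 0 := by
    intro w
    have h1 := generalized_orthogonality hψ hχ w
    have h2 : ∀ g : G, ψ (w * g⁻¹) = ψ (g⁻¹ * w) := by
      intro g
      have := hψc (w * g⁻¹) g⁻¹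
      rw [← this]
      congr 1
      group
    have h3 : ∑ g : G, (χ 1 / (Nat.card G : ℂ) * χ g) * (ψ 1 / (Nat.card G : ℂ) * ψ (w * g⁻¹))
        = (χ 1 / (Nat.card G : ℂ)) * (ψ 1 / (Nat.card G : ℂ)) * ∑ g : G, χ g * ψ (g⁻¹ * w) := by
      rw [Finset.mul_sum]
      refine Finset.sum_congr rfl fun g _ => ?_
      rw [h2]; ring
    rw [h3, h1]
    split_ifs with he
    · subst he
      have h0 := irr_one_ne_zero hχ
      have hc := card_ne_zero (G := G)
      field_simp
    · rw [mul_zero]
  simp only [key]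
  split_ifs with he
  · rfl
  · simp [fnOp]

variable [FiniteDimensional ℂ V]

theorem trace_idem (χ : G → ℂ) (ρ : Representation ℂ G V) :
    LinearMap.trace ℂ V (idem χ ρ) = χ 1 * classInner χ ρ.character := by
  rw [idem, trace_fnOp]
  have : (fun g => χ 1 / (Nat.card G : ℂ) * χ g) = (χ 1 / (Nat.card G : ℂ)) • χ := by
    funext g; simp
  rw [this, classInner_smul_left]
  have hc := card_ne_zero (G := G)
  field_simp

/-- dimension of the space of intertwiners -/
theorem finrank_linHom_invariants {U : Type w} [AddCommGroup U] [Module ℂ U]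
    [FiniteDimensional ℂ U] (σ : Representation ℂ G U) (ρ : Representation ℂ G V) :
    (finrank ℂ (Representation.linHom σ ρ).invariants : ℂ) =
      classInner ρ.character σ.character := by
  haveI : Invertible (Nat.card G : ℂ) := invertibleOfNonzero card_ne_zero
  rw [← Representation.card_inv_mul_sum_char_eq_finrank]
  simp only [classInner, Representation.char_linHom]
  congr 1
  refine Finset.sum_congr rfl fun g _ => ?_
  rw [char_inv, mul_comm]

end General


section MultFree

variable {G : Type u} [Group G] [Fintype G]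
variable {V : Type v} [AddCommGroup V] [Module ℂ V] [FiniteDimensional ℂ V]

omit [FiniteDimensional ℂ V] in
theorem idem_mem_invariants {χ : G → ℂ} (hχ : IsClassFunction G χ) (ρ : Representation ℂ G V) :
    idem χ ρ ∈ (Representation.linHom ρ ρ).invariants := by
  rw [Representation.mem_invariants]
  intro g
  rw [Representation.linHom_apply, ← LinearMap.comp_assoc, ← idem_comm hχ ρ g,
    LinearMap.comp_assoc]
  have : ρ g ∘ₗ ρ g⁻¹ = LinearMap.id := by
    rw [← Module.End.mul_eq_comp, ← map_mul, mul_inv_cancel, map_one]; rfl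
  rw [this, LinearMap.comp_id]

theorem idem_ne_zero {χ : G → ℂ} (hχ : IsIrrCharacter G χ) (ρ : Representation ℂ G V)
    (h : classInner χ ρ.character ≠ 0) : idem χ ρ ≠ 0 := by
  intro h0
  have := trace_idem χ ρ
  rw [h0, map_zero] at this
  rcases mul_eq_zero.mp this.symm with h1 | h1
  · exact irr_one_ne_zero hχ h1
  · exact h h1

/-- In the multiplicity-free case the centralizer ring is spanned by the central idempotents of
the constituents. -/
theorem span_idem_eq (ρ : Representation ℂ G V)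
    (hmf : ∀ χ : G → ℂ, IsIrrCharacter G χ →
      classInner ρ.character χ = 0 ∨ classInner ρ.character χ = 1) :
    Submodule.span ℂ (Set.range fun χ : {χ : IrrCharacter G //
      classInner ρ.character (χ : G → ℂ) = 1} => idem (χ.1 : G → ℂ) ρ) =
      (Representation.linHom ρ ρ).invariants := by
  classical
  letI := irrFintype (G := G)
  set φ := ρ.character with hφ
  have hφc : IsClassFunction G φ := isClassFunction_of_isCharacter (isCharacter_of_rep ρ)
  let I := {χ : IrrCharacter G // classInner φ (χ : G → ℂ) = 1}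
  let E : I → Module.End ℂ V := fun χ => idem (χ.1 : G → ℂ) ρ
  have hsymm : ∀ χ : I, classInner (χ.1 : G → ℂ) φ = 1 := by
    intro χ
    rw [← classInner_conj_symm, χ.2, map_one]
  have hEne : ∀ χ : I, E χ ≠ 0 := fun χ =>
    idem_ne_zero χ.1.2 ρ (by rw [hsymm χ]; exact one_ne_zero)
  have hEmul : ∀ χ ψ : I, E χ * E ψ = if χ = ψ then E χ else 0 := by
    intro χ ψ
    show idem _ ρ * idem _ ρ = _
    rw [idem_mul_idem χ.1.2 ψ.1.2]
    by_cases h : χ = ψ
    · rw [if_pos h, if_pos (by rw [h])]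
    · rw [if_neg h, if_neg (fun h' => h (Subtype.ext (Subtype.ext h')))]
  have hli : LinearIndependent ℂ E := by
    rw [linearIndependent_iff']
    intro s c hc ψ hψ
    have h1 := congrArg (fun X => X * E ψ) hc
    simp only [Finset.sum_mul, smul_mul_assoc, zero_mul, hEmul] at h1
    simp only [smul_ite, smul_zero] at h1
    rw [Finset.sum_ite_eq' s ψ, if_pos hψ] at h1
    rcases smul_eq_zero.mp h1 with h2 | h2
    · exact h2
    · exact absurd h2 (hEne ψ)
  -- dimension count
  have hdim : finrank ℂ (Representation.linHom ρ ρ).invariants = Fintype.card I := by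
    have h1 := finrank_linHom_invariants ρ ρ
    rw [classInner_eq_sum_mul hφc] at h1
    have h2 : ∀ ψ : IrrCharacter G, classInner φ (ψ : G → ℂ) * conj (classInner φ (ψ : G → ℂ)) =
        if classInner φ (ψ : G → ℂ) = 1 then 1 else 0 := by
      intro ψ
      rcases hmf ψ.1 ψ.2 with h | h
      · rw [h, if_neg zero_ne_one]; simp
      · rw [h, if_pos rfl]; simp
    rw [Finset.sum_congr rfl (fun ψ _ => h2 ψ), Finset.sum_boole] at h1
    have h3 : Fintype.card I = (Finset.univ.filter
        (fun ψ : IrrCharacter G => classInner φ (ψ : G → ℂ) = 1)).card := by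
      rw [Fintype.card_subtype]
    rw [h3]
    exact_mod_cast h1
  apply Submodule.eq_of_le_of_finrank_eq
  · rw [Submodule.span_le]
    rintro _ ⟨χ, rfl⟩
    exact idem_mem_invariants (isClassFunction_of_isIrrCharacter χ.1.2) ρ
  · rw [finrank_span_eq_card hli, hdim]

/-- In the multiplicity-free case the centralizer ring is commutative. -/
theorem comm_of_multFree (ρ : Representation ℂ G V)
    (hmf : ∀ χ : G → ℂ, IsIrrCharacter G χ →
      classInner ρ.character χ = 0 ∨ classInner ρ.character χ = 1)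
    (S T : Module.End ℂ V) (hS : S ∈ (Representation.linHom ρ ρ).invariants)
    (hT : T ∈ (Representation.linHom ρ ρ).invariants) : S * T = T * S := by
  classical
  letI := irrFintype (G := G)
  have hEmul : ∀ χ ψ : {χ : IrrCharacter G // classInner ρ.character (χ : G → ℂ) = 1},
      idem (χ.1 : G → ℂ) ρ * idem (ψ.1 : G → ℂ) ρ = idem (ψ.1 : G → ℂ) ρ * idem (χ.1 : G → ℂ) ρ := by
    intro χ ψ
    rw [idem_mul_idem χ.1.2 ψ.1.2, idem_mul_idem ψ.1.2 χ.1.2]
    by_cases h : (χ.1 : G → ℂ) = ψ.1
    · rw [if_pos h, if_pos h.symm, h]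
    · rw [if_neg h, if_neg (Ne.symm h)]
  rw [← span_idem_eq ρ hmf] at hS hT
  obtain ⟨a, rfl⟩ := (Submodule.mem_span_range_iff_exists_fun ℂ).mp hS
  obtain ⟨b, rfl⟩ := (Submodule.mem_span_range_iff_exists_fun ℂ).mp hT
  rw [Finset.sum_mul_sum, Finset.sum_mul_sum, Finset.sum_comm]
  refine Finset.sum_congr rfl fun j _ => Finset.sum_congr rfl fun i _ => ?_
  rw [smul_mul_smul_comm, smul_mul_smul_comm, hEmul, mul_comm (a i) (b j)]

end MultFree


section NonComm

variable {G : Type u} [Group G] [Fintype G]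
variable {V : Type v} [AddCommGroup V] [Module ℂ V] [FiniteDimensional ℂ V]
variable {U : Type w} [AddCommGroup U] [Module ℂ U] [FiniteDimensional ℂ U]

omit [Fintype G] [FiniteDimensional ℂ V] [FiniteDimensional ℂ U] in
theorem intertwine_apply (σ : Representation ℂ G U) (ρ : Representation ℂ G V)
    {f : U →ₗ[ℂ] V} (hf : f ∈ (Representation.linHom σ ρ).invariants) (g : G) (u : U) :
    f (σ g u) = ρ g (f u) := by
  rw [Representation.mem_invariants] at hf
  have h1 := LinearMap.congr_fun (hf g) (σ g u)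
  rw [Representation.linHom_apply] at h1
  simp only [LinearMap.comp_apply] at h1
  rw [← Module.End.mul_apply, ← map_mul, inv_mul_cancel, map_one] at h1
  exact h1.symm

omit [Fintype G] [FiniteDimensional ℂ V] in
theorem rep_inv_apply (ρ : Representation ℂ G V) (g : G) (v : V) : ρ g⁻¹ (ρ g v) = v := by
  rw [← Module.End.mul_apply, ← map_mul, inv_mul_cancel, map_one]; rfl

omit [Fintype G] [FiniteDimensional ℂ V] in
theorem rep_apply_inv (ρ : Representation ℂ G V) (g : G) (v : V) : ρ g (ρ g⁻¹ v) = v := by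
  rw [← Module.End.mul_apply, ← map_mul, mul_inv_cancel, map_one]; rfl

/-- If an irreducible representation occurs at least twice, the centralizer ring is not
commutative. -/
theorem exists_noncomm (σ : Representation ℂ G U) (hσ : σ.IsIrreducible)
    (ρ : Representation ℂ G V)
    (h2 : 2 ≤ finrank ℂ (Representation.linHom σ ρ).invariants) :
    ∃ A B : Module.End ℂ V, A ∈ (Representation.linHom ρ ρ).invariants ∧
      B ∈ (Representation.linHom ρ ρ).invariants ∧ A * B ≠ B * A := by
  classical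
  set H := (Representation.linHom σ ρ).invariants with hH
  have hpos : 0 < finrank ℂ H := by omega
  have hone : 1 < finrank ℂ H := by omega
  haveI : Nontrivial H := (Module.finrank_pos_iff (R := ℂ)).mp hpos
  obtain ⟨f₁, hf₁⟩ := exists_ne (0 : H)
  obtain ⟨f₂, hli⟩ := exists_linearIndependent_pair_of_one_lt_finrank hone hf₁
  have hf₁' : (f₁ : U →ₗ[ℂ] V) ≠ 0 := fun h => hf₁ (Subtype.ext h)
  -- injectivity of f₁
  have hker : LinearMap.ker (f₁ : U →ₗ[ℂ] V) = ⊥ := by
    have hirr := (isIrreducible_iff σ).mp hσ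
    rcases hirr.2 (LinearMap.ker (f₁ : U →ₗ[ℂ] V)) (by
      intro g u hu
      rw [LinearMap.mem_ker] at hu ⊢
      rw [intertwine_apply σ ρ f₁.2, hu, map_zero]) with h | h
    · exact h
    · exfalso
      apply hf₁'
      ext u
      have : u ∈ LinearMap.ker (f₁ : U →ₗ[ℂ] V) := by rw [h]; trivial
      simpa using this
  obtain ⟨g₀, hg₀⟩ := LinearMap.exists_leftInverse_of_injective (f₁ : U →ₗ[ℂ] V) hker
  have hg₀' : ∀ u, g₀ (f₁.1 u) = u := fun u => LinearMap.congr_fun hg₀ u
  let g₁ : V →ₗ[ℂ] U := (Nat.card G : ℂ)⁻¹ • ∑ h : G, (σ h) ∘ₗ g₀ ∘ₗ (ρ h⁻¹)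
  have hg₁ : ∀ v, g₁ v = (Nat.card G : ℂ)⁻¹ • ∑ h : G, σ h (g₀ (ρ h⁻¹ v)) := by
    intro v
    simp [g₁, LinearMap.sum_apply]
  have hc := card_ne_zero (G := G)
  have hg₁f₁ : ∀ u, g₁ (f₁.1 u) = u := by
    intro u
    rw [hg₁]
    have : ∀ h : G, σ h (g₀ (ρ h⁻¹ (f₁.1 u))) = u := by
      intro h
      rw [← intertwine_apply σ ρ f₁.2, hg₀', rep_apply_inv]
    simp only [this, Finset.sum_const, Finset.card_univ]
    rw [← Nat.card_eq_fintype_card, ← Nat.cast_smul_eq_nsmul ℂ, smul_smul, inv_mul_cancel₀ hc,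
      one_smul]
  have hg₁eq : ∀ (k : G) (v : V), g₁ (ρ k v) = σ k (g₁ v) := by
    intro k v
    rw [hg₁, hg₁, map_smul, map_sum]
    congr 1
    rw [← Equiv.sum_comp (Equiv.mulLeft k)]
    refine Finset.sum_congr rfl fun h _ => ?_
    simp only [Equiv.coe_mulLeft, mul_inv_rev, map_mul, Module.End.mul_apply]
    rw [rep_inv_apply]
  -- Schur
  have hT : ∀ k : G, (g₁ ∘ₗ f₂.1) ∘ₗ σ k = σ k ∘ₗ (g₁ ∘ₗ f₂.1) := by
    intro k
    ext u
    simp only [LinearMap.comp_apply]
    rw [intertwine_apply σ ρ f₂.2, hg₁eq]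
  obtain ⟨c, hcT⟩ := exists_scalar_of_comm σ hσ (g₁ ∘ₗ f₂.1) hT
  have hcT' : ∀ u, g₁ (f₂.1 u) = c • u := by
    intro u
    have := LinearMap.congr_fun hcT u
    simpa using this
  set f₃ : H := f₂ - c • f₁ with hf₃
  have hf₃ne : f₃ ≠ 0 := by
    intro h0
    have h1 := (LinearIndependent.pair_iff.mp hli) (-c) 1 (by
      rw [hf₃] at h0
      rw [neg_smul, one_smul, neg_add_eq_sub]; exact h0)
    exact one_ne_zero h1.2
  have hf₃' : (f₃ : U →ₗ[ℂ] V) ≠ 0 := fun h => hf₃ne (Subtype.ext h)
  have hg₁f₃ : ∀ u, g₁ (f₃.1 u) = 0 := by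
    intro u
    have : f₃.1 u = f₂.1 u - c • f₁.1 u := by
      rw [hf₃]; simp
    rw [this, map_sub, map_smul, hcT', hg₁f₁, sub_self]
  have hmem : ∀ f : H, (f.1 ∘ₗ g₁) ∈ (Representation.linHom ρ ρ).invariants := by
    intro f
    rw [Representation.mem_invariants]
    intro k
    rw [Representation.linHom_apply]
    ext v
    simp only [LinearMap.comp_apply]
    rw [hg₁eq, intertwine_apply σ ρ f.2, rep_apply_inv]
  refine ⟨f₃.1 ∘ₗ g₁, f₁.1 ∘ₗ g₁, hmem f₃, hmem f₁, ?_⟩
  intro heq
  apply hf₃'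
  ext u
  have h1 := LinearMap.congr_fun heq (f₁.1 u)
  simp only [Module.End.mul_apply, LinearMap.comp_apply] at h1
  rw [hg₁f₁, hg₁f₁, hg₁f₃, map_zero] at h1
  simpa using h1

end NonComm


section Perm

variable {G : Type u} [Group G] {Ω : Type v} [Fintype Ω] [MulAction G Ω]

omit [Fintype Ω] in
theorem permRep_apply' (g : G) (f : Ω → ℂ) (x : Ω) :
    Cfsg.permRep ℂ G Ω g f x = f (g⁻¹ • x) := rfl

/-- the character of the permutation representation counts fixed points -/
theorem permRep_character (g : G) :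
    (Cfsg.permRep ℂ G Ω).character g = (Nat.card (MulAction.fixedBy Ω g) : ℂ) := by
  classical
  rw [Representation.character, LinearMap.trace_eq_matrix_trace ℂ (Pi.basisFun ℂ Ω), Matrix.trace]
  simp only [Matrix.diag_apply, LinearMap.toMatrix_apply, Pi.basisFun_repr, Pi.basisFun_apply,
    permRep_apply', Pi.single_apply]
  rw [Finset.sum_boole, Nat.card_eq_fintype_card]
  congr 1
  rw [← Fintype.card_subtype]
  apply Fintype.card_congr
  refine Equiv.subtypeEquivRight fun x => ?_
  rw [MulAction.mem_fixedBy, inv_smul_eq_iff, eq_comm]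

end Perm

end Cfsg.Agent.Helper22.PermCent
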