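import Mathlib
import Cfsg.Agent.Lib.Helper22.PermCentralizer

/-!
# Matrix entries of operators on the permutation module; transposes of central idempotents
(helper22)
-/

set_option autoImplicit false

namespace Cfsg.Agent.Helper22.PermCent

open Cfsg Cfsg.Agent.Helper24 Module

open scoped ComplexConjugate

universe u v

section Ent

variable {G : Type u} [Group G] {Ω : Type v} [Fintype Ω] [DecidableEq Ω] [MulAction G Ω]

/-- matrix entries of an operator on the permutation module -/
def ent (T : Module.End ℂ (Ω → ℂ)) (x y : Ω) : ℂ := T (Pi.single y 1) x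

omit [Fintype Ω] in
theorem ent_add (S T : Module.End ℂ (Ω → ℂ)) (x y : Ω) : ent (S + T) x y = ent S x y + ent T x y :=
  rfl

omit [Fintype Ω] in
theorem ent_smul (c : ℂ) (T : Module.End ℂ (Ω → ℂ)) (x y : Ω) : ent (c • T) x y = c * ent T x y :=
  rfl

omit [Fintype Ω] in
theorem ent_zero (x y : Ω) : ent (0 : Module.End ℂ (Ω → ℂ)) x y = 0 := rfl

omit [Fintype Ω] in
theorem ent_sum {ι : Type*} (s : Finset ι) (T : ι → Module.End ℂ (Ω → ℂ)) (x y : Ω) :
    ent (∑ i ∈ s, T i) x y = ∑ i ∈ s, ent (T i) x y := by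
  simp [ent, LinearMap.sum_apply]

theorem apply_eq_sum (T : Module.End ℂ (Ω → ℂ)) (f : Ω → ℂ) (x : Ω) :
    T f x = ∑ y, ent T x y * f y := by
  have h := LinearMap.pi_apply_eq_sum_univ T f
  rw [h, Finset.sum_apply]
  refine Finset.sum_congr rfl fun y _ => ?_
  have hs : (fun j => if y = j then (1 : ℂ) else 0) = Pi.single y 1 := by
    funext j
    rw [Pi.single_apply]
    by_cases h : j = y
    · rw [if_pos h, if_pos h.symm]
    · rw [if_neg h, if_neg (Ne.symm h)]
  rw [Pi.smul_apply, smul_eq_mul, mul_comm, ent, hs]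

theorem ext_ent {S T : Module.End ℂ (Ω → ℂ)} (h : ∀ x y, ent S x y = ent T x y) : S = T := by
  refine LinearMap.ext fun f => funext fun x => ?_
  rw [apply_eq_sum, apply_eq_sum]
  simp only [h]

theorem ent_mul (S T : Module.End ℂ (Ω → ℂ)) (x y : Ω) :
    ent (S * T) x y = ∑ z, ent S x z * ent T z y := by
  show S (T (Pi.single y 1)) x = _
  rw [apply_eq_sum]
  rfl

omit [Fintype Ω] in
theorem permRep_single' (g : G) (a : Ω) :
    Cfsg.permRep ℂ G Ω g (Pi.single a 1) = Pi.single (g • a) 1 := by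
  funext x
  rw [permRep_apply', Pi.single_apply, Pi.single_apply]
  by_cases hx : x = g • a
  · rw [if_pos hx, if_pos (by rw [hx, inv_smul_smul])]
  · rw [if_neg hx, if_neg (fun e => hx (by rw [← e, smul_inv_smul]))]

omit [Fintype Ω] in
theorem ent_rho (g : G) (x y : Ω) :
    ent (Cfsg.permRep ℂ G Ω g) x y = if x = g • y then 1 else 0 := by
  rw [ent, permRep_single', Pi.single_apply]

/-- membership in the centralizer ring in terms of entries -/
theorem mem_centralizer_iff (T : Module.End ℂ (Ω → ℂ)) :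
    T ∈ (Representation.linHom (Cfsg.permRep ℂ G Ω) (Cfsg.permRep ℂ G Ω)).invariants ↔
      ∀ (g : G) (x y : Ω), ent T (g • x) (g • y) = ent T x y := by
  rw [Representation.mem_invariants]
  constructor
  · intro h g x y
    have h1 := h g
    rw [Representation.linHom_apply] at h1
    have h2 : ent T (g • x) (g • y) =
        ent (Cfsg.permRep ℂ G Ω g ∘ₗ T ∘ₗ Cfsg.permRep ℂ G Ω g⁻¹) (g • x) (g • y) := by rw [h1]
    rw [h2, ent]
    simp only [LinearMap.comp_apply]
    rw [permRep_single', permRep_apply', inv_smul_smul, inv_smul_smul]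
    rfl
  · intro h g
    rw [Representation.linHom_apply]
    refine LinearMap.ext fun f => funext fun x => ?_
    simp only [LinearMap.comp_apply]
    rw [permRep_apply', apply_eq_sum, apply_eq_sum]
    rw [← Equiv.sum_comp (MulAction.toPerm g⁻¹ : Equiv.Perm Ω)]
    refine Finset.sum_congr rfl fun y _ => ?_
    rw [MulAction.toPerm_apply, h g⁻¹ x y, permRep_apply', inv_inv, smul_inv_smul]

variable [Fintype G]

theorem ent_idem (χ : G → ℂ) (x y : Ω) :
    ent (idem χ (Cfsg.permRep ℂ G Ω)) x y =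
      χ 1 / (Nat.card G : ℂ) * ∑ g : G, if g • x = y then χ g else 0 := by
  rw [idem, fnOp, ent_sum, Finset.mul_sum]
  refine Finset.sum_congr rfl fun g _ => ?_
  rw [ent_smul, ent_rho]
  by_cases h : g • x = y
  · rw [if_pos h, if_pos (by rw [← h, inv_smul_smul]), mul_one]
  · rw [if_neg h, if_neg (fun h' => h (by rw [h', smul_inv_smul])), mul_zero, mul_zero]

/-- the transpose of a central idempotent is the idempotent of the conjugate character -/
theorem ent_idem_transpose {χ : G → ℂ} (hχ : IsIrrCharacter G χ) (x y : Ω) :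
    ent (idem χ (Cfsg.permRep ℂ G Ω)) y x =
      ent (idem (fun g => conj (χ g)) (Cfsg.permRep ℂ G Ω)) x y := by
  rw [ent_idem, ent_idem]
  obtain ⟨n, hn, h1⟩ := irr_one_eq hχ
  have h2 : conj (χ 1) = χ 1 := by rw [h1, Complex.conj_natCast]
  simp only [h2]
  congr 1
  rw [← Equiv.sum_comp (Equiv.inv G)]
  refine Finset.sum_congr rfl fun g _ => ?_
  rw [Equiv.inv_apply]
  have h3 : χ g⁻¹ = conj (χ g) := by
    obtain ⟨m, ρ, -, rfl⟩ := hχ
    exact char_inv ρ g
  by_cases h : g • x = y
  · rw [if_pos h, if_pos (by rw [← h, inv_smul_smul]), h3]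
  · rw [if_neg h, if_neg (fun h' => h (by rw [← h', smul_inv_smul]))]

end Ent


section Trace

variable {Ω : Type v} [Fintype Ω] [DecidableEq Ω]

theorem trace_eq_sum_ent (T : Module.End ℂ (Ω → ℂ)) :
    LinearMap.trace ℂ (Ω → ℂ) T = ∑ x, ent T x x := by
  rw [LinearMap.trace_eq_matrix_trace ℂ (Pi.basisFun ℂ Ω), Matrix.trace]
  simp only [Matrix.diag_apply, LinearMap.toMatrix_apply, Pi.basisFun_repr, Pi.basisFun_apply]
  rfl

/-- An operator with integer entries has algebraic integer eigenvalues. -/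
theorem isIntegral_of_hasEigenvalue (T : Module.End ℂ (Ω → ℂ)) (K : Ω → Ω → ℤ)
    (hK : ∀ x y, ent T x y = (K x y : ℂ)) {μ : ℂ} (hμ : T.HasEigenvalue μ) : IsIntegral ℤ μ := by
  rw [Module.End.hasEigenvalue_iff_isRoot_charpoly,
    ← LinearMap.charpoly_toMatrix T (Pi.basisFun ℂ Ω)] at hμ
  have hM : LinearMap.toMatrix (Pi.basisFun ℂ Ω) (Pi.basisFun ℂ Ω) T =
      (Matrix.of K).map (Int.castRingHom ℂ) := by
    ext x y
    rw [LinearMap.toMatrix_apply, Pi.basisFun_repr, Pi.basisFun_apply, Matrix.map_apply,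
      Matrix.of_apply]
    exact hK x y
  rw [hM, Matrix.charpoly_map] at hμ
  refine ⟨(Matrix.of K).charpoly, Matrix.charpoly_monic _, ?_⟩
  rw [← Polynomial.eval_map]
  exact hμ

end Trace

end Cfsg.Agent.Helper22.PermCent
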