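import Mathlib
import Cfsg.Prelude.Def_Characters
import Cfsg.Prelude.Def_Perm
import Cfsg.Agent.Lib.Helper22.PermCentralizer
import Cfsg.Agent.Lib.Helper22.PermSymm

/-!
# Wielandt's theorem on primitive groups of degree `2p` (S0720): definitions (helper22)

Paper proof: `plans/S0720_proof.md`.
-/

set_option autoImplicit false

namespace Cfsg.Agent.Helper22.W2P

open Cfsg Cfsg.Agent.Helper22.PermCent

open scoped ComplexConjugate

universe u v

section Theta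

variable (G : Type u) [Group G] (Ω : Type v) [MulAction G Ω]

/-- the permutation character (number of fixed points) -/
noncomputable def theta : G → ℂ := fun g => (Nat.card (MulAction.fixedBy Ω g) : ℂ)

end Theta

section Kernel

variable {G : Type u} [Group G] [Fintype G] {Ω : Type v} [Fintype Ω] [DecidableEq Ω]
  [MulAction G Ω]

/-- the kernel (matrix entries) of the isotypic projection of the permutation module belonging to
`χ`:  `K χ x y = χ 1 / |G| * ∑_{g • x = y} χ g`  (see `PermCent.ent_idem`). -/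
noncomputable def K (χ : G → ℂ) (x y : Ω) : ℂ := ent (idem χ (Cfsg.permRep ℂ G Ω)) x y

theorem K_eq (χ : G → ℂ) (x y : Ω) :
    K χ x y = χ 1 / (Nat.card G : ℂ) * ∑ g : G, if g • x = y then χ g else 0 :=
  ent_idem χ x y

end Kernel

section Data

variable {G : Type u} [Group G] (Ω : Type v) [MulAction G Ω]

/-- The shape of the permutation character forced by an element `π` of order `p` without fixed
points, when the group is not doubly transitive:  `θ = 1 + χ₁ + ∑_{ψ ∈ Y} ψ`,  multiplicity free,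
`χ₁ (1) = p`, `χ₁` vanishes on `⟨π⟩ ∖ 1`, and no member of `Y` contains the trivial character of
`⟨π⟩`. -/
structure Decomp (p : ℕ) (π : G) (χ₁ : G → ℂ) (Y : Finset (G → ℂ)) : Prop where
  irr₁ : IsIrrCharacter G χ₁
  irrY : ∀ ψ ∈ Y, IsIrrCharacter G ψ
  ne_one₁ : χ₁ ≠ fun _ => 1
  one_notMem : (fun _ : G => (1 : ℂ)) ∉ Y
  chi_notMem : χ₁ ∉ Y
  deg₁ : χ₁ 1 = p
  vanish₁ : ∀ k : ℕ, ¬ p ∣ k → χ₁ (π ^ k) = 0
  c0Y : ∀ ψ ∈ Y, ∑ k ∈ Finset.range p, ψ (π ^ k) = 0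
  theta_eq : theta G Ω = fun g => 1 + χ₁ g + ∑ ψ ∈ Y, ψ g

/-- The situation `t = 2`: `θ = 1 + χ₁ + ψ + ψ'` with `ψ (1) = ψ' (1) = (p - 1) / 2`. -/
structure Ctx2 (p : ℕ) (π : G) (χ₁ ψ ψ' : G → ℂ) : Prop where
  prim : MulAction.IsPreprimitive G Ω
  ord : orderOf π = p
  fpf : ∀ x : Ω, π • x ≠ x
  irr₁ : IsIrrCharacter G χ₁
  irrψ : IsIrrCharacter G ψ
  irrψ' : IsIrrCharacter G ψ'
  ne₁ : χ₁ ≠ fun _ => 1
  neψ : ψ ≠ fun _ => 1
  neψ' : ψ' ≠ fun _ => 1
  ne₁ψ : χ₁ ≠ ψ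
  ne₁ψ' : χ₁ ≠ ψ'
  neψψ' : ψ ≠ ψ'
  deg₁ : χ₁ 1 = p
  degψ : 2 * ψ 1 = (p : ℂ) - 1
  degψ' : 2 * ψ' 1 = (p : ℂ) - 1
  vanish₁ : ∀ k : ℕ, ¬ p ∣ k → χ₁ (π ^ k) = 0
  c0ψ : ∑ k ∈ Finset.range p, ψ (π ^ k) = 0
  c0ψ' : ∑ k ∈ Finset.range p, ψ' (π ^ k) = 0
  theta_eq : theta G Ω = fun g => 1 + χ₁ g + ψ g + ψ' g

end Data

section Suborbits

/-- the suborbit of `b` with respect to the base point `a₀` -/
abbrev sub (G : Type u) [Group G] {Ω : Type v} [MulAction G Ω] (a₀ b : Ω) : Set Ω :=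
  MulAction.orbit (MulAction.stabilizer G a₀) b

/-- number of `s ∈ [1, p-1]` with `τ ^ s • a₀` in the suborbit of `b` -/
noncomputable def kk {G : Type u} [Group G] {Ω : Type v} [MulAction G Ω] (p : ℕ) (τ : G)
    (a₀ b : Ω) : ℕ := by
  classical
  exact ((Finset.Icc 1 (p - 1)).filter fun s => τ ^ s • a₀ ∈ sub G a₀ b).card

end Suborbits

end Cfsg.Agent.Helper22.W2P
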