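import Mathlib
import Cfsg.Agent.Lib.Helper22.PermCentralizer

/-!
# Trace of an operator in the centralizer ring via generalized eigenspaces (helper22)
-/

set_option autoImplicit false

namespace Cfsg.Agent.Helper22.PermCent

open Cfsg Cfsg.Agent.Helper24 Module

open scoped ComplexConjugate

universe u v

section EigRep

variable {G : Type u} [Group G]
variable {V : Type v} [AddCommGroup V] [Module ℂ V]
variable (ρ : Representation ℂ G V) (A : Module.End ℂ V) (hA : ∀ g : G, Commute A (ρ g))

/-- restriction of `ρ` to a generalized eigenspace of a commuting operator -/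
noncomputable def eigRep (μ : ℂ) : Representation ℂ G (A.maxGenEigenspace μ) where
  toFun g := (ρ g).restrict (Module.End.mapsTo_maxGenEigenspace_of_comm (hA g) μ)
  map_one' := by
    ext x
    simp
  map_mul' g h := by
    ext x
    simp only [map_mul, Module.End.mul_apply]
    rfl

theorem eigRep_apply (μ : ℂ) (g : G) (x : A.maxGenEigenspace μ) :
    ((eigRep ρ A hA μ g x : A.maxGenEigenspace μ) : V) = ρ g (x : V) := rfl

variable [FiniteDimensional ℂ V]

theorem isInternal_maxGenEigenspace :
    DirectSum.IsInternal (fun μ : ℂ => A.maxGenEigenspace μ) := by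
  classical
  exact DirectSum.isInternal_submodule_of_iSupIndep_of_iSup_eq_top
    A.independent_maxGenEigenspace A.iSup_maxGenEigenspace_eq_top

theorem finite_ne_bot : {μ : ℂ | A.maxGenEigenspace μ ≠ ⊥}.Finite :=
  WellFoundedGT.finite_ne_bot_of_iSupIndep A.independent_maxGenEigenspace

/-- the character of `ρ` is the sum of the characters on the generalized eigenspaces -/
theorem character_eq_sum (g : G) :
    ρ.character g = ∑ μ ∈ (finite_ne_bot A).toFinset, (eigRep ρ A hA μ).character g := by
  classical
  rw [Representation.character, LinearMap.trace_eq_sum_trace_restrict'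
    (isInternal_maxGenEigenspace A) (finite_ne_bot A)
    (fun μ => Module.End.mapsTo_maxGenEigenspace_of_comm (hA g) μ)]
  rfl

/-- the trace of `A` is the sum of eigenvalues times dimensions of generalized eigenspaces -/
theorem trace_eq_sum_mul_finrank :
    LinearMap.trace ℂ V A =
      ∑ μ ∈ (finite_ne_bot A).toFinset, μ * (finrank ℂ (A.maxGenEigenspace μ) : ℂ) := by
  classical
  rw [LinearMap.trace_eq_sum_trace_restrict' (isInternal_maxGenEigenspace A) (finite_ne_bot A)
    (fun μ => Module.End.mapsTo_maxGenEigenspace_of_comm (Commute.refl A) μ)]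
  refine Finset.sum_congr rfl fun μ _ => ?_
  have hnil := A.isNilpotent_restrict_maxGenEigenspace_sub_algebraMap μ
  have h1 := LinearMap.trace_comp_eq_mul_of_commute_of_isNilpotent (R := ℂ)
    (f := (LinearMap.id : Module.End ℂ (A.maxGenEigenspace μ)))
    (g := A.restrict (Module.End.mapsTo_maxGenEigenspace_of_comm (Commute.refl A) μ)) μ
    (Commute.one_left _) (by
      convert hnil using 1
      ext x
      simp only [LinearMap.sub_apply, Module.algebraMap_end_apply,
        Submodule.coe_sub, Submodule.coe_smul]
      rfl)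
  rw [LinearMap.id_comp] at h1
  rw [h1]
  congr 1
  exact LinearMap.trace_id ℂ _

end EigRep


section Decomp

variable {G : Type u} [Group G] [Fintype G]
variable {V : Type v} [AddCommGroup V] [Module ℂ V] [FiniteDimensional ℂ V]
variable (ρ : Representation ℂ G V) (A : Module.End ℂ V) (hA : ∀ g : G, Commute A (ρ g))

omit [Fintype G] in
theorem isIrrCharacter_one : IsIrrCharacter G (fun _ : G => (1 : ℂ)) :=
  isIrrCharacter_of_degree_one isCharacter_one rfl

theorem mem_support_iff (μ : ℂ) :
    μ ∈ (finite_ne_bot A).toFinset ↔ A.HasEigenvalue μ := by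
  rw [Set.Finite.mem_toFinset, Set.mem_ofPred_eq]
  exact Module.End.hasUnifEigenvalue_iff_hasUnifEigenvalue_one (by simp)

/-- if an irreducible character occurs on a generalized eigenspace it occurs in `ρ` -/
theorem classInner_ne_zero_of_eigRep {χ : G → ℂ} (hχ : IsIrrCharacter G χ) {μ : ℂ}
    (hμ : μ ∈ (finite_ne_bot A).toFinset)
    (h : classInner (eigRep ρ A hA μ).character χ ≠ 0) : classInner ρ.character χ ≠ 0 := by
  classical
  letI := irrFintype (G := G)
  have hχ' := isCharacter_of_isIrrCharacter hχ
  have h1 : ρ.character = ∑ ν ∈ (finite_ne_bot A).toFinset, (eigRep ρ A hA ν).character := by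
    funext g
    rw [character_eq_sum ρ A hA g, Finset.sum_apply]
  rw [h1, classInner_sum_left]
  have h2 : ∀ ν : ℂ, ∃ n : ℕ, classInner (eigRep ρ A hA ν).character χ = n := fun ν =>
    classInner_char_nat (isCharacter_of_rep _) hχ'
  choose n hn using h2
  simp only [hn]
  rw [hn] at h
  have h3 : n μ ≠ 0 := by exact_mod_cast h
  have h4 : n μ ≤ ∑ ν ∈ (finite_ne_bot A).toFinset, n ν :=
    Finset.single_le_sum (f := n) (fun _ _ => Nat.zero_le _) hμ
  have h5 : (∑ ν ∈ (finite_ne_bot A).toFinset, n ν) ≠ 0 := by omega
  exact_mod_cast h5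

/-- **Trace decomposition**: if `f` divides the degree of every non-principal constituent of `ρ`
and the eigenvalues of the commuting operator `A` are algebraic integers, then the trace of `A` is
the contribution of the principal constituents plus `f` times an algebraic integer. -/
theorem trace_decomp (f : ℕ)
    (hf : ∀ χ : G → ℂ, IsIrrCharacter G χ → χ ≠ (fun _ => 1) → classInner ρ.character χ ≠ 0 →
      ∃ m : ℕ, χ 1 = (f : ℂ) * m)
    (hint : ∀ μ : ℂ, A.HasEigenvalue μ → IsIntegral ℤ μ) :
    ∃ β : ℂ, IsIntegral ℤ β ∧ LinearMap.trace ℂ V A =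
      ∑ μ ∈ (finite_ne_bot A).toFinset,
        μ * classInner (eigRep ρ A hA μ).character (fun _ => 1) + (f : ℂ) * β := by
  classical
  letI := irrFintype (G := G)
  let triv : IrrCharacter G := ⟨fun _ => 1, isIrrCharacter_one⟩
  -- dimension of each generalized eigenspace
  have hdim : ∀ μ ∈ (finite_ne_bot A).toFinset, ∃ k : ℕ,
      (finrank ℂ (A.maxGenEigenspace μ) : ℂ) =
        classInner (eigRep ρ A hA μ).character (fun _ => 1) + (f : ℂ) * k := by
    intro μ hμ
    have hψ := isCharacter_of_rep (eigRep ρ A hA μ)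
    obtain ⟨hnat, hdec⟩ := isCharacter_decomp hψ
    have h1 := congrFun hdec 1
    rw [Representation.char_one, Finset.sum_apply] at h1
    simp only [Pi.smul_apply, smul_eq_mul] at h1
    rw [← Finset.add_sum_erase Finset.univ _ (Finset.mem_univ triv)] at h1
    have h2 : ∀ χ ∈ Finset.univ.erase triv, ∃ k : ℕ,
        classInner (eigRep ρ A hA μ).character (χ : G → ℂ) * (χ : G → ℂ) 1 = (f : ℂ) * k := by
      intro χ hχ
      have hne : (χ : G → ℂ) ≠ fun _ => 1 := by
        intro h
        exact (Finset.ne_of_mem_erase hχ) (Subtype.ext h)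
      obtain ⟨a, ha⟩ := hnat χ
      by_cases h0 : classInner (eigRep ρ A hA μ).character (χ : G → ℂ) = 0
      · exact ⟨0, by rw [h0]; simp⟩
      · obtain ⟨m, hm⟩ := hf χ.1 χ.2 hne (classInner_ne_zero_of_eigRep ρ A hA χ.2 hμ h0)
        exact ⟨a * m, by rw [ha, hm]; push_cast; ring⟩
    choose! k hk using h2
    refine ⟨∑ χ ∈ Finset.univ.erase triv, k χ, ?_⟩
    rw [h1, Finset.sum_congr rfl hk]
    push_cast
    rw [Finset.mul_sum]
    simp [triv]
  choose! k hk using hdim
  refine ⟨∑ μ ∈ (finite_ne_bot A).toFinset, μ * (k μ : ℂ), ?_, ?_⟩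
  · refine IsIntegral.sum _ fun μ hμ => ?_
    exact (hint μ ((mem_support_iff A μ).mp hμ)).mul (isIntegral_algebraMap (R := ℤ) (x := (k μ : ℤ))
      |> fun h => by simpa using h)
  · rw [trace_eq_sum_mul_finrank, Finset.mul_sum, ← Finset.sum_add_distrib]
    refine Finset.sum_congr rfl fun μ hμ => ?_
    rw [hk μ hμ]
    ring

end Decomp


section Principal

variable {G : Type u} [Group G] [Fintype G]
variable {V : Type v} [AddCommGroup V] [Module ℂ V] [FiniteDimensional ℂ V]
variable (ρ : Representation ℂ G V) (A : Module.End ℂ V) (hA : ∀ g : G, Commute A (ρ g))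

/-- multiplicity of the principal character = dimension of the invariants -/
theorem classInner_one_eq_finrank {W : Type*} [AddCommGroup W] [Module ℂ W]
    [FiniteDimensional ℂ W] (σ : Representation ℂ G W) :
    classInner σ.character (fun _ => 1) = (finrank ℂ σ.invariants : ℂ) := by
  haveI : Invertible (Nat.card G : ℂ) := invertibleOfNonzero card_ne_zero
  rw [← Representation.card_inv_mul_sum_char_eq_finrank]
  simp [classInner]

/-- If the invariants of `ρ` are one-dimensional, spanned by an eigenvector of `A` for the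
eigenvalue `d`, the principal contribution to the trace is `d`. -/
theorem principal_part (h1 : classInner ρ.character (fun _ => 1) = 1) {v₀ : V} (hv₀ : v₀ ≠ 0)
    (hinv : ∀ g : G, ρ g v₀ = v₀) {d : ℂ} (hd : A v₀ = d • v₀) :
    ∑ μ ∈ (finite_ne_bot A).toFinset,
      μ * classInner (eigRep ρ A hA μ).character (fun _ => 1) = d := by
  classical
  letI := irrFintype (G := G)
  have hmem : v₀ ∈ A.maxGenEigenspace d :=
    Module.End.eigenspace_le_maxGenEigenspace (Module.End.mem_eigenspace_iff.mpr hd)
  have hdS : d ∈ (finite_ne_bot A).toFinset := by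
    rw [Set.Finite.mem_toFinset, Set.mem_ofPred_eq]
    intro hbot
    rw [hbot, Submodule.mem_bot] at hmem
    exact hv₀ hmem
  have h2 : ∀ ν : ℂ, ∃ n : ℕ, classInner (eigRep ρ A hA ν).character (fun _ => 1) = n := fun ν =>
    classInner_char_nat (isCharacter_of_rep _) isCharacter_one
  choose n hn using h2
  have hsum : ∑ ν ∈ (finite_ne_bot A).toFinset, n ν = 1 := by
    have h3 : ρ.character = ∑ ν ∈ (finite_ne_bot A).toFinset, (eigRep ρ A hA ν).character := by
      funext g
      rw [character_eq_sum ρ A hA g, Finset.sum_apply]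
    rw [h3, classInner_sum_left] at h1
    simp only [hn] at h1
    exact_mod_cast h1
  have hnd : 1 ≤ n d := by
    have h4 := classInner_one_eq_finrank (eigRep ρ A hA d)
    rw [hn] at h4
    have h5 : 0 < finrank ℂ (eigRep ρ A hA d).invariants := by
      rw [Module.finrank_pos_iff (R := ℂ)]
      refine ⟨⟨⟨⟨v₀, hmem⟩, ?_⟩, 0, ?_⟩⟩
      · intro g
        apply Subtype.ext
        rw [eigRep_apply]
        exact hinv g
      · intro h
        apply hv₀
        have := congrArg (fun x : (eigRep ρ A hA d).invariants => ((x : A.maxGenEigenspace d) : V)) h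
        simpa using this
    have : (0 : ℕ) < n d := by
      have : (n d : ℂ) = (finrank ℂ (eigRep ρ A hA d).invariants : ℂ) := h4
      have h6 : n d = finrank ℂ (eigRep ρ A hA d).invariants := by exact_mod_cast this
      omega
    omega
  have hsplit := Finset.add_sum_erase (finite_ne_bot A).toFinset n hdS
  have hrest : ∑ ν ∈ (finite_ne_bot A).toFinset.erase d, n ν = 0 := by omega
  have hnd1 : n d = 1 := by omega
  have hzero : ∀ ν ∈ (finite_ne_bot A).toFinset.erase d, n ν = 0 :=
    Finset.sum_eq_zero_iff.mp hrest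
  simp only [hn]
  rw [← Finset.add_sum_erase _ _ hdS, hnd1, Finset.sum_eq_zero (fun ν hν => by rw [hzero ν hν]; simp)]
  simp

end Principal

end Cfsg.Agent.Helper22.PermCent
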