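import Mathlib
import Cfsg.Agent.Lib.Helper22.BG13G
import Cfsg.Agent.Lib.Helper23.BG10C
import Cfsg.Agent.Lib.Helper1.CoprimeAbelian
import Cfsg.Agent.Lib.Helper1.CyclicCriterion

/-!
# Bender-Glauberman section 13, part F (helper22): Theorem 13.4 (the statement of S1426)
-/

set_option autoImplicit false

namespace Cfsg.Agent.Helper22.BG13

open Cfsg Subgroup
open scoped commutatorElement
open Cfsg.Agent.Helper14.BGTrans Cfsg.Agent.Helper14.BGUniq
open Cfsg.Agent.Helper10 (IsPiNum)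
open Cfsg.Agent.Helper15 (IsSylowIn isSylowIn_of_sylow_le isSylowIn_map_subtype isSylowIn_top
  map_conj_eq_of_mem_normalizer map_conj_map_conj card_map_conj map_conj_one
  map_conj_map_conj_inv map_conj_inv_map_conj isPGroup_map_conj map_conj_mono
  map_conj_eq_self_of_mem exists_isSylowIn_ge exists_isSylowIn isSylowIn_of_not_dvd_relIndex)

universe u

section typelevel

variable {Mt : Type u} [Group Mt]

theorem map_commutator_le {Q : Type*} [Group Q] (f : Mt →* Q) :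
    (commutator Mt).map f ≤ commutator Q := by
  rw [_root_.commutator_def, Subgroup.map_commutator, _root_.commutator_def]
  exact Subgroup.commutator_mono le_top le_top

/-- if `M = E N` with `E ∩ N = 1`, `N` normal and `N ≤ M'`, then `N = [N, M]` -/
theorem le_commutator_top_of_compl (N E : Subgroup Mt) [hNn : N.Normal]
    (hfac : ∀ m : Mt, ∃ a ∈ E, ∃ b ∈ N, m = a * b) (hinf : E ⊓ N = ⊥)
    (hN : N ≤ commutator Mt) : N ≤ ⁅N, (⊤ : Subgroup Mt)⁆ := by
  have hJN : ⁅N, (⊤ : Subgroup Mt)⁆ ≤ N := Subgroup.commutator_le_left N ⊤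
  have hAB : ∀ a ∈ E.map (QuotientGroup.mk' ⁅N, (⊤ : Subgroup Mt)⁆),
      ∀ b ∈ N.map (QuotientGroup.mk' ⁅N, (⊤ : Subgroup Mt)⁆), a * b = b * a := by
    rintro _ ⟨e, he, rfl⟩ _ ⟨n, hn, rfl⟩
    rw [← map_mul, ← map_mul]
    apply (QuotientGroup.eq).mpr
    have : (e * n)⁻¹ * (n * e) = ⁅n⁻¹, e⁻¹⁆ := by rw [commutatorElement_def]; group
    rw [this]
    exact Subgroup.commutator_mem_commutator (N.inv_mem hn) (Subgroup.mem_top _)
  have hB : ∀ b ∈ N.map (QuotientGroup.mk' ⁅N, (⊤ : Subgroup Mt)⁆),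
      ∀ b' ∈ N.map (QuotientGroup.mk' ⁅N, (⊤ : Subgroup Mt)⁆), b * b' = b' * b := by
    rintro _ ⟨n, hn, rfl⟩ _ ⟨n', hn', rfl⟩
    rw [← map_mul, ← map_mul]
    apply (QuotientGroup.eq).mpr
    have : (n * n')⁻¹ * (n' * n) = ⁅n'⁻¹, n⁻¹⁆ := by rw [commutatorElement_def]; group
    rw [this]
    exact Subgroup.commutator_mem_commutator (N.inv_mem hn') (Subgroup.mem_top _)
  have h1 := commutator_sup_le_of_commute hAB hB
  have htop : E.map (QuotientGroup.mk' ⁅N, (⊤ : Subgroup Mt)⁆) ⊔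
      N.map (QuotientGroup.mk' ⁅N, (⊤ : Subgroup Mt)⁆) = ⊤ := by
    rw [← Subgroup.map_sup, eq_top_iff]
    intro x _
    obtain ⟨m, rfl⟩ := QuotientGroup.mk'_surjective ⁅N, (⊤ : Subgroup Mt)⁆ x
    obtain ⟨a, ha, b, hb, rfl⟩ := hfac m
    exact Subgroup.mem_map_of_mem _
      (Subgroup.mul_mem _ (Subgroup.mem_sup_left ha) (Subgroup.mem_sup_right hb))
  rw [htop, ← _root_.commutator_def] at h1
  intro n hn
  have h2 : (QuotientGroup.mk' ⁅N, (⊤ : Subgroup Mt)⁆) n ∈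
      commutator (Mt ⧸ ⁅N, (⊤ : Subgroup Mt)⁆) :=
    map_commutator_le _ (Subgroup.mem_map_of_mem _ (hN hn))
  have h3 : (QuotientGroup.mk' ⁅N, (⊤ : Subgroup Mt)⁆) n ∈
      E.map (QuotientGroup.mk' ⁅N, (⊤ : Subgroup Mt)⁆) := commutator_self_le _ (h1 h2)
  obtain ⟨e, he, hen⟩ := h3
  have h4 : e⁻¹ * n ∈ ⁅N, (⊤ : Subgroup Mt)⁆ := QuotientGroup.eq.mp hen
  have h5 : e ∈ N := by
    have : e = n * (e⁻¹ * n)⁻¹ := by group
    rw [this]; exact N.mul_mem hn (N.inv_mem (hJN h4))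
  have h6 : e = 1 := by
    have : e ∈ E ⊓ N := ⟨he, h5⟩
    rw [hinf] at this; exact Subgroup.mem_bot.mp this
  rw [h6, inv_one, one_mul] at h4
  exact h4

theorem commutator_top_le_of_compl (N E : Subgroup Mt) [hNn : N.Normal]
    (hfac : ∀ m : Mt, ∃ a ∈ E, ∃ b ∈ N, m = a * b) :
    ⁅N, (⊤ : Subgroup Mt)⁆ ≤ ⁅N, N⁆ ⊔ ⁅N, E⁆ := by
  rw [Subgroup.commutator_le]
  intro n hn m _
  obtain ⟨e, he, n', hn', rfl⟩ := hfac m
  have h1 : ⁅n, e * n'⁆ = ⁅n, e⁆ * (e * ⁅n, n'⁆ * e⁻¹) := by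
    simp only [commutatorElement_def]; group
  rw [h1]
  refine Subgroup.mul_mem _ (Subgroup.mem_sup_right (Subgroup.commutator_mem_commutator hn he))
    (Subgroup.mem_sup_left ?_)
  have hn2 : (⁅N, N⁆ : Subgroup Mt).Normal := inferInstance
  exact hn2.conj_mem _ (Subgroup.commutator_mem_commutator hn hn') e

/-- a solvable group `N` with `N = N' K`, `K` normal in `N`, equals `K` -/
theorem le_of_le_commutator_sup {N K : Subgroup Mt} (hsolv : Group.IsSolvable ↥N) (hKN : K ≤ N)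
    (hNK : N ≤ normalizer (K : Set Mt)) (h : N ≤ ⁅N, N⁆ ⊔ K) : N ≤ K := by
  have hKn : (K.subgroupOf N).Normal :=
    (Subgroup.normal_subgroupOf_iff_le_normalizer hKN).mpr hNK
  by_contra hne
  have hne' : K.subgroupOf N ≠ ⊤ := fun h' => hne (Subgroup.subgroupOf_eq_top.mp h')
  have hnt : Nontrivial (↥N ⧸ K.subgroupOf N) := by
    by_contra hnt
    rw [not_nontrivial_iff_subsingleton] at hnt
    exact hne' (QuotientGroup.subgroup_eq_top_of_subsingleton _ hnt)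
  have hlt := Group.IsSolvable.commutator_lt_top_of_nontrivial (↥N ⧸ K.subgroupOf N)
  have h1 : (⁅N, N⁆ ⊔ K).subgroupOf N = ⊤ := Subgroup.subgroupOf_eq_top.mpr h
  rw [Subgroup.subgroupOf_sup (commutator_self_le N) hKN] at h1
  have h2 : (⁅N, N⁆).subgroupOf N = commutator ↥N := by
    rw [← Subgroup.map_subtype_commutator]
    exact Subgroup.comap_map_eq_self_of_injective N.subtype_injective _
  rw [h2] at h1
  have h3 := congrArg (Subgroup.map (QuotientGroup.mk' (K.subgroupOf N))) h1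
  rw [Subgroup.map_sup, QuotientGroup.map_mk'_self, sup_bot_eq,
    Subgroup.map_top_of_surjective _ (QuotientGroup.mk'_surjective _)] at h3
  have h4 := map_commutator_le (QuotientGroup.mk' (K.subgroupOf N))
  rw [h3] at h4
  exact hlt.ne (top_le_iff.mp h4)

/-- BG 13.4(b), abstractly -/
theorem commutator_eq_of_compl (N E : Subgroup Mt) [hNn : N.Normal]
    (hsolv : Group.IsSolvable ↥N)
    (hfac : ∀ m : Mt, ∃ a ∈ E, ∃ b ∈ N, m = a * b) (hinf : E ⊓ N = ⊥)
    (hN : N ≤ commutator Mt) : ⁅N, E⁆ = N := by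
  apply le_antisymm (Subgroup.commutator_le_left N E)
  apply le_of_le_commutator_sup hsolv (Subgroup.commutator_le_left N E)
    (Cfsg.Agent.Helper1.le_normalizer_commutator_left N E)
  exact (le_commutator_top_of_compl N E hfac hinf hN).trans
    (commutator_top_le_of_compl N E hfac)

/-- BG 13.4(a), abstractly -/
theorem inf_centralizer_le_commutator [Finite Mt] (N E : Subgroup Mt) [hNn : N.Normal]
    (hcop : (Nat.card ↥E).Coprime (Nat.card ↥N)) (hb : ⁅N, E⁆ = N) :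
    N ⊓ centralizer (E : Set Mt) ≤ ⁅N, N⁆ := by
  have hVc : IsMulCommutative ↥(N.map (QuotientGroup.mk' ⁅N, N⁆)) := by
    rw [← Subgroup.le_centralizer_iff_isMulCommutative]
    rintro _ ⟨n, hn, rfl⟩
    rw [Subgroup.mem_centralizer_iff]
    rintro _ ⟨n', hn', rfl⟩
    rw [← map_mul, ← map_mul]
    apply (QuotientGroup.eq).mpr
    have : (n' * n)⁻¹ * (n * n') = ⁅n⁻¹, n'⁻¹⁆ := by rw [commutatorElement_def]; group
    rw [this]
    exact Subgroup.commutator_mem_commutator (N.inv_mem hn) (N.inv_mem hn')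
  have hVn : (N.map (QuotientGroup.mk' ⁅N, N⁆)).Normal :=
    Subgroup.Normal.map hNn _ (QuotientGroup.mk'_surjective _)
  have hAV : E.map (QuotientGroup.mk' ⁅N, N⁆) ≤
      normalizer ((N.map (QuotientGroup.mk' ⁅N, N⁆) : Subgroup (Mt ⧸ ⁅N, N⁆)) : Set (Mt ⧸ ⁅N, N⁆)) := by
    rw [Subgroup.normalizer_eq_top_iff.mpr hVn]; exact le_top
  have hcop' : (Nat.card ↥(E.map (QuotientGroup.mk' ⁅N, N⁆))).Coprime
      (Nat.card ↥(N.map (QuotientGroup.mk' ⁅N, N⁆))) :=
    Nat.Coprime.coprime_dvd_left (Subgroup.card_map_dvd E _)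
      (Nat.Coprime.coprime_dvd_right (Subgroup.card_map_dvd N _) hcop)
  have h1 := Cfsg.Agent.Helper1.commutator_inf_centralizer_eq_bot _ _ hAV hcop'
  have h2 : ⁅N.map (QuotientGroup.mk' ⁅N, N⁆), E.map (QuotientGroup.mk' ⁅N, N⁆)⁆ =
      N.map (QuotientGroup.mk' ⁅N, N⁆) := by
    rw [← Subgroup.map_commutator, hb]
  rw [h2] at h1
  intro c hc
  have h3 : (QuotientGroup.mk' ⁅N, N⁆) c ∈ N.map (QuotientGroup.mk' ⁅N, N⁆) ⊓
      centralizer ((E.map (QuotientGroup.mk' ⁅N, N⁆) : Subgroup (Mt ⧸ ⁅N, N⁆)) : Set (Mt ⧸ ⁅N, N⁆)) := by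
    refine ⟨Subgroup.mem_map_of_mem _ hc.1, ?_⟩
    apply Subgroup.mem_centralizer_iff.mpr
    rintro _ ⟨e, he, rfl⟩
    rw [← map_mul, ← map_mul, (Subgroup.mem_centralizer_iff.mp hc.2) e he]
  rw [h1, Subgroup.mem_bot] at h3
  exact (QuotientGroup.eq_one_iff c).mp h3

end typelevel

section main

variable {G : Type u} [Group G] [Finite G]

open Cfsg.Agent.Helper23.BG10 (isElementaryAbelian_of_card_eq)

/-- a subgroup lies in `L` as soon as all its Sylow subgroups do -/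
theorem le_of_forall_sylow_le {N L : Subgroup G}
    (h : ∀ (r : ℕ) [Fact r.Prime] (R : Subgroup G), IsSylowIn r R N → R ≤ L) : N ≤ L := by
  have h1 : (N ⊓ L).relIndex N = 1 := by
    by_contra hne
    obtain ⟨r, hr, hrd⟩ := Nat.exists_prime_and_dvd hne
    have : Fact r.Prime := ⟨hr⟩
    obtain ⟨R, hR⟩ := exists_isSylowIn (p := r) N
    have hRL : R ≤ N ⊓ L := le_inf hR.le (h r R hR)
    have h2 : (N ⊓ L).relIndex N ∣ R.relIndex N :=
      Dvd.intro_left _ (Subgroup.relIndex_mul_relIndex R (N ⊓ L) N hRL inf_le_left)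
    exact hR.not_dvd_relIndex (hrd.trans h2)
  exact (Subgroup.relIndex_eq_one.mp h1).trans inf_le_right

/-- Sylow subgroups of `M_σ` are Sylow subgroups of `M` -/
theorem isSylowIn_of_isSylowIn_sigmaCore (h1350 : Hyp1350 G) {M : Subgroup G} (hM : IsCoatom M)
    {r : ℕ} [Fact r.Prime] (hrσ : r ∈ sigma M) {R : Subgroup G}
    (hR : IsSylowIn r R (sigmaCore M)) : IsSylowIn r R M := by
  obtain ⟨R₁, hRR₁, hR₁⟩ := exists_isSylowIn_ge hR.isPGroup (hR.le.trans (sigmaCore_le M))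
  have hR₁σ : R₁ ≤ sigmaCore M :=
    le_sigmaCore_of_isPiNum h1350 hM hR₁.le (isPiNum_of_isPGroup hrσ hR₁.isPGroup)
  have hRR : R₁ = R := hR.eq_of_le hR₁.isPGroup hRR₁ hR₁σ
  rw [hRR] at hR₁
  exact hR₁

/-- `M_σ ≤ M'` -/
theorem sigmaCore_le_commutator (hG : IsMinSimpleOddOrder G) (h1404 : Hyp1404 G)
    (h1350 : Hyp1350 G) {M : Subgroup G} (hM : IsCoatom M) : sigmaCore M ≤ ⁅M, M⁆ := by
  apply le_of_forall_sylow_le
  intro r _ R hR
  by_cases hR1 : R = ⊥
  · rw [hR1]; exact bot_le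
  · have hrd : r ∣ Nat.card ↥(sigmaCore M) :=
      (dvd_card_of_isPGroup_ne_bot hR.isPGroup hR1).trans (Subgroup.card_dvd_of_le hR.le)
    have hrσ : r ∈ sigma M := isPiNum_card_sigmaCore M r Fact.out hrd
    have hRM := isSylowIn_of_isSylowIn_sigmaCore h1350 hM hrσ hR
    exact Cfsg.Agent.Helper23.BG10.sylow_le_commutator hG h1404 hM hrσ hRM.le
      (isSylowIn_top_of_mem_sigma hrσ hRM)

/-- **BG 13.4(a),(b)** -/
theorem sigmaCore_compl_action (hG : IsMinSimpleOddOrder G) (h1404 : Hyp1404 G)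
    (h1350 : Hyp1350 G) {M : Subgroup G} (hM : IsCoatom M) {E : Subgroup G}
    (hE : IsComplIn E (sigmaCore M) M) :
    sigmaCore M ⊓ centralizer (E : Set G) ≤ ⁅sigmaCore M, sigmaCore M⁆ ∧
      ⁅sigmaCore M, E⁆ = sigmaCore M := by
  obtain ⟨hEM, hσM, hinf, hfac⟩ := hE
  have hσdef : sigmaCore M = (piCore (sigma M) ↥M).map M.subtype := rfl
  have hEdef : (E.subgroupOf M).map M.subtype = E := Subgroup.map_subgroupOf_eq_of_le hEM
  have hsolvM : Group.IsSolvable ↥M := hG.2.2.2 M hM.1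
  have hsolv : Group.IsSolvable ↥(piCore (sigma M) ↥M) := inferInstance
  have hfac₀ : ∀ m : ↥M, ∃ a ∈ E.subgroupOf M, ∃ b ∈ piCore (sigma M) ↥M, m = a * b := by
    intro m
    obtain ⟨a, ha, b, hb, hm⟩ := hfac m.1 m.2
    rw [hσdef] at hb
    obtain ⟨b₀, hb₀, hbb⟩ := hb
    refine ⟨⟨a, hEM ha⟩, Subgroup.mem_subgroupOf.mpr ha, b₀, hb₀, ?_⟩
    apply Subtype.ext
    rw [Subgroup.coe_mul, hm, ← hbb]
    rfl
  have hinf₀ : E.subgroupOf M ⊓ piCore (sigma M) ↥M = ⊥ := by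
    rw [eq_bot_iff]
    intro x hx
    have h1 : (x : G) ∈ E ⊓ sigmaCore M :=
      ⟨Subgroup.mem_subgroupOf.mp hx.1, Subgroup.mem_map_of_mem M.subtype hx.2⟩
    rw [hinf, Subgroup.mem_bot] at h1
    rw [Subgroup.mem_bot]
    exact Subtype.ext h1
  have hN₀ : piCore (sigma M) ↥M ≤ commutator ↥M := by
    intro x hx
    have h1 : (x : G) ∈ ⁅M, M⁆ :=
      sigmaCore_le_commutator hG h1404 h1350 hM (Subgroup.mem_map_of_mem M.subtype hx)
    rw [commutator_eq_map_subtype] at h1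
    obtain ⟨y, hy, hyx⟩ := h1
    have : y = x := Subtype.ext hyx
    rwa [← this]
  have hcop₀ : (Nat.card ↥(E.subgroupOf M)).Coprime (Nat.card ↥(piCore (sigma M) ↥M)) := by
    have h1 : (piCore (sigma M) ↥M).relIndex (E.subgroupOf M) = Nat.card ↥(E.subgroupOf M) := by
      rw [← Subgroup.inf_relIndex_right, inf_comm, hinf₀, Subgroup.relIndex_bot_left]
    have h2 : Nat.card ↥(E.subgroupOf M) ∣ (piCore (sigma M) ↥M).index := by
      rw [← h1]; exact Subgroup.relIndex_dvd_index_of_normal _ _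
    have h3 := coprime_of_isPiHallOf (h1350 M hM).1
    have h4 : (sigmaCore M).relIndex M = (piCore (sigma M) ↥M).index := by
      unfold Subgroup.relIndex
      congr 1
      rw [hσdef]
      exact Subgroup.comap_map_eq_self_of_injective M.subtype_injective _
    have h5 : Nat.card ↥(sigmaCore M) = Nat.card ↥(piCore (sigma M) ↥M) :=
      Subgroup.card_map_of_injective M.subtype_injective
    rw [h4, h5] at h3
    exact (Nat.Coprime.coprime_dvd_right h2 h3).symm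
  have hb := commutator_eq_of_compl (piCore (sigma M) ↥M) (E.subgroupOf M) hsolv hfac₀ hinf₀ hN₀
  have ha := inf_centralizer_le_commutator (piCore (sigma M) ↥M) (E.subgroupOf M) hcop₀ hb
  refine ⟨?_, ?_⟩
  · intro x hx
    have hx1 := hx.1
    rw [hσdef] at hx1
    obtain ⟨x₀, hx₀, rfl⟩ := hx1
    have h1 : x₀ ∈ centralizer ((E.subgroupOf M : Subgroup ↥M) : Set ↥M) := by
      apply Subgroup.mem_centralizer_iff.mpr
      intro e he
      apply Subtype.ext
      exact (Subgroup.mem_centralizer_iff.mp hx.2) (e : G) (Subgroup.mem_subgroupOf.mp he)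
    have h2 := ha ⟨hx₀, h1⟩
    have h3 := Subgroup.mem_map_of_mem M.subtype h2
    rw [Subgroup.map_commutator] at h3
    exact h3
  · have h1 := congrArg (Subgroup.map M.subtype) hb
    rw [Subgroup.map_commutator, hEdef] at h1
    exact h1

/-- a nontrivial `p`-subgroup of `M_σ ∩ M^g`, `g ∉ M`, cannot have its centralizer in `M` -/
theorem conj_key (h1404 : Hyp1404 G) {M : Subgroup G} (hM : IsCoatom M) {g : G} (hg : g ∉ M)
    {p : ℕ} [Fact p.Prime] {X : Subgroup G} (hXp : IsPGroup p ↥X) (hX1 : X ≠ ⊥)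
    (hXD : X ≤ sigmaCore M ⊓ M.map (MulAut.conj g).toMonoidHom)
    (hC : centralizer (X : Set G) ≤ M) : False := by
  have hpσ : p ∈ sigma M := isPiNum_card_sigmaCore M p Fact.out
    ((dvd_card_of_isPGroup_ne_bot hXp hX1).trans
      (Subgroup.card_dvd_of_le (hXD.trans inf_le_left)))
  have hXM : X ≤ M := (hXD.trans inf_le_left).trans (sigmaCore_le M)
  have h1 : X.map (MulAut.conj g⁻¹).toMonoidHom ≤ M := by
    have := map_conj_mono (hXD.trans inf_le_right) g⁻¹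
    rwa [map_conj_inv_map_conj] at this
  obtain ⟨m, hm, c, hc, hgmc⟩ := (h1404 M hM p hpσ X hXp hX1 hXM).1 g⁻¹ h1
  apply hg
  have : g = (m * c)⁻¹ := by rw [← hgmc, inv_inv]
  rw [this]; exact M.inv_mem (M.mul_mem hm (hC hc))

/-- **BG 13.4(c)** -/
theorem inter_conj (hG : IsMinSimpleOddOrder G) (h1403 : Hyp1403 G) (h1350 : Hyp1350 G)
    (h1404 : Hyp1404 G) (h1412 : Hyp1412 G) (h1414 : Hyp1414 G) (h1416 : Hyp1416 G)
    (h1417 : Hyp1417 G) {M : Subgroup G} (hM : IsCoatom M) {g : G} (hg : g ∉ M) :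
    IsCyclic ↥(sigmaCore M ⊓ M.map (MulAut.conj g).toMonoidHom) ∧
      (∀ p : ℕ, p.Prime → p ∣ Nat.card ↥(sigmaCore M ⊓ M.map (MulAut.conj g).toMonoidHom) →
        p ∉ beta M) ∧
      sigmaCore M ⊓ M.map (MulAut.conj g).toMonoidHom ⊓ ⁅sigmaCore M, sigmaCore M⁆ = ⊥ := by
  set D := sigmaCore M ⊓ M.map (MulAut.conj g).toMonoidHom with hD
  have key13 : ∀ (p : ℕ) [Fact p.Prime] (X : Subgroup G), Nat.card ↥X = p → X ≤ D →
      (p ∈ beta M ∨ X ≤ ⁅sigmaCore M, sigmaCore M⁆) → False := by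
    intro p _ X hX hXD h
    have hXp : IsPGroup p ↥X := IsPGroup.of_card (n := 1) (by rw [hX, pow_one])
    have hX1 : X ≠ ⊥ := card_prime_ne_bot hX
    have hpσ : p ∈ sigma M := isPiNum_card_sigmaCore M p Fact.out
      ((dvd_card_of_isPGroup_ne_bot hXp hX1).trans
        (Subgroup.card_dvd_of_le (hXD.trans inf_le_left)))
    have hXM : X ≤ M := (hXD.trans inf_le_left).trans (sigmaCore_le M)
    obtain ⟨P⟩ : Nonempty (Sylow p ↥(sigmaCore M)) := inferInstance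
    have h1 := (theorem_13_1' hG h1403 h1350 h1412 h1414 h1416 h1417 M hM p hpσ X hXM hX P h).1.1
    exact conj_key h1404 hM hg hXp hX1 hXD h1
  have hcyc_elt : ∀ (p : ℕ) [Fact p.Prime] (K : Subgroup G), K ≤ D → p ∣ Nat.card ↥K →
      ∃ X : Subgroup G, Nat.card ↥X = p ∧ X ≤ K := by
    intro p _ K _ hpd
    obtain ⟨x, hx⟩ := exists_prime_orderOf_dvd_card' (G := ↥K) p hpd
    refine ⟨zpowers (x : G), ?_, ?_⟩
    · rw [Nat.card_zpowers, Subgroup.orderOf_coe, hx]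
    · rw [Subgroup.zpowers_le]; exact x.2
  have h2 : ∀ p : ℕ, p.Prime → p ∣ Nat.card ↥D → p ∉ beta M := by
    intro p hp hpd hβ
    have : Fact p.Prime := ⟨hp⟩
    obtain ⟨X, hX, hXD⟩ := hcyc_elt p D le_rfl hpd
    exact key13 p X hX hXD (Or.inl hβ)
  have h3 : D ⊓ ⁅sigmaCore M, sigmaCore M⁆ = ⊥ := by
    by_contra hne
    have hc1 : Nat.card ↥(D ⊓ ⁅sigmaCore M, sigmaCore M⁆ : Subgroup G) ≠ 1 :=
      fun h => hne (Subgroup.card_eq_one.mp h)
    obtain ⟨p, hp, hpd⟩ := Nat.exists_prime_and_dvd hc1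
    have : Fact p.Prime := ⟨hp⟩
    obtain ⟨X, hX, hXK⟩ := hcyc_elt p _ inf_le_left hpd
    exact key13 p X hX (hXK.trans inf_le_left) (Or.inr (hXK.trans inf_le_right))
  refine ⟨?_, h2, h3⟩
  -- `D` is abelian
  have hDD : ⁅D, D⁆ = ⊥ := by
    rw [eq_bot_iff, ← h3]
    exact le_inf (commutator_self_le D) (Subgroup.commutator_mono inf_le_left inf_le_left)
  have hDc : D ≤ centralizer (D : Set G) := Subgroup.commutator_eq_bot_iff_le_centralizer.mp hDD
  have hcomm : ∀ a b : ↥D, a * b = b * a := by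
    intro a b
    apply Subtype.ext
    exact ((Subgroup.mem_centralizer_iff.mp (hDc b.2)) a a.2)
  apply Cfsg.Agent.Helper1.isCyclic_of_comm_of_unique hcomm
  intro r hr x y hx hy
  have : Fact r.Prime := ⟨hr⟩
  by_contra hyx
  have hXc : Nat.card ↥(zpowers (x : G)) = r := by
    rw [Nat.card_zpowers, Subgroup.orderOf_coe, hx]
  have hyr : (y : G) ^ r = 1 := by
    rw [← hy, ← Subgroup.orderOf_coe]; exact pow_orderOf_eq_one _
  have hyC : (y : G) ∈ centralizer ((zpowers (x : G) : Subgroup G) : Set G) := by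
    have h1 : zpowers (x : G) ≤ D := by rw [Subgroup.zpowers_le]; exact x.2
    exact Subgroup.centralizer_le h1 (hDc y.2)
  have hyX : (y : G) ∉ zpowers (x : G) := by
    intro h
    apply hyx
    obtain ⟨k, hk⟩ := Subgroup.mem_zpowers_iff.mp h
    apply Subgroup.mem_zpowers_iff.mpr
    refine ⟨k, Subtype.ext ?_⟩
    rw [Subgroup.coe_zpow]; exact hk
  obtain ⟨hAe, hAc⟩ := card_sup_zpowers_eq_sq hXc hyC hyr hyX
  have hAD : zpowers (x : G) ⊔ zpowers (y : G) ≤ D :=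
    sup_le (by rw [Subgroup.zpowers_le]; exact x.2) (by rw [Subgroup.zpowers_le]; exact y.2)
  have hAM : zpowers (x : G) ⊔ zpowers (y : G) ≤ M :=
    (hAD.trans inf_le_left).trans (sigmaCore_le M)
  have hCA := (h1416 M hM r _ ⟨hAM, hAe, hAc⟩).1
  have hA1 : zpowers (x : G) ⊔ zpowers (y : G) ≠ ⊥ := by
    intro h
    rw [h, Subgroup.card_bot] at hAc
    have := Nat.one_lt_pow (n := 2) (by norm_num) hr.one_lt
    omega
  exact conj_key h1404 hM hg (isPGroup_of_isElementaryAbelian hAe) hA1 hAD hCA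

/-- **BG Theorem 13.4** (the statement of S1426) from the earlier results -/
theorem theorem_13_4 (hG : IsMinSimpleOddOrder G) (h1403 : Hyp1403 G) (h1350 : Hyp1350 G)
    (h1404 : Hyp1404 G) (h1412 : Hyp1412 G) (h1414 : Hyp1414 G) (h1416 : Hyp1416 G)
    (h1417 : Hyp1417 G) (M : Subgroup G) (hM : IsCoatom M) (E : Subgroup G)
    (hE : IsComplIn E (sigmaCore M) M) :
    sigmaCore M ⊓ centralizer (E : Set G) ≤ ⁅sigmaCore M, sigmaCore M⁆ ∧
      ⁅sigmaCore M, E⁆ = sigmaCore M ∧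
      ∀ g : G, g ∉ M → IsCyclic ↥(sigmaCore M ⊓ M.map (MulAut.conj g).toMonoidHom) ∧
        (∀ p : ℕ, p.Prime →
          p ∣ Nat.card ↥(sigmaCore M ⊓ M.map (MulAut.conj g).toMonoidHom) → p ∉ beta M) ∧
        sigmaCore M ⊓ M.map (MulAut.conj g).toMonoidHom ⊓ ⁅sigmaCore M, sigmaCore M⁆ = ⊥ := by
  obtain ⟨ha, hb⟩ := sigmaCore_compl_action hG h1404 h1350 hM hE
  exact ⟨ha, hb, fun g hg => inter_conj hG h1403 h1350 h1404 h1412 h1414 h1416 h1417 hM hg⟩

end main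

end Cfsg.Agent.Helper22.BG13
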