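import Mathlib
import Cfsg.Agent.Lib.Helper22.BG127B
import Cfsg.Agent.Lib.Helper22.BG13F
import Cfsg.Agent.Lib.Helper16.PGroup2
import Cfsg.Agent.Lib.Helper21.BG143D

/-!
# Bender-Glauberman Corollary 12.7, part C (helper22): the set-up and `τ₂(M) = {p}`
-/

set_option autoImplicit false

namespace Cfsg.Agent.Helper22.BG127

open Cfsg Subgroup
open Cfsg.Agent.Helper22.BG13
open Cfsg.Agent.Helper14.BGTrans Cfsg.Agent.Helper14.BGUniq
open Cfsg.Agent.Helper10 (IsPiNum)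
open Cfsg.Agent.Helper15 (IsSylowIn exists_isSylowIn_ge exists_isSylowIn
  isSylowIn_of_not_dvd_relIndex)

universe u

variable {G : Type u} [Group G] [Finite G]

/-- statement of S1408 (BG 10.7(a)) -/
def Hyp1408 (G : Type u) [Group G] : Prop :=
  ∀ (M : Subgroup G) (_ : IsCoatom M) (p : ℕ) [Fact p.Prime] (_ : p ∉ sigma M)
    (_ : PRankLE p 2 ↥M) (_ : ¬ PRankLE p 1 ↥M),
    ¬ IsIdealPrime p G ∧ ∀ A : Subgroup G, A ≤ M → IsElementaryAbelian p A →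
      Nat.card ↥A = p ^ 2 → ∀ B : Subgroup G, IsElementaryAbelian p B → A ≤ B → B = A

/-- a central element of order `p` of a nontrivial `p`-subgroup -/
theorem exists_central_of_isPGroup {p : ℕ} [Fact p.Prime] {T : Subgroup G} (hT : IsPGroup p ↥T)
    (hT1 : T ≠ ⊥) : ∃ z ∈ T, z ≠ 1 ∧ z ^ p = 1 ∧ ∀ x ∈ T, x * z = z * x := by
  have hpp : p.Prime := Fact.out
  have : Nontrivial ↥T := (Subgroup.nontrivial_iff_ne_bot T).mpr hT1
  have hcn : Nontrivial ↥(center ↥T) := hT.center_nontrivial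
  have hpc : p ∣ Nat.card ↥(center ↥T) := by
    obtain ⟨k, hk⟩ := (hT.to_subgroup (center ↥T)).exists_card_eq
    have hk0 : k ≠ 0 := by
      rintro rfl
      rw [pow_zero] at hk
      have := Finite.one_lt_card_iff_nontrivial.mpr hcn
      omega
    rw [hk]
    exact dvd_pow_self p hk0
  obtain ⟨z₀, hz₀⟩ := exists_prime_orderOf_dvd_card' (G := ↥(center ↥T)) p hpc
  have hz₀o : orderOf ((z₀ : ↥T) : G) = p := by
    rw [Subgroup.orderOf_coe, Subgroup.orderOf_coe, hz₀]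
  refine ⟨((z₀ : ↥T) : G), (z₀ : ↥T).2, ?_, ?_, ?_⟩
  · intro h
    rw [h, orderOf_one] at hz₀o
    exact hpp.one_lt.ne hz₀o
  · rw [← hz₀o]; exact pow_orderOf_eq_one _
  · intro x hx
    have := Subgroup.mem_center_iff.mp z₀.2 ⟨x, hx⟩
    exact congrArg Subtype.val this

/-- **the set-up of BG 12.7**: a Sylow `p`-subgroup `S₀` of `M` over `A`, a Sylow `p`-subgroup
`T` of `G` over `S₀`, an element `t` of `N_T(A)` outside `M` and a central element `z` of order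
`p` of `T`, which lies in `A` -/
theorem exists_setup (h1416 : Hyp1416 G) (h1417 : Hyp1417 G)
    {M : Subgroup G} (hM : IsCoatom M) {p : ℕ} [Fact p.Prime] (hp : p ∈ tau2 M)
    (hS : ∀ S : Sylow p G, ¬ IsMulCommutative ↥(S : Subgroup G)) {A : Subgroup G}
    (hAM : A ≤ M) (hAe : IsElementaryAbelian p A) (hAc : Nat.card ↥A = p ^ 2) :
    ∃ (S₀ T : Subgroup G) (t z : G), IsSylowIn p S₀ M ∧ A ≤ S₀ ∧
      (∀ x ∈ S₀, x ^ p = 1 ↔ x ∈ A) ∧ (∀ x ∈ S₀, ∀ y ∈ S₀, x * y = y * x) ∧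
      IsSylowIn p T ⊤ ∧ S₀ ≤ T ∧ (∀ x ∈ T, x ∈ M → x ∈ S₀) ∧ ¬ IsMulCommutative ↥T ∧
      t ∈ T ∧ t ∉ M ∧ t ∈ normalizer (A : Set G) ∧
      z ∈ A ∧ z ≠ 1 ∧ ∀ x ∈ T, x * z = z * x := by
  have hpp : p.Prime := Fact.out
  have hAp : IsPGroup p ↥A := IsPGroup.of_card hAc
  obtain ⟨S₀, hAS₀, hS₀⟩ := exists_isSylowIn_ge hAp hAM
  obtain ⟨-, hsyl, -, -, -, -⟩ := h1417 M hM p hp A ⟨hAM, hAe, hAc⟩
  obtain ⟨hcomm₀, himp⟩ := hsyl hS₀.toSylow
  rw [hS₀.map_toSylow] at himp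
  obtain ⟨hΩ, -⟩ := himp hAS₀
  have hcomm : ∀ x ∈ S₀, ∀ y ∈ S₀, x * y = y * x := by
    intro x hx y hy
    have hx' : (⟨x, hS₀.le hx⟩ : ↥M) ∈ (hS₀.toSylow : Subgroup ↥M) := by
      rw [hS₀.coe_toSylow]; exact Subgroup.mem_subgroupOf.mpr hx
    have hy' : (⟨y, hS₀.le hy⟩ : ↥M) ∈ (hS₀.toSylow : Subgroup ↥M) := by
      rw [hS₀.coe_toSylow]; exact Subgroup.mem_subgroupOf.mpr hy
    have h1 := hcomm₀.is_comm.comm (⟨⟨x, hS₀.le hx⟩, hx'⟩ : ↥(hS₀.toSylow : Subgroup ↥M))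
      ⟨⟨y, hS₀.le hy⟩, hy'⟩
    have h2 := congrArg (fun w : ↥(hS₀.toSylow : Subgroup ↥M) => ((w : ↥M) : G)) h1
    exact h2
  obtain ⟨T, hS₀T, hT⟩ := exists_isSylowIn_ge hS₀.isPGroup (le_top : S₀ ≤ ⊤)
  have hTna : ¬ IsMulCommutative ↥T := hS hT.sylowOfTop
  have hTM : ∀ x ∈ T, x ∈ M → x ∈ S₀ := by
    intro x hxT hxM
    have h1 : T ⊓ M = S₀ :=
      hS₀.eq_of_le (hT.isPGroup.to_le inf_le_left) (le_inf hS₀T hS₀.le) inf_le_right
    rw [← h1]; exact ⟨hxT, hxM⟩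
  have hne : S₀ ≠ T := by
    intro h
    apply hTna
    refine ⟨⟨fun a b => Subtype.ext ?_⟩⟩
    exact hcomm a.1 (h ▸ a.2) b.1 (h ▸ b.2)
  obtain ⟨t, htT, htS₀, htn, -⟩ :=
    Cfsg.Agent.Helper16.exists_normalizing_not_mem T S₀ hT.isPGroup hS₀T hne
  have htM : t ∉ M := fun h => htS₀ (hTM t htT h)
  have htA : t ∈ normalizer (A : Set G) := by
    have : zpowers t ≤ normalizer (A : Set G) := by
      apply le_normalizer_of_forall_conj_mem
      intro e he a ha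
      obtain ⟨n, rfl⟩ := Subgroup.mem_zpowers_iff.mp he
      have hn : ∀ m : ℕ, ∀ a ∈ A, t ^ m * a * (t ^ m)⁻¹ ∈ A := by
        intro m
        induction m with
        | zero => intro a ha; simpa using ha
        | succ m ih =>
          intro a ha
          have h1 := ih a ha
          have h2 : t ^ (m + 1) * a * (t ^ (m + 1))⁻¹ = t * (t ^ m * a * (t ^ m)⁻¹) * t⁻¹ := by
            rw [pow_succ']; group
          rw [h2]
          have h3 : t * (t ^ m * a * (t ^ m)⁻¹) * t⁻¹ ∈ S₀ := htn _ (hAS₀ h1)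
          apply (hΩ _ h3).mp
          have h4 : (t * (t ^ m * a * (t ^ m)⁻¹) * t⁻¹) ^ p
              = t * (t ^ m * a * (t ^ m)⁻¹) ^ p * t⁻¹ := by
            rw [conj_pow]
          rw [h4, hAe.2 _ h1]; group
      -- integer powers via finite order
      have hfin : ∃ m : ℕ, t ^ n = t ^ m := by
        have h1 : t ^ n ∈ zpowers t := Subgroup.zpow_mem_zpowers t n
        obtain ⟨m, hm⟩ := mem_powers_iff_mem_zpowers.mpr h1
        exact ⟨m, hm.symm⟩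
      obtain ⟨m, hm⟩ := hfin
      rw [hm]
      exact hn m a ha
    exact this (Subgroup.mem_zpowers t)
  have hT1 : T ≠ ⊥ := by
    intro h
    apply hne
    rw [h] at hS₀T
    rw [h]
    exact le_bot_iff.mp hS₀T
  obtain ⟨z, hzT, hz1, hzp, hzc⟩ := exists_central_of_isPGroup hT.isPGroup hT1
  have hCAM : centralizer (A : Set G) ≤ M := (h1416 M hM p A ⟨hAM, hAe, hAc⟩).1
  have hzA : z ∈ A := by
    have hzM : z ∈ M := by
      apply hCAM
      apply Subgroup.mem_centralizer_iff.mpr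
      intro a ha
      exact hzc a (hS₀T (hAS₀ ha))
    exact (hΩ z (hTM z hzT hzM)).mp hzp
  exact ⟨S₀, T, t, z, hS₀, hAS₀, hΩ, hcomm, hT, hS₀T, hTM, hTna, htT, htM, htA, hzA, hz1, hzc⟩

end Cfsg.Agent.Helper22.BG127
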