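import Mathlib
import Cfsg.Agent.Lib.Helper10.EODefs

/-! EO-DVDB (S2264/S2265, helper10's farm-out): a self-reciprocal monic irreducible polynomial of
degree `≥ 2` over a finite field has even degree `2e` and divides `X^(q^e+1) - 1`. -/

set_option autoImplicit false
set_option linter.unusedVariables false

open Polynomial

namespace Cfsg.Agent.Helper10.EO

section poly
variable {F : Type*} [Field F]

/-- `star f = f` gives `reverse f = C (f.coeff 0) * f`. -/
theorem eo_dvdb_reverse_eq (f : F[X]) (hf0 : f.coeff 0 ≠ 0) (hstar : star f = f) :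
    f.reverse = C (f.coeff 0) * f := by
  have h : C (f.coeff 0) * star f = f.reverse := by
    unfold star
    rw [← mul_assoc, ← C_mul, mul_inv_cancel₀ hf0, C_1, one_mul]
  rw [← h, hstar]

/-- the inverse of a nonzero root of a self-reciprocal polynomial is a root. -/
theorem eo_dvdb_inv_root {K : Type*} [Field K] [Algebra F K] (f : F[X]) (hf0 : f.coeff 0 ≠ 0)
    (hstar : star f = f) (a : K) (ha0 : a ≠ 0) (ha : aeval a f = 0) : aeval a⁻¹ f = 0 := by
  have hrev := eo_dvdb_reverse_eq f hf0 hstar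
  let _inst : Invertible a := invertibleOfNonzero ha0
  have h1 : eval₂ (algebraMap F K) (⅟a) (reverse f) = 0 :=
    (eval₂_reverse_eq_zero_iff (algebraMap F K) a f).mpr (by rwa [aeval_def] at ha)
  rw [invOf_eq_inv, hrev, eval₂_mul, eval₂_C] at h1
  rcases mul_eq_zero.mp h1 with h | h
  · exact absurd ((map_eq_zero (algebraMap F K)).mp h) hf0
  · rwa [aeval_def]

/-- PIECE EO-DVDB. -/
theorem self_reciprocal_irreducible [Fintype F] (f : F[X]) (hf : f.Monic) (hirr : Irreducible f)
    (hf0 : f.coeff 0 ≠ 0) (hstar : star f = f) (hdeg : 2 ≤ f.natDegree) :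
    Even f.natDegree ∧ f ∣ X ^ (Fintype.card F ^ (f.natDegree / 2) + 1) - 1 := by
  classical
  have hfact : Fact (Irreducible f) := ⟨hirr⟩
  have hfinmod := hf.finite_adjoinRoot
  have hfinK : Finite (AdjoinRoot f) := Module.finite_of_finite F
  let pB := AdjoinRoot.powerBasis hirr.ne_zero
  have hfr : Module.finrank F (AdjoinRoot f) = f.natDegree := by
    rw [pB.finrank, AdjoinRoot.powerBasis_dim]
  have hmin : minpoly F (AdjoinRoot.root f) = f := by
    rw [AdjoinRoot.minpoly_root hirr.ne_zero, hf.leadingCoeff, inv_one, C_1, mul_one]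
  have hroot0 : aeval (AdjoinRoot.root f) f = 0 := by
    rw [AdjoinRoot.aeval_eq, AdjoinRoot.mk_self]
  have hα0 : AdjoinRoot.root f ≠ 0 := by
    intro h0
    rw [h0] at hroot0
    rw [← coeff_zero_eq_aeval_zero'] at hroot0
    exact hf0 ((map_eq_zero (algebraMap F (AdjoinRoot f))).mp hroot0)
  have hroot : aeval (AdjoinRoot.root f)⁻¹ f = 0 :=
    eo_dvdb_inv_root f hf0 hstar _ hα0 hroot0
  obtain ⟨σ, hσ⟩ := minpoly.exists_algEquiv_of_root' (K := F) (L := AdjoinRoot f)
    (x := (AdjoinRoot.root f)⁻¹) (y := AdjoinRoot.root f)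
    (Algebra.IsAlgebraic.isAlgebraic _) (by rw [hmin]; exact hroot)
  obtain ⟨⟨j, hj⟩, hjσ⟩ := (FiniteField.bijective_frobeniusAlgEquivOfAlgebraic_pow F (AdjoinRoot f)).2 σ
  simp only at hjσ
  rw [hfr] at hj
  -- `α ^ (q ^ j) = α⁻¹`
  have h1 : (AdjoinRoot.root f) ^ (Fintype.card F ^ j) = (AdjoinRoot.root f)⁻¹ := by
    rw [← hσ, ← hjσ, AlgEquiv.coe_pow, FiniteField.coe_frobeniusAlgEquivOfAlgebraic, pow_iterate]
  -- `j ≠ 0`
  have hj0 : j ≠ 0 := by
    intro h0
    rw [h0, pow_zero, pow_one] at h1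
    have h2 : (AdjoinRoot.root f) * (AdjoinRoot.root f) = 1 := by
      nth_rewrite 2 [h1]; exact mul_inv_cancel₀ hα0
    have h3 : (AdjoinRoot.root f - 1) * (AdjoinRoot.root f + 1) = 0 := by
      have : (AdjoinRoot.root f - 1) * (AdjoinRoot.root f + 1)
          = AdjoinRoot.root f * AdjoinRoot.root f - 1 := by ring
      rw [this, h2, sub_self]
    have hmem : AdjoinRoot.root f ∈ (algebraMap F (AdjoinRoot f)).range := by
      rcases mul_eq_zero.mp h3 with h | h
      · refine ⟨1, ?_⟩
        rw [map_one]; exact (sub_eq_zero.mp h).symm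
      · refine ⟨-1, ?_⟩
        rw [map_neg, map_one]; exact (eq_neg_of_add_eq_zero_left h).symm
    have := (minpoly.natDegree_eq_one_iff (A := F) (B := AdjoinRoot f)).mpr hmem
    rw [hmin] at this
    omega
  -- `Frob ^ (2 j) = 1`
  have h2 : (AdjoinRoot.root f) ^ (Fintype.card F ^ (2 * j)) = AdjoinRoot.root f := by
    rw [two_mul, pow_add, pow_mul, h1, inv_pow, h1, inv_inv]
  have hpow : (FiniteField.frobeniusAlgEquivOfAlgebraic F (AdjoinRoot f)) ^ (2 * j) = 1 := by
    apply AlgEquiv.coe_toAlgHom_injective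
    apply pB.algHom_ext
    simp only [AlgEquiv.coe_toAlgHom, AlgEquiv.coe_pow, AlgEquiv.one_apply,
      FiniteField.coe_frobeniusAlgEquivOfAlgebraic, pow_iterate]
    rw [AdjoinRoot.powerBasis_gen hirr.ne_zero]
    exact h2
  have hdvd : f.natDegree ∣ 2 * j := by
    rw [← hfr, ← FiniteField.orderOf_frobeniusAlgEquivOfAlgebraic]
    exact orderOf_dvd_of_pow_eq_one hpow
  have hn : f.natDegree = 2 * j := by
    obtain ⟨c, hc⟩ := hdvd
    have hcpos : 0 < c := by
      rcases Nat.eq_zero_or_pos c with h | h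
      · rw [h, mul_zero] at hc; omega
      · exact h
    have hc2 : c < 2 := by
      by_contra hge
      push Not at hge
      have : f.natDegree * 2 ≤ f.natDegree * c := Nat.mul_le_mul_left _ hge
      omega
    have hc1 : c = 1 := by omega
    rw [hc1, mul_one] at hc
    exact hc.symm
  refine ⟨⟨j, by omega⟩, ?_⟩
  have hhalf : f.natDegree / 2 = j := by omega
  rw [hhalf, ← hmin]
  apply minpoly.dvd
  rw [map_sub, map_pow, aeval_X, map_one, pow_succ, h1, inv_mul_cancel₀ hα0, sub_self]

end poly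

end Cfsg.Agent.Helper10.EO
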