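import Mathlib
import Cfsg.Agent.Lib.Helper10.PCDefs
import Cfsg.Agent.Lib.Helper10.PCBasic
import Cfsg.Agent.Lib.Helper19.PCCERTP
import Cfsg.Agent.Lib.Lead.PCGALOIS

/-! # S2276 piece CERTI1 (helper22 for helper10) -/

set_option autoImplicit false
set_option linter.unusedSectionVars false
set_option linter.unusedVariables false
set_option linter.style.haveILetI false
set_option linter.unnecessarySimpa false

namespace Cfsg.Agent.Helper10.PC

open Equiv Equiv.Perm

theorem certi1_rot_zpow (n : ℕ) (z : ℤ) (x : ZMod n) : (rot n ^ z) x = x + (z : ZMod n) := by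
  unfold rot
  rw [Equiv.zsmul_addRight]
  simp

theorem certi1_rot_pow (n k : ℕ) (x : ZMod n) : (rot n ^ k) x = x + (k : ZMod n) := by
  have := certi1_rot_zpow n (k : ℤ) x
  simpa using this

/-- small naturals are distinct in `ZMod p` for `p ≥ 5` -/
theorem certi1_natCast_ne_zero (p : ℕ) (hp5 : 5 ≤ p) (a : ℕ) (ha0 : 0 < a) (ha : a < 5) :
    ((a : ℕ) : ZMod p) ≠ 0 := by
  intro h
  rw [ZMod.natCast_eq_zero_iff] at h
  have := Nat.le_of_dvd ha0 h
  omega

theorem certi1_orderOf_rot (p : ℕ) (hp : p.Prime) (hp5 : 5 ≤ p) : orderOf (rot p) = p := by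
  haveI : Fact p.Prime := ⟨hp⟩
  apply orderOf_eq_prime
  · ext x
    rw [certi1_rot_pow]
    simp
  · intro h
    have h0 := congrArg (fun σ : Perm (ZMod p) => σ 0) h
    simp only [rot_apply, Perm.one_apply, zero_add] at h0
    have := certi1_natCast_ne_zero p hp5 1 (by norm_num) (by norm_num)
    apply this
    simpa using h0

/-- a `p`-element of `Perm Ω` with `|Ω| = p` has `σ ^ p = 1` -/
theorem certi1_pow_prime {Ω : Type*} [Fintype Ω] [DecidableEq Ω] (p : ℕ) (hp : p.Prime)
    (hcard : Fintype.card Ω = p) (σ : Perm Ω) (hσ : IsPElt p σ) : σ ^ p = 1 := by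
  obtain ⟨k, hk⟩ := hσ
  have hdvd : orderOf σ ∣ p ^ k := orderOf_dvd_of_pow_eq_one hk
  obtain ⟨j, -, hj⟩ := (Nat.dvd_prime_pow hp).1 hdvd
  have hfac : orderOf σ ∣ p.factorial := by
    have := orderOf_dvd_card (x := σ)
    rwa [Fintype.card_perm, hcard] at this
  have hj1 : j ≤ 1 := by
    by_contra hcon
    push Not at hcon
    have h2 : p ^ 2 ∣ p.factorial := by
      refine dvd_trans ?_ hfac
      rw [hj]
      exact pow_dvd_pow p hcon
    have hpos : 0 < p := hp.pos
    have hfact : p.factorial = p * (p - 1).factorial :=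
      (Nat.mul_factorial_pred hpos.ne').symm
    rw [hfact, pow_two] at h2
    have h3 : p ∣ (p - 1).factorial := (Nat.mul_dvd_mul_iff_left hpos).1 h2
    have h4 := (hp.dvd_factorial).1 h3
    omega
  apply orderOf_dvd_iff_pow_eq_one.1
  rw [hj]
  calc p ^ j ∣ p ^ 1 := pow_dvd_pow p hj1
    _ = p := pow_one p

/-- PIECE CERTI1 -/
theorem cert_I1 (p : ℕ) (hp : p.Prime) (hp5 : 5 ≤ p) [NeZero p] (w' : Perm (ZMod p))
    (hw' : IsPElt p w') (h1 : w' 1 = 0) (h0 : w' 0 = 2) :
    ¬ IsPElt p (rot p * w') ∧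
      ¬ Group.IsSolvable ↥(Subgroup.closure ({rot p, w'} : Set (Perm (ZMod p)))) := by
  haveI : Fact p.Prime := ⟨hp⟩
  have hcard : Fintype.card (ZMod p) = p := ZMod.card p
  have hne : ∀ a : ℕ, 0 < a → a < 5 → ((a : ℕ) : ZMod p) ≠ 0 := certi1_natCast_ne_zero p hp5
  constructor
  · intro hP
    have hfix : (rot p * w') 1 = 1 := by
      rw [Perm.mul_apply, h1, rot_apply, zero_add]
    have hall := fixed_of_isPElt_card_prime p hp (rot p * w') hP Finset.univ
      (by rw [Finset.card_univ, hcard]) (fun x _ => Finset.mem_univ _) 1 (Finset.mem_univ _) hfix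
    have h3 := hall 0 (Finset.mem_univ _)
    rw [Perm.mul_apply, h0, rot_apply] at h3
    have := hne 3 (by norm_num) (by norm_num)
    apply this
    have h3' : ((3 : ℕ) : ZMod p) = 2 + 1 := by push_cast; norm_num
    rw [h3', h3]
  · apply not_solvable_of_two_pcycles p hp hcard (rot p) w' (certi1_orderOf_rot p hp hp5)
    · apply orderOf_eq_prime (certi1_pow_prime p hp hcard w' hw')
      intro h
      rw [h, Perm.one_apply] at h1
      have := hne 1 (by norm_num) (by norm_num)
      apply this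
      simpa using h1
    · intro hmem
      obtain ⟨z, hz⟩ := Subgroup.mem_zpowers_iff.1 hmem
      have e1 : (1 : ZMod p) + (z : ZMod p) = 0 := by
        rw [← certi1_rot_zpow, hz, h1]
      have e0 : (0 : ZMod p) + (z : ZMod p) = 2 := by
        rw [← certi1_rot_zpow, hz, h0]
      rw [zero_add] at e0
      rw [e0] at e1
      have := hne 3 (by norm_num) (by norm_num)
      apply this
      have h3' : ((3 : ℕ) : ZMod p) = 1 + 2 := by push_cast; norm_num
      rw [h3', e1]

end Cfsg.Agent.Helper10.PC
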