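import Mathlib
import Cfsg.Agent.Lib.Helper10.PCDefs
import Cfsg.Agent.Lib.Helper10.PCBasic
import Cfsg.Agent.Lib.Helper11.PCINVSET

/-! # S2276 piece DICH (helper22 for helper10) -/

set_option autoImplicit false
set_option linter.unusedSectionVars false
set_option linter.unusedVariables false

namespace Cfsg.Agent.Helper10.PC

open Equiv Equiv.Perm

universe u

section general
variable {Ω : Type u} [Fintype Ω] [DecidableEq Ω]

/-- a nontrivial `p`-element has a point whose period `p ^ i` (`i ≥ 1`) is its order -/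
theorem dich_max (p : ℕ) (hp : p.Prime) (σ : Perm Ω) (hσ : IsPElt p σ) (hσ1 : σ ≠ 1) :
    ∃ (x : Ω) (i : ℕ), 1 ≤ i ∧ Function.minimalPeriod σ x = p ^ i ∧ σ ^ (p ^ i) = 1 := by
  have hne : ∃ x : Ω, σ x ≠ x := by
    by_contra hcon
    push Not at hcon
    exact hσ1 (Equiv.ext hcon)
  obtain ⟨x₁, hx₁⟩ := hne
  obtain ⟨x, -, hmax⟩ := Finset.exists_max_image Finset.univ
    (fun x => Function.minimalPeriod σ x) ⟨x₁, Finset.mem_univ _⟩
  obtain ⟨i, hi⟩ := minimalPeriod_eq_prime_pow p hp σ hσ x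
  have hpow : σ ^ (p ^ i) = 1 := by
    ext y
    obtain ⟨j, hj⟩ := minimalPeriod_eq_prime_pow p hp σ hσ y
    have hle : p ^ j ≤ p ^ i := by
      rw [← hj, ← hi]; exact hmax y (Finset.mem_univ _)
    have hji : j ≤ i := (Nat.pow_le_pow_iff_right hp.one_lt).1 hle
    have hdvd : Function.minimalPeriod σ y ∣ p ^ i := by
      rw [hj]; exact pow_dvd_pow p hji
    have hper : Function.IsPeriodicPt σ (p ^ i) y :=
      (Function.isPeriodicPt_minimalPeriod σ y).trans_dvd hdvd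
    rw [Function.IsPeriodicPt, Function.IsFixedPt, Equiv.Perm.iterate_eq_pow] at hper
    rw [hper]; rfl
  refine ⟨x, i, ?_, hi, hpow⟩
  by_contra hcon
  have hi0 : i = 0 := by omega
  rw [hi0, pow_zero, pow_one] at hpow
  exact hσ1 hpow

theorem dich_period_le (σ : Perm Ω) (x : Ω) : Function.minimalPeriod σ x ≤ Fintype.card Ω := by
  rw [← invset_card_orb]
  exact Finset.card_le_univ _

theorem dich_trans (σ : Perm Ω) (x : Ω) (h : Function.minimalPeriod σ x = Fintype.card Ω) :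
    ∀ y, ∃ k : ℕ, (σ ^ k) x = y := by
  intro y
  have huniv : invsetOrb σ x = Finset.univ := by
    apply Finset.eq_univ_of_card
    rw [invset_card_orb, h]
  have hy : y ∈ invsetOrb σ x := by rw [huniv]; exact Finset.mem_univ _
  exact (invset_mem_orb σ x y (minimalPeriod_pos σ x)).1 hy

/-- PIECE DICH -/
theorem dichotomy (p : ℕ) (hp : p.Prime) (hp3 : 3 ≤ p) (u w : Perm Ω) (hu : IsPElt p u)
    (hw : IsPElt p w) (hu1 : u ≠ 1) (hw1 : w ≠ 1) (h5 : 5 ≤ Fintype.card Ω) :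
    (∃ x, ∀ y, ∃ k : ℕ, (u ^ k) x = y) ∨ (∃ x, ∀ y, ∃ k : ℕ, (w ^ k) x = y) ∨
    (∃ Du Dw : Finset Ω, Du.card = Dw.card ∧ 5 ≤ Du.card ∧ Du.card < Fintype.card Ω ∧
      (∀ x ∈ Du, u x ∈ Du) ∧ (∀ x ∈ Dw, w x ∈ Dw) ∧ (∃ x ∈ Du, u x ≠ x) ∧ (∃ x ∈ Dw, w x ≠ x)) ∨
    (p = 3 ∧ Fintype.card Ω ≤ 6 ∧ u ^ 3 = 1 ∧ w ^ 3 = 1) := by
  obtain ⟨xu, i, hi1, hpu, hui⟩ := dich_max p hp u hu hu1
  obtain ⟨xw, j, hj1, hpw, hwj⟩ := dich_max p hp w hw hw1
  by_cases htu : p ^ i = Fintype.card Ω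
  · left
    exact ⟨xu, dich_trans u xu (hpu.trans htu)⟩
  by_cases htw : p ^ j = Fintype.card Ω
  · right; left
    exact ⟨xw, dich_trans w xw (hpw.trans htw)⟩
  right; right
  have hlu : p ^ i < Fintype.card Ω :=
    lt_of_le_of_ne (hpu ▸ dich_period_le u xu) htu
  have hlw : p ^ j < Fintype.card Ω :=
    lt_of_le_of_ne (hpw ▸ dich_period_le w xw) htw
  -- the common exponent
  obtain ⟨m, hm1, hmn, hum, hwm⟩ : ∃ m : ℕ, 1 ≤ m ∧ p ^ m < Fintype.card Ω ∧
      u ^ (p ^ m) = 1 ∧ w ^ (p ^ m) = 1 := by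
    rcases le_total i j with hij | hij
    · refine ⟨j, hj1, hlw, ?_, hwj⟩
      obtain ⟨c, hc⟩ := pow_dvd_pow p hij
      rw [hc, pow_mul, hui, one_pow]
    · refine ⟨i, hi1, hlu, hui, ?_⟩
      obtain ⟨c, hc⟩ := pow_dvd_pow p hij
      rw [hc, pow_mul, hwj, one_pow]
  have hpm : p ≤ p ^ m := by
    calc p = p ^ 1 := (pow_one p).symm
      _ ≤ p ^ m := Nat.pow_le_pow_right hp.pos hm1
  by_cases ht5 : 5 ≤ p ^ m
  · left
    obtain ⟨Du, hDu, hDui, hDun⟩ := exists_invariant_card p hp u hu hu1 (p ^ m)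
      (pow_pos hp.pos m) hum hmn.le
    obtain ⟨Dw, hDw, hDwi, hDwn⟩ := exists_invariant_card p hp w hw hw1 (p ^ m)
      (pow_pos hp.pos m) hwm hmn.le
    exact ⟨Du, Dw, by rw [hDu, hDw], by rw [hDu]; exact ht5, by rw [hDu]; exact hmn,
      hDui, hDwi, hDun, hDwn⟩
  · push Not at ht5
    have hp5 : p < 5 := lt_of_le_of_lt hpm ht5
    have hp3' : p = 3 := by
      interval_cases p
      · rfl
      · exact absurd hp (by norm_num)
    subst hp3'
    have hm : m = 1 := by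
      by_contra hcon
      have hm2 : 2 ≤ m := by omega
      have : 3 ^ 2 ≤ 3 ^ m := Nat.pow_le_pow_right (by norm_num) hm2
      omega
    subst hm
    rw [pow_one] at hum hwm
    by_cases hn6 : Fintype.card Ω ≤ 6
    · right
      exact ⟨rfl, hn6, hum, hwm⟩
    · left
      push Not at hn6
      have hu6 : u ^ 6 = 1 := by
        have : (6 : ℕ) = 3 * 2 := by norm_num
        rw [this, pow_mul, hum, one_pow]
      have hw6 : w ^ 6 = 1 := by
        have : (6 : ℕ) = 3 * 2 := by norm_num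
        rw [this, pow_mul, hwm, one_pow]
      obtain ⟨Du, hDu, hDui, hDun⟩ := exists_invariant_card 3 hp u hu hu1 6
        (by norm_num) hu6 (by omega)
      obtain ⟨Dw, hDw, hDwi, hDwn⟩ := exists_invariant_card 3 hp w hw hw1 6
        (by norm_num) hw6 (by omega)
      exact ⟨Du, Dw, by rw [hDu, hDw], by rw [hDu]; norm_num, by rw [hDu]; omega,
        hDui, hDwi, hDun, hDwn⟩

end general

end Cfsg.Agent.Helper10.PC
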