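import Mathlib
import Cfsg.Agent.Lib.Helper10.PUDefs
import Cfsg.Agent.Lib.Helper21.EOSTAR1
import Cfsg.Agent.Lib.Helper4.AOP2C

/-!
# S2263 piece PU-DAG1 (helper22): basic facts about the twisted reciprocal `dagger σ f = star (f.map σ)`
-/

set_option autoImplicit false

namespace Cfsg.Agent.Helper10.PU

open Polynomial Matrix
open Cfsg.Agent.Helper10.EO (star)

section poly
variable {F : Type*} [Field F]

theorem pu_dag1_map_map (σ : F →+* F) (hσσ : ∀ x, σ (σ x) = x) (f : F[X]) :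
    (f.map σ).map σ = f := by
  rw [Polynomial.map_map]
  have h : σ.comp σ = RingHom.id F := by
    ext x; simp [hσσ]
  rw [h, Polynomial.map_id]

theorem dagger_facts (σ : F →+* F) (hσσ : ∀ x, σ (σ x) = x) (f : F[X]) (h0 : f.coeff 0 ≠ 0) :
    (dagger σ f).Monic ∧ (dagger σ f).natDegree = f.natDegree ∧ (dagger σ f).coeff 0 ≠ 0 ∧
      (f.Monic → dagger σ (dagger σ f) = f) := by
  have h0' : (f.map σ).coeff 0 ≠ 0 := by
    rw [coeff_map]; exact (map_ne_zero σ).2 h0
  obtain ⟨h1, h2, h3, h4⟩ := Cfsg.Agent.Helper10.EO.star_facts (f.map σ) h0'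
  refine ⟨h1, ?_, h3, ?_⟩
  · show (star (f.map σ)).natDegree = _
    rw [h2, natDegree_map]
  · intro hm
    show star ((star (f.map σ)).map σ) = f
    rw [← Cfsg.Agent.Helper17.AO.star_map σ (f.map σ), pu_dag1_map_map σ hσσ f]
    exact (Cfsg.Agent.Helper10.EO.star_facts f h0).2.2.2 hm

end poly

end Cfsg.Agent.Helper10.PU
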