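import Mathlib

set_option autoImplicit false

/-! General group-theoretic utilities for the study of two-groups with an automorphism of
three-power order permuting the involutions. -/

namespace Cfsg.Agent.Helper22.Aut3

open Subgroup
open scoped commutatorElement

variable {G : Type*} [Group G]

/-- Conjugation by `g` preserves `closure S` if it maps generators into it. -/
theorem conj_mem_closure {S : Set G} {g : G} (hconj : ∀ s ∈ S, g * s * g⁻¹ ∈ closure S)
    {h : G} (hh : h ∈ closure S) : g * h * g⁻¹ ∈ closure S := by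
  induction hh using closure_induction with
  | mem x hx => exact hconj x hx
  | one => simp
  | mul a b _ _ iha ihb =>
    have : g * (a * b) * g⁻¹ = (g * a * g⁻¹) * (g * b * g⁻¹) := by group
    rw [this]; exact (closure S).mul_mem iha ihb
  | inv a _ iha =>
    have : g * a⁻¹ * g⁻¹ = (g * a * g⁻¹)⁻¹ := by group
    rw [this]; exact (closure S).inv_mem iha

/-- Adjoining an element `g` with `g² ∈ H` normalizing `H`: the result is `H ∪ gH`. -/
theorem mem_or_of_mem_closure_insert {S : Set G} {g : G} (hsq : g * g ∈ closure S)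
    (hconj : ∀ s ∈ S, g * s * g⁻¹ ∈ closure S) {k : G} (hk : k ∈ closure (insert g S)) :
    k ∈ closure S ∨ g⁻¹ * k ∈ closure S := by
  set H := closure S with hH
  have hc : ∀ h ∈ H, g * h * g⁻¹ ∈ H := fun h hh => conj_mem_closure hconj hh
  have hc' : ∀ h ∈ H, g⁻¹ * h * g ∈ H := by
    intro h hh
    have h1 : (g * g)⁻¹ * h * (g * g) ∈ H := H.mul_mem (H.mul_mem (H.inv_mem hsq) hh) hsq
    have h2 := hc _ h1
    have : g * ((g * g)⁻¹ * h * (g * g)) * g⁻¹ = g⁻¹ * h * g := by group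
    rw [this] at h2; exact h2
  let K : Subgroup G :=
    { carrier := {k | k ∈ H ∨ g⁻¹ * k ∈ H}
      one_mem' := Or.inl H.one_mem
      mul_mem' := by
        rintro a b (ha | ha) (hb | hb)
        · exact Or.inl (H.mul_mem ha hb)
        · right
          have : g⁻¹ * (a * b) = (g⁻¹ * a * g) * (g⁻¹ * b) := by group
          rw [this]; exact H.mul_mem (hc' a ha) hb
        · right
          have : g⁻¹ * (a * b) = (g⁻¹ * a) * b := by group
          rw [this]; exact H.mul_mem ha hb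
        · left
          have : a * b = (g * g) * (g⁻¹ * (g⁻¹ * a) * g) * (g⁻¹ * b) := by group
          rw [this]
          exact H.mul_mem (H.mul_mem hsq (hc' _ ha)) hb
      inv_mem' := by
        rintro a (ha | ha)
        · exact Or.inl (H.inv_mem ha)
        · right
          have : g⁻¹ * a⁻¹ = (g⁻¹ * (g⁻¹ * a)⁻¹ * g) * (g * g)⁻¹ := by group
          rw [this]
          exact H.mul_mem (hc' _ (H.inv_mem ha)) (H.inv_mem hsq) }
  have hle : closure (insert g S) ≤ K := by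
    rw [closure_le]
    intro x hx
    rcases hx with rfl | hx
    · right; simp [H.one_mem]
    · left; exact subset_closure hx
  exact hle hk

theorem card_closure_insert_le [Finite G] {S : Set G} {g : G} (hsq : g * g ∈ closure S)
    (hconj : ∀ s ∈ S, g * s * g⁻¹ ∈ closure S) :
    Nat.card (closure (insert g S)) ≤ 2 * Nat.card (closure S) := by
  have hsub : ((closure (insert g S) : Subgroup G) : Set G) ⊆
      ((closure S : Subgroup G) : Set G) ∪ (fun h => g * h) '' ((closure S : Subgroup G) : Set G) := by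
    intro k hk
    rcases mem_or_of_mem_closure_insert hsq hconj hk with h | h
    · exact Or.inl h
    · right
      exact ⟨g⁻¹ * k, h, by group⟩
  have h1 : Nat.card (closure (insert g S)) = ((closure (insert g S) : Subgroup G) : Set G).ncard :=
    rfl
  have h2 : Nat.card (closure S) = ((closure S : Subgroup G) : Set G).ncard := rfl
  rw [h1, h2]
  calc ((closure (insert g S) : Subgroup G) : Set G).ncard
      ≤ (((closure S : Subgroup G) : Set G) ∪
          (fun h => g * h) '' ((closure S : Subgroup G) : Set G)).ncard :=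
        Set.ncard_le_ncard hsub (Set.toFinite _)
    _ ≤ ((closure S : Subgroup G) : Set G).ncard +
          ((fun h => g * h) '' ((closure S : Subgroup G) : Set G)).ncard := Set.ncard_union_le _ _
    _ ≤ ((closure S : Subgroup G) : Set G).ncard + ((closure S : Subgroup G) : Set G).ncard :=
        Nat.add_le_add_left (Set.ncard_image_le (Set.toFinite _)) _
    _ = 2 * ((closure S : Subgroup G) : Set G).ncard := by ring

/-- A homomorphism-like map preserves `closure S` if it maps the generators into it. -/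
theorem map_mem_closure {S : Set G} (ψ : MulAut G) (hS : ∀ s ∈ S, ψ s ∈ closure S)
    {h : G} (hh : h ∈ closure S) : ψ h ∈ closure S := by
  induction hh using closure_induction with
  | mem x hx => exact hS x hx
  | one => simp
  | mul a b _ _ iha ihb => rw [map_mul]; exact (closure S).mul_mem iha ihb
  | inv a _ iha => rw [map_inv]; exact (closure S).inv_mem iha

theorem closure_normal_of_conj {S : Set G} (hconj : ∀ g : G, ∀ s ∈ S, g * s * g⁻¹ ∈ closure S) :
    (closure S).Normal :=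
  ⟨fun _ hn g => conj_mem_closure (hconj g) hn⟩

theorem closure_comm_of_comm {S : Set G} (hcomm : ∀ x ∈ S, ∀ y ∈ S, x * y = y * x)
    {a b : G} (ha : a ∈ closure S) (hb : b ∈ closure S) : a * b = b * a := by
  have h1 : ∀ y ∈ S, ∀ a ∈ closure S, a * y = y * a := by
    intro y hy a ha
    induction ha using closure_induction with
    | mem x hx => exact hcomm x hx y hy
    | one => simp
    | mul a b _ _ iha ihb => rw [mul_assoc, ihb, ← mul_assoc, iha, mul_assoc]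
    | inv a _ iha =>
      have : a⁻¹ * y = a⁻¹ * (y * a) * a⁻¹ := by group
      rw [this, ← iha]; group
  induction hb using closure_induction with
  | mem y hy => exact h1 y hy a ha
  | one => simp
  | mul b c _ _ ihb ihc => rw [← mul_assoc, ihb, mul_assoc, ihc, ← mul_assoc]
  | inv b _ ihb =>
    have : a * b⁻¹ = b⁻¹ * (b * a) * b⁻¹ := by group
    rw [this, ← ihb]; group

/-! ### Commutator identities with central values -/

theorem comm_def' (a b : G) : ⁅a, b⁆ = a * b * a⁻¹ * b⁻¹ := commutatorElement_def a b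

/-- `⁅a, b c⁆ = ⁅a, b⁆ ⁅a, c⁆` when `⁅a, c⁆` commutes with `b`. -/
theorem comm_mul_right_of_comm {a b c : G} (h : b * ⁅a, c⁆ = ⁅a, c⁆ * b) :
    ⁅a, b * c⁆ = ⁅a, b⁆ * ⁅a, c⁆ := by
  have h1 : ⁅a, b * c⁆ = ⁅a, b⁆ * (b * ⁅a, c⁆) * b⁻¹ := by
    simp only [commutatorElement_def]; group
  rw [h1, h]; group

/-- `⁅a b, c⁆ = ⁅b, c⁆ ⁅a, c⁆` when `⁅b, c⁆` commutes with `a`. -/
theorem comm_mul_left_of_comm {a b c : G} (h : a * ⁅b, c⁆ = ⁅b, c⁆ * a) :
    ⁅a * b, c⁆ = ⁅b, c⁆ * ⁅a, c⁆ := by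
  have h1 : ⁅a * b, c⁆ = (a * ⁅b, c⁆) * a⁻¹ * ⁅a, c⁆ := by
    simp only [commutatorElement_def]; group
  rw [h1, h]; group

theorem comm_inv' (a b : G) : ⁅a, b⁆⁻¹ = ⁅b, a⁆ := commutatorElement_inv a b

/-- `⁅a⁻¹, b⁆ = ⁅a, b⁆⁻¹` when `⁅a, b⁆` commutes with `a`. -/
theorem comm_inv_left_of_comm {a b : G} (h : a * ⁅a, b⁆ = ⁅a, b⁆ * a) :
    ⁅a⁻¹, b⁆ = ⁅a, b⁆⁻¹ := by
  have h1 : ⁅a⁻¹, b⁆ = a⁻¹ * ⁅a, b⁆⁻¹ * a := by
    simp only [commutatorElement_def]; group
  have h2 : a * ⁅a, b⁆⁻¹ = ⁅a, b⁆⁻¹ * a := by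
    have : ⁅a, b⁆⁻¹ * (a * ⁅a, b⁆) * ⁅a, b⁆⁻¹ = ⁅a, b⁆⁻¹ * (⁅a, b⁆ * a) * ⁅a, b⁆⁻¹ := by rw [h]
    have e1 : ⁅a, b⁆⁻¹ * (a * ⁅a, b⁆) * ⁅a, b⁆⁻¹ = ⁅a, b⁆⁻¹ * a := by group
    have e2 : ⁅a, b⁆⁻¹ * (⁅a, b⁆ * a) * ⁅a, b⁆⁻¹ = a * ⁅a, b⁆⁻¹ := by group
    rw [e1, e2] at this; exact this.symm
  rw [h1, mul_assoc, ← h2]; group

/-- `⁅a, b⁻¹⁆ = ⁅a, b⁆⁻¹` when `⁅a, b⁆` commutes with `b`. -/
theorem comm_inv_right_of_comm {a b : G} (h : b * ⁅a, b⁆ = ⁅a, b⁆ * b) :
    ⁅a, b⁻¹⁆ = ⁅a, b⁆⁻¹ := by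
  have h1 : ⁅a, b⁻¹⁆ = b⁻¹ * ⁅a, b⁆⁻¹ * b := by
    simp only [commutatorElement_def]; group
  have h2 : b * ⁅a, b⁆⁻¹ = ⁅a, b⁆⁻¹ * b := by
    have : ⁅a, b⁆⁻¹ * (b * ⁅a, b⁆) * ⁅a, b⁆⁻¹ = ⁅a, b⁆⁻¹ * (⁅a, b⁆ * b) * ⁅a, b⁆⁻¹ := by rw [h]
    have e1 : ⁅a, b⁆⁻¹ * (b * ⁅a, b⁆) * ⁅a, b⁆⁻¹ = ⁅a, b⁆⁻¹ * b := by group
    have e2 : ⁅a, b⁆⁻¹ * (⁅a, b⁆ * b) * ⁅a, b⁆⁻¹ = b * ⁅a, b⁆⁻¹ := by group
    rw [e1, e2] at this; exact this.symm
  rw [h1, mul_assoc, ← h2]; group

/-- `(a b)² = a² b² ⁅b, a⁆` when `⁅b, a⁆` commutes with `a` and `b`. -/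
theorem mul_sq_of_comm {a b : G} (ha : a * ⁅b, a⁆ = ⁅b, a⁆ * a) (hb : b * ⁅b, a⁆ = ⁅b, a⁆ * b) :
    (a * b) * (a * b) = (a * a) * (b * b) * ⁅b, a⁆ := by
  have h1 : (a * b) * (a * b) = a * (⁅b, a⁆ * a) * b * b := by
    simp only [commutatorElement_def]; group
  rw [h1, ← ha]
  have h2 : a * (a * ⁅b, a⁆) * b * b = a * a * (⁅b, a⁆ * b) * b := by group
  rw [h2, ← hb]
  have h3 : a * a * (b * ⁅b, a⁆) * b = a * a * b * (⁅b, a⁆ * b) := by group
  rw [h3, ← hb]; group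

theorem conj_eq_comm_mul (a b : G) : a * b * a⁻¹ = ⁅a, b⁆ * b := by
  rw [commutatorElement_def]; group

end Cfsg.Agent.Helper22.Aut3
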