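import Mathlib
import Cfsg.Agent.Lib.Helper11.D4IMem

/-!
# S2183 piece REDI2: reduction of an involution `NFtw 0 u2 t3 t4 u5 u6`, `u2 ≠ 0`, to `NFtw 0 u2 0 t 0 0`
-/

set_option autoImplicit false
set_option linter.unusedSectionVars false
set_option linter.unusedSimpArgs false
set_option linter.unusedVariables false

namespace Cfsg.Agent.Helper11.D4I

open Cfsg Cfsg.Lie Cfsg.Agent.Lead.Chev Cfsg.Agent.Lead.Tw

variable {K : Type*} [Field K] [Fintype K] [CharP K 2] {q : ℕ} (hK : Fintype.card K = q ^ 3)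
  (f : K ≃+* K) (hf : ∀ t, f t = t ^ q)
include hK hf

/-- PIECE REDI2 -/
theorem red_I2 (hFF : FieldFacts f) (u2 t3 t4 u5 u6 : K) (h2 : f u2 = u2) (h5 : f u5 = u5) (h6 : f u6 = u6)
    (hu2 : u2 ≠ 0) (hsq : NFtw f 0 u2 t3 t4 u5 u6 * NFtw f 0 u2 t3 t4 u5 u6 = 1) :
    ∃ t : K, CJ q (NFtw f 0 u2 t3 t4 u5 u6) (NFtw f 0 u2 0 t 0 0) := by
  have h3 := hf3 hK f hf
  have h0 : f (0 : K) = 0 := map_zero f
  -- step 1: `x_a(t3 / u2)` kills `t3`
  have k1 := CJ_xa hK f hf (t3 / u2) (NFtw f 0 u2 t3 t4 u5 u6)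
  rw [conj_a f h3 (t3 / u2) 0 u2 t3 t4 u5 u6 trivial h2 h5 h6] at k1
  set s := t3 / u2 with hs
  set v4 := t4 + s * f (f s) * u2 + s * f (f t3) + f (f s) * t3 with hv4
  set v5 := u5 + Nm f s * u2 + Tr f (s * f s * f (f t3)) + Tr f (s * f (f t4)) with hv5
  set v6 := u6 + Nm f s * u2 ^ 2 + Tr f (s * f s * f (f t3)) * u2 + Tr f (s * f t3 * f (f t3)) with hv6
  have fv5 : f v5 = v5 := by
    rw [hv5]; simp only [map_add, map_mul, map_zero, f_Tr f h3, f_Nm f h3, h5, h2]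
  have fv6 : f v6 = v6 := by
    rw [hv6]; simp only [map_add, map_mul, map_zero, map_pow, f_Tr f h3, f_Nm f h3, h6, h2]
  have e3 : t3 + s * u2 = 0 := by
    rw [hs, div_mul_cancel₀ _ hu2]; exact CharTwo.add_self_eq_zero t3
  rw [NFtw_congr f rfl rfl e3 rfl rfl rfl] at k1
  -- the new element is an involution, hence `v5 = 0`
  have hsq1 := k1.sq_eq_one hsq
  obtain ⟨-, -, -, i4⟩ := invol_facts f h3 0 u2 0 v4 v5 v6 h2 fv5 fv6 hsq1
  have hv50 : v5 = 0 := by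
    have : u2 * v5 = 0 := by
      have z : Tr f (0 * f 0 * f (f 0)) * u2 + Tr f (0 * f 0 * f (f 0)) + Tr f (0 * f (f v4)) * u2 +
          Tr f (0 * f (f v4)) + u2 * v5 = u2 * v5 := by
        simp only [map_zero, zero_mul, mul_zero, Tr, add_zero, zero_add]
      rw [← z]; exact i4
    rcases mul_eq_zero.1 this with h | h
    · exact absurd h hu2
    · exact h
  rw [NFtw_congr f rfl rfl rfl rfl hv50 rfl] at k1
  -- step 2: `x_{3a+b}(v6 / u2)` kills `u6`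
  have fc : f (v6 / u2) = v6 / u2 := by rw [map_div₀, fv6, h2]
  have k2 := CJ_x3ab hK f hf (v6 / u2) fc (NFtw f 0 u2 0 v4 0 v6)
  rw [conj_3ab f h3 (v6 / u2) 0 u2 0 v4 0 v6 fc h2 h0 fv6] at k2
  have c6 : v6 + v6 / u2 * u2 = 0 := by
    rw [div_mul_cancel₀ _ hu2]; exact CharTwo.add_self_eq_zero v6
  rw [NFtw_congr f rfl rfl rfl rfl rfl c6] at k2
  exact ⟨v4, k1.trans k2⟩

end Cfsg.Agent.Helper11.D4I
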