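import Mathlib
import Cfsg.Agent.Lib.Helper11.D4IMem

/-!
# S2183 piece REDI3: reduction of an involution `NFtw 0 0 t3 t4 u5 u6`, `t3 ≠ 0`, to `x_{a+b}(t3)`
-/

set_option autoImplicit false
set_option linter.unusedSectionVars false
set_option linter.unusedSimpArgs false
set_option linter.unusedVariables false

namespace Cfsg.Agent.Helper11.D4I

open Cfsg Cfsg.Lie Cfsg.Agent.Lead.Chev Cfsg.Agent.Lead.Tw

variable {K : Type*} [Field K] [Fintype K] [CharP K 2] {q : ℕ} (hK : Fintype.card K = q ^ 3)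
  (f : K ≃+* K) (hf : ∀ t, f t = t ^ q)
include hK hf

/-- PIECE REDI3 -/
theorem red_I3 (hFF : FieldFacts f) (t3 t4 u5 u6 : K) (h5 : f u5 = u5) (h6 : f u6 = u6) (ht3 : t3 ≠ 0)
    (hinv : Tr f (t3 * f (f t4)) = 0) : CJ q (NFtw f 0 0 t3 t4 u5 u6) (xab f t3) := by
  have h3 := hf3 hK f hf
  have h0 : f (0 : K) = 0 := map_zero f
  -- step 1: `x_a(s)` with `s t3'' + s'' t3 = t4` kills `t4`
  obtain ⟨s, hs⟩ := hFF.hilbert90 t3 t4 ht3 hinv
  have k1 := CJ_xa hK f hf s (NFtw f 0 0 t3 t4 u5 u6)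
  rw [conj_a f h3 s 0 0 t3 t4 u5 u6 trivial h0 h5 h6] at k1
  set v5 := u5 + Nm f s * 0 + Tr f (s * f s * f (f t3)) + Tr f (s * f (f t4)) with hv5
  set v6 := u6 + Nm f s * 0 ^ 2 + Tr f (s * f s * f (f t3)) * 0 + Tr f (s * f t3 * f (f t3)) with hv6
  have fv5 : f v5 = v5 := by
    rw [hv5]; simp only [map_add, map_mul, map_zero, f_Tr f h3, f_Nm f h3, h5]
  have fv6 : f v6 = v6 := by
    rw [hv6]; simp only [map_add, map_mul, map_zero, map_pow, f_Tr f h3, f_Nm f h3, h6]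
  have e3 : t3 + s * 0 = t3 := by ring
  have e4 : t4 + s * f (f s) * 0 + s * f (f t3) + f (f s) * t3 = 0 := by
    rw [← hs]; grind
  rw [NFtw_congr f rfl rfl e3 e4 rfl rfl] at k1
  -- step 2: `x_a(l t3)` with `l l N(t3) = v5`, `f l = l`, kills `u5`
  have hN : Nm f t3 ≠ 0 := by
    unfold Nm
    have a1 : f t3 ≠ 0 := fun h => ht3 (by simpa using h)
    have a2 : f (f t3) ≠ 0 := fun h => a1 (by simpa using h)
    exact mul_ne_zero (mul_ne_zero ht3 a1) a2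
  have fN : f (Nm f t3) = Nm f t3 := f_Nm f h3 t3
  have fc : f (v5 / Nm f t3) = v5 / Nm f t3 := by rw [map_div₀, fv5, fN]
  obtain ⟨l, fl, hl⟩ := hFF.sqrt_fix (v5 / Nm f t3) fc
  have hl' : l * l * Nm f t3 = v5 := by rw [hl, div_mul_cancel₀ _ hN]
  have k2 := CJ_xa hK f hf (l * t3) (NFtw f 0 0 t3 0 v5 v6)
  rw [conj_a f h3 (l * t3) 0 0 t3 0 v5 v6 trivial h0 fv5 fv6] at k2
  set w6 := v6 + Nm f (l * t3) * 0 ^ 2 + Tr f (l * t3 * f (l * t3) * f (f t3)) * 0 +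
    Tr f (l * t3 * f t3 * f (f t3)) with hw6
  have fw6 : f w6 = w6 := by
    rw [hw6]; simp only [map_add, map_mul, map_zero, map_pow, f_Tr f h3, f_Nm f h3, fv6]
  have d3 : t3 + l * t3 * 0 = t3 := by ring
  have d4 : (0 : K) + l * t3 * f (f (l * t3)) * 0 + l * t3 * f (f t3) + f (f (l * t3)) * t3 = 0 := by
    simp only [map_mul, fl]; grind
  have d5 : v5 + Nm f (l * t3) * 0 + Tr f (l * t3 * f (l * t3) * f (f t3)) + Tr f (l * t3 * f (f 0)) = 0 := by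
    rw [← hl']
    simp only [map_add, map_mul, map_zero, h3, fl, Tr, Nm]
    grind
  rw [NFtw_congr f rfl rfl d3 d4 d5 rfl] at k2
  -- step 3: `x_{2a+b}(r)` with `Tr (r t3') = w6` kills `u6`
  have a1 : f t3 ≠ 0 := fun h => ht3 (by simpa using h)
  obtain ⟨r, hr⟩ := hFF.tr_surj (f t3) w6 a1 fw6
  have k3 := CJ_x2ab hK f hf r (NFtw f 0 0 t3 0 0 w6)
  rw [conj_2ab f h3 r 0 0 t3 0 0 w6 trivial h0 h0 fw6] at k3
  have c5 : (0 : K) + Tr f (r * f 0) = 0 := by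
    simp only [map_zero, mul_zero, Tr, add_zero]
  have c6 : w6 + Tr f (r * f 0) * 0 + Tr f (r * f t3) = 0 := by
    rw [hr]; grind
  rw [NFtw_congr f rfl rfl rfl rfl c5 c6] at k3
  have fin : NFtw f 0 0 t3 0 0 0 = xab f t3 := by
    simp only [NFtw, xa, xb, x2ab, x3ab, x3a2b, map_zero, X_zero, one_mul, mul_one]
  rw [fin] at k3
  exact (k1.trans k2).trans k3

end Cfsg.Agent.Helper11.D4I
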