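import Mathlib
import Cfsg.Agent.Lib.Helper11.D4TDefs
import Cfsg.Agent.Lib.Helper1.D4TCHIC

/-!
# S2376 piece NCONJ1: conjugation by `n_c(a) = nA a`, `c = 14` the central node (fundamental index `1`)

`nA a = h_c(a) n_c(1)`, `n_c(1) = nWordGL [1]`, `h_c(a) ∈ T(L)`, `T(L)` is commutative; then `ev_nconj`, `nconj_mem`
with `w = [1]`.
-/

set_option autoImplicit false

namespace Cfsg.Agent.Helper11.D4T

open Cfsg Cfsg.Lie Cfsg.Agent.Lead.Chev Cfsg.Agent.Lead.Tw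

variable {L : Type*} [Field L]

namespace NCONJ1

/-- `nA a = h_c(a) * n_{[1]}` -/
theorem nA_eq (a : L) :
    nA a = hGLt chevD4 (d4F L).xadd 14 a * nWordGL chevD4 (d4F L).xadd [1] := by
  unfold nA
  rw [nGLt_eq_hGLt_mul, nWordGL_cons, nWordGL_nil, mul_one, nGL_eq_nGLt]
  rfl

/-- `nA a * h * (nA a)⁻¹` is the `h_c(a)`-conjugate of `n_{[1]} * h * n_{[1]}⁻¹` -/
theorem nA_conj_eq (a : L) (h : GL chevD4.Idx L) :
    nA a * h * (nA a)⁻¹ = hGLt chevD4 (d4F L).xadd 14 a *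
      (nWordGL chevD4 (d4F L).xadd [1] * h * (nWordGL chevD4 (d4F L).xadd [1])⁻¹) *
      (hGLt chevD4 (d4F L).xadd 14 a)⁻¹ := by
  rw [nA_eq]
  group

end NCONJ1

theorem nA_mem_group (a : L) : nA a ∈ chevD4.group L :=
  nGLt_mem_group chevD4 (d4F L).xadd 14 a

theorem nA_conj_mem (a : L) (ha : a ≠ 0) (h : GL chevD4.Idx L) (hh : h ∈ chevD4.diagonalSubgroup L) :
    nA a * h * (nA a)⁻¹ ∈ chevD4.diagonalSubgroup L := by
  rw [NCONJ1.nA_conj_eq]
  have hH : hGLt chevD4 (d4F L).xadd 14 a ∈ chevD4.diagonalSubgroup L :=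
    hGLt_mem_diagonal chevD4 (d4F L).xadd 14 (by decide) a ha
  have hn := nconj_mem h hh [1] (by decide)
  exact mul_mem (mul_mem hH hn) (inv_mem hH)

theorem ev_nA_conj (a : L) (ha : a ≠ 0) (h : GL chevD4.Idx L) (hh : h ∈ chevD4.diagonalSubgroup L) (v : ℕ)
    (hv : v < 24) : ev (nA a * h * (nA a)⁻¹) (chevD4.reflectRoot 1 v) = ev h v := by
  have hH : hGLt chevD4 (d4F L).xadd 14 a ∈ chevD4.diagonalSubgroup L :=
    hGLt_mem_diagonal chevD4 (d4F L).xadd 14 (by decide) a ha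
  have hn := nconj_mem h hh [1] (by decide)
  have e : nA a * h * (nA a)⁻¹ =
      nWordGL chevD4 (d4F L).xadd [1] * h * (nWordGL chevD4 (d4F L).xadd [1])⁻¹ := by
    rw [NCONJ1.nA_conj_eq, diagonalSubgroup_comm chevD4 (d4F L).hall _ _ hH hn, mul_assoc,
      mul_inv_cancel, mul_one]
  rw [e]
  exact ev_nconj h hh [1] (by decide) v hv

end Cfsg.Agent.Helper11.D4T
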