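import Mathlib
import Cfsg.Agent.Lib.Helper11.D4TTab

/-!
# S2376 piece REG: no root vanishes on a generator of the twisted torus

`kq q v = c0 + c1 q + c2 q² + c3 q³` with `c0 = r0 - r1 + r2`, `c1 = r2`, `c2 = r3`, `c3 = r1 - r2`, all of absolute
value `≤ 2` and not all zero; for `q ≥ 3` such a cubic is non-zero and of absolute value `< Mq q`.
-/

set_option autoImplicit false

namespace Cfsg.Agent.Helper11.D4T

namespace REG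

/-- the cast of `Mq q` -/
theorem mq_cast (q : ℕ) (hq : 1 ≤ q) : (Mq q : ℤ) = (q : ℤ) ^ 4 + (q : ℤ) ^ 3 - (q : ℤ) - 1 := by
  unfold Mq
  have h1 : 1 ≤ q ^ 3 := Nat.one_le_pow _ _ hq
  push_cast [Nat.cast_sub h1]
  ring

/-- an integer of absolute value `≤ 2` divisible by `Q ≥ 3` vanishes -/
theorem eq_zero_of_dvd_small (Q c : ℤ) (hQ : 3 ≤ Q) (hc : |c| ≤ 2) (h : Q ∣ c) : c = 0 := by
  apply Int.eq_zero_of_abs_lt_dvd h
  linarith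

/-- a cubic in `Q ≥ 3` with coefficients of absolute value `≤ 2` that vanishes has all coefficients zero -/
theorem cubic_coeff_zero (Q c0 c1 c2 c3 : ℤ) (hQ : 3 ≤ Q) (h0 : |c0| ≤ 2) (h1 : |c1| ≤ 2) (h2 : |c2| ≤ 2)
    (_h3 : |c3| ≤ 2) (h : c0 + c1 * Q + c2 * Q ^ 2 + c3 * Q ^ 3 = 0) : c0 = 0 ∧ c1 = 0 ∧ c2 = 0 ∧ c3 = 0 := by
  have hQ0 : Q ≠ 0 := by linarith
  have e0 : c0 = 0 := by
    apply eq_zero_of_dvd_small Q c0 hQ h0
    exact ⟨-(c1 + c2 * Q + c3 * Q ^ 2), by linear_combination h⟩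
  subst e0
  have h' : c1 + c2 * Q + c3 * Q ^ 2 = 0 := by
    have : Q * (c1 + c2 * Q + c3 * Q ^ 2) = 0 := by linear_combination h
    rcases mul_eq_zero.mp this with h | h
    · exact absurd h hQ0
    · exact h
  have e1 : c1 = 0 := by
    apply eq_zero_of_dvd_small Q c1 hQ h1
    exact ⟨-(c2 + c3 * Q), by linear_combination h'⟩
  subst e1
  have h'' : c2 + c3 * Q = 0 := by
    have : Q * (c2 + c3 * Q) = 0 := by linear_combination h'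
    rcases mul_eq_zero.mp this with h | h
    · exact absurd h hQ0
    · exact h
  have e2 : c2 = 0 := by
    apply eq_zero_of_dvd_small Q c2 hQ h2
    exact ⟨-c3, by linear_combination h''⟩
  subst e2
  have e3 : c3 = 0 := by
    have : Q * c3 = 0 := by linear_combination h''
    rcases mul_eq_zero.mp this with h | h
    · exact absurd h hQ0
    · exact h
  exact ⟨rfl, rfl, rfl, e3⟩

/-- the general lemma on cubics: for `Q ≥ 3`, a cubic in `Q` with coefficients of absolute value `≤ 2`, not all zero,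
is not divisible by `Q⁴ + Q³ - Q - 1` -/
theorem cubic_not_dvd (Q c0 c1 c2 c3 : ℤ) (hQ : 3 ≤ Q) (h0 : |c0| ≤ 2) (h1 : |c1| ≤ 2) (h2 : |c2| ≤ 2)
    (h3 : |c3| ≤ 2) (hne : ¬ (c0 = 0 ∧ c1 = 0 ∧ c2 = 0 ∧ c3 = 0)) :
    ¬ (Q ^ 4 + Q ^ 3 - Q - 1 ∣ c0 + c1 * Q + c2 * Q ^ 2 + c3 * Q ^ 3) := by
  intro hd
  apply hne
  apply cubic_coeff_zero Q c0 c1 c2 c3 hQ h0 h1 h2 h3
  apply Int.eq_zero_of_abs_lt_dvd hd
  have hQ2 : 0 ≤ Q := by linarith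
  have b0 := abs_le.mp h0
  have b1 := abs_le.mp h1
  have b2 := abs_le.mp h2
  have b3 := abs_le.mp h3
  have q2 : 0 ≤ Q ^ 2 := by positivity
  have q3 : 0 ≤ Q ^ 3 := by positivity
  have t1 : |c1 * Q| ≤ 2 * Q := by
    rw [abs_mul, abs_of_nonneg hQ2]; exact mul_le_mul_of_nonneg_right h1 hQ2
  have t2 : |c2 * Q ^ 2| ≤ 2 * Q ^ 2 := by
    rw [abs_mul, abs_of_nonneg q2]; exact mul_le_mul_of_nonneg_right h2 q2
  have t3 : |c3 * Q ^ 3| ≤ 2 * Q ^ 3 := by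
    rw [abs_mul, abs_of_nonneg q3]; exact mul_le_mul_of_nonneg_right h3 q3
  have tri : |c0 + c1 * Q + c2 * Q ^ 2 + c3 * Q ^ 3| ≤ |c0| + |c1 * Q| + |c2 * Q ^ 2| + |c3 * Q ^ 3| := by
    calc |c0 + c1 * Q + c2 * Q ^ 2 + c3 * Q ^ 3|
        ≤ |c0 + c1 * Q + c2 * Q ^ 2| + |c3 * Q ^ 3| := abs_add_le _ _
      _ ≤ |c0 + c1 * Q| + |c2 * Q ^ 2| + |c3 * Q ^ 3| := by gcongr; exact abs_add_le _ _
      _ ≤ |c0| + |c1 * Q| + |c2 * Q ^ 2| + |c3 * Q ^ 3| := by gcongr; exact abs_add_le _ _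
  have hQ3 : Q ^ 4 ≥ 3 * Q ^ 3 := by nlinarith
  have hQ2' : Q ^ 3 ≥ 3 * Q ^ 2 := by nlinarith
  have hQ1' : Q ^ 2 ≥ 3 * Q := by nlinarith
  linarith

/-- the coefficients of `kq q v` as a cubic in `q` -/
theorem kq_eq (q v : ℕ) : kq q v = (rcv v 0 - rcv v 1 + rcv v 2) + rcv v 2 * (q : ℤ) + rcv v 3 * (q : ℤ) ^ 2 +
    (rcv v 1 - rcv v 2) * (q : ℤ) ^ 3 := by
  unfold kq; ring

theorem coeff_check : ∀ v < 24, |rcv v 0 - rcv v 1 + rcv v 2| ≤ 2 ∧ |rcv v 2| ≤ 2 ∧ |rcv v 3| ≤ 2 ∧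
    |rcv v 1 - rcv v 2| ≤ 2 ∧
    ¬ (rcv v 0 - rcv v 1 + rcv v 2 = 0 ∧ rcv v 2 = 0 ∧ rcv v 3 = 0 ∧ rcv v 1 - rcv v 2 = 0) := by
  decide

theorem reg_two : ∀ v < 24, ¬ ((Mq 2 : ℤ) ∣ kq 2 v) := by
  decide

end REG

theorem corew_reg (q : ℕ) (hq : 2 ≤ q) : ∀ v < 24, ¬ ((Mq q : ℤ) ∣ kq q v) := by
  rcases Nat.eq_or_lt_of_le hq with h | h
  · subst h; exact REG.reg_two
  · intro v hv
    rw [REG.mq_cast q (by omega), REG.kq_eq]
    obtain ⟨h0, h1, h2, h3, hne⟩ := REG.coeff_check v hv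
    exact REG.cubic_not_dvd (q : ℤ) _ _ _ _ (by exact_mod_cast h) h0 h1 h2 h3 hne

end Cfsg.Agent.Helper11.D4T
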