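import Mathlib
import Cfsg.Agent.Lib.Helper11.D4TTab
import Cfsg.Agent.Lib.Helper22.D4TREG

/-!
# S2376 piece STAB: the stabilizer in the Weyl group of a generator of the twisted torus is trivial

For every `A ≠ idL` in `wActsD4` there is a root `v` such that `kq q (A v) - kq q v` is a non-zero cubic in `q` with
coefficients of absolute value `≤ 2`; apply `REG.cubic_not_dvd` for `q ≥ 3`, and `decide` for `q = 2`.
-/

set_option autoImplicit false

namespace Cfsg.Agent.Helper11.D4T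

namespace STAB

/-- the four coefficients of `kq q w` as a cubic in `q` -/
def cf (i w : ℕ) : ℤ :=
  match i with
  | 0 => rcv w 0 - rcv w 1 + rcv w 2
  | 1 => rcv w 2
  | 2 => rcv w 3
  | _ => rcv w 1 - rcv w 2

theorem kq_cf (q w : ℕ) : kq q w = cf 0 w + cf 1 w * (q : ℤ) + cf 2 w * (q : ℤ) ^ 2 + cf 3 w * (q : ℤ) ^ 3 := by
  rw [REG.kq_eq]; rfl

/-- `v` is a witness for `A`: the difference cubic has small coefficients, not all zero -/
def Good (A : List ℕ) (v : ℕ) : Prop :=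
  |cf 0 (A.getD v 0) - cf 0 v| ≤ 2 ∧ |cf 1 (A.getD v 0) - cf 1 v| ≤ 2 ∧ |cf 2 (A.getD v 0) - cf 2 v| ≤ 2 ∧
    |cf 3 (A.getD v 0) - cf 3 v| ≤ 2 ∧
    ¬ (cf 0 (A.getD v 0) - cf 0 v = 0 ∧ cf 1 (A.getD v 0) - cf 1 v = 0 ∧ cf 2 (A.getD v 0) - cf 2 v = 0 ∧
      cf 3 (A.getD v 0) - cf 3 v = 0)

instance (A : List ℕ) (v : ℕ) : Decidable (Good A v) := by unfold Good; infer_instance

theorem witness_check : ∀ A ∈ wActsD4, A = idL ∨ ∃ v < 24, Good A v := by
  decide +kernel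

theorem stab_two : ∀ A ∈ wActsD4,
    (∀ v < 24, (Mq 2 : ℤ) ∣ kq 2 (A.getD v 0) - kq 2 v) → A = idL := by
  decide +kernel

end STAB

theorem corew_stab (q : ℕ) (hq : 2 ≤ q) : ∀ A ∈ wActsD4,
    (∀ v < 24, (Mq q : ℤ) ∣ kq q (A.getD v 0) - kq q v) → A = idL := by
  rcases Nat.eq_or_lt_of_le hq with h | h
  · subst h; exact STAB.stab_two
  · intro A hA hall
    rcases STAB.witness_check A hA with h1 | ⟨v, hv, h0, h1, h2, h3, hne⟩
    · exact h1
    · exfalso
      have hd := hall v hv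
      rw [REG.mq_cast q (by omega), STAB.kq_cf, STAB.kq_cf] at hd
      refine REG.cubic_not_dvd (q : ℤ) _ _ _ _ (by exact_mod_cast h) h0 h1 h2 h3 hne ?_
      convert hd using 1
      ring

end Cfsg.Agent.Helper11.D4T
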