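import Mathlib
import Cfsg.Agent.Lib.Helper11.F4IE7
import Cfsg.Agent.Lib.Helper6.SylowConj
import Cfsg.Agent.Lib.Lead.TwReeOrder

/-!
# S2184 piece SYL (helper22, for helper11): every involution of `²F₄(q)` is conjugate into `U¹`.
(port of `Lib/Helper16/D4ISYL.lean`)
-/

set_option autoImplicit false
set_option linter.unusedSectionVars false
set_option linter.unusedSimpArgs false
set_option linter.unusedVariables false

namespace Cfsg.Agent.Helper11.F4I

open Cfsg Cfsg.Lie Cfsg.Agent.Lead.Chev Cfsg.Agent.Lead.Tw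

namespace SYL

theorem odd_pred_pow (q k : ℕ) (hq : Even q) (hq0 : 0 < q) (hk : k ≠ 0) : Odd (q ^ k - 1) := by
  have h1 : Even (q ^ k) := (Nat.even_pow' hk).2 hq
  have h2 : 1 ≤ q ^ k := Nat.one_le_pow _ _ hq0
  exact Nat.Even.sub_odd h2 h1 odd_one

theorem odd_succ_pow (q k : ℕ) (hq : Even q) (hk : k ≠ 0) : Odd (q ^ k + 1) := by
  have h1 : Even (q ^ k) := (Nat.even_pow' hk).2 hq
  exact h1.add_odd odd_one

end SYL

variable {K : Type*} [Field K] [Fintype K] [CharP K 2] {m : ℕ} (hK : Fintype.card K = 2 ^ (2 * m + 1))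
  (hperf : ∀ x : K, ∃ y : K, y ^ 2 = x) (f : K ≃+* K) (hf : ∀ t, f t = t ^ (2 ^ m))
include hK hperf hf

/-- PIECE SYL: every involution of `²F₄(q)` is conjugate into `U¹` -/
theorem sylow_step (g : GL chevF4.Idx K) (hg : g ∈ twistedF4 K (2 ^ m)) (h2 : g * g = 1) :
    ∃ h ∈ twistedF4 K (2 ^ m), h * g * h⁻¹ ∈ chevF4.posUnipotent K ⊓ twistedF4 K (2 ^ m) := by
  classical
  have : Fact (Nat.Prime 2) := ⟨Nat.prime_two⟩
  set q : ℕ := 2 ^ (2 * m + 1) with hq
  have hq0 : 0 < q := pow_pos (by norm_num) _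
  have hev : Even q := (Nat.even_pow' (by omega)).2 even_two
  set G := twistedF4 K (2 ^ m) with hG
  set U := chevF4.posUnipotent K ⊓ twistedF4 K (2 ^ m) with hU
  have hle : U ≤ G := inf_le_right
  have hcardU : Nat.card (U.subgroupOf G) = 2 ^ ((2 * m + 1) * 12) := by
    rw [Nat.card_congr (Subgroup.subgroupOfEquivOfLe hle).toEquiv, hU, F4.card_U hK hperf f hf,
      pow_mul]
  have hcardG : Nat.card G = q ^ 12 * (q - 1) * (q ^ 3 + 1) * (q ^ 4 - 1) * (q ^ 6 + 1) :=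
    F4.card_group hK hperf f hf
  have hP : IsPGroup 2 (U.subgroupOf G) := IsPGroup.of_card hcardU
  have hidx : ¬ 2 ∣ (U.subgroupOf G).index := by
    have h1 := Subgroup.card_mul_index (U.subgroupOf G)
    rw [hcardG, hcardU, pow_mul, ← hq, mul_assoc, mul_assoc, mul_assoc] at h1
    have h3 : (U.subgroupOf G).index = (q - 1) * ((q ^ 3 + 1) * ((q ^ 4 - 1) * (q ^ 6 + 1))) :=
      Nat.eq_of_mul_eq_mul_left (pow_pos hq0 12) h1
    rw [h3, ← even_iff_two_dvd, Nat.not_even_iff_odd]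
    have o1 : Odd (q - 1) := by
      have := SYL.odd_pred_pow q 1 hev hq0 (by norm_num)
      rwa [pow_one] at this
    exact o1.mul ((SYL.odd_succ_pow q 3 hev (by norm_num)).mul
      ((SYL.odd_pred_pow q 4 hev hq0 (by norm_num)).mul (SYL.odd_succ_pow q 6 hev (by norm_num))))
  have hZ : IsPGroup 2 (Subgroup.zpowers (⟨g, hg⟩ : G)) := by
    have hγ2 : (⟨g, hg⟩ : G) ^ 2 = 1 := by
      apply Subtype.ext
      rw [pow_two]
      exact h2
    intro x
    refine ⟨1, ?_⟩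
    obtain ⟨x, hx⟩ := x
    obtain ⟨k, rfl⟩ := Subgroup.mem_zpowers_iff.1 hx
    apply Subtype.ext
    simp only [pow_one, Subgroup.coe_pow, Subgroup.coe_one]
    rw [← zpow_natCast, ← zpow_mul, mul_comm, zpow_mul, zpow_natCast, hγ2, one_zpow]
  obtain ⟨k, -, hk⟩ := Cfsg.Agent.Helper6.Fus.exists_conj_le_sylow (hP.toSylow hidx) ⊤
    (Subgroup.zpowers (⟨g, hg⟩ : G)) le_top le_top hZ
  have h3 := hk ⟨g, hg⟩ (Subgroup.mem_zpowers _)
  refine ⟨k, k.2, ?_⟩
  exact h3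

end Cfsg.Agent.Helper11.F4I
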