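import Mathlib
import Cfsg.Agent.Lib.Helper13.G2IDefs

/-!
# G2I piece SL2A (helper22, for helper13's S4278/S4279): pure `SL₂` matrix algebra
-/

set_option autoImplicit false
set_option linter.unusedSectionVars false
set_option linter.unusedVariables false
set_option linter.unusedSimpArgs false

namespace Cfsg.Agent.Helper13.G2I

open Cfsg Cfsg.Lie Cfsg.Agent.Lead.Chev Cfsg.Agent.Helper11.G2T Cfsg.Agent.Helper6.SL2Hom
  Cfsg.Agent.Helper6.ChevL Matrix

variable {F : Type*} [Field F]

/-- entries of a product in `SL₂` -/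
theorem sl2a_mul_apply (A B : SpecialLinearGroup (Fin 2) F) (i j : Fin 2) :
    (A * B) i j = A i 0 * B 0 j + A i 1 * B 1 j := by
  rw [Matrix.SpecialLinearGroup.coe_mul, Matrix.mul_apply, Fin.sum_univ_two]

/-- a diagonal-scalar element of `SL₂` with `a² = 1` is `±1` -/
theorem sl2a_scalar (A : SpecialLinearGroup (Fin 2) F) (hb : A 0 1 = 0) (hc : A 1 0 = 0)
    (had : A 0 0 = A 1 1) : A = 1 ∨ A = -1 := by
  have hdet := det_eq A
  rw [hb, hc, ← had] at hdet
  have h1 : (A 0 0 - 1) * (A 0 0 + 1) = 0 := by linear_combination hdet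
  rcases mul_eq_zero.mp h1 with h | h
  · left
    have ha : A 0 0 = 1 := by linear_combination h
    apply Matrix.SpecialLinearGroup.ext
    intro i j
    fin_cases i <;> fin_cases j
    · simpa using ha
    · simpa using hb
    · simpa using hc
    · simpa using (had.symm.trans ha)
  · right
    have ha : A 0 0 = -1 := by linear_combination h
    apply Matrix.SpecialLinearGroup.ext
    intro i j
    fin_cases i <;> fin_cases j
    · simpa [Matrix.SpecialLinearGroup.coe_neg] using ha
    · simpa [Matrix.SpecialLinearGroup.coe_neg] using hb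
    · simpa [Matrix.SpecialLinearGroup.coe_neg] using hc
    · simpa [Matrix.SpecialLinearGroup.coe_neg] using (had.symm.trans ha)

theorem sl2_sq_one (h2 : (2 : F) ≠ 0) (A : SpecialLinearGroup (Fin 2) F) (h : A * A = 1) :
    A = 1 ∨ A = -1 := by
  have hdet := det_eq A
  have e00 : A 0 0 * A 0 0 + A 0 1 * A 1 0 = 1 := by
    have := sl2a_mul_apply A A 0 0
    rw [h] at this
    simpa using this.symm
  have e01 : A 0 0 * A 0 1 + A 0 1 * A 1 1 = 0 := by
    have := sl2a_mul_apply A A 0 1
    rw [h] at this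
    simpa using this.symm
  have e10 : A 1 0 * A 0 0 + A 1 1 * A 1 0 = 0 := by
    have := sl2a_mul_apply A A 1 0
    rw [h] at this
    simpa using this.symm
  have e11 : A 1 0 * A 0 1 + A 1 1 * A 1 1 = 1 := by
    have := sl2a_mul_apply A A 1 1
    rw [h] at this
    simpa using this.symm
  -- (a+d) a = 2 etc.
  have hs : (A 0 0 + A 1 1) * (A 0 0 + A 1 1) = 2 + 2 := by
    linear_combination e00 + e11 + 2 * hdet
  have hs0 : A 0 0 + A 1 1 ≠ 0 := by
    intro h0
    rw [h0] at hs
    have : (2 : F) * 2 = 0 := by linear_combination -hs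
    rcases mul_eq_zero.mp this with h | h <;> exact h2 h
  have hb : A 0 1 = 0 := by
    have : (A 0 0 + A 1 1) * A 0 1 = 0 := by linear_combination e01
    rcases mul_eq_zero.mp this with h | h
    · exact absurd h hs0
    · exact h
  have hc : A 1 0 = 0 := by
    have : (A 0 0 + A 1 1) * A 1 0 = 0 := by linear_combination e10
    rcases mul_eq_zero.mp this with h | h
    · exact absurd h hs0
    · exact h
  have had : A 0 0 = A 1 1 := by
    have : (A 0 0 + A 1 1) * (A 0 0 - A 1 1) = 0 := by linear_combination e00 - e11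
    rcases mul_eq_zero.mp this with h | h
    · exact absurd h hs0
    · linear_combination h
  exact sl2a_scalar A hb hc had

theorem sl2_center (A : SpecialLinearGroup (Fin 2) F)
    (h : ∀ B : SpecialLinearGroup (Fin 2) F, A * B = B * A) :
    A = 1 ∨ A = -1 := by
  have hx := h (xS 1)
  have hy := h (yS 1)
  have hc : A 1 0 = 0 := by
    have e1 := sl2a_mul_apply A (xS 1) 0 0
    have e2 := sl2a_mul_apply (xS 1) A 0 0
    rw [hx] at e1
    rw [e1] at e2
    simp [xS_coe] at e2
    exact e2
  have hb : A 0 1 = 0 := by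
    have e1 := sl2a_mul_apply A (yS 1) 1 1
    have e2 := sl2a_mul_apply (yS 1) A 1 1
    rw [hy] at e1
    rw [e1] at e2
    simp [yS_coe] at e2
    exact e2
  have had : A 0 0 = A 1 1 := by
    have e1 := sl2a_mul_apply A (xS 1) 0 1
    have e2 := sl2a_mul_apply (xS 1) A 0 1
    rw [hx] at e1
    rw [e1] at e2
    simp [xS_coe] at e2
    rw [hb] at e2
    simpa using e2
  exact sl2a_scalar A hb hc had

/-- a finite field with `2 ≠ 0` has odd order -/
theorem sl2a_odd_card [Fintype F] (h2 : (2 : F) ≠ 0) : Fintype.card F % 2 = 1 := by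
  apply FiniteField.odd_card_of_char_ne_two
  intro hc
  have hcp : CharP F 2 := by
    rw [← hc]
    exact ringChar.charP F
  have : ((2 : ℕ) : F) = 0 := CharP.cast_eq_zero F 2
  exact h2 (by exact_mod_cast this)

/-- the binary form `-c x² + 2 a x y + b y²` of a trace-zero `A` represents `1` -/
theorem sl2a_represent [Fintype F] (h2 : (2 : F) ≠ 0) (a b c : F) (hdet : -(a * a) - b * c = 1) :
    ∃ x y : F, -c * x * x + 2 * a * x * y + b * y * y = 1 := by
  by_cases hc : c = 0
  · subst hc
    have ha : a ≠ 0 := by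
      intro h0
      rw [h0] at hdet
      simp at hdet
    refine ⟨(1 - b) / (2 * a), 1, ?_⟩
    field_simp
    ring
  · -- use the two-quadratics lemma
    have hodd := sl2a_odd_card h2
    open Polynomial in
    have key : ∃ u v : F, (Polynomial.C (-c) * Polynomial.X ^ 2 + Polynomial.C (-1 : F)).eval u
        + (Polynomial.C (-(1 / c)) * Polynomial.X ^ 2).eval v = 0 := by
      apply FiniteField.exists_root_sum_quadratic _ _ hodd
      · have : (Polynomial.C (-c) * Polynomial.X ^ 2 + Polynomial.C (-1 : F)) =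
            Polynomial.C (-c) * Polynomial.X ^ 2 + Polynomial.C 0 * Polynomial.X
              + Polynomial.C (-1 : F) := by simp
        rw [this]
        exact Polynomial.degree_quadratic (neg_ne_zero.mpr hc)
      · have hne : -(1 / c) ≠ 0 := neg_ne_zero.mpr (one_div_ne_zero hc)
        rw [Polynomial.degree_C_mul_X_pow 2 hne]
        rfl
    obtain ⟨u, v, huv⟩ := key
    simp only [Polynomial.eval_add, Polynomial.eval_mul, Polynomial.eval_C, Polynomial.eval_pow,
      Polynomial.eval_X] at huv
    -- -c u² - 1 - v²/c = 0.  x - (a/c) y = u, y = v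
    refine ⟨u + a / c * v, v, ?_⟩
    have hbc : b = (-(a * a) - 1) / c := by
      field_simp
      linear_combination -hdet
    rw [hbc]
    field_simp
    field_simp at huv
    linear_combination huv

/-- all elements of order 4 of `SL₂(F)` are conjugate (`F` finite of odd order) -/
theorem sl2_conj_nS [Fintype F] (h2 : (2 : F) ≠ 0) (A : SpecialLinearGroup (Fin 2) F)
    (h : A * A = -1) :
    ∃ P : SpecialLinearGroup (Fin 2) F, P * A * P⁻¹ = nS F := by
  have hdet := det_eq A
  have e00 : A 0 0 * A 0 0 + A 0 1 * A 1 0 = -1 := by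
    have := sl2a_mul_apply A A 0 0
    rw [h] at this
    simpa [Matrix.SpecialLinearGroup.coe_neg] using this.symm
  have e01 : A 0 0 * A 0 1 + A 0 1 * A 1 1 = 0 := by
    have := sl2a_mul_apply A A 0 1
    rw [h] at this
    simpa [Matrix.SpecialLinearGroup.coe_neg] using this.symm
  have e10 : A 1 0 * A 0 0 + A 1 1 * A 1 0 = 0 := by
    have := sl2a_mul_apply A A 1 0
    rw [h] at this
    simpa [Matrix.SpecialLinearGroup.coe_neg] using this.symm
  have e11 : A 1 0 * A 0 1 + A 1 1 * A 1 1 = -1 := by
    have := sl2a_mul_apply A A 1 1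
    rw [h] at this
    simpa [Matrix.SpecialLinearGroup.coe_neg] using this.symm
  -- trace zero
  have htr : A 0 0 + A 1 1 = 0 := by
    have : (A 0 0 + A 1 1) * (A 0 0 + A 1 1) = 0 := by
      linear_combination e00 + e11 + 2 * hdet
    exact mul_self_eq_zero.mp this
  have hd : A 1 1 = -A 0 0 := by linear_combination htr
  have hdet' : -(A 0 0 * A 0 0) - A 0 1 * A 1 0 = 1 := by
    rw [hd] at hdet
    linear_combination hdet
  obtain ⟨x, y, hxy⟩ := sl2a_represent h2 (A 0 0) (A 0 1) (A 1 0) hdet'
  -- Q = [[x, -(a x + b y)], [y, -(c x + d y)]]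
  let Q : SpecialLinearGroup (Fin 2) F :=
    ⟨!![x, -(A 0 0 * x + A 0 1 * y); y, -(A 1 0 * x + A 1 1 * y)], by
      rw [Matrix.det_fin_two_of, hd]
      linear_combination hxy⟩
  have hQ00 : Q 0 0 = x := rfl
  have hQ01 : Q 0 1 = -(A 0 0 * x + A 0 1 * y) := rfl
  have hQ10 : Q 1 0 = y := rfl
  have hQ11 : Q 1 1 = -(A 1 0 * x + A 1 1 * y) := rfl
  have hAQ : A * Q = Q * nS F := by
    apply Matrix.SpecialLinearGroup.ext
    intro i j
    rw [sl2a_mul_apply, sl2a_mul_apply]
    fin_cases i <;> fin_cases j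
    · simp [nS_coe, hQ00, hQ01, hQ10, hQ11]
    · simp [nS_coe, hQ00, hQ01, hQ10, hQ11]
      linear_combination (-x) * e00 + (-y) * e01
    · simp [nS_coe, hQ00, hQ01, hQ10, hQ11]
    · simp [nS_coe, hQ00, hQ01, hQ10, hQ11]
      linear_combination (-x) * e10 + (-y) * e11
  refine ⟨Q⁻¹, ?_⟩
  rw [inv_inv, mul_assoc, hAQ, ← mul_assoc, inv_mul_cancel, one_mul]

end Cfsg.Agent.Helper13.G2I
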