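import Mathlib
import Cfsg.Agent.Lib.Helper13.G2IDefs

/-!
# G2I piece SL2B (helper22, for helper13's S4278/S4279): `sconj` and the `GL₂` lemmas
-/

set_option autoImplicit false
set_option linter.unusedSectionVars false
set_option linter.unusedVariables false
set_option linter.unusedSimpArgs false

namespace Cfsg.Agent.Helper13.G2I

open Cfsg Cfsg.Lie Cfsg.Agent.Lead.Chev Cfsg.Agent.Helper11.G2T Cfsg.Agent.Helper6.SL2Hom
  Cfsg.Agent.Helper6.ChevL Matrix

variable {F : Type*} [Field F]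

/-- entries of a product in `SL₂` -/
theorem sl2b_mul_apply (A B : SpecialLinearGroup (Fin 2) F) (i j : Fin 2) :
    (A * B) i j = A i 0 * B 0 j + A i 1 * B 1 j := by
  rw [Matrix.SpecialLinearGroup.coe_mul, Matrix.mul_apply, Fin.sum_univ_two]

theorem sl2b_sconj_00 (A : SpecialLinearGroup (Fin 2) F) : (sconj F A) 0 0 = A 0 0 := rfl
theorem sl2b_sconj_01 (A : SpecialLinearGroup (Fin 2) F) : (sconj F A) 0 1 = -A 0 1 := rfl
theorem sl2b_sconj_10 (A : SpecialLinearGroup (Fin 2) F) : (sconj F A) 1 0 = -A 1 0 := rfl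
theorem sl2b_sconj_11 (A : SpecialLinearGroup (Fin 2) F) : (sconj F A) 1 1 = A 1 1 := rfl

theorem sconj_mul (A B : SpecialLinearGroup (Fin 2) F) :
    sconj F (A * B) = sconj F A * sconj F B := by
  apply Matrix.SpecialLinearGroup.ext
  intro i j
  fin_cases i <;> fin_cases j
  · show (sconj F (A * B)) 0 0 = (sconj F A * sconj F B) 0 0
    rw [sl2b_sconj_00, sl2b_mul_apply, sl2b_mul_apply, sl2b_sconj_00, sl2b_sconj_00,
      sl2b_sconj_01, sl2b_sconj_10]
    ring
  · show (sconj F (A * B)) 0 1 = (sconj F A * sconj F B) 0 1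
    rw [sl2b_sconj_01, sl2b_mul_apply, sl2b_mul_apply, sl2b_sconj_00, sl2b_sconj_11,
      sl2b_sconj_01, sl2b_sconj_01]
    ring
  · show (sconj F (A * B)) 1 0 = (sconj F A * sconj F B) 1 0
    rw [sl2b_sconj_10, sl2b_mul_apply, sl2b_mul_apply, sl2b_sconj_00, sl2b_sconj_11,
      sl2b_sconj_10, sl2b_sconj_10]
    ring
  · show (sconj F (A * B)) 1 1 = (sconj F A * sconj F B) 1 1
    rw [sl2b_sconj_11, sl2b_mul_apply, sl2b_mul_apply, sl2b_sconj_11, sl2b_sconj_11,
      sl2b_sconj_01, sl2b_sconj_10]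
    ring

theorem sconj_one : sconj F 1 = 1 := by
  apply Matrix.SpecialLinearGroup.ext
  intro i j
  fin_cases i <;> fin_cases j
  · show (sconj F 1) 0 0 = (1 : SpecialLinearGroup (Fin 2) F) 0 0
    rw [sl2b_sconj_00]
  · show (sconj F 1) 0 1 = (1 : SpecialLinearGroup (Fin 2) F) 0 1
    rw [sl2b_sconj_01]; simp
  · show (sconj F 1) 1 0 = (1 : SpecialLinearGroup (Fin 2) F) 1 0
    rw [sl2b_sconj_10]; simp
  · show (sconj F 1) 1 1 = (1 : SpecialLinearGroup (Fin 2) F) 1 1
    rw [sl2b_sconj_11]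

theorem sconj_sconj (A : SpecialLinearGroup (Fin 2) F) : sconj F (sconj F A) = A := by
  apply Matrix.SpecialLinearGroup.ext
  intro i j
  fin_cases i <;> fin_cases j
  · show (sconj F (sconj F A)) 0 0 = A 0 0
    rw [sl2b_sconj_00, sl2b_sconj_00]
  · show (sconj F (sconj F A)) 0 1 = A 0 1
    rw [sl2b_sconj_01, sl2b_sconj_01, neg_neg]
  · show (sconj F (sconj F A)) 1 0 = A 1 0
    rw [sl2b_sconj_10, sl2b_sconj_10, neg_neg]
  · show (sconj F (sconj F A)) 1 1 = A 1 1
    rw [sl2b_sconj_11, sl2b_sconj_11]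

theorem sconj_inv (A : SpecialLinearGroup (Fin 2) F) : sconj F A⁻¹ = (sconj F A)⁻¹ := by
  apply eq_inv_of_mul_eq_one_left
  rw [← sconj_mul, inv_mul_cancel, sconj_one]

theorem sconj_xS (t : F) : sconj F (xS t) = xS (-t) := by
  apply Matrix.SpecialLinearGroup.ext
  intro i j
  fin_cases i <;> fin_cases j
  · show (sconj F (xS t)) 0 0 = (xS (-t)) 0 0
    rw [sl2b_sconj_00]; simp [xS_coe]
  · show (sconj F (xS t)) 0 1 = (xS (-t)) 0 1
    rw [sl2b_sconj_01]; simp [xS_coe]
  · show (sconj F (xS t)) 1 0 = (xS (-t)) 1 0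
    rw [sl2b_sconj_10]; simp [xS_coe]
  · show (sconj F (xS t)) 1 1 = (xS (-t)) 1 1
    rw [sl2b_sconj_11]; simp [xS_coe]

theorem sconj_yS (t : F) : sconj F (yS t) = yS (-t) := by
  apply Matrix.SpecialLinearGroup.ext
  intro i j
  fin_cases i <;> fin_cases j
  · show (sconj F (yS t)) 0 0 = (yS (-t)) 0 0
    rw [sl2b_sconj_00]; simp [yS_coe]
  · show (sconj F (yS t)) 0 1 = (yS (-t)) 0 1
    rw [sl2b_sconj_01]; simp [yS_coe]
  · show (sconj F (yS t)) 1 0 = (yS (-t)) 1 0
    rw [sl2b_sconj_10]; simp [yS_coe]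
  · show (sconj F (yS t)) 1 1 = (yS (-t)) 1 1
    rw [sl2b_sconj_11]; simp [yS_coe]

theorem sconj_nS : sconj F (nS F) = -nS F := by
  apply Matrix.SpecialLinearGroup.ext
  intro i j
  fin_cases i <;> fin_cases j
  · show (sconj F (nS F)) 0 0 = (-nS F : SpecialLinearGroup (Fin 2) F) 0 0
    rw [sl2b_sconj_00]; simp [nS_coe, Matrix.SpecialLinearGroup.coe_neg]
  · show (sconj F (nS F)) 0 1 = (-nS F : SpecialLinearGroup (Fin 2) F) 0 1
    rw [sl2b_sconj_01]; simp [nS_coe, Matrix.SpecialLinearGroup.coe_neg]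
  · show (sconj F (nS F)) 1 0 = (-nS F : SpecialLinearGroup (Fin 2) F) 1 0
    rw [sl2b_sconj_10]; simp [nS_coe, Matrix.SpecialLinearGroup.coe_neg]
  · show (sconj F (nS F)) 1 1 = (-nS F : SpecialLinearGroup (Fin 2) F) 1 1
    rw [sl2b_sconj_11]; simp [nS_coe, Matrix.SpecialLinearGroup.coe_neg]

/-- `A · δAδ = ε` with `ε = ±1`: if `ε = -1` then `-1` is a square; if `ε = 1` then `A = P⁻¹ · δPδ`. -/
theorem sconj_cocycle_neg (h2 : (2 : F) ≠ 0) (A : SpecialLinearGroup (Fin 2) F)
    (h : A * sconj F A = -1) :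
    IsSquare (-1 : F) := by
  have hdet := det_eq A
  have e00 : A 0 0 * A 0 0 - A 0 1 * A 1 0 = -1 := by
    have := sl2b_mul_apply A (sconj F A) 0 0
    rw [h, sl2b_sconj_00, sl2b_sconj_10] at this
    simp [Matrix.SpecialLinearGroup.coe_neg] at this
    linear_combination -this
  have e01 : -(A 0 0 * A 0 1) + A 0 1 * A 1 1 = 0 := by
    have := sl2b_mul_apply A (sconj F A) 0 1
    rw [h, sl2b_sconj_01, sl2b_sconj_11] at this
    simp [Matrix.SpecialLinearGroup.coe_neg] at this
    linear_combination -this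
  have e10 : A 1 0 * A 0 0 - A 1 1 * A 1 0 = 0 := by
    have := sl2b_mul_apply A (sconj F A) 1 0
    rw [h, sl2b_sconj_00, sl2b_sconj_10] at this
    simp [Matrix.SpecialLinearGroup.coe_neg] at this
    linear_combination -this
  -- a (a - d) = -2
  have hne : A 0 0 * (A 0 0 - A 1 1) = -2 := by linear_combination e00 - hdet
  have had : A 0 0 - A 1 1 ≠ 0 := by
    intro h0
    rw [h0, mul_zero] at hne
    exact h2 (by linear_combination hne)
  have hb : A 0 1 = 0 := by
    have : (A 0 0 - A 1 1) * A 0 1 = 0 := by linear_combination -e01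
    rcases mul_eq_zero.mp this with h | h
    · exact absurd h had
    · exact h
  refine ⟨A 0 0, ?_⟩
  rw [hb] at e00
  linear_combination -e00

theorem sconj_cocycle_one (h2 : (2 : F) ≠ 0) (A : SpecialLinearGroup (Fin 2) F)
    (h : A * sconj F A = 1) :
    ∃ P : SpecialLinearGroup (Fin 2) F, A = P⁻¹ * sconj F P := by
  have hdet := det_eq A
  have e00 : A 0 0 * A 0 0 - A 0 1 * A 1 0 = 1 := by
    have := sl2b_mul_apply A (sconj F A) 0 0
    rw [h, sl2b_sconj_00, sl2b_sconj_10] at this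
    simp at this
    linear_combination -this
  have e01 : -(A 0 0 * A 0 1) + A 0 1 * A 1 1 = 0 := by
    have := sl2b_mul_apply A (sconj F A) 0 1
    rw [h, sl2b_sconj_01, sl2b_sconj_11] at this
    simp at this
    linear_combination -this
  have e10 : A 1 0 * A 0 0 - A 1 1 * A 1 0 = 0 := by
    have := sl2b_mul_apply A (sconj F A) 1 0
    rw [h, sl2b_sconj_00, sl2b_sconj_10] at this
    simp at this
    linear_combination -this
  have e11 : -(A 1 0 * A 0 1) + A 1 1 * A 1 1 = 1 := by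
    have := sl2b_mul_apply A (sconj F A) 1 1
    rw [h, sl2b_sconj_01, sl2b_sconj_11] at this
    simp at this
    linear_combination -this
  -- a (a - d) = 0 and d (d - a) = 0, so a = d
  have had : A 0 0 = A 1 1 := by
    have h1 : A 0 0 * (A 0 0 - A 1 1) = 0 := by linear_combination e00 - hdet
    have h2' : A 1 1 * (A 0 0 - A 1 1) = 0 := by linear_combination hdet - e11
    have : (A 0 0 - A 1 1) * (A 0 0 - A 1 1) = 0 := by linear_combination h1 - h2'
    have := mul_self_eq_zero.mp this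
    linear_combination this
  -- suffices: P * A = sconj P
  suffices hs : ∃ P : SpecialLinearGroup (Fin 2) F, P * A = sconj F P by
    obtain ⟨P, hP⟩ := hs
    exact ⟨P, by rw [← hP, ← mul_assoc, inv_mul_cancel, one_mul]⟩
  by_cases ha : A 0 0 + 1 = 0
  · -- a = d = -1, b c = 0
    have ha' : A 0 0 = -1 := by linear_combination ha
    have hd' : A 1 1 = -1 := by rw [← had]; exact ha'
    have hbc : A 0 1 * A 1 0 = 0 := by
      rw [ha'] at e00
      linear_combination -e00
    let P : SpecialLinearGroup (Fin 2) F :=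
      ⟨!![A 1 0 / 2, 1; -1, -(A 0 1) / 2], by
        rw [Matrix.det_fin_two_of]
        field_simp
        linear_combination -hbc⟩
    have hP00 : P 0 0 = A 1 0 / 2 := rfl
    have hP01 : P 0 1 = 1 := rfl
    have hP10 : P 1 0 = -1 := rfl
    have hP11 : P 1 1 = -(A 0 1) / 2 := rfl
    refine ⟨P, ?_⟩
    apply Matrix.SpecialLinearGroup.ext
    intro i j
    fin_cases i <;> fin_cases j
    · show (P * A) 0 0 = (sconj F P) 0 0
      rw [sl2b_mul_apply, sl2b_sconj_00, hP00, hP01, ha']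
      field_simp
      ring
    · show (P * A) 0 1 = (sconj F P) 0 1
      rw [sl2b_mul_apply, sl2b_sconj_01, hP00, hP01, hd']
      field_simp
      linear_combination hbc
    · show (P * A) 1 0 = (sconj F P) 1 0
      rw [sl2b_mul_apply, sl2b_sconj_10, hP10, hP11, ha']
      field_simp
      linear_combination -hbc
    · show (P * A) 1 1 = (sconj F P) 1 1
      rw [sl2b_mul_apply, sl2b_sconj_11, hP10, hP11, hd']
      field_simp
      ring
  · -- a + 1 ≠ 0
    let P : SpecialLinearGroup (Fin 2) F :=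
      ⟨!![1, -(A 0 1) / (A 0 0 + 1); -(A 1 0) / 2, (A 0 0 + 1) / 2], by
        rw [Matrix.det_fin_two_of]
        field_simp
        linear_combination e00⟩
    have hP00 : P 0 0 = 1 := rfl
    have hP01 : P 0 1 = -(A 0 1) / (A 0 0 + 1) := rfl
    have hP10 : P 1 0 = -(A 1 0) / 2 := rfl
    have hP11 : P 1 1 = (A 0 0 + 1) / 2 := rfl
    refine ⟨P, ?_⟩
    apply Matrix.SpecialLinearGroup.ext
    intro i j
    fin_cases i <;> fin_cases j
    · show (P * A) 0 0 = (sconj F P) 0 0
      rw [sl2b_mul_apply, sl2b_sconj_00, hP00, hP01]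
      field_simp
      linear_combination e00
    · show (P * A) 0 1 = (sconj F P) 0 1
      rw [sl2b_mul_apply, sl2b_sconj_01, hP00, hP01, ← had]
      field_simp
      ring
    · show (P * A) 1 0 = (sconj F P) 1 0
      rw [sl2b_mul_apply, sl2b_sconj_10, hP10, hP11]
      field_simp
      ring
    · show (P * A) 1 1 = (sconj F P) 1 1
      rw [sl2b_mul_apply, sl2b_sconj_11, hP10, hP11, ← had]
      field_simp
      linear_combination e00

end Cfsg.Agent.Helper13.G2I
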