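import Mathlib
import Cfsg.Agent.Lib.Helper18.InvC2Defs
import Cfsg.Agent.Lib.Helper12.InvC2RW
import Cfsg.Agent.Lib.Helper25.InvC2COMM

/-!
# INVN piece C2-FUSE (helper22, for helper18): the fusion identity from the check
-/

set_option autoImplicit false
set_option linter.unusedSectionVars false
set_option linter.unusedVariables false

namespace Cfsg.Agent.Helper13.InvN

open Cfsg Cfsg.Lie Cfsg.Agent.Lead.Chev

variable {F : Type*} [Field F] [CharP F 2] {D : ChevalleyDatum} (hF : ChevFacts D F)
include hF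

/-- the abstract generators of the collection process: `x_{tbl[i]}(1)` inside the table, `1` outside -/
noncomputable def c2fuseX (FD : FuseData) (i : ℕ) : GL D.Idx F :=
  if i < FD.tbl.length then xGL D hF.xadd (FD.rt i) 1 else 1

theorem c2fuse_evw (FD : FuseData) (w : List ℕ) (hw : ∀ i ∈ w, i < FD.tbl.length) :
    evw (c2fuseX hF FD) w = xprod hF (w.map FD.rt) := by
  induction w with
  | nil => simp [evw, xprod]
  | cons a t ih =>
    have ha : a < FD.tbl.length := hw a (List.mem_cons_self)
    have ht : ∀ i ∈ t, i < FD.tbl.length := fun i hi => hw i (List.mem_cons_of_mem _ hi)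
    have ih' := ih ht
    unfold evw xprod at ih' ⊢
    rw [List.map_cons, List.prod_cons, ih', List.map_cons, List.map_cons, List.prod_cons]
    congr 1
    unfold c2fuseX
    rw [if_pos ha]

theorem c2fuse_sq (FD : FuseData) (i : ℕ) : c2fuseX hF FD i * c2fuseX hF FD i = 1 := by
  unfold c2fuseX
  split_ifs
  · exact xGL_sq_char2 hF _ _
  · exact one_mul 1

theorem c2fuse_rt_mem (FD : FuseData) (i : ℕ) (hi : i < FD.tbl.length) : FD.rt i ∈ FD.tbl := by
  unfold FuseData.rt
  rw [List.getD_eq_getElem _ _ hi]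
  exact List.getElem_mem hi

theorem c2fuse_comm (FD : FuseData)
    (htbl : ∀ r ∈ FD.tbl, r < D.nroots)
    (hpair : ∀ j, j < FD.tbl.length → ∀ i, i < j → fdPairOK D FD i j = true)
    (i j : ℕ) (hij : i < j) :
    c2fuseX hF FD j * c2fuseX hF FD i =
      c2fuseX hF FD i * c2fuseX hF FD j * evw (c2fuseX hF FD) (fdAdd D FD i j).toList := by
  by_cases hj : j < FD.tbl.length
  · have hi : i < FD.tbl.length := lt_trans hij hj
    have hxi : c2fuseX hF FD i = xGL D hF.xadd (FD.rt i) 1 := by
      unfold c2fuseX; rw [if_pos hi]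
    have hxj : c2fuseX hF FD j = xGL D hF.xadd (FD.rt j) 1 := by
      unfold c2fuseX; rw [if_pos hj]
    have hri : FD.rt i < D.nroots := htbl _ (c2fuse_rt_mem hF FD i hi)
    have hrj : FD.rt j < D.nroots := htbl _ (c2fuse_rt_mem hF FD j hj)
    have hok := hpair j hj i hij
    unfold fdPairOK at hok
    rw [Bool.and_eq_true, Bool.and_eq_true, decide_eq_true_eq, decide_eq_true_eq] at hok
    obtain ⟨⟨hne, hneg⟩, hm⟩ := hok
    unfold fdAdd
    rw [if_pos ⟨hi, hj⟩]
    -- case analysis on the commutator terms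
    rcases hct : D.commTerms (FD.rt i) (FD.rt j) with _ | ⟨c, _ | ⟨c', l⟩⟩
    · -- no term
      simp only [Option.toList_none, evw, List.map_nil, List.prod_nil, mul_one]
      rw [hxi, hxj]
      exact comm_of_nil hF _ _ hri hrj hne hneg hct 1 1
    · -- one term
      rw [hct] at hm
      simp only [Bool.and_eq_true, decide_eq_true_eq, Bool.or_eq_true, beq_iff_eq] at hm
      obtain ⟨⟨⟨hmem, he⟩, h1⟩, h2⟩ := hm
      have hidx : FD.tbl.idxOf c.1 < FD.tbl.length := List.idxOf_lt_length_iff.mpr hmem
      simp only [if_pos hidx, Option.toList_some, evw, List.map_cons, List.map_nil, List.prod_cons,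
        List.prod_nil, mul_one]
      have hxk : c2fuseX hF FD (FD.tbl.idxOf c.1) = xGL D hF.xadd c.1 1 := by
        unfold c2fuseX
        rw [if_pos hidx]
        congr 1
        unfold FuseData.rt
        rw [List.getD_eq_getElem _ _ hidx]
        exact List.getElem_idxOf hidx
      rw [hxi, hxj, hxk]
      have hc : D.commTerms (FD.rt i) (FD.rt j) = [(c.1, c.2.1, 1, 1)] := by
        rw [hct]
        congr 1
        obtain ⟨k, e, a, b⟩ := c
        simp only at h1 h2
        rw [h1, h2]
      exact comm_of_one hF _ _ c.1 c.2.1 hri hrj hne hneg he hc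
    · -- two or more terms: excluded
      rw [hct] at hm
      exact absurd hm (by simp)
  · -- `j` outside the table
    have hxj : c2fuseX hF FD j = 1 := by
      unfold c2fuseX; rw [if_neg hj]
    have hadd : fdAdd D FD i j = none := by
      unfold fdAdd
      rw [if_neg (fun h => hj h.2)]
    rw [hxj, hadd]
    simp [evw]

/-- the value of a reversed word is the inverse of the value -/
theorem c2fuse_evw_reverse (FD : FuseData) (w : List ℕ) :
    evw (c2fuseX hF FD) w.reverse = (evw (c2fuseX hF FD) w)⁻¹ := by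
  induction w with
  | nil => simp [evw]
  | cons a t ih =>
    unfold evw at ih ⊢
    rw [List.reverse_cons, List.map_append, List.prod_append, ih]
    simp only [List.map_cons, List.map_nil, List.prod_cons, List.prod_nil, mul_one, mul_inv_rev]
    congr 1
    exact (inv_eq_of_mul_eq_one_left (c2fuse_sq hF FD a)).symm

theorem c2fuse_evw_append (FD : FuseData) (w w' : List ℕ) :
    evw (c2fuseX hF FD) (w ++ w') = evw (c2fuseX hF FD) w * evw (c2fuseX hF FD) w' := by
  unfold evw
  rw [List.map_append, List.prod_append]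

theorem fuse_sound (FD : FuseData) (h : fuseChk D FD = true) :
    xprod hF FD.gs * xprod hF FD.q * (xprod hF FD.gs)⁻¹ = xprod hF FD.q' := by
  unfold fuseChk at h
  simp only [Bool.and_eq_true, List.all_eq_true, decide_eq_true_eq, List.mem_range] at h
  obtain ⟨⟨⟨⟨⟨htbl, hpair⟩, hgw⟩, hu3⟩, hu4⟩, hnorm⟩ := h
  have hsq := c2fuse_sq hF FD
  have hcomm := c2fuse_comm hF FD htbl hpair
  have e1 := evw_rwNorm (c2fuseX hF FD) (fdAdd D FD) hsq hcomm 1000 (FD.gw ++ FD.u3 ++ FD.gw.reverse)
  have e2 := evw_rwNorm (c2fuseX hF FD) (fdAdd D FD) hsq hcomm 1000 FD.u4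
  rw [hnorm, e2] at e1
  rw [c2fuse_evw_append, c2fuse_evw_append, c2fuse_evw_reverse, c2fuse_evw hF FD _ hgw,
    c2fuse_evw hF FD _ hu3, c2fuse_evw hF FD _ hu4] at e1
  exact e1.symm

end Cfsg.Agent.Helper13.InvN
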