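import Mathlib
import Cfsg.Agent.Lib.Helper21.N9KDefs

/-!
# S3702 GROUP piece TRA, part 1 (helper22, for helper21): transport along `c.ι : ↥K0 →* G`
(`J_comm`, `J_exp`, `J_normal` are in `N9TRAJ.lean`, which needs the piece KJ0)
-/

set_option autoImplicit false
set_option linter.unusedSectionVars false
set_option linter.unusedVariables false

namespace Cfsg.Agent.Helper21.N9

open Cfsg Cfsg.Agent.Helper16

universe u

section Transport

variable {G : Type u} [Group G] [Finite G] {H J : Subgroup G}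

theorem ι_injective (c : Cfg H J) : Function.Injective c.ι := by
  intro x y h
  rw [Cfg.ι_apply, Cfg.ι_apply] at h
  exact c.e.symm.injective (Subtype.ext h)

theorem ι_mem (c : Cfg H J) (x : ↥K0) : c.ι x ∈ H := by
  rw [Cfg.ι_apply]
  exact (c.e.symm x).2

theorem exists_ι (c : Cfg H J) {g : G} (hg : g ∈ H) : ∃ x : ↥K0, c.ι x = g := by
  refine ⟨c.e ⟨g, hg⟩, ?_⟩
  rw [Cfg.ι_apply, MulEquiv.symm_apply_apply]

theorem ι_mem_J (c : Cfg H J) (x : ↥K0) : c.ι x ∈ J ↔ x ∈ J0 := by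
  rw [Cfg.ι_apply, c.hJ, MulEquiv.apply_symm_apply]

theorem card_H (c : Cfg H J) : Nat.card ↥H = 648 := by
  rw [Nat.card_congr c.e.toEquiv, card_K0]

/-- `J` corresponds to `J0` under `c.e` -/
theorem tra_equivJ (c : Cfg H J) : Nonempty (↥J ≃ ↥J0) := by
  refine ⟨{ toFun := fun x => ⟨c.e ⟨(x : G), c.hJH x.2⟩, (c.hJ ⟨(x : G), c.hJH x.2⟩).mp x.2⟩
            invFun := fun y => ⟨c.ι (y : ↥K0), (ι_mem_J c y).mpr y.2⟩
            left_inv := ?_
            right_inv := ?_ }⟩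
  · intro x
    apply Subtype.ext
    show c.ι (c.e ⟨(x : G), c.hJH x.2⟩) = x
    rw [Cfg.ι_apply, MulEquiv.symm_apply_apply]
  · intro y
    apply Subtype.ext
    show c.e ⟨c.ι (y : ↥K0), _⟩ = (y : ↥K0)
    have : (⟨c.ι (y : ↥K0), c.hJH ((ι_mem_J c y).mpr y.2)⟩ : ↥H) = c.e.symm (y : ↥K0) := by
      apply Subtype.ext
      rfl
    rw [this, MulEquiv.apply_symm_apply]

theorem card_J (c : Cfg H J) : Nat.card ↥J = 27 := by
  obtain ⟨e⟩ := tra_equivJ c
  rw [Nat.card_congr e, card_J0]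

end Transport

end Cfsg.Agent.Helper21.N9
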