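import Mathlib

/-!
# S4278 / S4279 piece GRP1 (helper22 for helper13): a subgroup of odd index contains a conjugate of
every involution (and of every 2-subgroup).
-/

set_option autoImplicit false

namespace Cfsg.Agent.Helper13.G2I

/-- A `2`-subgroup `P` of a finite group is conjugate into every subgroup `C` of odd index:
some `g` has `g⁻¹ x g ∈ C` for all `x ∈ P`. -/
theorem grp1_conj_le {G : Type*} [Group G] [Finite G] (C : Subgroup G) (hC : Odd C.index)
    (P : Subgroup G) (hP : IsPGroup 2 P) : ∃ g : G, ∀ x ∈ P, g⁻¹ * x * g ∈ C := by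
  have : Fact (Nat.Prime 2) := ⟨Nat.prime_two⟩
  have hnd : ¬ 2 ∣ Nat.card (G ⧸ C) := by
    rw [← Subgroup.index_eq_card]
    exact fun h => (Nat.not_even_iff_odd.2 hC) (even_iff_two_dvd.2 h)
  obtain ⟨a, ha⟩ := hP.nonempty_fixed_point_of_prime_not_dvd_card (G ⧸ C) hnd
  induction a using QuotientGroup.induction_on with
  | H g =>
    refine ⟨g, fun x hx => ?_⟩
    have h1 := ha ⟨x, hx⟩
    have h2 : ((x * g : G) : G ⧸ C) = (g : G ⧸ C) := h1
    rw [QuotientGroup.eq] at h2
    have h3 : (x * g)⁻¹ * g = (g⁻¹ * x * g)⁻¹ := by group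
    rw [h3] at h2
    exact (C.inv_mem_iff).1 h2

/-- the subgroup generated by an involution is a `2`-group -/
theorem grp1_isPGroup_zpowers {G : Type*} [Group G] (t : G) (ht : t * t = 1) :
    IsPGroup 2 (Subgroup.zpowers t) := by
  rintro ⟨x, hx⟩
  refine ⟨1, ?_⟩
  obtain ⟨n, rfl⟩ := Subgroup.mem_zpowers_iff.1 hx
  apply Subtype.ext
  simp only [pow_one, Subgroup.coe_pow, Subgroup.coe_one]
  rw [← zpow_natCast, ← zpow_mul, mul_comm, zpow_mul, zpow_natCast, pow_two, ht, one_zpow]

/-- a subgroup of odd index contains a conjugate of every involution -/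
theorem odd_index_conj {G : Type*} [Group G] [Finite G] (C : Subgroup G) (hC : Odd C.index) (t : G)
    (ht : t * t = 1) : ∃ g : G, g * t * g⁻¹ ∈ C := by
  obtain ⟨g, hg⟩ := grp1_conj_le C hC (Subgroup.zpowers t) (grp1_isPGroup_zpowers t ht)
  refine ⟨g⁻¹, ?_⟩
  have := hg t (Subgroup.mem_zpowers t)
  rwa [inv_inv]

end Cfsg.Agent.Helper13.G2I
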