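import Mathlib
import Cfsg.Agent.S0111
import Cfsg.Agent.Lib.Helper22.G2I_GRP1

/-!
# S4278 / S4279 piece GRP2 (helper22 for helper13): the Thompson transfer step

`G` finite simple nonabelian, `K ≤ C` of index `2`, `C` of odd index, `t ∈ C ∖ K` an involution:
some conjugate of `t` lies in `K` (Thompson transfer lemma `S0111`).
-/

set_option autoImplicit false
set_option linter.unusedVariables false

namespace Cfsg.Agent.Helper13.G2I

/-- a simple group with two non-commuting elements has no normal subgroup of index `2` -/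
theorem grp2_no_index_two {G : Type*} [Group G] [Finite G] [IsSimpleGroup G]
    (hnc : ∃ a b : G, a * b ≠ b * a) (M : Subgroup G) (hM : M.Normal) (hi : M.index = 2) : False := by
  rcases hM.eq_bot_or_eq_top with h | h
  · -- `|G| = 2`: abelian
    rw [h, Subgroup.index_bot] at hi
    obtain ⟨a, b, hab⟩ := hnc
    have hc : IsCyclic G := isCyclic_of_prime_card (p := 2) hi
    obtain ⟨c, hc'⟩ := hc.exists_generator
    obtain ⟨m, rfl⟩ := Subgroup.mem_zpowers_iff.1 (hc' a)
    obtain ⟨n, rfl⟩ := Subgroup.mem_zpowers_iff.1 (hc' b)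
    exact hab (by rw [← zpow_add, ← zpow_add, add_comm])
  · rw [h, Subgroup.index_top] at hi
    omega

theorem thompson_step {G : Type*} [Group G] [Finite G] [IsSimpleGroup G] (hnc : ∃ a b : G, a * b ≠ b * a)
    (C K : Subgroup G) (hKC : K ≤ C) (hC : Odd C.index) (hK : K.relIndex C = 2) (t : G) (htC : t ∈ C)
    (htK : t ∉ K) (ht : t * t = 1) : ∃ g : G, g * t * g⁻¹ ∈ K := by
  have : Fact (Nat.Prime 2) := ⟨Nat.prime_two⟩
  have ht1 : t ≠ 1 := fun h => htK (h ▸ K.one_mem)
  -- a Sylow 2-subgroup containing `t`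
  obtain ⟨P₀, hP₀⟩ := (grp1_isPGroup_zpowers t ht).exists_le_sylow
  have htP₀ : t ∈ (P₀ : Subgroup G) := hP₀ (Subgroup.mem_zpowers t)
  -- conjugate it into `C`
  obtain ⟨g, hg⟩ := grp1_conj_le C hC (P₀ : Subgroup G) P₀.2
  -- the conjugate Sylow subgroup
  let P : Sylow 2 G := g⁻¹ • P₀
  have hmemP : ∀ x, x ∈ (P₀ : Subgroup G) → g⁻¹ * x * g ∈ (P : Subgroup G) := by
    intro x hx
    have : g⁻¹ * x * g = MulAut.conj g⁻¹ x := by simp
    rw [this]
    show MulAut.conj g⁻¹ x ∈ ((g⁻¹ • P₀ : Sylow 2 G) : Subgroup G)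
    rw [Sylow.coe_subgroup_smul]
    exact Subgroup.smul_mem_pointwise_smul x (MulAut.conj g⁻¹) (P₀ : Subgroup G) hx
  have hPC : (P : Subgroup G) ≤ C := by
    intro y hy
    have hy' : y ∈ ((g⁻¹ • P₀ : Sylow 2 G) : Subgroup G) := hy
    rw [Sylow.coe_subgroup_smul] at hy'
    obtain ⟨x, hx, rfl⟩ := hy'
    have : (MulAut.conj g⁻¹ • x : G) = g⁻¹ * x * g := by simp [MulAut.smul_def]
    show (MulAut.conj g⁻¹ • x : G) ∈ C
    rw [this]
    exact hg x hx
  set t' : G := g⁻¹ * t * g with ht'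
  have ht'P : t' ∈ (P : Subgroup G) := hmemP t htP₀
  by_cases ht'K : t' ∈ K
  · exact ⟨g⁻¹, by rwa [inv_inv]⟩
  · -- Thompson transfer
    have ht'1 : t' ≠ 1 := fun h => ht'K (h ▸ K.one_mem)
    have ht'2 : t' * t' = 1 := by
      rw [ht']
      calc g⁻¹ * t * g * (g⁻¹ * t * g) = g⁻¹ * (t * t) * g := by group
        _ = 1 := by rw [ht]; group
    have hord : orderOf t' = 2 := orderOf_eq_prime (by rw [pow_two]; exact ht'2) ht'1
    have hrel : ((P : Subgroup G) ⊓ K).relIndex (P : Subgroup G) = 2 := by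
      rw [Subgroup.inf_relIndex_left]
      have hle : K.relIndex (P : Subgroup G) ≤ 2 := by
        have := Subgroup.relIndex_le_of_le_right (H := K) hPC (by rw [hK]; norm_num)
        rwa [hK] at this
      have hne1 : K.relIndex (P : Subgroup G) ≠ 1 := by
        rw [Ne, Subgroup.relIndex_eq_one]
        exact fun h => ht'K (h ht'P)
      have hne0 : K.relIndex (P : Subgroup G) ≠ 0 := by
        have : (K.subgroupOf (P : Subgroup G)).FiniteIndex := inferInstance
        exact this.index_ne_zero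
      omega
    rcases Cfsg.Agent.S0111.result P ((P : Subgroup G) ⊓ K) inf_le_left hrel t' hord ht'P
      (fun h => ht'K h.2) with ⟨M, hMn, hMi, _⟩ | ⟨g', hg'⟩
    · exact (grp2_no_index_two hnc M hMn hMi).elim
    · refine ⟨g' * g⁻¹, ?_⟩
      have : g' * g⁻¹ * t * (g' * g⁻¹)⁻¹ = g' * t' * g'⁻¹ := by rw [ht']; group
      rw [this]
      exact hg'.2

end Cfsg.Agent.Helper13.G2I
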