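import Mathlib
import Cfsg.Prelude
import Cfsg.Agent.Lib.Helper13.SylODefs

set_option autoImplicit false
set_option linter.unusedSectionVars false
set_option linter.unusedVariables false
set_option linter.style.haveILetI false
set_option linter.unnecessarySimpa false

/-! S4613 piece SYLO-QUOT (helper22): `SylOpp` passes to the image under a surjection with central
kernel. -/

namespace Cfsg.Agent.Helper13.SylO

open Cfsg
open scoped Pointwise

section grp

variable {H : Type*} [Group H] [Finite H] {p : ℕ} [Fact p.Prime]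

/-- a central `p`-element lies in every Sylow `p`-subgroup -/
theorem quot_central_mem (c : H) (hc : c ∈ Subgroup.center H) (k : ℕ) (hk : c ^ p ^ k = 1)
    (Q : Sylow p H) : c ∈ (Q : Subgroup H) := by
  have hP : IsPGroup p (Subgroup.zpowers c) := by
    rw [IsPGroup.iff_card, Nat.card_zpowers]
    have hdvd : orderOf c ∣ p ^ k := orderOf_dvd_of_pow_eq_one hk
    obtain ⟨j, _, hj⟩ := (Nat.dvd_prime_pow (Fact.out : p.Prime)).1 hdvd
    exact ⟨j, hj⟩
  obtain ⟨S, hS⟩ := hP.exists_le_sylow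
  have hcS : c ∈ (S : Subgroup H) := hS (Subgroup.mem_zpowers c)
  obtain ⟨g, hg⟩ := MulAction.exists_smul_eq H S Q
  rw [← hg, Sylow.smul_def]
  show c ∈ (MulAut.conj g • (S : Subgroup H))
  rw [Subgroup.mem_pointwise_smul_iff_inv_smul_mem, MulAut.smul_def, ← map_inv,
    MulAut.conj_apply]
  have : g⁻¹ * c * g⁻¹⁻¹ = c := by
    rw [inv_inv, (Subgroup.mem_center_iff.1 hc g⁻¹), mul_assoc, inv_mul_cancel, mul_one]
  rw [this]
  exact hcS

/-- a central `p`-element of a group with `SylOpp` is trivial -/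
theorem quot_central_eq_one (h : SylOpp p H) (c : H) (hc : c ∈ Subgroup.center H) (k : ℕ)
    (hk : c ^ p ^ k = 1) : c = 1 := by
  obtain ⟨⟨U, _⟩, _, h3⟩ := h
  obtain ⟨E, hE, _⟩ := h3 U U
  have h1 : c ∈ (E : Subgroup H) ⊓ (U : Subgroup H) :=
    ⟨quot_central_mem c hc k hk E, quot_central_mem c hc k hk U⟩
  rw [hE] at h1
  exact (Subgroup.mem_bot).1 h1

theorem quot_pow_of_mem (P : Sylow p H) (x : H) (hx : x ∈ (P : Subgroup H)) :
    ∃ k : ℕ, x ^ p ^ k = 1 := by
  obtain ⟨k, hk⟩ := P.2 ⟨x, hx⟩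
  exact ⟨k, by simpa using congrArg Subtype.val hk⟩

variable {X : Type*} [Group X] (f : H →* X)

theorem quot_inf_iff (hker : f.ker ≤ Subgroup.center H) (h : SylOpp p H) (P Q : Sylow p H) :
    (P : Subgroup H) ⊓ (Q : Subgroup H) = ⊥ ↔
      (P : Subgroup H).map f ⊓ (Q : Subgroup H).map f = ⊥ := by
  constructor
  · intro hPQ
    rw [eq_bot_iff]
    rintro y ⟨⟨u, hu, rfl⟩, ⟨w, hw, hwu⟩⟩
    have hcker : w⁻¹ * u ∈ f.ker := by
      rw [MonoidHom.mem_ker, map_mul, map_inv, hwu, inv_mul_cancel]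
    have hcc : w⁻¹ * u ∈ Subgroup.center H := hker hcker
    obtain ⟨k1, hk1⟩ := quot_pow_of_mem P u hu
    obtain ⟨k2, hk2⟩ := quot_pow_of_mem Q w hw
    have hcomm : Commute w⁻¹ u := by
      have h1 := Subgroup.mem_center_iff.1 hcc w
      -- w * (w⁻¹ * u) = (w⁻¹ * u) * w
      have h2 : u = w⁻¹ * u * w := by
        rw [← h1]; group
      have h3 : w * u = u * w := by
        conv_lhs => rw [h2]
        group
      have h4 : Commute w u := h3
      exact h4.inv_left
    have hpow : (w⁻¹ * u) ^ p ^ (k1 + k2) = 1 := by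
      have e1 : u ^ p ^ (k1 + k2) = 1 := by rw [pow_add, pow_mul, hk1, one_pow]
      have e2 : w ^ p ^ (k1 + k2) = 1 := by rw [pow_add, mul_comm, pow_mul, hk2, one_pow]
      rw [hcomm.mul_pow, inv_pow, e1, e2]
      simp
    have hc1 := quot_central_eq_one h _ hcc _ hpow
    have huw : u = w := by
      have := inv_mul_eq_one.1 hc1
      exact this.symm
    have hmem : u ∈ (P : Subgroup H) ⊓ (Q : Subgroup H) := ⟨hu, huw ▸ hw⟩
    rw [hPQ] at hmem
    rw [(Subgroup.mem_bot).1 hmem, map_one]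
    exact Subgroup.mem_bot.2 rfl
  · intro hPQ
    rw [eq_bot_iff]
    rintro x ⟨hxP, hxQ⟩
    have h1 : f x ∈ (P : Subgroup H).map f ⊓ (Q : Subgroup H).map f :=
      ⟨Subgroup.mem_map_of_mem f hxP, Subgroup.mem_map_of_mem f hxQ⟩
    rw [hPQ] at h1
    have hxk : x ∈ f.ker := (Subgroup.mem_bot).1 h1
    obtain ⟨k, hk⟩ := quot_pow_of_mem P x hxP
    exact Subgroup.mem_bot.2 (quot_central_eq_one h x (hker hxk) k hk)

end grp

section main

/-- PIECE SYLO-QUOT. -/
theorem SylOpp.of_surjective {H X : Type*} [Group H] [Group X] [Finite H] (p : ℕ) [Fact p.Prime]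
    (f : H →* X) (hf : Function.Surjective f) (hker : f.ker ≤ Subgroup.center H)
    (h : SylOpp p H) : SylOpp p X := by
  have hsurj := Sylow.mapSurjective_surjective hf p
  refine ⟨?_, ?_, ?_⟩
  · obtain ⟨U, hU⟩ := h.1
    refine ⟨U.mapSurjective hf, ?_⟩
    rw [Sylow.coe_mapSurjective]
    intro hbot
    apply hU
    rw [eq_bot_iff]
    intro x hx
    have h1 : f x ∈ (U : Subgroup H).map f := Subgroup.mem_map_of_mem f hx
    rw [hbot] at h1
    have hxk : x ∈ f.ker := (Subgroup.mem_bot).1 h1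
    obtain ⟨k, hk⟩ := quot_pow_of_mem U x hx
    exact Subgroup.mem_bot.2 (quot_central_eq_one h x (hker hxk) k hk)
  · intro U' W' W'' h1 h2
    obtain ⟨U, rfl⟩ := hsurj U'
    obtain ⟨W1, rfl⟩ := hsurj W'
    obtain ⟨W2, rfl⟩ := hsurj W''
    rw [Sylow.coe_mapSurjective, Sylow.coe_mapSurjective] at h1 h2
    have h1' := (quot_inf_iff f hker h U W1).2 h1
    have h2' := (quot_inf_iff f hker h U W2).2 h2
    obtain ⟨u, hu, huW⟩ := h.2.1 U W1 W2 h1' h2'
    refine ⟨f u, ?_, ?_⟩
    · rw [Sylow.coe_mapSurjective]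
      exact Subgroup.mem_map_of_mem f hu
    · intro y
      rw [Sylow.coe_mapSurjective, Sylow.coe_mapSurjective]
      constructor
      · rintro ⟨x, hx, rfl⟩
        refine ⟨u⁻¹ * x * u, (huW x).1 hx, ?_⟩
        simp
      · rintro ⟨z, hz, hzy⟩
        refine ⟨u * z * u⁻¹, (huW _).2 (by
          have : u⁻¹ * (u * z * u⁻¹) * u = z := by group
          rw [this]; exact hz), ?_⟩
        rw [map_mul, map_mul, map_inv, hzy]
        group
  · intro W' W''
    obtain ⟨W1, rfl⟩ := hsurj W'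
    obtain ⟨W2, rfl⟩ := hsurj W''
    obtain ⟨E, hE1, hE2⟩ := h.2.2 W1 W2
    refine ⟨E.mapSurjective hf, ?_, ?_⟩
    · rw [Sylow.coe_mapSurjective, Sylow.coe_mapSurjective]
      exact (quot_inf_iff f hker h E W1).1 hE1
    · rw [Sylow.coe_mapSurjective, Sylow.coe_mapSurjective]
      exact (quot_inf_iff f hker h E W2).1 hE2

end main

end Cfsg.Agent.Helper13.SylO
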