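import Mathlib
import Cfsg.Prelude.Def_Transfer
import Cfsg.Agent.Lib.Helper26.TIDefs2
import Cfsg.Agent.Lib.Helper24.TIG01
import Cfsg.Agent.Lib.Helper1.TICALC

/-!
# S1786 piece TI-PHI1 (G3, first half): `Cfg.inf_eq_bot`, `Cfg.dich`, `Cfg.exists_cfg1`, `Cfg1.swapAU`
-/

set_option autoImplicit false
set_option linter.unusedSectionVars false
set_option linter.unusedVariables false

namespace Cfsg.Agent.Helper26.TI

variable {G : Type*} [Group G]

section Phi
variable {V P A PA U : Subgroup G}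

theorem Cfg.inf_eq_bot (h : Cfg V P A PA) : A ⊓ V = ⊥ := by
  obtain ⟨g, hA, -⟩ := h.conj
  rcases h.loc.base.ti g with h1 | h1
  · exact absurd (hA.trans h1) h.ne
  · rw [hA]; exact h1

/-- `phi_x` is trivial or injective. -/
theorem Cfg.dich (h : Cfg V P A PA) {x a0 : G} (hx : x ∈ P) (ha0 : a0 ∈ A) (h1 : a0 ≠ 1)
    (hc : x * a0 = a0 * x) : ∀ a ∈ A, x * a = a * x := by
  obtain ⟨g, hA, -⟩ := h.conj
  have hn : cj x A = A := by
    rw [hA]
    exact Cfsg.Agent.Helper24.TI.ti_g0 V h.loc.base.ti g a0 x (hA ▸ ha0 : a0 ∈ cj g V) h1 hc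
  intro a ha
  have h2 : x * a * x⁻¹ ∈ A := by
    have h3 : x * a * x⁻¹ ∈ cj x A := conj_mem_cj ha
    rwa [hn] at h3
  have h3 : x * a * x⁻¹ * a⁻¹ ∈ A := A.mul_mem h2 (A.inv_mem ha)
  have h4 : x * a * x⁻¹ * a⁻¹ ∈ V := h.loc.comm x hx a (h.le ha)
  have h5 : x * a * x⁻¹ * a⁻¹ ∈ A ⊓ V := ⟨h3, h4⟩
  rw [h.inf_eq_bot, Subgroup.mem_bot] at h5
  calc x * a = (x * a * x⁻¹ * a⁻¹) * (a * x) := by group
    _ = a * x := by rw [h5, one_mul]

theorem ti_phi1_elemAb (h : Base V) : Cfsg.IsElementaryAbelian 2 V :=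
  ⟨isMulCommutative_iff.2 (fun a b => Subtype.ext (h.comm a a.2 b b.2)),
    fun a ha => by rw [pow_two]; exact h.sq a ha⟩

theorem Cfg.exists_cfg1 [Finite G] (h : Cfg V P A PA) : ∃ U : Subgroup G, Cfg1 V P A PA U := by
  obtain ⟨g, hA, hPA⟩ := h.conj
  have hne : cj g V ≠ V := by rw [← hA]; exact h.ne
  have hle : cj g V ≤ P := by rw [← hA]; exact h.le
  obtain ⟨m, hm, b, hb, c, hc, hbc⟩ := h.loc.nonab g hne hle
  have hU : cj m A = cj (m * g) V := by rw [hA, cj_cj]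
  have hUP : cj m A ≤ P := by
    have h1 := cj_mono (x := m) h.le
    rwa [h.loc.norm m hm] at h1
  refine ⟨cj m A, { toCfg := h, conjU := ⟨m * g, hU⟩, U_le := hUP, U_ne := ?_, U_nc := ?_ }⟩
  · intro hUV
    apply h.ne
    have h1 : cj m A = cj m V := hUV.trans hm.symm
    have h2 := congrArg (cj m⁻¹) h1
    rwa [cj_inv_cj, cj_inv_cj] at h2
  · intro u hu hu1 a ha ha1 hua
    have hcentA : ∀ a' ∈ A, u * a' = a' * u := h.dich (hUP hu) ha ha1 hua
    -- `A ≠ U`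
    have hAU : cj g V ≠ cj (m * g) V := by
      intro heq
      apply hbc
      have hcA : c ∈ A := by rw [hA, heq, ← cj_cj]; exact hc
      rw [← hA] at hb
      exact h.locA.base.comm b hb c hcA
    -- `A` normalizes `U`
    have hnorm : ∀ b' ∈ cj g V, cj b' (cj (m * g) V) = cj (m * g) V := by
      intro b' hb'
      rw [← hA] at hb'
      exact Cfsg.Agent.Helper24.TI.ti_g0 V h.loc.base.ti (m * g) u b' (hU ▸ hu : u ∈ cj (m * g) V) hu1
        (hcentA b' hb').symm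
    have hcomm := Cfsg.Agent.Helper24.TI.ti_g1 V (ti_phi1_elemAb h.loc.base) h.loc.base.ti g (m * g)
      hAU hnorm
    apply hbc
    exact hcomm b hb c (by rw [cj_cj] at hc; exact hc)

/-- the roles of `A` and `U` can be exchanged (`PU := P(U)`). -/
theorem Cfg1.swapAU (h : Cfg1 V P A PA U) : ∃ PU : Subgroup G, Cfg1 V P U PU A := by
  obtain ⟨k, hk⟩ := h.conjU
  obtain ⟨g, hA, -⟩ := h.conj
  refine ⟨cj k P,
    { loc := h.loc
      locA := by rw [hk]; exact h.loc.conj k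
      conj := ⟨k, hk, rfl⟩
      ne := h.U_ne
      le := h.U_le
      conjU := ⟨g, hA⟩
      U_le := h.le
      U_ne := h.ne
      U_nc := fun a ha ha1 u hu hu1 hau => h.U_nc u hu hu1 a ha ha1 hau.symm }⟩

end Phi

end Cfsg.Agent.Helper26.TI
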