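import Mathlib
import Cfsg.Agent.Lib.Helper14.BhsDefs

/-!
# S2999 piece BHS-CORE (G6): `A ⊓ core_P(M) = ⊥`.

Instead of `U = ⨆ g, g • fix W T` we use `U = fix W O_p(P)` with `O_p(P) = (T : Subgroup P).normalCore`:
it is `P`-invariant, contains `fix W T`, and is fixed by `A ⊓ core_P(M)` (Frat).
-/

set_option autoImplicit false
set_option linter.unusedVariables false
set_option linter.unusedSectionVars false

namespace Cfsg.Agent.Helper14.Bhs

open Pointwise

universe u v

section grp

variable {P : Type u} [Group P] [Finite P] {W : Type v} [AddCommGroup W] [Finite W]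
  [DistribMulAction P W] {p : ℕ} [Fact p.Prime] {T : Sylow p P} {M A : Subgroup P}

/-- the fixed points of a normal subgroup form an invariant subgroup. -/
theorem bhs_core_smul_mem_fix_normal {K : Subgroup P} (hK : K.Normal) (g : P) {w : W}
    (hw : w ∈ fix W K) : g • w ∈ fix W K := by
  intro k hk
  have h1 : g⁻¹ * k * g ∈ K := by
    have := hK.conj_mem k hk g⁻¹
    simpa using this
  have h2 := hw _ h1
  calc k • g • w = g • ((g⁻¹ * k * g) • w) := by
        simp only [mul_smul, smul_inv_smul]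
    _ = g • w := by rw [h2]

/-- counting: for a map `c` that is additive on `A`, with values in `X`, whose "kernel mod `Y`" lies in `B`:
`|A| * |X ⊓ Y| ≤ |B| * |X|`. -/
theorem bhs_core_count {A B : Subgroup P} (c : P → W) (X Y : AddSubgroup W)
    (hmul : ∀ a ∈ A, ∀ b ∈ A, c (a * b) = c a + c b)
    (hX : ∀ a ∈ A, c a ∈ X) (hker : ∀ a ∈ A, c a ∈ Y → a ∈ B) :
    Nat.card A * Nat.card ↥(X ⊓ Y) ≤ Nat.card B * Nat.card X := by
  classical
  have h1 : c 1 = 0 := by
    have := hmul 1 A.one_mem 1 A.one_mem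
    rw [mul_one] at this
    exact left_eq_add.1 this
  let φ : Additive ↥A →+ W :=
    { toFun := fun a => c ((Additive.toMul a : ↥A) : P)
      map_zero' := by simpa using h1
      map_add' := fun a b => by
        simpa using hmul _ (Additive.toMul a).2 _ (Additive.toMul b).2 }
  have hφ : ∀ a : Additive ↥A, φ a = c ((Additive.toMul a : ↥A) : P) := fun _ => rfl
  have hr : φ.range ≤ X := by
    rintro _ ⟨a, rfl⟩
    exact hX _ (Additive.toMul a).2
  have e1 : (Y.comap φ).index = Y.relIndex φ.range := AddSubgroup.index_comap Y φ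
  have e2 : Y.relIndex φ.range ≤ Y.relIndex X :=
    AddSubgroup.relIndex_le_of_le_right hr AddSubgroup.index_ne_zero_of_finite
  have e3 : Y.relIndex X * Nat.card ↥(X ⊓ Y) = Nat.card X := by
    have := AddSubgroup.relIndex_mul_relIndex (⊥ : AddSubgroup W) (X ⊓ Y) X bot_le inf_le_left
    rw [AddSubgroup.relIndex_bot_left, AddSubgroup.relIndex_bot_left] at this
    rw [← this, inf_comm, AddSubgroup.inf_relIndex_right]; ring
  have e4 : Nat.card ↥(Y.comap φ) * (Y.comap φ).index = Nat.card (Additive ↥A) :=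
    AddSubgroup.card_mul_index _
  have e5 : Nat.card (Additive ↥A) = Nat.card ↥A := rfl
  have e6 : Nat.card ↥(Y.comap φ) ≤ Nat.card ↥B := by
    apply Nat.card_le_card_of_injective (fun a : ↥(Y.comap φ) =>
      (⟨((Additive.toMul a.1 : ↥A) : P), hker _ (Additive.toMul a.1).2 a.2⟩ : ↥B))
    intro a b hab
    have h2 : ((Additive.toMul a.1 : ↥A) : P) = ((Additive.toMul b.1 : ↥A) : P) :=
      congrArg (fun z : ↥B => (z : P)) hab
    apply Subtype.ext
    have h3 : (Additive.toMul a.1 : ↥A) = Additive.toMul b.1 := Subtype.ext h2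
    exact Additive.toMul.injective h3
  calc Nat.card A * Nat.card ↥(X ⊓ Y)
      = Nat.card ↥(Y.comap φ) * ((Y.comap φ).index * Nat.card ↥(X ⊓ Y)) := by
        rw [← e5, ← e4]; ring
    _ ≤ Nat.card ↥B * (Y.relIndex X * Nat.card ↥(X ⊓ Y)) := by
        rw [e1]
        exact Nat.mul_le_mul e6 (Nat.mul_le_mul_right _ e2)
    _ = Nat.card B * Nat.card X := by rw [e3]

theorem core_bot (h : Hyp W p T M A) (hq : Quad W A) (hic : InterConj W M A) {x : P} (hx : x ∉ M)
    (hkey : Key W M A x) (hfr : Frat T M) : A ⊓ M.normalCore = ⊥ := by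
  classical
  by_contra hne
  -- `A ⊓ N ≠ A`
  have hneA : A ⊓ M.normalCore ≠ A := by
    intro heq
    have hAN : A ≤ M.normalCore := inf_eq_left.1 heq
    have hAx : A.map (MulAut.conj x).toMonoidHom ≤ M.normalCore := by
      rintro _ ⟨a, ha, rfl⟩
      have hn : M.normalCore.Normal := Subgroup.normalCore_normal M
      simpa using hn.conj_mem a (hAN ha) x
    have htop : (⊤ : Subgroup P) ≤ M := by
      rw [← h.hiii x hx]
      exact (sup_le hAN hAx).trans (Subgroup.normalCore_le M)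
    exact h.coatom.1 (top_le_iff.1 htop)
  have hlt := h.hi2 (A ⊓ M.normalCore) inf_le_left hne hneA
  -- `K = O_p(P)`
  have hKn : ((T : Subgroup P).normalCore).Normal := Subgroup.normalCore_normal _
  have hANK : A ⊓ M.normalCore ≤ (T : Subgroup P).normalCore := by
    intro a ha
    show ∀ b : P, b * a * b⁻¹ ∈ (T : Subgroup P)
    intro b
    obtain ⟨t, ht, hta⟩ := hfr b⁻¹ ⟨ha.2, h.hAT ha.1⟩
    have : b * a * b⁻¹ = t := by
      rw [← hta]
      simp only [MulEquiv.coe_toMonoidHom, MulAut.conj_apply]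
      group
    rw [this]; exact ht
  have hUinv : ∀ (g : P) (w : W), w ∈ fix W (T : Subgroup P).normalCore →
      g • w ∈ fix W (T : Subgroup P).normalCore :=
    fun g w hw => bhs_core_smul_mem_fix_normal hKn g hw
  have hTU : fix W (T : Subgroup P) ≤ fix W (T : Subgroup P).normalCore :=
    fix_anti (Subgroup.normalCore_le _)
  have hUfix : fix W (T : Subgroup P).normalCore ≤ fix W (A ⊓ M.normalCore) := fix_anti hANK
  generalize hU : fix W (T : Subgroup P).normalCore = U at hUinv hTU hUfix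
  -- the element `e`
  obtain ⟨d, hdT, hdZ⟩ := SetLike.not_le_iff_exists.1 h.hii
  have heU : x • d ∈ U := hUinv x d (hTU hdT)
  have heE : x • d ∈ x • fix W A :=
    AddSubgroup.smul_mem_pointwise_smul _ _ _ (fix_anti h.hAT hdT)
  have heZ : x • d ∉ fix W (⊤ : Subgroup P) := by
    intro hz
    have h1 : x⁻¹ • (x • d) = x • d := mem_fix_top.1 hz x⁻¹
    rw [inv_smul_smul] at h1
    exact hdZ (h1 ▸ hz)
  have hDE := hic x hx
  have heD : x • d ∉ fix W A := by
    intro hD
    apply heZ
    rw [← hDE]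
    exact ⟨hD, heE⟩
  have heV : x • d ∈ fix W A ⊔ x • fix W A :=
    (le_sup_right : x • fix W A ≤ fix W A ⊔ x • fix W A) heE
  generalize x • d = e at heU heE heZ heD heV
  have hker : ∀ a ∈ A, cm e a ∈ fix W (⊤ : Subgroup P) → a ∈ A ⊓ M.normalCore := by
    intro a ha hz
    refine ⟨ha, ?_⟩
    by_contra hn
    exact heD (hkey a ha hn e heV hz)
  have hmul : ∀ a ∈ A, ∀ b ∈ A, cm e (a * b) = cm e a + cm e b :=
    fun a ha b hb => hq.cm_mul ha hb e
  have hX : ∀ a ∈ A, cm e a ∈ U ⊓ fix W A :=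
    fun a ha => ⟨U.sub_mem (hUinv a e heU) heU, hq a ha e⟩
  have count1 := bhs_core_count (A := A) (B := A ⊓ M.normalCore) (fun a => cm e a)
    (U ⊓ fix W A) (fix W (⊤ : Subgroup P)) hmul hX hker
  have hUZ : (U ⊓ fix W A) ⊓ fix W (⊤ : Subgroup P) = U ⊓ fix W (⊤ : Subgroup P) := by
    rw [inf_assoc, inf_eq_right.2 (fix_top_le A)]
  rw [hUZ] at count1
  -- second count
  have hUE : U ⊓ x • fix W A = x • (U ⊓ fix W A) := by
    ext w
    rw [AddSubgroup.mem_pointwise_smul_iff_inv_smul_mem, AddSubgroup.mem_inf, AddSubgroup.mem_inf,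
      AddSubgroup.mem_pointwise_smul_iff_inv_smul_mem]
    constructor
    · rintro ⟨h1, h2⟩
      exact ⟨hUinv _ _ h1, h2⟩
    · rintro ⟨h1, h2⟩
      refine ⟨?_, h2⟩
      have := hUinv x _ h1
      rwa [smul_inv_smul] at this
  have hcUE : Nat.card ↥(U ⊓ x • fix W A) = Nat.card ↥(U ⊓ fix W A) := by
    rw [hUE, card_smul]
  have hinf : fix W A ⊓ (U ⊓ x • fix W A) = U ⊓ fix W (⊤ : Subgroup P) := by
    rw [inf_left_comm, hDE]
  have hsup : fix W A ⊔ (U ⊓ x • fix W A) ≤ fix W (A ⊓ M.normalCore) :=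
    sup_le (fix_anti inf_le_left) (inf_le_left.trans hUfix)
  have count2 := card_sup_mul_card_inf (fix W A) (U ⊓ x • fix W A)
  rw [hinf, hcUE] at count2
  have hle : Nat.card ↥(fix W A ⊔ (U ⊓ x • fix W A)) ≤ Nat.card ↥(fix W (A ⊓ M.normalCore)) :=
    AddSubgroup.card_le_of_le hsup
  have hpos : 0 < Nat.card ↥(U ⊓ fix W (⊤ : Subgroup P)) := Nat.card_pos
  -- arithmetic
  generalize Nat.card ↥(U ⊓ fix W (⊤ : Subgroup P)) = uz at *
  generalize Nat.card ↥(U ⊓ fix W A) = ud at *
  generalize Nat.card ↥(fix W A ⊔ (U ⊓ x • fix W A)) = s at *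
  generalize Nat.card ↥(fix W (A ⊓ M.normalCore)) = f at *
  generalize Nat.card ↥(A ⊓ M.normalCore : Subgroup P) = n at *
  generalize Nat.card ↥(fix W A) = dd at *
  generalize Nat.card ↥A = a at *
  have k1 : n * f * uz < a * dd * uz := Nat.mul_lt_mul_of_pos_right hlt hpos
  have k2 : a * dd * uz ≤ n * f * uz := by
    calc a * dd * uz = (a * uz) * dd := by ring
      _ ≤ (n * ud) * dd := Nat.mul_le_mul_right _ count1
      _ = n * (dd * ud) := by ring
      _ = n * (s * uz) := by rw [count2]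
      _ ≤ n * (f * uz) := Nat.mul_le_mul_left _ (Nat.mul_le_mul_right _ hle)
      _ = n * f * uz := by ring
  exact absurd k1 (not_lt.2 k2)

end grp

end Cfsg.Agent.Helper14.Bhs
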