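import Mathlib
import Cfsg.Agent.Lib.Helper21.N9KDefs
import Cfsg.Agent.Lib.Helper22.N9TRA
import Cfsg.Agent.Lib.Helper18.N9KJ0

/-!
# S3702 GROUP piece TRA, part 2 (helper22, for helper21): `J` is abelian of exponent 3, normalized by `H`
-/

set_option autoImplicit false
set_option linter.unusedSectionVars false
set_option linter.unusedVariables false

namespace Cfsg.Agent.Helper21.N9

open Cfsg Cfsg.Agent.Helper16

universe u

section Transport

variable {G : Type u} [Group G] [Finite G] {H J : Subgroup G}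

/-- an element of `J` is the image of an element of `J0` -/
theorem tra_exists_J (c : Cfg H J) {x : G} (hx : x ∈ J) : ∃ y : ↥K0, y ∈ J0 ∧ c.ι y = x := by
  obtain ⟨y, hy⟩ := exists_ι c (c.hJH hx)
  refine ⟨y, ?_, hy⟩
  rw [← ι_mem_J c, hy]
  exact hx

theorem J_comm (c : Cfg H J) : ∀ x ∈ J, ∀ y ∈ J, x * y = y * x := by
  intro x hx y hy
  obtain ⟨x', hx', rfl⟩ := tra_exists_J c hx
  obtain ⟨y', hy', rfl⟩ := tra_exists_J c hy
  rw [← map_mul, ← map_mul, J0_comm x' hx' y' hy']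

theorem J_exp (c : Cfg H J) : ∀ x ∈ J, x ^ 3 = 1 := by
  intro x hx
  obtain ⟨x', hx', rfl⟩ := tra_exists_J c hx
  rw [← map_pow, J0_exp x' hx', map_one]

theorem J_normal (c : Cfg H J) : ∀ h ∈ H, ∀ x ∈ J, h * x * h⁻¹ ∈ J := by
  intro h hh x hx
  obtain ⟨x', hx', rfl⟩ := tra_exists_J c hx
  obtain ⟨h', rfl⟩ := exists_ι c hh
  rw [← map_inv, ← map_mul, ← map_mul, ι_mem_J]
  exact J0_normal.conj_mem x' hx' h'

end Transport

end Cfsg.Agent.Helper21.N9
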