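import Mathlib
import Cfsg.Agent.Lib.Helper14.StGLDefs

/-!
S2425 piece **PERMB** (`perm_unique`): a permutation `κ` of `Fin n` with `κ i ≤ i + 1` is determined
by `core (muK κ)`.  Key lemma `stglpermb_mem_core`: for such `κ`,
`d ∈ core (muK κ) ↔ ∃ i, i + 1 = d ∧ d < n ∧ κ i ≤ i`.
-/

set_option autoImplicit false
set_option linter.unusedSectionVars false
set_option linter.unusedVariables false

namespace Cfsg.Agent.Helper14.StGL

open Module Polynomial Cfsg.Agent.Helper13.SS

open scoped Classical MatrixGroups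

/-- partial sums of `muK κ`, indexed by natural numbers -/
def stglpermb_ps {n : ℕ} (κ : Equiv.Perm (Fin n)) (m : ℕ) : ℕ :=
  ∑ k ∈ Finset.univ.filter (fun k : Fin n => k.val < m), muK κ k

theorem stglpermb_ps_zero {n : ℕ} (κ : Equiv.Perm (Fin n)) : stglpermb_ps κ 0 = 0 := by
  unfold stglpermb_ps
  simp

theorem stglpermb_ps_succ {n : ℕ} (κ : Equiv.Perm (Fin n)) (m : ℕ) (hm : m < n) :
    stglpermb_ps κ (m + 1) = stglpermb_ps κ m + muK κ ⟨m, hm⟩ := by
  unfold stglpermb_ps
  have h1 : Finset.univ.filter (fun k : Fin n => k.val < m + 1) =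
      insert ⟨m, hm⟩ (Finset.univ.filter (fun k : Fin n => k.val < m)) := by
    ext k
    simp only [Finset.mem_filter, Finset.mem_univ, true_and, Finset.mem_insert, Fin.ext_iff]
    omega
  rw [h1, Finset.sum_insert (by simp), add_comm]

/-- if `κ j ≤ j` then `κ` preserves the initial segment `{0..j}` -/
theorem stglpermb_stable {n : ℕ} (κ : Equiv.Perm (Fin n)) (h : CondK κ) (j : Fin n)
    (hj : (κ j).val ≤ j.val) :
    (Finset.univ.filter (fun k : Fin n => k.val < j.val + 1)).image κ =
      Finset.univ.filter (fun k : Fin n => k.val < j.val + 1) := by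
  apply Finset.eq_of_subset_of_card_le
  · intro x hx
    obtain ⟨k, hk, rfl⟩ := Finset.mem_image.1 hx
    simp only [Finset.mem_filter, Finset.mem_univ, true_and] at hk ⊢
    have h1 := h k
    by_cases hkj : k = j
    · subst hkj
      omega
    · have h2 : k.val ≠ j.val := fun h' => hkj (Fin.ext h')
      omega
  · rw [Finset.card_image_of_injective _ κ.injective]

theorem stglpermb_ps_of_le {n : ℕ} (κ : Equiv.Perm (Fin n)) (h : CondK κ) (j : Fin n)
    (hj : (κ j).val ≤ j.val) : stglpermb_ps κ (j.val + 1) = j.val + 1 := by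
  have hst := stglpermb_stable κ h j hj
  set A := Finset.univ.filter (fun k : Fin n => k.val < j.val + 1) with hA
  have h1 : ∑ k ∈ A, muK κ k + ∑ k ∈ A, (κ k).val = ∑ k ∈ A, (1 + k.val) := by
    rw [← Finset.sum_add_distrib]
    apply Finset.sum_congr rfl
    intro k _
    unfold muK
    have := h k
    omega
  have h2 : ∑ k ∈ A, (κ k).val = ∑ k ∈ A, k.val := by
    have h3 : ∑ k ∈ A.image κ, k.val = ∑ k ∈ A, (κ k).val :=
      Finset.sum_image (fun x _ y _ hxy => κ.injective hxy)
    rw [← h3, hst]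
  have h3 : ∑ k ∈ A, (1 + k.val) = A.card + ∑ k ∈ A, k.val := by
    rw [Finset.sum_add_distrib]
    simp
  have h4 : A.card = j.val + 1 := by
    rw [hA, Fin.card_filter_val_lt]
    have := j.isLt
    omega
  have h5 : stglpermb_ps κ (j.val + 1) = ∑ k ∈ A, muK κ k := rfl
  omega

theorem stglpermb_ps_cases {n : ℕ} (κ : Equiv.Perm (Fin n)) (h : CondK κ) (m : ℕ) (hm : m ≤ n) :
    stglpermb_ps κ m = 0 ∨
      ∃ i : Fin n, i.val < m ∧ (κ i).val ≤ i.val ∧ stglpermb_ps κ m = i.val + 1 := by
  induction m with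
  | zero => left; exact stglpermb_ps_zero κ
  | succ m ih =>
    have hm' : m < n := hm
    by_cases hj : (κ ⟨m, hm'⟩).val ≤ m
    · right
      exact ⟨⟨m, hm'⟩, Nat.lt_succ_self m, hj, stglpermb_ps_of_le κ h ⟨m, hm'⟩ hj⟩
    · have hmu : muK κ ⟨m, hm'⟩ = 0 := by
        unfold muK
        have := h ⟨m, hm'⟩
        simp only at this ⊢
        omega
      rw [stglpermb_ps_succ κ m hm', hmu, add_zero]
      rcases ih (le_of_lt hm') with h0 | ⟨i, hi, hki, hps⟩
      · left; exact h0
      · right; exact ⟨i, by omega, hki, hps⟩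

/-- **Key lemma.** The core of `muK κ` is the set of `i + 1 < n` with `κ i ≤ i`. -/
theorem stglpermb_mem_core {n : ℕ} (κ : Equiv.Perm (Fin n)) (h : CondK κ) (d : ℕ) :
    d ∈ core (muK κ) ↔ ∃ i : Fin n, i.val + 1 = d ∧ d < n ∧ (κ i).val ≤ i.val := by
  have hs : ∀ j : Fin n, ∑ k ∈ Finset.univ.filter (fun k : Fin n => k ≤ j), muK κ k =
      stglpermb_ps κ (j.val + 1) := by
    intro j
    unfold stglpermb_ps
    apply Finset.sum_congr _ (fun _ _ => rfl)
    ext k
    simp only [Finset.mem_filter, Finset.mem_univ, true_and, Fin.le_def, Nat.lt_succ_iff]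
  unfold core
  simp only [Finset.mem_filter, Finset.mem_image, Finset.mem_univ, true_and]
  constructor
  · rintro ⟨⟨j, hj⟩, hd0, hdn⟩
    rw [hs] at hj
    rcases stglpermb_ps_cases κ h (j.val + 1) j.isLt with h0 | ⟨i, hi, hki, hps⟩
    · omega
    · exact ⟨i, by omega, hdn, hki⟩
  · rintro ⟨i, hid, hdn, hki⟩
    refine ⟨⟨i, ?_⟩, by omega, hdn⟩
    rw [hs, stglpermb_ps_of_le κ h i hki, hid]

theorem stglpermb_le_of_le {n : ℕ} (κ κ' : Equiv.Perm (Fin n)) (h : CondK κ) (h' : CondK κ')
    (hc : core (muK κ) = core (muK κ')) (i : Fin n) (hi : (κ i).val ≤ i.val) :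
    (κ' i).val ≤ i.val := by
  by_cases hin : i.val + 1 < n
  · have h1 : i.val + 1 ∈ core (muK κ) := (stglpermb_mem_core κ h _).2 ⟨i, rfl, hin, hi⟩
    rw [hc] at h1
    obtain ⟨i', hi', _, hk'⟩ := (stglpermb_mem_core κ' h' _).1 h1
    have h2 : i' = i := Fin.ext (by omega)
    subst h2
    exact hk'
  · have := (κ' i).isLt
    omega

theorem perm_unique (n : ℕ) (κ κ' : Equiv.Perm (Fin n)) (h : CondK κ) (h' : CondK κ')
    (hc : core (muK κ) = core (muK κ')) : κ = κ' := by
  have key : ∀ m : ℕ, ∀ i : Fin n, i.val = m → κ i = κ' i := by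
    intro m
    induction m using Nat.strong_induction_on with
    | _ m ih =>
      intro i him
      by_cases hi : (κ i).val ≤ i.val
      · have hi' := stglpermb_le_of_le κ κ' h h' hc i hi
        have hst := stglpermb_stable κ' h' i hi'
        have hmem : κ i ∈ (Finset.univ.filter (fun k : Fin n => k.val < i.val + 1)).image κ' := by
          rw [hst]
          simp only [Finset.mem_filter, Finset.mem_univ, true_and]
          omega
        obtain ⟨k, hk, hkk⟩ := Finset.mem_image.1 hmem
        simp only [Finset.mem_filter, Finset.mem_univ, true_and] at hk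
        by_cases hki : k = i
        · subst hki
          exact hkk.symm
        · have hne : k.val ≠ i.val := fun h => hki (Fin.ext h)
          have h1 : κ k = κ' k := ih k.val (by omega) k rfl
          exact absurd (κ.injective (h1.trans hkk)) hki
      · have hi' : ¬ (κ' i).val ≤ i.val :=
          fun hh => hi (stglpermb_le_of_le κ' κ h' h hc.symm i hh)
        have h1 := h i
        have h2 := h' i
        apply Fin.ext
        omega
  ext i
  rw [key i.val i rfl]

end Cfsg.Agent.Helper14.StGL
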