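import Mathlib
import Cfsg.Agent.Lib.Helper14.StGLDefs
import Cfsg.Agent.Lib.Helper22.StGLPERMB

/-!
S2425 piece **PERMA** (`perm_exists`): for `D ⊆ {1..n-1}` the product of the adjacent
transpositions `(j j+1)`, `j + 1 ∉ D`, in increasing order of `j`, is a permutation `κ` with
`κ i ≤ i + 1`, `core (muK κ) = D` and sign `(-1)^(n-1-|D|)`.
-/

set_option autoImplicit false
set_option linter.unusedSectionVars false
set_option linter.unusedVariables false

namespace Cfsg.Agent.Helper14.StGL

open Module Polynomial Cfsg.Agent.Helper13.SS

open scoped Classical MatrixGroups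

/-- product of the adjacent transpositions `(j j+1)` with `j < m`, `j + 1 ∉ D`, increasing in `j` -/
noncomputable def stglperma_kap (n : ℕ) (D : Finset ℕ) : ℕ → Equiv.Perm (Fin n)
  | 0 => 1
  | (m + 1) =>
    if h : m + 1 < n ∧ m + 1 ∉ D then
      stglperma_kap n D m * Equiv.swap ⟨m, by omega⟩ ⟨m + 1, h.1⟩
    else stglperma_kap n D m

theorem stglperma_kap_succ_pos (n : ℕ) (D : Finset ℕ) (m : ℕ) (h1 : m + 1 < n) (h2 : m + 1 ∉ D) :
    stglperma_kap n D (m + 1) =
      stglperma_kap n D m * Equiv.swap ⟨m, by omega⟩ ⟨m + 1, h1⟩ := by
  rw [stglperma_kap, dif_pos ⟨h1, h2⟩]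

theorem stglperma_kap_succ_neg (n : ℕ) (D : Finset ℕ) (m : ℕ) (h2 : m + 1 ∈ D) :
    stglperma_kap n D (m + 1) = stglperma_kap n D m := by
  rw [stglperma_kap, dif_neg (fun h => h.2 h2)]

/-- the invariants of the partial products -/
theorem stglperma_inv (n : ℕ) (D : Finset ℕ) (hD : ∀ d ∈ D, 0 < d ∧ d < n) (m : ℕ) (hm : m < n) :
    (∀ i : Fin n, m < i.val → stglperma_kap n D m i = i) ∧
    (∀ i : Fin n, i.val < m → (((stglperma_kap n D m i).val = i.val + 1 ↔ i.val + 1 ∉ D) ∧
      (stglperma_kap n D m i).val ≤ i.val + 1)) ∧
    (∀ i : Fin n, i.val = m → (stglperma_kap n D m i).val ≤ m) ∧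
    (Equiv.Perm.sign (stglperma_kap n D m) * (-1 : ℤˣ) ^ (D.filter (fun d => d ≤ m)).card =
      (-1 : ℤˣ) ^ m) := by
  induction m with
  | zero =>
    refine ⟨fun i _ => rfl, fun i hi => absurd hi (Nat.not_lt_zero _), fun i hi => ?_, ?_⟩
    · show (i : ℕ) ≤ 0
      omega
    · have h0 : D.filter (fun d => d ≤ 0) = ∅ := by
        apply Finset.filter_eq_empty_iff.2
        intro d hd
        have := (hD d hd).1
        omega
      rw [h0]
      simp [stglperma_kap]
  | succ m ih =>
    obtain ⟨i1, i2, i3, i4⟩ := ih (by omega)
    by_cases hmD : m + 1 ∈ D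
    · rw [stglperma_kap_succ_neg n D m hmD]
      refine ⟨fun i hi => i1 i (by omega), fun i hi => ?_, fun i hi => ?_, ?_⟩
      · by_cases him : i.val < m
        · exact i2 i him
        · have him' : i.val = m := by omega
          have h3 := i3 i him'
          refine ⟨⟨fun h => by omega, fun h => absurd (him' ▸ hmD) h⟩, by omega⟩
      · rw [i1 i (by omega)]
        omega
      · have h0 : D.filter (fun d => d ≤ m + 1) = insert (m + 1) (D.filter (fun d => d ≤ m)) := by
          ext d
          simp only [Finset.mem_filter, Finset.mem_insert]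
          constructor
          · rintro ⟨hd, hle⟩
            by_cases hdm : d = m + 1
            · left; exact hdm
            · right; exact ⟨hd, by omega⟩
          · rintro (rfl | ⟨hd, hle⟩)
            · exact ⟨hmD, le_refl _⟩
            · exact ⟨hd, by omega⟩
        rw [h0, Finset.card_insert_of_notMem (by simp), pow_succ, ← mul_assoc, i4, pow_succ]
    · have hm1 : m + 1 < n := hm
      rw [stglperma_kap_succ_pos n D m hm1 hmD]
      have hab : (⟨m, by omega⟩ : Fin n) ≠ ⟨m + 1, hm1⟩ := by
        intro h
        have := congrArg Fin.val h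
        simp at this
      refine ⟨fun i hi => ?_, fun i hi => ?_, fun i hi => ?_, ?_⟩
      · rw [Equiv.Perm.mul_apply, Equiv.swap_apply_of_ne_of_ne]
        · exact i1 i (by omega)
        · intro h
          have := congrArg Fin.val h
          simp at this
          omega
        · intro h
          have := congrArg Fin.val h
          simp at this
          omega
      · by_cases him : i.val < m
        · rw [Equiv.Perm.mul_apply, Equiv.swap_apply_of_ne_of_ne]
          · exact i2 i him
          · intro h
            have := congrArg Fin.val h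
            simp at this
            omega
          · intro h
            have := congrArg Fin.val h
            simp at this
            omega
        · have him' : i = ⟨m, by omega⟩ := Fin.ext (by simp; omega)
          rw [him', Equiv.Perm.mul_apply, Equiv.swap_apply_left, i1 _ (by simp)]
          simp only
          exact ⟨⟨fun _ => hmD, fun _ => trivial⟩, le_refl _⟩
      · have him' : i = ⟨m + 1, hm1⟩ := Fin.ext (by simp; omega)
        rw [him', Equiv.Perm.mul_apply, Equiv.swap_apply_right]
        have := i3 ⟨m, by omega⟩ rfl
        omega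
      · have h0 : D.filter (fun d => d ≤ m + 1) = D.filter (fun d => d ≤ m) := by
          ext d
          simp only [Finset.mem_filter]
          constructor
          · rintro ⟨hd, hle⟩
            refine ⟨hd, ?_⟩
            by_contra hh
            have : d = m + 1 := by omega
            exact hmD (this ▸ hd)
          · rintro ⟨hd, hle⟩
            exact ⟨hd, by omega⟩
        rw [h0, Equiv.Perm.sign_mul, Equiv.Perm.sign_swap hab, mul_right_comm, i4, pow_succ]

theorem perm_exists (n : ℕ) (D : Finset ℕ) (hD : ∀ d ∈ D, 0 < d ∧ d < n) :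
    ∃ κ : Equiv.Perm (Fin n), CondK κ ∧ core (muK κ) = D ∧
      Equiv.Perm.sign κ = (-1 : ℤˣ) ^ (n - 1 - D.card) := by
  rcases Nat.eq_zero_or_pos n with hn | hn
  · subst hn
    refine ⟨1, fun i => i.elim0, ?_, ?_⟩
    · have hD0 : D = ∅ := by
        apply Finset.eq_empty_iff_forall_notMem.2
        intro d hd
        have := hD d hd
        omega
      rw [hD0]
      apply Finset.eq_empty_iff_forall_notMem.2
      intro d hd
      unfold core at hd
      simp only [Finset.mem_filter] at hd
      omega
    · simp
  · obtain ⟨i1, i2, i3, i4⟩ := stglperma_inv n D hD (n - 1) (by omega)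
    set κ := stglperma_kap n D (n - 1) with hκ
    have hcond : CondK κ := by
      intro i
      by_cases hi : i.val < n - 1
      · have := (i2 i hi).2
        omega
      · have := i3 i (by have := i.isLt; omega)
        omega
    refine ⟨κ, hcond, ?_, ?_⟩
    · ext d
      rw [stglpermb_mem_core κ hcond d]
      constructor
      · rintro ⟨i, hid, hdn, hki⟩
        have h1 := (i2 i (by omega)).1
        by_contra hdD
        rw [← hid] at hdD
        have := h1.2 hdD
        omega
      · intro hd
        obtain ⟨hd0, hdn⟩ := hD d hd
        refine ⟨⟨d - 1, by omega⟩, by simp; omega, hdn, ?_⟩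
        have h1 := i2 ⟨d - 1, by omega⟩ (by simp; omega)
        simp only at h1 ⊢
        have h2 : d - 1 + 1 = d := by omega
        rw [h2] at h1
        by_contra hh
        have h3 : (κ ⟨d - 1, by omega⟩).val = d := by omega
        exact (h1.1.1 h3) hd
    · have h0 : D.filter (fun d => d ≤ n - 1) = D := by
        apply Finset.filter_true_of_mem
        intro d hd
        have := hD d hd
        omega
      rw [h0] at i4
      have hcard : D.card ≤ n - 1 := by
        have hsub : D ⊆ Finset.Ioo 0 n := by
          intro d hd
          rw [Finset.mem_Ioo]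
          exact hD d hd
        have := Finset.card_le_card hsub
        rw [Nat.card_Ioo] at this
        omega
      have h5 : (-1 : ℤˣ) ^ (n - 1) = (-1 : ℤˣ) ^ (n - 1 - D.card) * (-1 : ℤˣ) ^ D.card := by
        rw [← pow_add, Nat.sub_add_cancel hcard]
      rw [h5] at i4
      exact mul_right_cancel i4

end Cfsg.Agent.Helper14.StGL
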