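import Mathlib
import Cfsg.Prelude.Def_CaseTheorems
import Cfsg.Agent.Lib.Helper19.PGroupBasic
import Cfsg.Agent.Lib.Helper23.PGroup
import Cfsg.Agent.Lib.Helper22.MetacyclicCrit
import Cfsg.Agent.Lib.Helper22.ClassTwo

/-!
# Sectional rank of `2`-groups: counting tools

Shared library of helper22.  Everything lives in `Cfsg.Agent.Helper22.SecRank`.
-/

set_option autoImplicit false

namespace Cfsg.Agent.Helper22.SecRank

open Subgroup
open scoped commutatorElement Pointwise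

section basic
variable {S : Type*} [Group S]

/-- a group of exponent two is commutative -/
theorem comm_of_sq (h : ∀ x : S, x ^ 2 = 1) (a b : S) : a * b = b * a := by
  have h1 : (a * b) * (a * b) = 1 := by rw [← pow_two]; exact h _
  have h2 : a * a = 1 := by rw [← pow_two]; exact h _
  have h3 : b * b = 1 := by rw [← pow_two]; exact h _
  have hminv : a⁻¹ = a := inv_eq_of_mul_eq_one_right h2
  have hninv : b⁻¹ = b := inv_eq_of_mul_eq_one_right h3
  have hmninv : (a * b)⁻¹ = a * b := inv_eq_of_mul_eq_one_right h1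
  calc a * b = (a * b)⁻¹ := hmninv.symm
    _ = b⁻¹ * a⁻¹ := mul_inv_rev a b
    _ = b * a := by rw [hminv, hninv]

variable [Finite S]

/-- the rank bound: if `M ≤ K`, `K` normalises `M` and all squares of `K` lie in `M`,
then `|K| ≤ 2 ^ r |M|` -/
theorem card_le_of_sq {r : ℕ} (hr : Cfsg.SectionalPRankLE 2 r S) (K M : Subgroup S) (hMK : M ≤ K)
    (hnorm : K ≤ normalizer (M : Set S)) (hsq : ∀ k ∈ K, k ^ 2 ∈ M) :
    Nat.card K ≤ 2 ^ r * Nat.card M := by
  have hn : (M.subgroupOf K).Normal := (normal_subgroupOf_iff_le_normalizer hMK).mpr hnorm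
  have hq : ∀ q : ↥K ⧸ M.subgroupOf K, q ^ 2 = 1 := by
    intro q
    obtain ⟨k, rfl⟩ := QuotientGroup.mk_surjective q
    rw [← QuotientGroup.mk_pow, QuotientGroup.eq_one_iff, mem_subgroupOf]
    exact hsq k k.2
  have h1 := hr K (M.subgroupOf K) ⊤ ⟨⟨fun a b => Subtype.ext
    (comm_of_sq hq (a : ↥K ⧸ M.subgroupOf K) (b : ↥K ⧸ M.subgroupOf K))⟩⟩ (fun a _ => hq a)
  rw [card_top] at h1
  have h2 := card_eq_card_quotient_mul_card_subgroup (M.subgroupOf K)
  have h3 : Nat.card (M.subgroupOf K) = Nat.card M :=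
    Nat.card_congr (subgroupOfEquivOfLe hMK).toEquiv
  rw [h2, h3]
  exact Nat.mul_le_mul_right _ h1

/-- `|A| |B| ≤ |A ⊔ B| |A ⊓ B|` for arbitrary subgroups -/
theorem card_mul_le_sup_inf (A B : Subgroup S) :
    Nat.card A * Nat.card B ≤ Nat.card (A ⊔ B : Subgroup S) * Nat.card (A ⊓ B : Subgroup S) := by
  classical
  let rep : S → A × B := fun x =>
    if h : ∃ p : A × B, (p.1 : S) * (p.2 : S) = x then h.choose else (1, 1)
  have hrep : ∀ (a : A) (b : B), ((rep (a * b)).1 : S) * ((rep (a * b)).2 : S) = a * b := by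
    intro a b
    have h : ∃ p : A × B, (p.1 : S) * (p.2 : S) = (a : S) * b := ⟨(a, b), rfl⟩
    simp only [rep, dif_pos h]
    exact h.choose_spec
  let ψ : A × B → ↥(A ⊔ B) × ↥(A ⊓ B) := fun p =>
    (⟨(p.1 : S) * p.2, mul_mem_sup p.1.2 p.2.2⟩,
     ⟨((rep ((p.1 : S) * p.2)).1 : S)⁻¹ * p.1, by
        refine ⟨A.mul_mem (A.inv_mem (rep _).1.2) p.1.2, ?_⟩
        have h := hrep p.1 p.2
        have e : ((rep ((p.1 : S) * p.2)).1 : S)⁻¹ * p.1 =
            ((rep ((p.1 : S) * p.2)).2 : S) * (p.2 : S)⁻¹ := by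
          rw [inv_mul_eq_iff_eq_mul, ← mul_assoc, h, mul_assoc, mul_inv_cancel, mul_one]
        rw [e]
        exact B.mul_mem (rep _).2.2 (B.inv_mem p.2.2)⟩)
  have hψ : Function.Injective ψ := by
    rintro ⟨a, b⟩ ⟨a', b'⟩ h
    have h1 : (a : S) * b = a' * b' := congrArg (fun q => ((q.1 : ↥(A ⊔ B)) : S)) h
    have h2 : ((rep ((a : S) * b)).1 : S)⁻¹ * a = ((rep ((a' : S) * b')).1 : S)⁻¹ * a' :=
      congrArg (fun q => ((q.2 : ↥(A ⊓ B)) : S)) h
    rw [← h1] at h2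
    have ha : (a : S) = a' := mul_left_cancel h2
    have hb : (b : S) = b' := by
      rw [ha] at h1
      exact mul_left_cancel h1
    exact Prod.ext (Subtype.ext ha) (Subtype.ext hb)
  have := Nat.card_le_card_of_injective ψ hψ
  rwa [Nat.card_prod, Nat.card_prod] at this

/-- `|A ⊔ B| ≤ |A| |B|` if `B` normalises `A` -/
theorem card_sup_le_mul {A B : Subgroup S} (h : B ≤ normalizer (A : Set S)) :
    Nat.card ↥(A ⊔ B) ≤ Nat.card A * Nat.card B := by
  have h1 := coe_mul_of_right_le_normalizer_left A B h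
  have h2 : Nat.card ↥(A ⊔ B) = Nat.card ↥((A : Set S) * (B : Set S)) := by
    rw [← h1]; rfl
  rw [h2]
  exact Set.natCard_mul_le

/-- membership in the normaliser from one-sided conjugation -/
theorem le_normalizer_of_conj {K M : Subgroup S} (h : ∀ k ∈ K, ∀ m ∈ M, k * m * k⁻¹ ∈ M) :
    K ≤ normalizer (M : Set S) := fun k hk => mem_normalizer_fintype (fun m hm => h k hk m hm)

/-- a nontrivial subgroup normalised by the `2`-group `T` contains a nontrivial element
centralised by `T` -/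
theorem exists_central_mem (h2 : IsPGroup 2 S) (T I : Subgroup S) (hIT : I ≤ T)
    (hnorm : ∀ g ∈ T, ∀ w ∈ I, g * w * g⁻¹ ∈ I) (hI : I ≠ ⊥) :
    ∃ w ∈ I, w ≠ 1 ∧ ∀ g ∈ T, g * w = w * g := by
  have : Fact (Nat.Prime 2) := ⟨Nat.prime_two⟩
  have hn : (I.subgroupOf T).Normal :=
    (normal_subgroupOf_iff_le_normalizer hIT).mpr (le_normalizer_of_conj hnorm)
  have hne : I.subgroupOf T ≠ ⊥ := by
    intro h
    apply hI
    rw [eq_bot_iff]
    intro w hw
    have : (⟨w, hIT hw⟩ : ↥T) ∈ I.subgroupOf T := by rw [mem_subgroupOf]; exact hw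
    rw [h, mem_bot] at this
    rw [mem_bot]
    exact congrArg Subtype.val this
  have h1 := Cfsg.Agent.Helper19.normal_inf_center_ne_bot (h2.to_subgroup T) (I.subgroupOf T) hne
  obtain ⟨w, hw1⟩ := (ne_bot_iff_exists_ne_one).mp h1
  have hwmem := w.2
  rw [mem_inf, mem_subgroupOf] at hwmem
  refine ⟨((w : ↥T) : S), hwmem.1, ?_, ?_⟩
  · intro h
    apply hw1
    apply Subtype.ext
    apply Subtype.ext
    exact h
  · intro g hg
    have := mem_center_iff.mp hwmem.2 ⟨g, hg⟩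
    exact congrArg Subtype.val this

end basic

section cen
variable {S : Type*} [Group S]

/-- `z` generates the centre of `K`, which has order two -/
def CenTwo (K : Subgroup S) (z : S) : Prop :=
  z ∈ K ∧ z ≠ 1 ∧ (∀ x ∈ K, x * z = z * x) ∧
    ∀ w ∈ K, (∀ x ∈ K, x * w = w * x) → w = 1 ∨ w = z

/-- `K` is not commutative -/
def NonAb (K : Subgroup S) : Prop := ∃ x ∈ K, ∃ y ∈ K, x * y ≠ y * x

/-- subgroup generated by the squares of `K` -/
def Sq (K : Subgroup S) : Subgroup S := closure {x | ∃ k ∈ K, x = k ^ 2}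

/-- the conjugate subgroup `g K g⁻¹` -/
def cj (g : S) (K : Subgroup S) : Subgroup S := K.map (MulAut.conj g).toMonoidHom

theorem mem_cj {g : S} {K : Subgroup S} {x : S} : x ∈ cj g K ↔ g⁻¹ * x * g ∈ K := by
  unfold cj
  rw [mem_map]
  constructor
  · rintro ⟨y, hy, rfl⟩
    have : g⁻¹ * ((MulAut.conj g).toMonoidHom y) * g = y := by
      show g⁻¹ * (g * y * g⁻¹) * g = y
      group
    rwa [this]
  · intro h
    refine ⟨g⁻¹ * x * g, h, ?_⟩
    show g * (g⁻¹ * x * g) * g⁻¹ = x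
    group

theorem conj_mem_cj {g : S} {K : Subgroup S} {x : S} (hx : x ∈ K) : g * x * g⁻¹ ∈ cj g K := by
  rw [mem_cj]
  have : g⁻¹ * (g * x * g⁻¹) * g = x := by group
  rwa [this]

theorem card_cj (g : S) (K : Subgroup S) : Nat.card (cj g K) = Nat.card K :=
  card_map_of_injective (MulEquiv.injective _)

theorem cj_mono {g : S} {K L : Subgroup S} (h : K ≤ L) : cj g K ≤ cj g L := map_mono h

theorem nonAb_of (P : Subgroup S) (hP : ¬ IsMulCommutative P) : NonAb P := by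
  by_contra h
  unfold NonAb at h
  push Not at h
  exact hP ⟨⟨fun a b => Subtype.ext (h a a.2 b b.2)⟩⟩

theorem exists_cenTwo (P : Subgroup S) (hZP : Nat.card (center P) = 2) : ∃ z, CenTwo P z := by
  obtain ⟨z0, hz0, huniq⟩ := (Nat.card_eq_two_iff' (1 : center P)).mp hZP
  refine ⟨((z0 : ↥P) : S), (z0 : ↥P).2, ?_, ?_, ?_⟩
  · intro h
    apply hz0
    apply Subtype.ext
    apply Subtype.ext
    exact h
  · intro x hx
    have := mem_center_iff.mp z0.2 ⟨x, hx⟩
    exact congrArg Subtype.val this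
  · intro w hw hcomm
    have hwc : (⟨w, hw⟩ : ↥P) ∈ center ↥P := by
      rw [mem_center_iff]
      intro g
      apply Subtype.ext
      exact hcomm g g.2
    by_cases h1 : w = 1
    · left; exact h1
    · right
      have := huniq ⟨⟨w, hw⟩, hwc⟩ (by
        intro h
        apply h1
        have := congrArg (fun q : center ↥P => ((q : ↥P) : S)) h
        exact this)
      have := congrArg (fun q : center ↥P => ((q : ↥P) : S)) this
      exact this

theorem CenTwo.cj {K : Subgroup S} {z : S} (h : CenTwo K z) (g : S) :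
    CenTwo (cj g K) (g * z * g⁻¹) := by
  obtain ⟨hz, hz1, hc, hu⟩ := h
  refine ⟨conj_mem_cj hz, ?_, ?_, ?_⟩
  · intro h
    apply hz1
    have : z = g⁻¹ * (g * z * g⁻¹) * g := by group
    rw [this, h]
    group
  · intro x hx
    rw [mem_cj] at hx
    have := hc _ hx
    calc x * (g * z * g⁻¹) = g * ((g⁻¹ * x * g) * z) * g⁻¹ := by group
      _ = g * (z * (g⁻¹ * x * g)) * g⁻¹ := by rw [this]
      _ = g * z * g⁻¹ * x := by group
  · intro w hw hcomm
    rw [mem_cj] at hw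
    have h1 := hu _ hw (by
      intro x hx
      have := hcomm _ (conj_mem_cj (g := g) hx)
      calc x * (g⁻¹ * w * g) = g⁻¹ * ((g * x * g⁻¹) * w) * g := by group
        _ = g⁻¹ * (w * (g * x * g⁻¹)) * g := by rw [this]
        _ = g⁻¹ * w * g * x := by group)
    rcases h1 with h1 | h1
    · left
      have : w = g * (g⁻¹ * w * g) * g⁻¹ := by group
      rw [this, h1]
      group
    · right
      have : w = g * (g⁻¹ * w * g) * g⁻¹ := by group
      rw [this, h1]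

theorem NonAb.cj {K : Subgroup S} (h : NonAb K) (g : S) : NonAb (cj g K) := by
  obtain ⟨x, hx, y, hy, hxy⟩ := h
  refine ⟨g * x * g⁻¹, conj_mem_cj hx, g * y * g⁻¹, conj_mem_cj hy, ?_⟩
  intro h
  apply hxy
  have e1 : g * x * g⁻¹ * (g * y * g⁻¹) = g * (x * y) * g⁻¹ := by group
  have e2 : g * y * g⁻¹ * (g * x * g⁻¹) = g * (y * x) * g⁻¹ := by group
  rw [e1, e2] at h
  exact mul_left_cancel (mul_right_cancel h)

theorem sq_mem_Sq {K : Subgroup S} {k : S} (hk : k ∈ K) : k ^ 2 ∈ Sq K :=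
  subset_closure ⟨k, hk, rfl⟩

theorem Sq_le (K : Subgroup S) : Sq K ≤ K := by
  unfold Sq
  rw [closure_le]
  rintro x ⟨k, hk, rfl⟩
  exact K.pow_mem hk 2

theorem Sq_conj {K K' : Subgroup S} {g : S} (h : ∀ x ∈ K, g * x * g⁻¹ ∈ K') :
    ∀ m ∈ Sq K, g * m * g⁻¹ ∈ Sq K' := by
  intro m hm
  unfold Sq at hm
  induction hm using closure_induction with
  | mem x hx =>
    obtain ⟨k, hk, rfl⟩ := hx
    have : g * k ^ 2 * g⁻¹ = (g * k * g⁻¹) ^ 2 := by
      rw [pow_two, pow_two]; group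
    rw [this]
    exact sq_mem_Sq (h k hk)
  | one => simp
  | mul x y _ _ ihx ihy =>
    have : g * (x * y) * g⁻¹ = (g * x * g⁻¹) * (g * y * g⁻¹) := by group
    rw [this]
    exact (Sq K').mul_mem ihx ihy
  | inv x _ ihx =>
    have : g * x⁻¹ * g⁻¹ = (g * x * g⁻¹)⁻¹ := by group
    rw [this]
    exact (Sq K').inv_mem ihx

variable [Finite S]

theorem CenTwo.mem_Sq (h2 : IsPGroup 2 S) {K : Subgroup S} {z : S} (h : CenTwo K z)
    (hna : NonAb K) : z ∈ Sq K := by
  have hne : Sq K ≠ ⊥ := by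
    intro hbot
    obtain ⟨x, hx, y, hy, hxy⟩ := hna
    apply hxy
    have hsq : ∀ k : ↥K, k ^ 2 = 1 := by
      intro k
      have := sq_mem_Sq k.2
      rw [hbot, mem_bot] at this
      apply Subtype.ext
      exact this
    exact congrArg Subtype.val (comm_of_sq hsq ⟨x, hx⟩ ⟨y, hy⟩)
  obtain ⟨w, hw, hw1, hwc⟩ := exists_central_mem h2 K (Sq K) (Sq_le K)
    (fun g hg m hm => Sq_conj (fun x hx => K.mul_mem (K.mul_mem hg hx) (K.inv_mem hg)) m hm) hne
  rcases h.2.2.2 w (Sq_le K hw) hwc with h1 | h1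
  · exact absurd h1 hw1
  · rw [← h1]; exact hw

theorem four_mul_card_Sq_le (h2 : IsPGroup 2 S) {K : Subgroup S} (hna : NonAb K) :
    4 * Nat.card (Sq K) ≤ Nat.card K := by
  have : Fact (Nat.Prime 2) := ⟨Nat.prime_two⟩
  have hK2 : IsPGroup 2 ↥K := h2.to_subgroup K
  have hnc : ¬ IsCyclic ↥K := by
    intro hc
    obtain ⟨x, hx, y, hy, hxy⟩ := hna
    apply hxy
    have := (IsCyclic.isMulCommutative (α := ↥K)).is_comm.comm ⟨x, hx⟩ ⟨y, hy⟩
    exact congrArg Subtype.val this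
  have h1 := Cfsg.Agent.Helper22.sq_mul_card_frattini_le hK2 hnc
  have h3 : Sq K ≤ (frattini ↥K).map K.subtype := by
    unfold Sq
    rw [closure_le]
    rintro x ⟨k, hk, rfl⟩
    exact ⟨⟨k, hk⟩ ^ 2, Cfsg.Agent.Helper22.pow_prime_mem_frattini hK2 ⟨k, hk⟩, rfl⟩
  have h4 : Nat.card (Sq K) ≤ Nat.card (frattini ↥K) := by
    rw [← card_map_of_injective K.subtype_injective]
    exact card_le_of_le h3
  calc 4 * Nat.card (Sq K) ≤ 2 ^ 2 * Nat.card (frattini ↥K) := by
        rw [show (2:ℕ) ^ 2 = 4 by norm_num]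
        exact Nat.mul_le_mul_left _ h4
    _ ≤ Nat.card K := h1

/-- two nonabelian subgroups with distinct centres of order two, both normalised by `T`,
meet trivially and commute -/
theorem inf_eq_bot_and_comm (h2 : IsPGroup 2 S) (T P Q : Subgroup S) (hPT : P ≤ T) (hQT : Q ≤ T)
    (hnP : ∀ g ∈ T, ∀ x ∈ P, g * x * g⁻¹ ∈ P) (hnQ : ∀ g ∈ T, ∀ x ∈ Q, g * x * g⁻¹ ∈ Q)
    {z z' : S} (hz : CenTwo P z) (hz' : CenTwo Q z') (hne : z ≠ z') :
    P ⊓ Q = ⊥ ∧ ∀ x ∈ P, ∀ y ∈ Q, x * y = y * x := by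
  have hinf : P ⊓ Q = ⊥ := by
    by_contra hI
    obtain ⟨w, hw, hw1, hwc⟩ := exists_central_mem h2 T (P ⊓ Q) (inf_le_left.trans hPT)
      (fun g hg w hw => ⟨hnP g hg w hw.1, hnQ g hg w hw.2⟩) hI
    have h1 := hz.2.2.2 w hw.1 (fun x hx => hwc x (hPT hx))
    have h2' := hz'.2.2.2 w hw.2 (fun x hx => hwc x (hQT hx))
    rcases h1 with h1 | h1
    · exact hw1 h1
    · rcases h2' with h2' | h2'
      · exact hw1 h2'
      · exact hne (h1.symm.trans h2')
  refine ⟨hinf, ?_⟩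
  intro x hx y hy
  have hmem : ⁅x, y⁆ ∈ P ⊓ Q := by
    constructor
    · have : ⁅x, y⁆ = x * (y * x⁻¹ * y⁻¹) := by rw [commutatorElement_def]; group
      rw [this]
      exact P.mul_mem hx (hnP y (hQT hy) x⁻¹ (P.inv_mem hx))
    · have : ⁅x, y⁆ = (x * y * x⁻¹) * y⁻¹ := by rw [commutatorElement_def]
      rw [this]
      exact Q.mul_mem (hnQ x (hPT hx) y hy) (Q.inv_mem hy)
  rw [hinf, mem_bot, commutatorElement_eq_one_iff_mul_comm] at hmem
  exact hmem

end cen

section double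
variable {S : Type*} [Group S] [Finite S]

/-- the doubling lemma: two commuting subgroups meeting trivially, each with a normal subgroup
containing all its squares -/
theorem card_le_of_double (hr : Cfsg.SectionalPRankLE 2 4 S) (K K' M M' : Subgroup S)
    (hMK : M ≤ K) (hM'K' : M' ≤ K') (hnM : ∀ k ∈ K, ∀ m ∈ M, k * m * k⁻¹ ∈ M)
    (hnM' : ∀ k ∈ K', ∀ m ∈ M', k * m * k⁻¹ ∈ M')
    (hsq : ∀ k ∈ K, k ^ 2 ∈ M) (hsq' : ∀ k ∈ K', k ^ 2 ∈ M')
    (hcomm : ∀ x ∈ K, ∀ y ∈ K', x * y = y * x) (hinf : K ⊓ K' = ⊥) :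
    Nat.card K * Nat.card K' ≤ 16 * (Nat.card M * Nat.card M') := by
  have hK'K : K' ≤ normalizer (K : Set S) := by
    apply le_normalizer_of_conj
    intro k' hk' k hk
    have := hcomm k hk k' hk'
    have e : k' * k * k'⁻¹ = k := by rw [← this]; group
    rw [e]; exact hk
  have hM'M : M' ≤ normalizer (M : Set S) := by
    apply le_normalizer_of_conj
    intro k' hk' k hk
    have := hcomm k (hMK hk) k' (hM'K' hk')
    have e : k' * k * k'⁻¹ = k := by rw [← this]; group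
    rw [e]; exact hk
  have hset : ((K ⊔ K' : Subgroup S) : Set S) = (K : Set S) * (K' : Set S) :=
    coe_mul_of_right_le_normalizer_left K K' hK'K
  have hdec : ∀ h ∈ K ⊔ K', ∃ k ∈ K, ∃ k' ∈ K', h = k * k' := by
    intro h hh
    have : h ∈ ((K ⊔ K' : Subgroup S) : Set S) := hh
    rw [hset] at this
    obtain ⟨k, hk, k', hk', rfl⟩ := this
    exact ⟨k, hk, k', hk', rfl⟩
  have hM2 : Nat.card (M ⊔ M' : Subgroup S) ≤ Nat.card M * Nat.card M' := card_sup_le_mul hM'M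
  have hMH : M ⊔ M' ≤ K ⊔ K' := sup_le_sup hMK hM'K'
  have hnorm : K ⊔ K' ≤ normalizer ((M ⊔ M' : Subgroup S) : Set S) := by
    apply le_normalizer_of_conj
    intro h hh m hm
    obtain ⟨k, hk, k', hk', rfl⟩ := hdec h hh
    have hle : M ⊔ M' ≤ (M ⊔ M').comap (MulAut.conj (k * k')).toMonoidHom := by
      apply sup_le
      · intro a ha
        rw [mem_comap]
        show (k * k') * a * (k * k')⁻¹ ∈ M ⊔ M'
        have hc := hcomm a (hMK ha) k' hk'
        have e : (k * k') * a * (k * k')⁻¹ = k * a * k⁻¹ := by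
          calc (k * k') * a * (k * k')⁻¹ = k * (k' * a) * k'⁻¹ * k⁻¹ := by group
            _ = k * (a * k') * k'⁻¹ * k⁻¹ := by rw [hc]
            _ = k * a * k⁻¹ := by group
        rw [e]
        exact mem_sup_left (hnM k hk a ha)
      · intro a ha
        rw [mem_comap]
        show (k * k') * a * (k * k')⁻¹ ∈ M ⊔ M'
        have hc := hcomm k hk (k' * a * k'⁻¹) (K'.mul_mem (K'.mul_mem hk' (hM'K' ha)) (K'.inv_mem hk'))
        have e : (k * k') * a * (k * k')⁻¹ = k' * a * k'⁻¹ := by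
          calc (k * k') * a * (k * k')⁻¹ = (k * (k' * a * k'⁻¹)) * k⁻¹ := by group
            _ = ((k' * a * k'⁻¹) * k) * k⁻¹ := by rw [hc]
            _ = k' * a * k'⁻¹ := by group
        rw [e]
        exact mem_sup_right (hnM' k' hk' a ha)
    exact hle hm
  have hsqH : ∀ h ∈ K ⊔ K', h ^ 2 ∈ M ⊔ M' := by
    intro h hh
    obtain ⟨k, hk, k', hk', rfl⟩ := hdec h hh
    have hc := hcomm k hk k' hk'
    have e : (k * k') ^ 2 = k ^ 2 * k' ^ 2 := by
      rw [pow_two, pow_two, pow_two]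
      calc k * k' * (k * k') = k * (k' * k) * k' := by group
        _ = k * (k * k') * k' := by rw [hc]
        _ = k * k * (k' * k') := by group
    rw [e]
    exact (M ⊔ M').mul_mem (mem_sup_left (hsq k hk)) (mem_sup_right (hsq' k' hk'))
  have h1 := card_le_of_sq hr (K ⊔ K') (M ⊔ M') hMH hnorm hsqH
  have h2 := card_mul_le_sup_inf K K'
  rw [hinf, card_bot, mul_one] at h2
  calc Nat.card K * Nat.card K' ≤ Nat.card (K ⊔ K' : Subgroup S) := h2
    _ ≤ 2 ^ 4 * Nat.card (M ⊔ M' : Subgroup S) := h1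
    _ ≤ 16 * (Nat.card M * Nat.card M') := by
        rw [show (2:ℕ) ^ 4 = 16 by norm_num]
        exact Nat.mul_le_mul_left _ hM2

/-- if `P` and a conjugate commute and meet trivially inside a group of sectional rank at most
four, then `P` has sectional rank at most two -/
theorem sectionalPRankLE_two_of_double (hr : Cfsg.SectionalPRankLE 2 4 S) (P : Subgroup S) (s : S)
    (hcomm : ∀ x ∈ P, ∀ y ∈ cj s P, x * y = y * x) (hinf : P ⊓ cj s P = ⊥) :
    Cfsg.SectionalPRankLE 2 2 ↥P := by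
  intro H M _ A hAc hAe
  set K₀ : Subgroup ↥H := A.comap (QuotientGroup.mk' M) with hK₀
  have hMK₀ : M ≤ K₀ := by
    intro m hm
    rw [hK₀, mem_comap]
    have : QuotientGroup.mk' M m = 1 := (QuotientGroup.eq_one_iff m).mpr hm
    rw [this]
    exact A.one_mem
  have hcardK₀ : Nat.card K₀ = Nat.card M * Nat.card A := by
    have h1 := relIndex_ker (QuotientGroup.mk' M) (K := K₀)
    rw [QuotientGroup.ker_mk', hK₀,
      map_comap_eq_self_of_surjective (QuotientGroup.mk'_surjective M)] at h1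
    have h2 := relIndex_mul_relIndex (H := ⊥) (K := M) (L := K₀) bot_le hMK₀
    rw [relIndex_bot_left, relIndex_bot_left] at h2
    rw [← hK₀] at h1
    rw [h1] at h2
    exact h2.symm
  let ι : ↥H →* S := P.subtype.comp H.subtype
  have hι : Function.Injective ι := fun a b h => by
    apply Subtype.ext
    apply Subtype.ext
    exact h
  set K : Subgroup S := K₀.map ι with hK
  set MS : Subgroup S := M.map ι with hMS
  have hKP : K ≤ P := by
    rintro _ ⟨k, _, rfl⟩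
    exact (k : ↥P).2
  have hcK : Nat.card K = Nat.card K₀ := card_map_of_injective hι
  have hcM : Nat.card MS = Nat.card M := card_map_of_injective hι
  have hMK : MS ≤ K := map_mono hMK₀
  have hsq : ∀ k ∈ K, k ^ 2 ∈ MS := by
    rintro _ ⟨k, hk, rfl⟩
    refine ⟨k ^ 2, ?_, map_pow ι k 2⟩
    have hk' : QuotientGroup.mk' M k ∈ A := hk
    have := hAe _ hk'
    rw [← map_pow] at this
    exact (QuotientGroup.eq_one_iff _).mp this
  have hnM : ∀ k ∈ K, ∀ m ∈ MS, k * m * k⁻¹ ∈ MS := by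
    rintro _ ⟨k, _, rfl⟩ _ ⟨m, hm, rfl⟩
    refine ⟨k * m * k⁻¹, ‹M.Normal›.conj_mem m hm k, ?_⟩
    rw [map_mul, map_mul, map_inv]
  have hsq' : ∀ k ∈ cj s K, k ^ 2 ∈ cj s MS := by
    intro k hk
    rw [mem_cj] at hk ⊢
    have := hsq _ hk
    have e : s⁻¹ * k ^ 2 * s = (s⁻¹ * k * s) ^ 2 := by
      rw [pow_two, pow_two]; group
    rw [e]; exact this
  have hnM' : ∀ k ∈ cj s K, ∀ m ∈ cj s MS, k * m * k⁻¹ ∈ cj s MS := by
    intro k hk m hm
    rw [mem_cj] at hk hm ⊢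
    have := hnM _ hk _ hm
    have e : s⁻¹ * (k * m * k⁻¹) * s = (s⁻¹ * k * s) * (s⁻¹ * m * s) * (s⁻¹ * k * s)⁻¹ := by
      group
    rw [e]; exact this
  have hcomm' : ∀ x ∈ K, ∀ y ∈ cj s K, x * y = y * x :=
    fun x hx y hy => hcomm x (hKP hx) y (cj_mono hKP hy)
  have hinf' : K ⊓ cj s K = ⊥ := by
    rw [eq_bot_iff, ← hinf]
    exact inf_le_inf hKP (cj_mono hKP)
  have h1 := card_le_of_double hr K (cj s K) MS (cj s MS) hMK (cj_mono hMK) hnM hnM' hsq hsq'
    hcomm' hinf'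
  rw [card_cj, card_cj, hcK, hcM, hcardK₀] at h1
  have hMpos : 0 < Nat.card M := Nat.card_pos
  have h3 : Nat.card A * Nat.card A ≤ 16 := by
    have : (Nat.card M * Nat.card M) * (Nat.card A * Nat.card A) ≤
        (Nat.card M * Nat.card M) * 16 := by
      calc (Nat.card M * Nat.card M) * (Nat.card A * Nat.card A)
          = Nat.card M * Nat.card A * (Nat.card M * Nat.card A) := by ring
        _ ≤ 16 * (Nat.card M * Nat.card M) := h1
        _ = (Nat.card M * Nat.card M) * 16 := by ring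
    exact Nat.le_of_mul_le_mul_left this (Nat.mul_pos hMpos hMpos)
  show Nat.card A ≤ 2 ^ 2
  nlinarith

end double

section modcentral
variable {S : Type*} [Group S]

theorem eq_one_or_eq_of_mem_zpowers {u x : S} (hu : u ^ 2 = 1) (hx : x ∈ zpowers u) :
    x = 1 ∨ x = u := by
  obtain ⟨k, rfl⟩ := mem_zpowers_iff.mp hx
  rcases Int.even_or_odd' k with ⟨m, hm | hm⟩
  · left
    rw [hm, zpow_mul, zpow_ofNat, hu, one_zpow]
  · right
    rw [hm, zpow_add, zpow_mul, zpow_ofNat, hu, one_zpow, one_mul, zpow_one]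

/-- an element of `P Q` (commuting factors with centres of order two) all of whose commutators
with `P` and `Q` lie in a subgroup `U` avoiding `P` and `Q` lies in `Z(P) Z(Q)` -/
theorem mem_of_comm_mod (P Q U : Subgroup S) {z z' : S} (hz : CenTwo P z) (hz' : CenTwo Q z')
    (hcomm : ∀ x ∈ P, ∀ y ∈ Q, x * y = y * x) (hUP : U ⊓ P = ⊥) (hUQ : U ⊓ Q = ⊥)
    {w : S} (hw : w ∈ P ⊔ Q) (hwP : ∀ p ∈ P, ⁅w, p⁆ ∈ U) (hwQ : ∀ q ∈ Q, ⁅w, q⁆ ∈ U) :
    w = 1 ∨ w = z ∨ w = z' ∨ w = z * z' := by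
  have hQP : Q ≤ normalizer (P : Set S) := by
    intro q hq
    rw [mem_normalizer_iff]
    intro p
    constructor
    · intro hp
      have e : q * p * q⁻¹ = p := by rw [← hcomm p hp q hq]; group
      rw [e]; exact hp
    · intro hp
      have h1 := hcomm _ hp q⁻¹ (Q.inv_mem hq)
      have e : p = q⁻¹ * (q * p * q⁻¹) * q := by group
      rw [e, ← h1]
      have : q * p * q⁻¹ * q⁻¹ * q = q * p * q⁻¹ := by group
      rw [this]; exact hp
  have hset : ((P ⊔ Q : Subgroup S) : Set S) = (P : Set S) * (Q : Set S) :=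
    coe_mul_of_right_le_normalizer_left P Q hQP
  have hw' : w ∈ ((P ⊔ Q : Subgroup S) : Set S) := hw
  rw [hset] at hw'
  obtain ⟨x, hx, y, hy, hxy⟩ := hw'
  have hxy' : x * y = w := hxy
  subst hxy'
  have hxc : ∀ p ∈ P, p * x = x * p := by
    intro p hp
    have h1 := hwP p hp
    have hyp := hcomm p hp y hy
    have hyp' := hcomm p⁻¹ (P.inv_mem hp) y hy
    have e : ⁅x * y, p⁆ = ⁅x, p⁆ := by
      rw [commutatorElement_def, commutatorElement_def]
      calc x * y * p * (x * y)⁻¹ * p⁻¹ = x * (y * p) * y⁻¹ * x⁻¹ * p⁻¹ := by group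
        _ = x * (p * y) * y⁻¹ * x⁻¹ * p⁻¹ := by rw [hyp]
        _ = x * p * x⁻¹ * p⁻¹ := by group
    rw [e] at h1
    have h2 : ⁅x, p⁆ ∈ P := by
      rw [commutatorElement_def]
      exact P.mul_mem (P.mul_mem (P.mul_mem hx hp) (P.inv_mem hx)) (P.inv_mem hp)
    have h3 : ⁅x, p⁆ ∈ U ⊓ P := ⟨h1, h2⟩
    rw [hUP, mem_bot, commutatorElement_eq_one_iff_mul_comm] at h3
    exact h3.symm
  have hyc : ∀ q ∈ Q, q * y = y * q := by
    intro q hq
    have h1 := hwQ q hq
    have hxq := hcomm x hx q hq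
    have hxq' := hcomm x hx (y * q * y⁻¹) (Q.mul_mem (Q.mul_mem hy hq) (Q.inv_mem hy))
    have e : ⁅x * y, q⁆ = ⁅y, q⁆ := by
      rw [commutatorElement_def, commutatorElement_def]
      calc x * y * q * (x * y)⁻¹ * q⁻¹ = (x * (y * q * y⁻¹)) * x⁻¹ * q⁻¹ := by group
        _ = ((y * q * y⁻¹) * x) * x⁻¹ * q⁻¹ := by rw [hxq']
        _ = y * q * y⁻¹ * q⁻¹ := by group
    rw [e] at h1
    have h2 : ⁅y, q⁆ ∈ Q := by
      rw [commutatorElement_def]
      exact Q.mul_mem (Q.mul_mem (Q.mul_mem hy hq) (Q.inv_mem hy)) (Q.inv_mem hq)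
    have h3 : ⁅y, q⁆ ∈ U ⊓ Q := ⟨h1, h2⟩
    rw [hUQ, mem_bot, commutatorElement_eq_one_iff_mul_comm] at h3
    exact h3.symm
  rcases hz.2.2.2 x hx hxc with h1 | h1 <;> rcases hz'.2.2.2 y hy hyc with h2 | h2
  · left; rw [h1, h2, one_mul]
  · right; right; left; rw [h1, h2, one_mul]
  · right; left; rw [h1, h2, mul_one]
  · right; right; right; rw [h1, h2]

variable [Finite S]

/-- central elements modulo a central subgroup -/
theorem exists_central_mod (h2 : IsPGroup 2 S) (T I U : Subgroup S) (hIT : I ≤ T)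
    (hnorm : ∀ g ∈ T, ∀ w ∈ I, g * w * g⁻¹ ∈ I) (hUc : ∀ x ∈ U, ∀ g ∈ T, g * x = x * g)
    (hIU : ¬ I ≤ U) :
    ∃ w ∈ I, w ∉ U ∧ ∀ n ∈ T, ⁅w, n⁆ ∈ U := by
  have : Fact (Nat.Prime 2) := ⟨Nat.prime_two⟩
  have hUn : (U.subgroupOf T).Normal := by
    constructor
    intro x hx g
    rw [mem_subgroupOf] at hx ⊢
    have := hUc _ hx g g.2
    have e : ((g * x * g⁻¹ : ↥T) : S) = (x : S) := by
      show (g : S) * x * (g : S)⁻¹ = x
      rw [this]; group
    rw [e]; exact hx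
  have hIn : (I.subgroupOf T).Normal :=
    (normal_subgroupOf_iff_le_normalizer hIT).mpr (le_normalizer_of_conj hnorm)
  set π := QuotientGroup.mk' (U.subgroupOf T) with hπ
  have hIbar : ((I.subgroupOf T).map π).Normal :=
    Subgroup.Normal.map hIn π (QuotientGroup.mk'_surjective _)
  have hne : (I.subgroupOf T).map π ≠ ⊥ := by
    obtain ⟨w0, hw0I, hw0U⟩ := SetLike.not_le_iff_exists.mp hIU
    intro hbot
    have hmem : π ⟨w0, hIT hw0I⟩ ∈ (I.subgroupOf T).map π :=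
      mem_map_of_mem π (by rw [mem_subgroupOf]; exact hw0I)
    rw [hbot, mem_bot] at hmem
    have := (QuotientGroup.eq_one_iff _).mp hmem
    rw [mem_subgroupOf] at this
    exact hw0U this
  have h2T : IsPGroup 2 (↥T ⧸ U.subgroupOf T) := (h2.to_subgroup T).to_quotient _
  have h1 := Cfsg.Agent.Helper19.normal_inf_center_ne_bot h2T ((I.subgroupOf T).map π) hne
  obtain ⟨wb, hwb1⟩ := (ne_bot_iff_exists_ne_one).mp h1
  have hwbmem := wb.2
  rw [mem_inf] at hwbmem
  obtain ⟨w, hwI, hwπ⟩ := mem_map.mp hwbmem.1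
  rw [mem_subgroupOf] at hwI
  refine ⟨(w : S), hwI, ?_, ?_⟩
  · intro hwU
    apply hwb1
    apply Subtype.ext
    rw [← hwπ]
    show π w = 1
    rw [hπ, QuotientGroup.mk'_apply, QuotientGroup.eq_one_iff, mem_subgroupOf]
    exact hwU
  · intro n hn
    have hc := mem_center_iff.mp hwbmem.2 (π ⟨n, hn⟩)
    rw [← hwπ] at hc
    have h3 : π (⁅w, ⟨n, hn⟩⁆) = 1 := by
      rw [map_commutatorElement, commutatorElement_eq_one_iff_mul_comm]
      exact hc.symm
    rw [hπ, QuotientGroup.mk'_apply, QuotientGroup.eq_one_iff, mem_subgroupOf] at h3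
    exact h3

end modcentral

section main
variable {S : Type*} [Group S]

/-- the subgroup `S₀ ∪ S₀ s` for `s` normalising `S₀` with `s² ∈ S₀` -/
def ext2 (S₀ : Subgroup S) (s : S) (hs : ∀ g ∈ S₀, s * g * s⁻¹ ∈ S₀) (hs2 : s ^ 2 ∈ S₀) :
    Subgroup S where
  carrier := {n | n ∈ S₀ ∨ n * s⁻¹ ∈ S₀}
  one_mem' := Or.inl S₀.one_mem
  mul_mem' := by
    intro a b ha hb
    rcases ha with ha | ha <;> rcases hb with hb | hb
    · exact Or.inl (S₀.mul_mem ha hb)
    · right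
      have e : a * b * s⁻¹ = a * (b * s⁻¹) := by group
      rw [e]; exact S₀.mul_mem ha hb
    · right
      have e : a * b * s⁻¹ = (a * s⁻¹) * (s * b * s⁻¹) := by group
      rw [e]; exact S₀.mul_mem ha (hs b hb)
    · left
      have e : a * b = (a * s⁻¹) * (s * (b * s⁻¹) * s⁻¹) * s ^ 2 := by group
      rw [e]; exact S₀.mul_mem (S₀.mul_mem ha (hs _ hb)) hs2
  inv_mem' := by
    intro a ha
    rcases ha with ha | ha
    · exact Or.inl (S₀.inv_mem ha)
    · right
      have e : a⁻¹ * s⁻¹ = (s ^ 2)⁻¹ * (s * (a * s⁻¹)⁻¹ * s⁻¹) := by group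
      rw [e]; exact S₀.mul_mem (S₀.inv_mem hs2) (hs _ (S₀.inv_mem ha))

theorem mem_ext2 {S₀ : Subgroup S} {s : S} {hs : ∀ g ∈ S₀, s * g * s⁻¹ ∈ S₀} {hs2 : s ^ 2 ∈ S₀}
    {n : S} : n ∈ ext2 S₀ s hs hs2 ↔ n ∈ S₀ ∨ n * s⁻¹ ∈ S₀ := Iff.rfl

variable [Finite S]

/-- basic facts on the conjugate `Q = s P s⁻¹` -/
theorem conj_facts (h2 : IsPGroup 2 S) (P S₀ : Subgroup S) (z : S) (hz : CenTwo P z)
    (hS₀ : ∀ g, g ∈ S₀ ↔ g * z = z * g) (hPn : ∀ g ∈ S₀, ∀ x ∈ P, g * x * g⁻¹ ∈ P)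
    (s : S) (hs : ∀ g ∈ S₀, s * g * s⁻¹ ∈ S₀) (hs2 : s ^ 2 ∈ S₀) (hsS₀ : s ∉ S₀) :
    P ≤ S₀ ∧ cj s P ≤ S₀ ∧ (∀ g ∈ S₀, s⁻¹ * g * s ∈ S₀) ∧
      (∀ g ∈ S₀, ∀ y ∈ cj s P, g * y * g⁻¹ ∈ cj s P) ∧
      CenTwo (cj s P) (s * z * s⁻¹) ∧ z ≠ s * z * s⁻¹ ∧ P ⊓ cj s P = ⊥ ∧
      ∀ x ∈ P, ∀ y ∈ cj s P, x * y = y * x := by
  have hPS₀ : P ≤ S₀ := fun x hx => (hS₀ x).mpr (hz.2.2.1 x hx)
  have hsinv : ∀ g ∈ S₀, s⁻¹ * g * s ∈ S₀ := by
    intro g hg
    have e : s⁻¹ * g * s = s * ((s ^ 2)⁻¹ * g * s ^ 2) * s⁻¹ := by group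
    rw [e]
    exact hs _ (S₀.mul_mem (S₀.mul_mem (S₀.inv_mem hs2) hg) hs2)
  have hQS₀ : cj s P ≤ S₀ := by
    intro y hy
    rw [mem_cj] at hy
    have e : y = s * (s⁻¹ * y * s) * s⁻¹ := by group
    rw [e]
    exact hs _ (hPS₀ hy)
  have hQn : ∀ g ∈ S₀, ∀ y ∈ cj s P, g * y * g⁻¹ ∈ cj s P := by
    intro g hg y hy
    rw [mem_cj] at hy ⊢
    have e : s⁻¹ * (g * y * g⁻¹) * s = (s⁻¹ * g * s) * (s⁻¹ * y * s) * (s⁻¹ * g * s)⁻¹ := by group
    rw [e]
    exact hPn _ (hsinv g hg) _ hy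
  have hne : z ≠ s * z * s⁻¹ := by
    intro h
    apply hsS₀
    rw [hS₀]
    calc s * z = (s * z * s⁻¹) * s := by group
      _ = z * s := by rw [← h]
  obtain ⟨h1, h2'⟩ := inf_eq_bot_and_comm h2 S₀ P (cj s P) hPS₀ hQS₀ hPn hQn hz (hz.cj s) hne
  exact ⟨hPS₀, hQS₀, hsinv, hQn, hz.cj s, hne, h1, h2'⟩

/-- the main step: `S₀ ∪ S₀ s` is the whole group -/
theorem ext2_eq_top (h2 : IsPGroup 2 S) (hr : Cfsg.SectionalPRankLE 2 4 S) (P S₀ : Subgroup S)
    (z : S) (hz : CenTwo P z) (hna : NonAb P) (hS₀ : ∀ g, g ∈ S₀ ↔ g * z = z * g)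
    (hPn : ∀ g ∈ S₀, ∀ x ∈ P, g * x * g⁻¹ ∈ P)
    (s : S) (hs : ∀ g ∈ S₀, s * g * s⁻¹ ∈ S₀) (hs2 : s ^ 2 ∈ S₀) (hsS₀ : s ∉ S₀) :
    ext2 S₀ s hs hs2 = ⊤ := by
  have hfact : Fact (Nat.Prime 2) := ⟨Nat.prime_two⟩
  obtain ⟨hPS₀, hQS₀, hsinv, hQn, hz', hne, hinf, hcomm⟩ :=
    conj_facts h2 P S₀ z hz hS₀ hPn s hs hs2 hsS₀
  obtain ⟨Q, hQ⟩ : ∃ Q, Q = cj s P := ⟨_, rfl⟩
  obtain ⟨z', hz'def⟩ : ∃ z', z' = s * z * s⁻¹ := ⟨_, rfl⟩
  rw [← hQ] at hQS₀ hQn hz' hinf hcomm
  rw [← hz'def] at hz' hne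
  obtain ⟨T, hT⟩ : ∃ T, T = ext2 S₀ s hs hs2 := ⟨_, rfl⟩
  have hmemT : ∀ n, n ∈ T ↔ n ∈ S₀ ∨ n * s⁻¹ ∈ S₀ := by
    intro n
    rw [hT]
    exact Iff.rfl
  have hss : s * s ∈ S₀ := by rw [← pow_two]; exact hs2
  rw [← hT]
  by_contra hTtop
  -- involutions
  have hzz : z * z = 1 := by
    rcases hz.2.2.2 (z * z) (P.mul_mem hz.1 hz.1) (fun x hx => by
      have := hz.2.2.1 x hx
      calc x * (z * z) = (x * z) * z := by group
        _ = (z * x) * z := by rw [this]
        _ = z * (x * z) := by group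
        _ = z * (z * x) := by rw [this]
        _ = z * z * x := by group) with h | h
    · exact h
    · exfalso
      apply hz.2.1
      calc z = z⁻¹ * (z * z) := by group
        _ = z⁻¹ * z := by rw [h]
        _ = 1 := by group
  have hzS₀ : z ∈ S₀ := hPS₀ hz.1
  have hz'S₀ : z' ∈ S₀ := hz'def ▸ hs z hzS₀
  have hz'z' : z' * z' = 1 := by
    rw [hz'def]
    calc s * z * s⁻¹ * (s * z * s⁻¹) = s * (z * z) * s⁻¹ := by group
      _ = 1 := by rw [hzz]; group
  have hzz'c : z' * z = z * z' := (hS₀ z').mp hz'S₀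
  obtain ⟨u, hu⟩ : ∃ u, u = z * z' := ⟨_, rfl⟩
  have hu2 : u ^ 2 = 1 := by
    rw [pow_two, hu]
    calc z * z' * (z * z') = z * (z' * z) * z' := by group
      _ = z * (z * z') * z' := by rw [hzz'c]
      _ = (z * z) * (z' * z') := by group
      _ = 1 := by rw [hzz, hz'z']; group
  -- s swaps z and z'
  have hs2z : s * s * z = z * (s * s) := (hS₀ _).mp hss
  have hsz' : s * z' * s⁻¹ = z := by
    rw [hz'def]
    calc s * (s * z * s⁻¹) * s⁻¹ = (s * s * z) * (s * s)⁻¹ := by group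
      _ = (z * (s * s)) * (s * s)⁻¹ := by rw [hs2z]
      _ = z := by group
  have hS₀z' : ∀ g ∈ S₀, g * z' = z' * g := by
    intro g hg
    have h1 := (hS₀ _).mp (hsinv g hg)
    rw [hz'def]
    calc g * (s * z * s⁻¹) = s * ((s⁻¹ * g * s) * z) * s⁻¹ := by group
      _ = s * (z * (s⁻¹ * g * s)) * s⁻¹ := by rw [h1]
      _ = s * z * s⁻¹ * g := by group
  have hS₀T : S₀ ≤ T := fun g hg => (hmemT g).mpr (Or.inl hg)
  have hsT : s ∈ T := (hmemT s).mpr (Or.inr (by rw [mul_inv_cancel]; exact S₀.one_mem))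
  -- T permutes P and Q
  have hsQ : ∀ y ∈ Q, s * y * s⁻¹ ∈ P := by
    intro y hy
    rw [hQ, mem_cj] at hy
    have e : s * y * s⁻¹ = (s * s) * (s⁻¹ * y * s) * (s * s)⁻¹ := by group
    rw [e]
    exact hPn _ hss _ hy
  have hperm : ∀ n ∈ T, ((∀ x ∈ P, n * x * n⁻¹ ∈ P) ∧ (∀ y ∈ Q, n * y * n⁻¹ ∈ Q)) ∨
      ((∀ x ∈ P, n * x * n⁻¹ ∈ Q) ∧ (∀ y ∈ Q, n * y * n⁻¹ ∈ P)) := by
    intro n hn
    rcases (hmemT n).mp hn with hn | hn
    · exact Or.inl ⟨hPn n hn, hQn n hn⟩
    · right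
      constructor
      · intro x hx
        have e : n * x * n⁻¹ = (n * s⁻¹) * (s * x * s⁻¹) * (n * s⁻¹)⁻¹ := by group
        rw [e]
        exact hQn _ hn _ (hQ ▸ conj_mem_cj hx)
      · intro y hy
        have e : n * y * n⁻¹ = (n * s⁻¹) * (s * y * s⁻¹) * (n * s⁻¹)⁻¹ := by group
        rw [e]
        exact hPn _ hn _ (hsQ y hy)
  obtain ⟨R, hR⟩ : ∃ R : Subgroup S, R = P ⊔ Q := ⟨_, rfl⟩
  have hPR : P ≤ R := hR ▸ le_sup_left
  have hQR : Q ≤ R := hR ▸ le_sup_right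
  have hRS₀ : R ≤ S₀ := hR ▸ sup_le hPS₀ hQS₀
  have hRT : R ≤ T := hRS₀.trans hS₀T
  have hTR : ∀ n ∈ T, ∀ r ∈ R, n * r * n⁻¹ ∈ R := by
    intro n hn r hr'
    have hle : R ≤ R.comap (MulAut.conj n).toMonoidHom := by
      nth_rewrite 1 [hR]
      apply sup_le
      · intro x hx
        rw [mem_comap]
        show n * x * n⁻¹ ∈ R
        rcases hperm n hn with h | h
        · exact hPR (h.1 x hx)
        · exact hQR (h.1 x hx)
      · intro y hy
        rw [mem_comap]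
        show n * y * n⁻¹ ∈ R
        rcases hperm n hn with h | h
        · exact hQR (h.2 y hy)
        · exact hPR (h.2 y hy)
    exact hle hr'
  obtain ⟨MR, hMR⟩ : ∃ MR : Subgroup S, MR = Sq P ⊔ Sq Q := ⟨_, rfl⟩
  have hTMR : ∀ n ∈ T, ∀ m ∈ MR, n * m * n⁻¹ ∈ MR := by
    intro n hn m hm
    have hSPM : Sq P ≤ MR := hMR ▸ le_sup_left
    have hSQM : Sq Q ≤ MR := hMR ▸ le_sup_right
    have hle : MR ≤ MR.comap (MulAut.conj n).toMonoidHom := by
      nth_rewrite 1 [hMR]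
      apply sup_le
      · intro x hx
        rw [mem_comap]
        show n * x * n⁻¹ ∈ MR
        rcases hperm n hn with h | h
        · exact hSPM (Sq_conj h.1 x hx)
        · exact hSQM (Sq_conj h.1 x hx)
      · intro y hy
        rw [mem_comap]
        show n * y * n⁻¹ ∈ MR
        rcases hperm n hn with h | h
        · exact hSQM (Sq_conj h.2 y hy)
        · exact hSPM (Sq_conj h.2 y hy)
    exact hle hm
  -- u is central in T
  have huT : ∀ n ∈ T, n * u = u * n := by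
    have hS₀u : ∀ g ∈ S₀, g * u = u * g := by
      intro g hg
      have h1 := (hS₀ g).mp hg
      have h2' := hS₀z' g hg
      rw [hu]
      calc g * (z * z') = (g * z) * z' := by group
        _ = (z * g) * z' := by rw [h1]
        _ = z * (g * z') := by group
        _ = z * (z' * g) := by rw [h2']
        _ = z * z' * g := by group
    have hsu : s * u = u * s := by
      have h1 : s * u * s⁻¹ = u := by
        rw [hu]
        calc s * (z * z') * s⁻¹ = (s * z * s⁻¹) * (s * z' * s⁻¹) := by group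
          _ = z' * z := by rw [hsz', ← hz'def]
          _ = z * z' := hzz'c
      calc s * u = (s * u * s⁻¹) * s := by group
        _ = u * s := by rw [h1]
    intro n hn
    rcases (hmemT n).mp hn with hn | hn
    · exact hS₀u n hn
    · have h1 := hS₀u _ hn
      calc n * u = (n * s⁻¹) * (s * u) := by group
        _ = (n * s⁻¹) * (u * s) := by rw [hsu]
        _ = ((n * s⁻¹) * u) * s := by group
        _ = (u * (n * s⁻¹)) * s := by rw [h1]
        _ = u * n := by group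
  have hz'1 : z' ≠ 1 := hz'.2.1
  have huP : zpowers u ⊓ P = ⊥ := by
    rw [eq_bot_iff]
    intro x hx
    rw [mem_bot]
    rcases eq_one_or_eq_of_mem_zpowers hu2 hx.1 with h | h
    · exact h
    · exfalso
      have huPm : u ∈ P := h ▸ hx.2
      have : z' ∈ P ⊓ Q := by
        refine ⟨?_, hz'.1⟩
        have e : z' = z⁻¹ * u := by rw [hu]; group
        rw [e]
        exact P.mul_mem (P.inv_mem hz.1) huPm
      rw [hinf, mem_bot] at this
      exact hz'1 this
  have huQ : zpowers u ⊓ Q = ⊥ := by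
    rw [eq_bot_iff]
    intro x hx
    rw [mem_bot]
    rcases eq_one_or_eq_of_mem_zpowers hu2 hx.1 with h | h
    · exact h
    · exfalso
      have huQm : u ∈ Q := h ▸ hx.2
      have : z ∈ P ⊓ Q := by
        refine ⟨hz.1, ?_⟩
        have e : z = u * z'⁻¹ := by rw [hu]; group
        rw [e]
        exact Q.mul_mem huQm (Q.inv_mem hz'.1)
      rw [hinf, mem_bot] at this
      exact hz.2.1 this
  have hSPM : Sq P ≤ MR := hMR ▸ le_sup_left
  have hSQM : Sq Q ≤ MR := hMR ▸ le_sup_right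
  have hnaQ : NonAb Q := hQ ▸ hna.cj s
  have huMR : u ∈ MR := by
    rw [hu]
    exact MR.mul_mem (hSPM (hz.mem_Sq h2 hna)) (hSQM (hz'.mem_Sq h2 hnaQ))
  have h1U : (1 : S) ∈ zpowers u := one_mem _
  -- central elements of R
  have hK1' : ∀ w ∈ R, (∀ n ∈ T, n * w = w * n) → w = 1 ∨ w = u := by
    intro w hw hc
    have hcU : ∀ p ∈ T, ⁅w, p⁆ ∈ zpowers u := by
      intro p hp
      have : ⁅w, p⁆ = 1 := by
        rw [commutatorElement_eq_one_iff_mul_comm]
        exact (hc p hp).symm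
      rw [this]; exact h1U
    rcases mem_of_comm_mod P Q (zpowers u) hz hz' hcomm huP huQ (hR ▸ hw)
      (fun p hp => hcU p (hS₀T (hPS₀ hp))) (fun q hq => hcU q (hS₀T (hQS₀ hq))) with h | h | h | h
    · exact Or.inl h
    · exfalso
      apply hsS₀
      rw [hS₀]
      have := hc s hsT
      rw [h] at this
      exact this
    · exfalso
      have := hc s hsT
      rw [h] at this
      apply hne
      calc z = s * z' * s⁻¹ := hsz'.symm
        _ = (z' * s) * s⁻¹ := by rw [this]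
        _ = z' := by group
    · exact Or.inr (h.trans hu.symm)
  -- the element t
  have hnil : Group.IsNilpotent S := h2.isNilpotent
  have hlt : T < normalizer (T : Set S) :=
    Group.normalizerCondition_of_isNilpotent T (lt_top_iff_ne_top.mpr hTtop)
  obtain ⟨t, htN, htT⟩ := SetLike.exists_of_lt hlt
  have htc : ∀ n ∈ T, t * n * t⁻¹ ∈ T := fun n hn => (mem_normalizer_iff.mp htN n).mp hn
  have htc' : ∀ n ∈ T, t⁻¹ * n * t ∈ T := by
    intro n hn
    have := (mem_normalizer_iff.mp ((normalizer (T : Set S)).inv_mem htN) n).mp hn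
    rwa [inv_inv] at this
  obtain ⟨Rt, hRt⟩ : ∃ Rt : Subgroup S, Rt = cj t R := ⟨_, rfl⟩
  have hRtT : Rt ≤ T := by
    intro r hr'
    rw [hRt, mem_cj] at hr'
    have e : r = t * (t⁻¹ * r * t) * t⁻¹ := by group
    rw [e]
    exact htc _ (hRT hr')
  have hTRt : ∀ n ∈ T, ∀ r ∈ Rt, n * r * n⁻¹ ∈ Rt := by
    intro n hn r hr'
    rw [hRt, mem_cj] at hr' ⊢
    have e : t⁻¹ * (n * r * n⁻¹) * t = (t⁻¹ * n * t) * (t⁻¹ * r * t) * (t⁻¹ * n * t)⁻¹ := by group
    rw [e]
    exact hTR _ (htc' n hn) _ hr'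
  obtain ⟨I, hI⟩ : ∃ I : Subgroup S, I = R ⊓ Rt := ⟨_, rfl⟩
  have hIR : I ≤ R := hI ▸ inf_le_left
  have hIRt : I ≤ Rt := hI ▸ inf_le_right
  have hIT : I ≤ T := hIR.trans hRT
  have hTI : ∀ n ∈ T, ∀ w ∈ I, n * w * n⁻¹ ∈ I := by
    intro n hn w hw
    rw [hI]
    exact ⟨hTR n hn w (hIR hw), hTRt n hn w (hIRt hw)⟩
  have hUc : ∀ x ∈ zpowers u, ∀ g ∈ T, g * x = x * g := by
    intro x hx g hg
    rcases eq_one_or_eq_of_mem_zpowers hu2 hx with h | h
    · rw [h, mul_one, one_mul]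
    · rw [h]; exact huT g hg
  have hIU : I ≤ zpowers u := by
    by_contra hIU
    have hIne : I ≠ ⊥ := by
      intro h
      apply hIU
      rw [h]; exact bot_le
    -- t centralises u
    have hut : t⁻¹ * u * t = u := by
      obtain ⟨w, hw, hw1, hwc⟩ := exists_central_mem h2 T I hIT hTI hIne
      have hwu : w = u := by
        rcases hK1' w (hIR hw) hwc with h | h
        · exact absurd h hw1
        · exact h
      have hw'R : t⁻¹ * w * t ∈ R := by
        have := hIRt hw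
        rwa [hRt, mem_cj] at this
      have hw'c : ∀ n ∈ T, n * (t⁻¹ * w * t) = (t⁻¹ * w * t) * n := by
        intro n hn
        have := hwc _ (htc n hn)
        calc n * (t⁻¹ * w * t) = t⁻¹ * ((t * n * t⁻¹) * w) * t := by group
          _ = t⁻¹ * (w * (t * n * t⁻¹)) * t := by rw [this]
          _ = (t⁻¹ * w * t) * n := by group
      rcases hK1' _ hw'R hw'c with h | h
      · exfalso
        apply hw1
        calc w = t * (t⁻¹ * w * t) * t⁻¹ := by group
          _ = 1 := by rw [h]; group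
      · rw [hwu] at h
        exact h
    have hut' : t * u * t⁻¹ = u := by
      calc t * u * t⁻¹ = t * (t⁻¹ * u * t) * t⁻¹ := by rw [hut]
        _ = u := by group
    obtain ⟨w, hw, hwU, hwc⟩ := exists_central_mod h2 T I (zpowers u) hIT hTI hUc hIU
    have hw1 : w ≠ 1 := fun h => hwU (h ▸ h1U)
    have hwu : w ≠ u := fun h => hwU (h ▸ mem_zpowers u)
    have hwzz : w = z ∨ w = z' := by
      rcases mem_of_comm_mod P Q (zpowers u) hz hz' hcomm huP huQ (hR ▸ hIR hw)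
        (fun p hp => hwc p (hS₀T (hPS₀ hp))) (fun q hq => hwc q (hS₀T (hQS₀ hq))) with
        h | h | h | h
      · exact absurd h hw1
      · exact Or.inl h
      · exact Or.inr h
      · exact absurd (h.trans hu.symm) hwu
    have hw'R : t⁻¹ * w * t ∈ R := by
      have := hIRt hw
      rwa [hRt, mem_cj] at this
    have hw'c : ∀ n ∈ T, ⁅t⁻¹ * w * t, n⁆ ∈ zpowers u := by
      intro n hn
      have h1 := hwc _ (htc n hn)
      have e : ⁅t⁻¹ * w * t, n⁆ = t⁻¹ * ⁅w, t * n * t⁻¹⁆ * t := by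
        rw [commutatorElement_def, commutatorElement_def]; group
      rw [e]
      rcases eq_one_or_eq_of_mem_zpowers hu2 h1 with h | h
      · rw [h]
        have : t⁻¹ * 1 * t = 1 := by group
        rw [this]; exact h1U
      · rw [h, hut]; exact mem_zpowers u
    have hw'zz : t⁻¹ * w * t = z ∨ t⁻¹ * w * t = z' := by
      rcases mem_of_comm_mod P Q (zpowers u) hz hz' hcomm huP huQ (hR ▸ hw'R)
        (fun p hp => hw'c p (hS₀T (hPS₀ hp))) (fun q hq => hw'c q (hS₀T (hQS₀ hq))) with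
        h | h | h | h
      · exfalso
        apply hw1
        calc w = t * (t⁻¹ * w * t) * t⁻¹ := by group
          _ = 1 := by rw [h]; group
      · exact Or.inl h
      · exact Or.inr h
      · exfalso
        apply hwu
        calc w = t * (t⁻¹ * w * t) * t⁻¹ := by group
          _ = t * u * t⁻¹ := by rw [h, ← hu]
          _ = u := hut'
    apply htT
    rcases hwzz with hwz | hwz <;> rcases hw'zz with hw'z | hw'z
    · -- t⁻¹ z t = z
      rw [hwz] at hw'z
      apply hS₀T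
      rw [hS₀]
      calc t * z = t * (t⁻¹ * z * t) := by rw [hw'z]
        _ = z * t := by group
    · -- t⁻¹ z t = s z s⁻¹
      rw [hwz] at hw'z
      have h1 : t * s ∈ S₀ := by
        rw [hS₀]
        calc t * s * z = t * (s * z * s⁻¹) * s := by group
          _ = t * (t⁻¹ * z * t) * s := by rw [hw'z, hz'def]
          _ = z * (t * s) := by group
      have e : t = (t * s) * s⁻¹ := by group
      rw [e]
      exact T.mul_mem (hS₀T h1) (T.inv_mem hsT)
    · -- t⁻¹ z' t = z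
      rw [hwz] at hw'z
      have h1 : s⁻¹ * t ∈ S₀ := by
        rw [hS₀]
        calc s⁻¹ * t * z = s⁻¹ * t * (t⁻¹ * z' * t) := by rw [hw'z]
          _ = s⁻¹ * (s * z * s⁻¹) * t := by rw [hz'def]; group
          _ = z * (s⁻¹ * t) := by group
      have e : t = s * (s⁻¹ * t) := by group
      rw [e]
      exact T.mul_mem hsT (hS₀T h1)
    · -- t⁻¹ z' t = z'
      rw [hwz] at hw'z
      have h1 : s⁻¹ * t * s ∈ S₀ := by
        rw [hS₀]
        have h3 : t * z' = z' * t := by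
          calc t * z' = t * (t⁻¹ * z' * t) := by rw [hw'z]
            _ = z' * t := by group
        calc s⁻¹ * t * s * z = s⁻¹ * (t * (s * z * s⁻¹)) * s := by group
          _ = s⁻¹ * ((s * z * s⁻¹) * t) * s := by rw [← hz'def, h3]
          _ = z * (s⁻¹ * t * s) := by group
      have e : t = s * (s⁻¹ * t * s) * s⁻¹ := by group
      rw [e]
      exact T.mul_mem (T.mul_mem hsT (hS₀T h1)) (T.inv_mem hsT)
  -- counting
  obtain ⟨H, hH⟩ : ∃ H : Subgroup S, H = R ⊔ Rt := ⟨_, rfl⟩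
  obtain ⟨MRt, hMRt⟩ : ∃ MRt : Subgroup S, MRt = cj t MR := ⟨_, rfl⟩
  have hMRR : MR ≤ R := by
    rw [hMR, hR]
    exact sup_le_sup (Sq_le P) (Sq_le Q)
  have hMRtRt : MRt ≤ Rt := by
    rw [hMRt, hRt]
    exact cj_mono hMRR
  have hTMRt : ∀ n ∈ T, ∀ m ∈ MRt, n * m * n⁻¹ ∈ MRt := by
    intro n hn m hm
    rw [hMRt, mem_cj] at hm ⊢
    have e : t⁻¹ * (n * m * n⁻¹) * t = (t⁻¹ * n * t) * (t⁻¹ * m * t) * (t⁻¹ * n * t)⁻¹ := by group
    rw [e]
    exact hTMR _ (htc' n hn) _ hm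
  have hHT : H ≤ T := hH ▸ sup_le hRT hRtT
  have hM4H : MR ⊔ MRt ≤ H := hH ▸ sup_le_sup hMRR hMRtRt
  have hnorm4 : H ≤ normalizer ((MR ⊔ MRt : Subgroup S) : Set S) := by
    apply le_normalizer_of_conj
    intro h hh m hm
    have hle : MR ⊔ MRt ≤ (MR ⊔ MRt).comap (MulAut.conj h).toMonoidHom := by
      apply sup_le
      · intro x hx
        rw [mem_comap]
        exact mem_sup_left (hTMR h (hHT hh) x hx)
      · intro x hx
        rw [mem_comap]
        exact mem_sup_right (hTMRt h (hHT hh) x hx)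
    exact hle hm
  have hsqR : ∀ r ∈ R, r ^ 2 ∈ MR := by
    intro r hr'
    have hQP : Q ≤ normalizer (P : Set S) := by
      apply le_normalizer_of_conj
      intro q hq p hp
      have e : q * p * q⁻¹ = p := by rw [← hcomm p hp q hq]; group
      rw [e]; exact hp
    have hset : ((P ⊔ Q : Subgroup S) : Set S) = (P : Set S) * (Q : Set S) :=
      coe_mul_of_right_le_normalizer_left P Q hQP
    have hr'' : r ∈ ((P ⊔ Q : Subgroup S) : Set S) := hR ▸ hr'
    rw [hset] at hr''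
    obtain ⟨x, hx, y, hy, hxy⟩ := hr''
    have hxy' : x * y = r := hxy
    subst hxy'
    have hc := hcomm x hx y hy
    have e : (x * y) ^ 2 = x ^ 2 * y ^ 2 := by
      rw [pow_two, pow_two, pow_two]
      calc x * y * (x * y) = x * (y * x) * y := by group
        _ = x * (x * y) * y := by rw [hc]
        _ = x * x * (y * y) := by group
    rw [e]
    exact MR.mul_mem (hSPM (sq_mem_Sq hx)) (hSQM (sq_mem_Sq hy))
  have hsqH : ∀ h ∈ H, h ^ 2 ∈ MR ⊔ MRt := by
    intro h hh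
    have hRtR : Rt ≤ normalizer (R : Set S) :=
      le_normalizer_of_conj (fun k hk r hr' => hTR k (hRtT hk) r hr')
    have hset : ((R ⊔ Rt : Subgroup S) : Set S) = (R : Set S) * (Rt : Set S) :=
      coe_mul_of_right_le_normalizer_left R Rt hRtR
    have hh' : h ∈ ((R ⊔ Rt : Subgroup S) : Set S) := hH ▸ hh
    rw [hset] at hh'
    obtain ⟨r, hr', r', hr'', hrr⟩ := hh'
    have hrr' : r * r' = h := hrr
    subst hrr'
    have e : (r * r') ^ 2 = r ^ 2 * ⁅r⁻¹, r'⁆ * r' ^ 2 := by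
      rw [pow_two, pow_two, pow_two, commutatorElement_def]; group
    rw [e]
    have h1 : r ^ 2 ∈ MR ⊔ MRt := mem_sup_left (hsqR r hr')
    have h2' : r' ^ 2 ∈ MR ⊔ MRt := by
      apply mem_sup_right
      rw [hMRt, mem_cj]
      have hr3 : r' ∈ Rt := hr''
      rw [hRt, mem_cj] at hr3
      have e2 : t⁻¹ * r' ^ 2 * t = (t⁻¹ * r' * t) ^ 2 := by
        rw [pow_two, pow_two]; group
      rw [e2]
      exact hsqR _ hr3
    have h3 : ⁅r⁻¹, r'⁆ ∈ MR ⊔ MRt := by
      apply mem_sup_left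
      have hI' : ⁅r⁻¹, r'⁆ ∈ I := by
        rw [hI]
        constructor
        · have e3 : ⁅r⁻¹, r'⁆ = r⁻¹ * (r' * r * r'⁻¹) := by
            rw [commutatorElement_def]; group
          rw [e3]
          exact R.mul_mem (R.inv_mem hr') (hTR r' (hRtT hr'') r hr')
        · have e3 : ⁅r⁻¹, r'⁆ = (r⁻¹ * r' * r⁻¹⁻¹) * r'⁻¹ := by
            rw [commutatorElement_def]
          rw [e3]
          exact Rt.mul_mem (hTRt r⁻¹ (T.inv_mem (hRT hr')) r' hr'') (Rt.inv_mem hr'')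
      rcases eq_one_or_eq_of_mem_zpowers hu2 (hIU hI') with h | h
      · rw [h]; exact one_mem _
      · rw [h]; exact huMR
    exact (MR ⊔ MRt).mul_mem ((MR ⊔ MRt).mul_mem h1 h3) h2'
  have hcH := card_le_of_sq hr H (MR ⊔ MRt) hM4H hnorm4 hsqH
  -- arithmetic
  have hcQ : Nat.card Q = Nat.card P := hQ ▸ card_cj s P
  have hcR : Nat.card P * Nat.card P ≤ Nat.card R := by
    have := card_mul_le_sup_inf P Q
    rwa [hinf, card_bot, mul_one, hcQ, ← hR] at this
  have hcRt : Nat.card Rt = Nat.card R := hRt ▸ card_cj t R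
  have hcI : Nat.card I ≤ 2 := by
    have h1 : Nat.card I ≤ Nat.card (zpowers u) := card_le_of_le hIU
    have h3 : Nat.card (zpowers u) ≤ 2 := by
      rw [Nat.card_zpowers]
      exact Nat.le_of_dvd (by norm_num) (orderOf_dvd_of_pow_eq_one hu2)
    exact h1.trans h3
  have hcH2 : Nat.card R * Nat.card R ≤ Nat.card H * 2 := by
    have := card_mul_le_sup_inf R Rt
    rw [hcRt, ← hH, ← hI] at this
    exact this.trans (Nat.mul_le_mul_left _ hcI)
  have hcMR : Nat.card MR ≤ Nat.card (Sq P) * Nat.card (Sq Q) := by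
    rw [hMR]
    apply card_sup_le_mul
    apply le_normalizer_of_conj
    intro q hq p hp
    have e : q * p * q⁻¹ = p := by
      rw [← hcomm p (Sq_le P hp) q (Sq_le Q hq)]; group
    rw [e]; exact hp
  have hcMRt : Nat.card MRt = Nat.card MR := hMRt ▸ card_cj t MR
  have hcM4 : Nat.card (MR ⊔ MRt : Subgroup S) ≤ Nat.card MR * Nat.card MR := by
    have : Nat.card (MR ⊔ MRt : Subgroup S) ≤ Nat.card MR * Nat.card MRt := by
      apply card_sup_le_mul
      exact le_normalizer_of_conj (fun k hk m hm => hTMR k (hRtT (hMRtRt hk)) m hm)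
    rwa [hcMRt] at this
  have h4P := four_mul_card_Sq_le h2 hna
  have h4Q := four_mul_card_Sq_le h2 hnaQ
  rw [hcQ] at h4Q
  have hbpos : 0 < Nat.card (Sq P) := Nat.card_pos
  have hcpos : 0 < Nat.card (Sq Q) := Nat.card_pos
  set a := Nat.card P
  set b := Nat.card (Sq P)
  set c := Nat.card (Sq Q)
  set m := Nat.card MR
  set A := Nat.card R
  set h := Nat.card H
  have hX : 16 * (b * c) ≤ a * a := by nlinarith
  have hX2 : (16 * (b * c)) * (16 * (b * c)) ≤ A * A :=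
    Nat.mul_le_mul (hX.trans hcR) (hX.trans hcR)
  have hm2 : m * m ≤ (b * c) * (b * c) := Nat.mul_le_mul hcMR hcMR
  have hfin : h ≤ 16 * ((b * c) * (b * c)) := by
    calc h ≤ 2 ^ 4 * Nat.card (MR ⊔ MRt : Subgroup S) := hcH
      _ ≤ 16 * (m * m) := by
          rw [show (2:ℕ) ^ 4 = 16 by norm_num]
          exact Nat.mul_le_mul_left _ hcM4
      _ ≤ 16 * ((b * c) * (b * c)) := Nat.mul_le_mul_left _ hm2
  have hbc : 0 < b * c := Nat.mul_pos hbpos hcpos
  nlinarith

end main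

end Cfsg.Agent.Helper22.SecRank
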