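import Mathlib
import Cfsg.Agent.Lib.Helper20.A3Defs

/-!
# S3117 piece EQV (helper22, for helper20): equivariance of the squaring map
-/

set_option autoImplicit false
set_option linter.unusedSectionVars false
set_option linter.unusedVariables false

namespace Cfsg.Agent.Helper20.A3

variable {C : Type*} [Group C] [Finite C]

/-- the squaring map on representatives (own copy of QMK, to be independent) -/
theorem eqv_qq_mk (hΦ : frattini C ≤ Subgroup.center C) (x : C) :
    qq C (QuotientGroup.mk x) = QuotientGroup.mk (x ^ 2) := by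
  unfold qq
  set y : C := Quotient.out (QuotientGroup.mk x : C ⧸ frattini C) with hy
  have h1 : (QuotientGroup.mk y : C ⧸ frattini C) = QuotientGroup.mk x := QuotientGroup.out_eq' _
  have hf : x⁻¹ * y ∈ frattini C := QuotientGroup.eq.mp h1.symm
  have hfc : x⁻¹ * y ∈ Subgroup.center C := hΦ hf
  rw [Subgroup.mem_center_iff] at hfc
  have hy' : y = x * (x⁻¹ * y) := by group
  generalize x⁻¹ * y = f at hf hfc hy'
  rw [QuotientGroup.eq]
  have hc := hfc x
  have e1 : y ^ 2 = x ^ 2 * f ^ 2 := by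
    calc y ^ 2 = (x * f) * (x * f) := by rw [← hy', pow_two]
      _ = x * (f * x) * f := by group
      _ = x * (x * f) * f := by rw [← hc]
      _ = x ^ 2 * f ^ 2 := by rw [pow_two, pow_two]; simp only [mul_assoc]
  have h2 : (y ^ 2)⁻¹ * x ^ 2 = (f⁻¹) ^ 2 := by
    rw [e1, mul_inv_rev, mul_assoc, inv_mul_cancel, mul_one, inv_pow]
  rw [h2]
  unfold sqF
  apply Subgroup.subset_closure
  exact ⟨f⁻¹, (frattini C).inv_mem hf, rfl⟩

/-- the automorphism of `C ⧸ sqF C` induced by `α` -/
noncomputable def eqvBar (α : MulAut C) : C ⧸ sqF C ≃* C ⧸ sqF C :=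
  QuotientGroup.congr (sqF C) (sqF C) α
    (Subgroup.characteristic_iff_map_eq.mp (sqF_characteristic C) α)

theorem eqvBar_mk (α : MulAut C) (x : C) :
    eqvBar α (QuotientGroup.mk x) = QuotientGroup.mk (α x) :=
  QuotientGroup.congr_mk _ _ _ _ x

/-- the automorphism of `C ⧸ frattini C` induced by `α` (as in the statement) -/
noncomputable def eqvPhi (α : MulAut C) : C ⧸ frattini C ≃* C ⧸ frattini C :=
  QuotientGroup.congr (frattini C) (frattini C) α
    (Subgroup.characteristic_iff_map_eq.mp frattini_characteristic α)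

theorem eqvPhi_mk (α : MulAut C) (x : C) :
    eqvPhi α (QuotientGroup.mk x) = QuotientGroup.mk (α x) :=
  QuotientGroup.congr_mk _ _ _ _ x

/-- the induced automorphism maps `qq w` to `qq (ᾱ w)` -/
theorem eqvBar_qq (hΦ : frattini C ≤ Subgroup.center C) (α : MulAut C) (w : C ⧸ frattini C) :
    eqvBar α (qq C w) = qq C (eqvPhi α w) := by
  have hw : (QuotientGroup.mk (Quotient.out w) : C ⧸ frattini C) = w := QuotientGroup.out_eq' w
  have h1 : qq C w = QuotientGroup.mk ((Quotient.out w) ^ 2) := rfl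
  rw [h1, eqvBar_mk]
  conv_rhs => rw [← hw]
  rw [eqvPhi_mk, eqv_qq_mk hΦ, map_pow]

/-- the induced automorphism preserves `UU C` -/
theorem eqvBar_map_UU (hΦ : frattini C ≤ Subgroup.center C) (α : MulAut C) :
    (UU C).map (eqvBar α).toMonoidHom = UU C := by
  unfold UU
  rw [MonoidHom.map_closure]
  congr 1
  ext v
  constructor
  · rintro ⟨u, ⟨w, rfl⟩, rfl⟩
    exact ⟨_, (eqvBar_qq hΦ α w).symm⟩
  · rintro ⟨w, rfl⟩
    refine ⟨qq C ((eqvPhi α).symm w), ⟨_, rfl⟩, ?_⟩
    show eqvBar α (qq C _) = qq C w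
    rw [eqvBar_qq hΦ, MulEquiv.apply_symm_apply]

/-- **A3-EQV.** Equivariance of the squaring map. -/
theorem qU_equivariant (hC : IsPGroup 2 C) (hΦ : frattini C ≤ Subgroup.center C)
    (α : MulAut C) :
    ∃ h : MulAut ↥(UU C), ∀ w : C ⧸ frattini C,
      qU C (QuotientGroup.congr (frattini C) (frattini C) α
        (Subgroup.characteristic_iff_map_eq.mp frattini_characteristic α) w) = h (qU C w) := by
  refine ⟨((eqvBar α).subgroupMap (UU C)).trans (MulEquiv.subgroupCongr (eqvBar_map_UU hΦ α)), ?_⟩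
  intro w
  apply Subtype.ext
  rw [qU_coe]
  show qq C (eqvPhi α w) = eqvBar α (qq C w)
  rw [eqvBar_qq hΦ]

end Cfsg.Agent.Helper20.A3
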