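import Mathlib
import Cfsg.Agent.Lib.Helper20.A3Defs

/-!
# S3117 piece F1 (helper22, for helper20): the number of zeros of a quadratic form on `2^4`
-/

set_option autoImplicit false
set_option linter.style.haveILetI false
set_option linter.unusedSectionVars false
set_option linter.unusedVariables false

namespace Cfsg.Agent.Helper20.A3

/-- the model space `𝔽₂⁴` -/
abbrev F1T : Type := ZMod 2 × ZMod 2 × ZMod 2 × ZMod 2

/-- the quadratic form with values `q i` on the basis and `x ij` on the sums of two basis vectors -/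
def f1P (q0 q1 q2 q3 x01 x02 x03 x12 x13 x23 : ZMod 2) (t : F1T) : ZMod 2 :=
  t.1 * q0 + t.2.1 * q1 + t.2.2.1 * q2 + t.2.2.2 * q3 +
    t.1 * t.2.1 * (x01 + q0 + q1) + t.1 * t.2.2.1 * (x02 + q0 + q2) + t.1 * t.2.2.2 * (x03 + q0 + q3) +
    t.2.1 * t.2.2.1 * (x12 + q1 + q2) + t.2.1 * t.2.2.2 * (x13 + q1 + q3) +
    t.2.2.1 * t.2.2.2 * (x23 + q2 + q3)

/-- the table of values of `f1P` -/
theorem f1_table : ∀ q0 q1 q2 q3 x01 x02 x03 x12 x13 x23 : ZMod 2,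
    (0 = f1P q0 q1 q2 q3 x01 x02 x03 x12 x13 x23 (0, 0, 0, 0)) ∧
    (q0 = f1P q0 q1 q2 q3 x01 x02 x03 x12 x13 x23 (1, 0, 0, 0)) ∧
    (q1 = f1P q0 q1 q2 q3 x01 x02 x03 x12 x13 x23 (0, 1, 0, 0)) ∧
    (q2 = f1P q0 q1 q2 q3 x01 x02 x03 x12 x13 x23 (0, 0, 1, 0)) ∧
    (q3 = f1P q0 q1 q2 q3 x01 x02 x03 x12 x13 x23 (0, 0, 0, 1)) ∧
    (x01 = f1P q0 q1 q2 q3 x01 x02 x03 x12 x13 x23 (1, 1, 0, 0)) ∧
    (x02 = f1P q0 q1 q2 q3 x01 x02 x03 x12 x13 x23 (1, 0, 1, 0)) ∧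
    (x03 = f1P q0 q1 q2 q3 x01 x02 x03 x12 x13 x23 (1, 0, 0, 1)) ∧
    (x12 = f1P q0 q1 q2 q3 x01 x02 x03 x12 x13 x23 (0, 1, 1, 0)) ∧
    (x13 = f1P q0 q1 q2 q3 x01 x02 x03 x12 x13 x23 (0, 1, 0, 1)) ∧
    (x23 = f1P q0 q1 q2 q3 x01 x02 x03 x12 x13 x23 (0, 0, 1, 1)) ∧
    (x01 + x02 + x12 + q0 + q1 + q2 = f1P q0 q1 q2 q3 x01 x02 x03 x12 x13 x23 (1, 1, 1, 0)) ∧
    (x01 + x03 + x13 + q0 + q1 + q3 = f1P q0 q1 q2 q3 x01 x02 x03 x12 x13 x23 (1, 1, 0, 1)) ∧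
    (x02 + x03 + x23 + q0 + q2 + q3 = f1P q0 q1 q2 q3 x01 x02 x03 x12 x13 x23 (1, 0, 1, 1)) ∧
    (x12 + x13 + x23 + q1 + q2 + q3 = f1P q0 q1 q2 q3 x01 x02 x03 x12 x13 x23 (0, 1, 1, 1)) ∧
    ((x01 + x02 + x12 + q0 + q1 + q2) + (x01 + x03 + x13 + q0 + q1 + q3) + x23 + x01 + q2 + q3 =
      f1P q0 q1 q2 q3 x01 x02 x03 x12 x13 x23 (1, 1, 1, 1)) := by
  decide +kernel

/-- the number of zeros of `f1P` -/
theorem f1_count : ∀ q0 q1 q2 q3 x01 x02 x03 x12 x13 x23 : ZMod 2,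
    Fintype.card {t : F1T // f1P q0 q1 q2 q3 x01 x02 x03 x12 x13 x23 t = 0} = 4 ∨
    Fintype.card {t : F1T // f1P q0 q1 q2 q3 x01 x02 x03 x12 x13 x23 t = 0} = 6 ∨
    Fintype.card {t : F1T // f1P q0 q1 q2 q3 x01 x02 x03 x12 x13 x23 t = 0} = 8 ∨
    Fintype.card {t : F1T // f1P q0 q1 q2 q3 x01 x02 x03 x12 x13 x23 t = 0} = 10 ∨
    Fintype.card {t : F1T // f1P q0 q1 q2 q3 x01 x02 x03 x12 x13 x23 t = 0} = 12 ∨
    Fintype.card {t : F1T // f1P q0 q1 q2 q3 x01 x02 x03 x12 x13 x23 t = 0} = 16 := by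
  decide +kernel

theorem f1_seven : ∀ a b c d e f g : ZMod 2, a + b + c + d + e + f + g = 0 →
    a = b + c + d + e + f + g := by
  decide

theorem f1_zmod_cases : ∀ a : ZMod 2, a = 0 ∨ a = 1 := by decide

/-- an (additively written) quadratic form on `F1T` is given by the formula -/
theorem f1_formula (Q' : F1T → ZMod 2)
    (hQ' : ∀ x y z : F1T,
      Q' (x + y + z) + Q' (x + y) + Q' (x + z) + Q' (y + z) + Q' x + Q' y + Q' z = 0) :
    ∀ t : F1T, Q' t = f1P (Q' (1, 0, 0, 0)) (Q' (0, 1, 0, 0)) (Q' (0, 0, 1, 0)) (Q' (0, 0, 0, 1))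
      (Q' (1, 1, 0, 0)) (Q' (1, 0, 1, 0)) (Q' (1, 0, 0, 1)) (Q' (0, 1, 1, 0)) (Q' (0, 1, 0, 1))
      (Q' (0, 0, 1, 1)) t := by
  have key : ∀ x y z s xy xz yz : F1T, x + y = xy → x + z = xz → y + z = yz → xy + z = s →
      Q' s = Q' xy + Q' xz + Q' yz + Q' x + Q' y + Q' z := by
    intro x y z s xy xz yz h1 h2 h3 h4
    have := hQ' x y z
    rw [h1, h2, h3, h4] at this
    exact f1_seven _ _ _ _ _ _ _ this
  have h0 : Q' (0, 0, 0, 0) = 0 := by
    have h := hQ' (0, 0, 0, 0) (0, 0, 0, 0) (0, 0, 0, 0)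
    have e : ((0, 0, 0, 0) : F1T) + (0, 0, 0, 0) = (0, 0, 0, 0) := by decide
    rw [e, e] at h
    have : ∀ a : ZMod 2, a + a + a + a + a + a + a = 0 → a = 0 := by decide
    exact this _ h
  have h012 := key (1, 0, 0, 0) (0, 1, 0, 0) (0, 0, 1, 0) (1, 1, 1, 0) (1, 1, 0, 0) (1, 0, 1, 0)
    (0, 1, 1, 0) (by decide) (by decide) (by decide) (by decide)
  have h013 := key (1, 0, 0, 0) (0, 1, 0, 0) (0, 0, 0, 1) (1, 1, 0, 1) (1, 1, 0, 0) (1, 0, 0, 1)
    (0, 1, 0, 1) (by decide) (by decide) (by decide) (by decide)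
  have h023 := key (1, 0, 0, 0) (0, 0, 1, 0) (0, 0, 0, 1) (1, 0, 1, 1) (1, 0, 1, 0) (1, 0, 0, 1)
    (0, 0, 1, 1) (by decide) (by decide) (by decide) (by decide)
  have h123 := key (0, 1, 0, 0) (0, 0, 1, 0) (0, 0, 0, 1) (0, 1, 1, 1) (0, 1, 1, 0) (0, 1, 0, 1)
    (0, 0, 1, 1) (by decide) (by decide) (by decide) (by decide)
  have h0123 := key (1, 1, 0, 0) (0, 0, 1, 0) (0, 0, 0, 1) (1, 1, 1, 1) (1, 1, 1, 0) (1, 1, 0, 1)
    (0, 0, 1, 1) (by decide) (by decide) (by decide) (by decide)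
  rw [h012, h013] at h0123
  obtain ⟨c0, c1, c2, c3, c4, c5, c6, c7, c8, c9, c10, c11, c12, c13, c14, c15⟩ :=
    f1_table (Q' (1, 0, 0, 0)) (Q' (0, 1, 0, 0)) (Q' (0, 0, 1, 0)) (Q' (0, 0, 0, 1))
      (Q' (1, 1, 0, 0)) (Q' (1, 0, 1, 0)) (Q' (1, 0, 0, 1)) (Q' (0, 1, 1, 0)) (Q' (0, 1, 0, 1))
      (Q' (0, 0, 1, 1))
  rintro ⟨a, b, c, d⟩
  rcases f1_zmod_cases a with rfl | rfl <;> rcases f1_zmod_cases b with rfl | rfl <;>
    rcases f1_zmod_cases c with rfl | rfl <;> rcases f1_zmod_cases d with rfl | rfl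
  · exact h0.trans c0
  · exact c4
  · exact c3
  · exact c10
  · exact c2
  · exact c9
  · exact c8
  · exact h123.trans c14
  · exact c1
  · exact c7
  · exact c6
  · exact h023.trans c13
  · exact c5
  · exact h013.trans c12
  · exact h012.trans c11
  · exact h0123.trans c15

section Forms

variable {W : Type*} [Group W] [Finite W]

/-- a group of exponent 2 with 16 elements is `F1T` written multiplicatively -/
theorem f1_exists_param (hW : ∀ w : W, w * w = 1) (hcard : Nat.card W = 16) :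
    ∃ φ : F1T → W, Function.Bijective φ ∧ ∀ x y, φ (x + y) = φ x * φ y := by
  have hcomm : ∀ a b : W, a * b = b * a := by
    intro a b
    have h1 : a * b * (a * b) = 1 := hW (a * b)
    have ha : a⁻¹ = a := inv_eq_of_mul_eq_one_left (hW a)
    have hb : b⁻¹ = b := inv_eq_of_mul_eq_one_left (hW b)
    have h2 : a * b = (a * b)⁻¹ := (inv_eq_of_mul_eq_one_left h1).symm
    rw [h2, mul_inv_rev, ha, hb]
  letI : CommGroup W := { (inferInstance : Group W) with mul_comm := hcomm }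
  have h2 : ∀ x : Additive W, 2 • x = 0 := by
    intro x
    show Additive.ofMul (x.toMul ^ 2) = 0
    rw [pow_two, hW]
    rfl
  letI : Module (ZMod 2) (Additive W) := AddCommGroup.zmodModule h2
  haveI : Fintype (Additive W) := Fintype.ofFinite _
  have h1 : Fintype.card (Additive W) =
      Fintype.card (ZMod 2) ^ Module.finrank (ZMod 2) (Additive W) :=
    Module.card_eq_pow_finrank
  have hcard' : Nat.card (Additive W) = 16 := hcard
  rw [ZMod.card, ← Nat.card_eq_fintype_card, hcard'] at h1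
  have hr : Module.finrank (ZMod 2) (Additive W) = 4 := by
    have h3 : (2 : ℕ) ^ 4 = 2 ^ Module.finrank (ZMod 2) (Additive W) := by rw [← h1]; norm_num
    exact (Nat.pow_right_injective (le_refl 2) h3).symm
  have hfin : Module.finrank (ZMod 2) (Additive W) = Module.finrank (ZMod 2) F1T := by
    rw [hr]
    simp [Module.finrank_prod]
  let e : Additive W ≃ₗ[ZMod 2] F1T := LinearEquiv.ofFinrankEq _ _ hfin
  refine ⟨fun t => (e.symm t).toMul, ?_, ?_⟩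
  · constructor
    · intro x y hxy
      apply e.symm.injective
      exact Additive.toMul.injective hxy
    · intro w
      refine ⟨e (Additive.ofMul w), ?_⟩
      show (e.symm (e (Additive.ofMul w))).toMul = w
      rw [LinearEquiv.symm_apply_apply]
      rfl
  · intro x y
    show (e.symm (x + y)).toMul = (e.symm x).toMul * (e.symm y).toMul
    rw [map_add]
    rfl

/-- **A3-F1.** The number of zeros of a quadratic form on `2^4`. -/
theorem zer_card_sixteen (hW : ∀ w : W, w * w = 1) (Q : W → ZMod 2) (hQ : IsQuad Q)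
    (hcard : Nat.card W = 16) :
    Nat.card (zer Q) = 4 ∨ Nat.card (zer Q) = 6 ∨ Nat.card (zer Q) = 8 ∨
      Nat.card (zer Q) = 10 ∨ Nat.card (zer Q) = 12 ∨ Nat.card (zer Q) = 16 := by
  obtain ⟨φ, hφ, hmul⟩ := f1_exists_param hW hcard
  set Q' : F1T → ZMod 2 := fun t => Q (φ t) with hQ'def
  have hQ' : ∀ x y z : F1T,
      Q' (x + y + z) + Q' (x + y) + Q' (x + z) + Q' (y + z) + Q' x + Q' y + Q' z = 0 := by
    intro x y z
    show Q (φ (x + y + z)) + Q (φ (x + y)) + Q (φ (x + z)) + Q (φ (y + z)) + Q (φ x) + Q (φ y) +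
      Q (φ z) = 0
    rw [hmul, hmul, hmul, hmul]
    exact hQ (φ x) (φ y) (φ z)
  have hform := f1_formula Q' hQ'
  have hc : Nat.card (zer Q) = Fintype.card {t : F1T // f1P (Q' (1, 0, 0, 0)) (Q' (0, 1, 0, 0))
      (Q' (0, 0, 1, 0)) (Q' (0, 0, 0, 1)) (Q' (1, 1, 0, 0)) (Q' (1, 0, 1, 0)) (Q' (1, 0, 0, 1))
      (Q' (0, 1, 1, 0)) (Q' (0, 1, 0, 1)) (Q' (0, 0, 1, 1)) t = 0} := by
    rw [← Nat.card_eq_fintype_card]
    symm
    apply Nat.card_congr
    refine (Equiv.ofBijective φ hφ).subtypeEquiv ?_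
    intro t
    show _ ↔ φ t ∈ zer Q
    rw [mem_zer, ← hform t]
  rw [hc]
  exact f1_count _ _ _ _ _ _ _ _ _ _

end Forms

end Cfsg.Agent.Helper20.A3
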