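import Mathlib
import Cfsg.Agent.Lib.Helper2.AICDefs
import Cfsg.Agent.Lib.Helper2.AICGEN
import Cfsg.Agent.Lib.Helper2.AICBAS1
import Cfsg.Agent.Lib.Helper24.AICSE
import Cfsg.Agent.Lib.Helper4.AICB1
import Cfsg.Agent.Lib.Helper4.AICB2
import Cfsg.Agent.Lib.Helper18.AICB3B

/-!
# S2202 piece B3A (helper22): the extended centralizer acting on the fixed points of `d`
-/

set_option autoImplicit false

namespace Cfsg.Agent.Helper2.AIC

variable {G : Type*} [Group G] [Finite G]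

theorem swap_mem_ecent (c : Cfg G) (hα : ∀ P Q : Sylow 2 G, P ≠ Q → Kn P ⊓ Kn Q = ⊥)
    {R1 R2 : Sylow 2 G} (h : R1 ≠ R2) {d : G} (hd : d ∈ Dn R1 R2) {v : G} (hv : orderOf v = 2)
    (hvR : v • R1 = R2) : v ∈ ecent d :=
  mem_ecent.2 (Or.inr (Dn_inverted c hα h hv hvR hd))

omit [Finite G] in
theorem b3a_mem_Mn_smul_iff {R : Sylow 2 G} {g d : G} :
    d ∈ Mn (g • R) ↔ g⁻¹ * d * g ∈ Mn R := by
  have key : ∀ (S : Sylow 2 G) (x : G), x ∈ Mn S ↔ x • S = S :=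
    fun S x => Sylow.smul_eq_iff_mem_normalizer.symm
  rw [key, key]
  constructor
  · intro h
    rw [mul_smul, mul_smul, h, inv_smul_smul]
  · intro h
    rw [mul_smul, mul_smul] at h
    have := congrArg (fun X => g • X) h
    simpa using this

omit [Finite G] in
theorem ecent_smul_mem {d g : G} (hg : g ∈ ecent d) {R : Sylow 2 G} (hR : d ∈ Mn R) :
    d ∈ Mn (g • R) := by
  rw [b3a_mem_Mn_smul_iff]
  have hg' : g⁻¹ ∈ ecent d := (ecent d).inv_mem hg
  rcases mem_ecent.1 hg' with h1 | h1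
  · rw [inv_inv] at h1
    rw [h1]; exact hR
  · rw [inv_inv] at h1
    rw [h1]; exact (Mn R).inv_mem hR

theorem b3a_odd_orderOf (c : Cfg G) {P Q : Sylow 2 G} (h : P ≠ Q) {d : G} (hd : d ∈ Dn P Q) :
    Odd (orderOf d) := by
  have h1 : Odd (Nat.card (Dn P Q)) := c.odd_card_Dn h
  have h2 : orderOf d ∣ Nat.card (Dn P Q) := by
    have := orderOf_dvd_natCard (⟨d, hd⟩ : Dn P Q)
    rwa [Subgroup.orderOf_mk] at this
  exact Odd.of_dvd_nat h1 h2

omit [Finite G] in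
theorem b3a_eq_one_of_odd_of_sq {d : G} (hodd : Odd (orderOf d)) (h2 : d ^ 2 = 1) : d = 1 := by
  have h1 : orderOf d ∣ 2 := orderOf_dvd_of_pow_eq_one h2
  have h3 : orderOf d = 1 := by
    rcases (Nat.dvd_prime Nat.prime_two).1 h1 with h | h
    · exact h
    · rw [h] at hodd; exact absurd hodd (by decide)
  exact orderOf_eq_one_iff.1 h3

/-- an involution of `ecent d` has its fixed point outside `Fix(d)` -/
theorem ecent_inv_moves (c : Cfg G) (hα : ∀ P Q : Sylow 2 G, P ≠ Q → Kn P ⊓ Kn Q = ⊥)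
    {P Q : Sylow 2 G} (h : P ≠ Q) {d : G} (hd : d ∈ Dn P Q) (hd1 : d ≠ 1) {v : G}
    (hv : orderOf v = 2) (hvE : v ∈ ecent d) {R : Sylow 2 G} (hvR : v ∈ R) : d ∉ Mn R := by
  intro hdR
  have hodd := b3a_odd_orderOf c h hd
  rcases mem_ecent.1 hvE with h1 | h1
  · -- `d` centralizes `v`
    have hdC : d ∈ Subgroup.centralizer ({v} : Set G) := by
      rw [Subgroup.mem_centralizer_iff]
      intro y hy
      rw [Set.mem_singleton_iff] at hy
      subst hy
      -- goal: y * d = d * y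
      calc y * d = (y * d * y⁻¹) * y := by group
        _ = d * y := by rw [h1]
    rw [c.centralizer_eq hvR hv] at hdC
    have hdK : d ∈ Kn R := (c.mem_Kn_iff R).2 ⟨hdC, hodd⟩
    by_cases hRP : R = P
    · -- then R ≠ Q
      have hRQ : R ≠ Q := by rw [hRP]; exact h
      have : d ∈ Kn R ⊓ Mn Q := ⟨hdK, hd.2⟩
      rw [Kn_inf_Mn c hα hRQ] at this
      exact hd1 (Subgroup.mem_bot.1 this)
    · have : d ∈ Kn R ⊓ Mn P := ⟨hdK, hd.1⟩
      rw [Kn_inf_Mn c hα hRP] at this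
      exact hd1 (Subgroup.mem_bot.1 this)
  · -- `v` inverts `d`; then `d⁻¹ ^ 2 ∈ R`
    have hmem : d * v * d⁻¹ ∈ (R : Subgroup G) := by
      have := (Subgroup.mem_normalizer_iff.1 hdR v).1 hvR
      exact this
    have hvinv : v⁻¹ = v := by
      have : v ^ 2 = 1 := by rw [← hv]; exact pow_orderOf_eq_one v
      rw [inv_eq_iff_mul_eq_one, ← sq]; exact this
    have hmem2 : v * (d * v * d⁻¹) ∈ (R : Subgroup G) := (R : Subgroup G).mul_mem hvR hmem
    have heq : v * (d * v * d⁻¹) = (d⁻¹) ^ 2 := by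
      have : v * (d * v * d⁻¹) = (v * d * v⁻¹) * d⁻¹ := by rw [hvinv]; group
      rw [this, h1, sq]
    rw [heq] at hmem2
    -- a 2-element of odd order
    have hpow : (d⁻¹) ^ 2 = 1 := by
      obtain ⟨k, hk⟩ := (R.2 ⟨(d⁻¹) ^ 2, hmem2⟩)
      have hk' : ((d⁻¹) ^ 2) ^ (2 ^ k) = 1 := by
        have := congrArg Subtype.val hk
        simpa using this
      have h3 : orderOf ((d⁻¹) ^ 2) ∣ 2 ^ k := orderOf_dvd_of_pow_eq_one hk'
      have h4 : orderOf ((d⁻¹) ^ 2) ∣ orderOf d := by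
        have : orderOf ((d⁻¹) ^ 2) ∣ orderOf d⁻¹ := orderOf_pow_dvd 2
        rwa [orderOf_inv] at this
      have h5 : Nat.Coprime (orderOf d) (2 ^ k) := by
        apply Nat.Coprime.pow_right
        exact Nat.coprime_two_right.2 hodd
      have h6 : orderOf ((d⁻¹) ^ 2) ∣ Nat.gcd (orderOf d) (2 ^ k) := Nat.dvd_gcd h4 h3
      rw [h5.gcd_eq_one] at h6
      exact orderOf_eq_one_iff.1 (Nat.dvd_one.1 h6)
    have : d ^ 2 = 1 := by
      rw [inv_pow, inv_eq_one] at hpow; exact hpow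
    exact hd1 (b3a_eq_one_of_odd_of_sq hodd this)

theorem ecent_inv_inverts (c : Cfg G) (hα : ∀ P Q : Sylow 2 G, P ≠ Q → Kn P ⊓ Kn Q = ⊥)
    {P Q : Sylow 2 G} (h : P ≠ Q) {d : G} (hd : d ∈ Dn P Q) (hd1 : d ≠ 1) {v : G}
    (hv : orderOf v = 2) (hvE : v ∈ ecent d) : v * d * v⁻¹ = d⁻¹ := by
  have hne : P ≠ v • P := by
    intro heq
    have hvM : v ∈ Mn P := mem_Mn_iff.2 heq.symm
    have hvP : v ∈ P := mem_sylow_of_mem_Mn hvM (k := 1) (by rw [hv, pow_one])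
    exact ecent_inv_moves c hα h hd hd1 hv hvE hvP hd.1
  have hd' : d ∈ Dn P (v • P) := ⟨hd.1, ecent_smul_mem hvE hd.1⟩
  exact Dn_inverted c hα hne hv rfl hd'

end Cfsg.Agent.Helper2.AIC
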