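import Mathlib
import Cfsg.Agent.Lib.Helper2.AICDefs
import Cfsg.Agent.Lib.Helper2.AICGEN
import Cfsg.Agent.Lib.Helper2.AICBAS1
import Cfsg.Agent.Lib.Helper24.AICSE
import Cfsg.Agent.Lib.Helper4.AICB1
import Cfsg.Agent.Lib.Helper4.AICB2
import Cfsg.Agent.Lib.Helper18.AICB3B
import Cfsg.Agent.Lib.Helper22.AICB3A

/-!
# S2202 piece B3C (helper22): cyclic Sylow 2-subgroups of the extended centralizer; Frobenius
-/

set_option autoImplicit false

namespace Cfsg.Agent.Helper2.AIC

variable {G : Type*} [Group G] [Finite G]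

omit [Finite G] in
theorem b3c_inv_eq_self {v : G} (hv : orderOf v = 2) : v⁻¹ = v := by
  have : v ^ 2 = 1 := by rw [← hv]; exact pow_orderOf_eq_one v
  rw [inv_eq_iff_mul_eq_one, ← sq]; exact this

omit [Finite G] in
/-- the product of two distinct commuting involutions is an involution -/
theorem b3c_orderOf_mul {v w : G} (hv : orderOf v = 2) (hw : orderOf w = 2) (hne : v ≠ w)
    (hc : v * w = w * v) : orderOf (v * w) = 2 := by
  have hv2 : v * v = 1 := by rw [← sq, ← hv]; exact pow_orderOf_eq_one v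
  have hw2 : w * w = 1 := by rw [← sq, ← hw]; exact pow_orderOf_eq_one w
  apply orderOf_eq_prime
  · rw [sq]
    calc v * w * (v * w) = v * (w * v) * w := by group
      _ = v * (v * w) * w := by rw [hc]
      _ = (v * v) * (w * w) := by group
      _ = 1 := by rw [hv2, hw2, mul_one]
  · intro h1
    apply hne
    have : v = w⁻¹ := eq_inv_of_mul_eq_one_left h1
    rw [this, b3c_inv_eq_self hw]

theorem ecent_sylow_cyclic (c : Cfg G) (hα : ∀ P Q : Sylow 2 G, P ≠ Q → Kn P ⊓ Kn Q = ⊥)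
    {P Q : Sylow 2 G} (h : P ≠ Q) {d : G} (hd : d ∈ Dn P Q) (hd1 : d ≠ 1) :
    ∀ T : Sylow 2 (ecent d), IsCyclic T := by
  intro T
  -- the image of `T` in `G` lies in a Sylow 2-subgroup `R` of `G`
  have hTp : IsPGroup 2 ((T : Subgroup (ecent d)).map (ecent d).subtype) := T.2.map _
  obtain ⟨R, hR⟩ := hTp.exists_le_sylow
  have hmemR : ∀ x : T, ((x : ecent d) : G) ∈ R := fun x =>
    hR (Subgroup.mem_map.2 ⟨(x : ecent d), x.2, rfl⟩)
  have hcomm : ∀ x y : T, x * y = y * x := by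
    intro x y
    apply Subtype.ext
    apply Subtype.ext
    exact c.comm_sylow R _ (hmemR x) _ (hmemR y)
  have hodd := b3a_odd_orderOf c h hd
  apply isCyclic_of_unique_inv T.2 hcomm
  intro v w hv hw
  by_contra hne
  have hvG : orderOf ((v : ecent d) : G) = 2 := by
    rw [Subgroup.orderOf_coe, Subgroup.orderOf_coe]; exact hv
  have hwG : orderOf ((w : ecent d) : G) = 2 := by
    rw [Subgroup.orderOf_coe, Subgroup.orderOf_coe]; exact hw
  have hneG : ((v : ecent d) : G) ≠ ((w : ecent d) : G) := by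
    intro he
    exact hne (Subtype.ext (Subtype.ext he))
  have hcG : ((v : ecent d) : G) * ((w : ecent d) : G) = ((w : ecent d) : G) * ((v : ecent d) : G) :=
    c.comm_sylow R _ (hmemR v) _ (hmemR w)
  have hvw : orderOf (((v : ecent d) : G) * ((w : ecent d) : G)) = 2 :=
    b3c_orderOf_mul hvG hwG hneG hcG
  have hvwE : ((v : ecent d) : G) * ((w : ecent d) : G) ∈ ecent d :=
    (ecent d).mul_mem (v : ecent d).2 (w : ecent d).2
  have i1 := ecent_inv_inverts c hα h hd hd1 hvG (v : ecent d).2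
  have i2 := ecent_inv_inverts c hα h hd hd1 hwG (w : ecent d).2
  have i3 := ecent_inv_inverts c hα h hd hd1 hvw hvwE
  -- but the product centralizes `d`
  have i4 : ((v : ecent d) : G) * ((w : ecent d) : G) * d * (((v : ecent d) : G) * ((w : ecent d) : G))⁻¹
      = d := by
    have : ((v : ecent d) : G) * ((w : ecent d) : G) * d * (((v : ecent d) : G) * ((w : ecent d) : G))⁻¹
        = ((v : ecent d) : G) * (((w : ecent d) : G) * d * ((w : ecent d) : G)⁻¹) * ((v : ecent d) : G)⁻¹ := by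
      group
    rw [this, i2]
    have : ((v : ecent d) : G) * d⁻¹ * ((v : ecent d) : G)⁻¹ = (((v : ecent d) : G) * d * ((v : ecent d) : G)⁻¹)⁻¹ := by
      group
    rw [this, i1, inv_inv]
  rw [i4] at i3
  have : d ^ 2 = 1 := by
    rw [sq]
    calc d * d = d * d⁻¹ := by rw [← i3]
      _ = 1 := mul_inv_cancel d
  exact hd1 (b3a_eq_one_of_odd_of_sq hodd this)

theorem frob (c : Cfg G) (hα : ∀ P Q : Sylow 2 G, P ≠ Q → Kn P ⊓ Kn Q = ⊥)
    {P Q : Sylow 2 G} (h : P ≠ Q) {d : G} (hd : d ∈ Dn P Q) (hd1 : d ≠ 1) {x : G} (hx : x ∈ Cn P)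
    (hx1 : x ≠ 1) : d * x ≠ x * d := by
  intro hcomm
  by_cases hev : Even (orderOf x)
  · -- an involution power of `x` lies in `P` and commutes with `d`
    obtain ⟨n, hn⟩ := exists_pow_orderOf_two hev
    have htC : x ^ n ∈ Cn P := (Cn P).pow_mem hx n
    have htP : x ^ n ∈ P := c.mem_sylow_of_mem_Cn htC (k := 1) (by rw [hn, pow_one])
    have hdC : d ∈ Subgroup.centralizer ({x ^ n} : Set G) := by
      rw [Subgroup.mem_centralizer_iff]
      intro y hy
      rw [Set.mem_singleton_iff] at hy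
      subst hy
      have hc : Commute d x := hcomm
      exact ((hc.pow_right n).eq).symm
    rw [c.centralizer_eq htP hn] at hdC
    have : d ∈ Dn P Q ⊓ Cn P := ⟨hd, hdC⟩
    rw [Dn_inf_Cn_eq_bot c hα h] at this
    exact hd1 (Subgroup.mem_bot.1 this)
  · have hoddx : Odd (orderOf x) := Nat.not_even_iff_odd.1 hev
    have hxK : x ∈ Kn P := (c.mem_Kn_iff P).2 ⟨hx, hoddx⟩
    have hxE : x ∈ ecent d := by
      rw [mem_ecent]; left
      calc x * d * x⁻¹ = (x * d) * x⁻¹ := rfl
        _ = (d * x) * x⁻¹ := by rw [hcomm]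
        _ = d := by group
    obtain ⟨E2, hE2n, hE2odd, hE2⟩ := exists_odd_normal (ecent_sylow_cyclic c hα h hd hd1)
    -- stabilizers in `ecent d` of fixed points of `d` consist of elements of odd order
    have hstab : ∀ (R : Sylow 2 G), d ∈ Mn R → ∀ g : G, g ∈ ecent d → g ∈ Mn R →
        Odd (orderOf g) := by
      intro R hdR g hgE hgR
      by_contra hne
      have hev' : Even (orderOf g) := Nat.not_odd_iff_even.1 hne
      obtain ⟨n, hn⟩ := exists_pow_orderOf_two hev'
      have h1 : g ^ n ∈ ecent d := (ecent d).pow_mem hgE n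
      have h2 : g ^ n ∈ Mn R := (Mn R).pow_mem hgR n
      have h3 : g ^ n ∈ R := mem_sylow_of_mem_Mn h2 (k := 1) (by rw [hn, pow_one])
      exact ecent_inv_moves c hα h hd hd1 hn h1 h3 hdR
    -- `E2` fixes every fixed point of `d`
    have hfix : ∀ (R1 : Sylow 2 G), d ∈ Mn R1 → ∀ g : ecent d, g ∈ E2 → (g : G) • R1 = R1 := by
      intro R1 hdR1 g hg
      by_contra hne
      have hne' : R1 ≠ (g : G) • R1 := fun he => hne he.symm
      have hdR2 : d ∈ Mn ((g : G) • R1) := ecent_smul_mem g.2 hdR1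
      obtain ⟨v, hv, hvR⟩ := c.exists_swap hne'
      have hvE : v ∈ ecent d := swap_mem_ecent c hα hne' ⟨hdR1, hdR2⟩ hv hvR
      have hvg : v⁻¹ * (g : G) ∈ Mn R1 := by
        rw [mem_Mn_iff, mul_smul, ← hvR, inv_smul_smul]
      have hvgE : v⁻¹ * (g : G) ∈ ecent d := (ecent d).mul_mem ((ecent d).inv_mem hvE) g.2
      have hoddvg : Odd (orderOf (v⁻¹ * (g : G))) := hstab R1 hdR1 _ hvgE hvg
      have hmem : (⟨v⁻¹ * (g : G), hvgE⟩ : ecent d) ∈ E2 := by
        apply hE2
        rw [Subgroup.orderOf_mk]; exact hoddvg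
      have hvE2 : (⟨v, hvE⟩ : ecent d) ∈ E2 := by
        have : (⟨v, hvE⟩ : ecent d) = g * (⟨v⁻¹ * (g : G), hvgE⟩ : ecent d)⁻¹ := by
          apply Subtype.ext
          show v = (g : G) * (v⁻¹ * (g : G))⁻¹
          group
        rw [this]
        exact E2.mul_mem hg (E2.inv_mem hmem)
      have hdvd : orderOf (⟨⟨v, hvE⟩, hvE2⟩ : E2) ∣ Nat.card E2 := orderOf_dvd_natCard _
      rw [Subgroup.orderOf_mk, Subgroup.orderOf_mk, hv] at hdvd
      exact absurd (Odd.of_dvd_nat hE2odd hdvd) (by decide)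
    have hxE2 : (⟨x, hxE⟩ : ecent d) ∈ E2 := by
      apply hE2
      rw [Subgroup.orderOf_mk]; exact hoddx
    have hxQ : x • Q = Q := hfix Q hd.2 ⟨x, hxE⟩ hxE2
    have : x ∈ Kn P ⊓ Mn Q := ⟨hxK, mem_Mn_iff.2 hxQ⟩
    rw [Kn_inf_Mn c hα h] at this
    exact hx1 (Subgroup.mem_bot.1 this)

end Cfsg.Agent.Helper2.AIC
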