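import Mathlib
import Cfsg.Agent.Lib.Helper17.SLkDefs

/-!
# S2479 PIECE SLK-DETPI: determinant of a dependent product of endomorphisms
-/

set_option autoImplicit false
set_option linter.unusedSectionVars false
set_option linter.unusedVariables false

open Polynomial

namespace Cfsg.Agent.Helper17.SLk

open Cfsg.Agent.Helper17.GLk

universe u

section pieces
variable {F : Type u} [Field F]

/-- The dependent product map. -/
def detpi_map {ι : Type u} {M : ι → Type u} [∀ i, AddCommGroup (M i)]
    [∀ i, Module F (M i)] (f : ∀ i, M i →ₗ[F] M i) : (∀ i, M i) →ₗ[F] (∀ i, M i) :=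
  LinearMap.pi fun i => (f i).comp (LinearMap.proj i)

theorem detpi_map_apply {ι : Type u} {M : ι → Type u} [∀ i, AddCommGroup (M i)]
    [∀ i, Module F (M i)] (f : ∀ i, M i →ₗ[F] M i) (x : ∀ i, M i) (i : ι) :
    detpi_map f x i = f i (x i) := rfl

/-- The statement, as a predicate on the index type. -/
def detpi_P (F : Type u) [Field F] (ι : Type u) [Fintype ι] : Prop :=
  ∀ (M : ι → Type u) [∀ i, AddCommGroup (M i)] [∀ i, Module F (M i)]
    [∀ i, FiniteDimensional F (M i)] (f : ∀ i, M i →ₗ[F] M i),
    LinearMap.det (detpi_map f) = ∏ i, LinearMap.det (f i)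

theorem detpi_empty : detpi_P F PEmpty.{u+1} := by
  intro M _ _ _ f
  have h : detpi_map f = LinearMap.id := by
    refine LinearMap.ext (fun x => ?_)
    funext i
    exact i.elim
  rw [h, LinearMap.det_id, Finset.univ_eq_empty, Finset.prod_empty]

theorem detpi_of_equiv (α β : Type u) [Fintype β] (e : α ≃ β)
    (h : @detpi_P F _ α (@Fintype.ofEquiv α β ‹_› e.symm)) : detpi_P F β := by
  intro M _ _ _ f
  let _ : Fintype α := Fintype.ofEquiv β e.symm
  have h1 := h (fun a => M (e a)) (fun a => f (e a))
  have h2 : (∏ a, LinearMap.det (f (e a))) = ∏ b, LinearMap.det (f b) :=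
    Fintype.prod_equiv e _ _ (fun _ => rfl)
  let L : (∀ a, M (e a)) ≃ₗ[F] (∀ b, M b) := LinearEquiv.piCongrLeft F M e
  have key : detpi_map f =
      (L : (∀ a, M (e a)) →ₗ[F] (∀ b, M b)) ∘ₗ (detpi_map fun a => f (e a)) ∘ₗ
        (L.symm : (∀ b, M b) →ₗ[F] (∀ a, M (e a))) := by
    refine LinearMap.ext (fun x => ?_)
    funext b
    obtain ⟨a, rfl⟩ := e.surjective b
    rw [detpi_map_apply]
    show _ = L ((detpi_map fun a => f (e a)) (L.symm x)) (e a)
    have h3 : ∀ y : (∀ a, M (e a)), L y (e a) = y a := by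
      intro y
      exact Equiv.piCongrLeft_apply_apply M e y a
    rw [h3, detpi_map_apply]
    have h4 : L.symm x a = x (e a) := rfl
    rw [h4]
  rw [key, LinearMap.det_conj, h1, h2]

theorem detpi_option (α : Type u) [Fintype α] (h : detpi_P F α) : detpi_P F (Option α) := by
  intro M _ _ _ f
  have h1 := h (fun a => M (some a)) (fun a => f (some a))
  let L : (∀ o, M o) ≃ₗ[F] (M none × ∀ a, M (some a)) := LinearEquiv.piOptionEquivProd F
  let g : (M none × ∀ a, M (some a)) →ₗ[F] (M none × ∀ a, M (some a)) :=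
    LinearMap.prodMap (f none) (detpi_map fun a => f (some a))
  have key : detpi_map f =
      (L.symm : (M none × ∀ a, M (some a)) →ₗ[F] (∀ o, M o)) ∘ₗ g ∘ₗ
        (L.symm.symm : (∀ o, M o) →ₗ[F] (M none × ∀ a, M (some a))) := by
    refine LinearMap.ext (fun x => ?_)
    funext o
    rw [detpi_map_apply]
    cases o with
    | none => rfl
    | some a => rfl
  rw [key, LinearMap.det_conj]
  show LinearMap.det (LinearMap.prodMap (f none) (detpi_map fun a => f (some a))) = _
  rw [LinearMap.det_prodMap, h1, Fintype.prod_option]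

theorem detpi_all (ι : Type u) [Fintype ι] : detpi_P F ι := by
  refine Fintype.induction_empty_option (P := fun α _ => detpi_P F α) ?_ ?_ ?_ ι
  · intro α β _ e h
    exact detpi_of_equiv α β e h
  · exact detpi_empty
  · intro α _ h
    exact detpi_option α h

/-- PIECE SLK-DETPI: determinant of a dependent product of endomorphisms. -/
theorem det_piMap {ι : Type u} [Fintype ι] {M : ι → Type u} [∀ i, AddCommGroup (M i)]
    [∀ i, Module F (M i)] [∀ i, FiniteDimensional F (M i)] (f : ∀ i, M i →ₗ[F] M i) :
    LinearMap.det (LinearMap.pi fun i => (f i).comp (LinearMap.proj i)) =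
      ∏ i, LinearMap.det (f i) :=
  detpi_all ι M f

end pieces

end Cfsg.Agent.Helper17.SLk
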