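import Mathlib
import Cfsg.Agent.Lib.Helper15.S52Defs
import Cfsg.Agent.Lib.Helper12.SL2Unip

/-!
# S3452 piece S52-PSLCONJ (helper22): an element of order `p` of `PSL₂(p)` is conjugate to an
upper unitriangular element
-/

set_option autoImplicit false
set_option linter.unusedVariables false

namespace Cfsg.Agent.Helper15.S52

open Cfsg.Agent.Helper2
open scoped Pointwise

/-- PIECE S52-PSLCONJ -/
theorem psl_conj_us {F : Type*} [Field F] [Fintype F] {p : ℕ} [Fact p.Prime]
    (hF : Fintype.card F = p) (hp2 : p ≠ 2) (g : P2 F) (hg : orderOf g = p) :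
    ∃ (c : P2 F) (b : F), b ≠ 0 ∧ g = c * us F b * c⁻¹ := by
  classical
  have hpp : p.Prime := Fact.out
  have hchar : CharP F p := charP_of_card_eq_prime hF
  obtain ⟨A, rfl⟩ := mk_surjective F g
  -- `A ^ p` is central
  have hAp : A ^ p ∈ Subgroup.center (SL2 F) := by
    rw [← mk_eq_one_iff, map_pow, ← hg, pow_orderOf_eq_one]
  obtain ⟨r, hr, hrA⟩ := Matrix.SpecialLinearGroup.mem_center_iff.1 hAp
  have hr2 : r ^ 2 = 1 := by simpa using hr
  have hAp2 : (A ^ p) ^ 2 = 1 := by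
    apply Subtype.ext
    rw [Matrix.SpecialLinearGroup.coe_pow, ← hrA, Matrix.SpecialLinearGroup.coe_one]
    rw [← map_pow, hr2, map_one]
  have hodd : Odd p := hpp.odd_of_ne_two hp2
  obtain ⟨j, hj⟩ := hodd
  have hA'p : (A ^ (p + 1)) ^ p = 1 := by
    rw [← pow_mul, mul_comm, pow_mul]
    have : p + 1 = 2 * (j + 1) := by omega
    rw [this, pow_mul, hAp2, one_pow]
  have hmk : mk F (A ^ (p + 1)) = mk F A := by
    rw [map_pow, pow_succ, ← hg, pow_orderOf_eq_one, one_mul]
  have hpg : IsPGroup p (Subgroup.zpowers (A ^ (p + 1))) := by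
    rintro ⟨x, hx⟩
    obtain ⟨k, rfl⟩ := Subgroup.mem_zpowers_iff.1 hx
    refine ⟨1, ?_⟩
    apply Subtype.ext
    simp only [pow_one, Subgroup.coe_pow, Subgroup.coe_one]
    rw [← zpow_natCast, ← zpow_mul, mul_comm, zpow_mul, zpow_natCast, hA'p, one_zpow]
  obtain ⟨S, hS⟩ := hpg.exists_le_sylow
  obtain ⟨C, hC⟩ := Cfsg.Agent.Helper12.exists_conj_unipSL2 p S
  have hmem : A ^ (p + 1) ∈ MulAut.conj C • Cfsg.Agent.Helper12.unipSL2 F := by
    rw [← hC]
    exact hS (Subgroup.mem_zpowers _)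
  obtain ⟨u, hu, huA⟩ := Subgroup.mem_smul_pointwise_iff_exists _ _ _ |>.1 hmem
  obtain ⟨b', rfl⟩ := hu
  have hub : Cfsg.Agent.Helper12.unipHom F b' = ub F (Multiplicative.toAdd b') := rfl
  rw [hub] at huA
  have huA' : C * ub F (Multiplicative.toAdd b') * C⁻¹ = A ^ (p + 1) := by
    rw [← huA]; rfl
  refine ⟨mk F C, Multiplicative.toAdd b', ?_, ?_⟩
  · intro hb0
    have h1 : ub F (Multiplicative.toAdd b') = 1 := by
      rw [hb0]
      apply Subtype.ext
      show !![(1 : F), 0; 0, 1] = 1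
      exact Matrix.one_fin_two.symm
    rw [h1, mul_one, mul_inv_cancel] at huA'
    rw [← huA', map_one] at hmk
    rw [← hmk, orderOf_one] at hg
    exact hpp.one_lt.ne hg
  · rw [← hmk, ← huA']
    simp only [map_mul, map_inv]
    rfl

end Cfsg.Agent.Helper15.S52
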