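import Mathlib
import Cfsg.Agent.Lib.Helper15.S74Defs
import Cfsg.Agent.Lib.Helper19.S74MINSUB
import Cfsg.Agent.Lib.Helper27.S74PERPDIM
import Cfsg.Agent.Lib.Helper27.S74ORDUTIL
import Cfsg.Agent.Lib.Helper25.S74RESTR

/-! S74-NXA2 core (S2474 T1/T2, helper15's farm-out): the case of a common support:
`rs ∣ q^d - 1` or `rs ∣ q^d + 1` for some `1 ≤ d ≤ n`.  The two dependencies S74-CNT and S74-INVFORM
(not yet on main when this was written) are taken as hypotheses `hcnt`, `hinvform`, stated exactly as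
in `plans/S2474_SkelA.lean.txt`; the wrapper `nxA_common` is in `S74NXA2.lean`. -/

set_option autoImplicit false
set_option linter.unusedVariables false

open Cfsg.Agent.Helper15.S62

namespace Cfsg.Agent.Helper15.S74

universe u

variable {F : Type u} [Field F]

/-- the restriction of `1` is `1`. -/
theorem s74_nxa2_restrict_eq_one {V : Type u} [AddCommGroup V] [Module F V] (a : Module.End F V)
    (U : Submodule F V) (hU : Invar a U) (h : a = 1) : a.restrict hU = 1 := by
  subst h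
  ext x
  rfl

/-- S74-NXA2, with CNT and INVFORM as hypotheses -/
theorem s74_nxa2_core [Fintype F]
    (hcnt : ∀ {U : Type u} [AddCommGroup U] [Module F U] [FiniteDimensional F U]
      (y : Module.End F U) (t : ℕ) (ht : t.Prime) (htF : (t : F) ≠ 0)
      (hsum : ∑ i ∈ Finset.range t, y ^ i = 0),
      t ∣ Fintype.card F ^ Module.finrank F U - 1)
    (hinvform : ∀ {U : Type u} [AddCommGroup U] [Module F U] [FiniteDimensional F U]
      (g : Module.End F U) (hirr : Irred g) (N : ℕ) (hN : 0 < N) (hgN : g ^ N = 1)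
      (hg2 : g ^ 2 ≠ 1) (β : LinearMap.BilinForm F U) (hβ : β ≠ 0) (hinv : Isom β g),
      ∃ k : ℕ, 1 ≤ k ∧ Module.finrank F U = 2 * k ∧
        ∀ z : Module.End F U, Commute z g → Isom β z → z ^ (Fintype.card F ^ k + 1) = 1)
    {V : Type u} [AddCommGroup V] [Module F V]
    [FiniteDimensional F V] (B : LinearMap.BilinForm F V) (hnd : LND B) (g : Module.End F V)
    (hg : Isom B g) (r s : ℕ) (hr : r.Prime) (hs : s.Prime) (hrs : r ≠ s) (hr2 : r ≠ 2)
    (hs2 : s ≠ 2) (hrF : (r : F) ≠ 0) (hsF : (s : F) ≠ 0) (hgrs : g ^ (r * s) = 1)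
    (hne : Wpart (g ^ s) r ⊓ Wpart (g ^ r) s ≠ ⊥) (n : ℕ)
    (hdim : Module.finrank F V ≤ 2 * n + 1) :
    ∃ d : ℕ, 1 ≤ d ∧ d ≤ n ∧
      (r * s ∣ Fintype.card F ^ d - 1 ∨ r * s ∣ Fintype.card F ^ d + 1) := by
  classical
  have hinv1 : Invar g (Wpart (g ^ s) r) :=
    invar_wpart (g ^ s) g r ((Commute.refl g).pow_right s)
  have hinv2 : Invar g (Wpart (g ^ r) s) :=
    invar_wpart (g ^ r) g s ((Commute.refl g).pow_right r)
  have hinv0 : Invar g (Wpart (g ^ s) r ⊓ Wpart (g ^ r) s) :=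
    fun v hv => ⟨hinv1 v hv.1, hinv2 v hv.2⟩
  obtain ⟨M, hM, hMle, hMne, hirr⟩ := exists_irred_le g _ hne hinv0
  have hMnt : Nontrivial M := (Submodule.nontrivial_iff_ne_bot).mpr hMne
  -- geometric sums
  have hsum_r : ∑ i ∈ Finset.range r, ((g.restrict hM) ^ s) ^ i = 0 := by
    rw [restrict_pow g M hM s]
    exact restrict_geom_sum (g ^ s) M (invar_pow g M hM s) r (hMle.trans inf_le_left)
  have hsum_s : ∑ i ∈ Finset.range s, ((g.restrict hM) ^ r) ^ i = 0 := by
    rw [restrict_pow g M hM r]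
    exact restrict_geom_sum (g ^ r) M (invar_pow g M hM r) s (hMle.trans inf_le_right)
  have hmpos : 1 ≤ Module.finrank F M := Module.finrank_pos
  have hr_dvd : r ∣ Fintype.card F ^ Module.finrank F M - 1 :=
    hcnt ((g.restrict hM) ^ s) r hr hrF hsum_r
  have hs_dvd : s ∣ Fintype.card F ^ Module.finrank F M - 1 :=
    hcnt ((g.restrict hM) ^ r) s hs hsF hsum_s
  have hcop : Nat.Coprime r s := (Nat.coprime_primes hr hs).mpr hrs
  have hmV : Module.finrank F M ≤ Module.finrank F V := Submodule.finrank_le M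
  have hisoM : Isom (B.restrict M) (g.restrict hM) := isom_restrict B g M hM hg
  by_cases hβ : B.restrict M = 0
  · -- totally isotropic: `M ≤ M^⊥`
    have hle : M ≤ B.orthogonal M := by
      intro x hx
      rw [LinearMap.BilinForm.mem_orthogonal_iff]
      intro a ha
      have h0 := congrArg (fun β : LinearMap.BilinForm F M => β ⟨a, ha⟩ ⟨x, hx⟩) hβ
      simpa [LinearMap.BilinForm.restrict_apply] using h0
    have h1 := finrank_add_finrank_orthogonal' B hnd M
    have h2 : Module.finrank F M ≤ Module.finrank F (B.orthogonal M) :=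
      Submodule.finrank_mono hle
    exact ⟨Module.finrank F M, hmpos, by omega,
      Or.inl (hcop.mul_dvd_of_dvd_of_dvd hr_dvd hs_dvd)⟩
  · -- the form on `M` is nonzero: INVFORM
    have hgMN : (g.restrict hM) ^ (r * s) = 1 := by
      rw [restrict_pow g M hM (r * s)]
      exact s74_nxa2_restrict_eq_one _ _ _ hgrs
    have hg2 : (g.restrict hM) ^ 2 ≠ 1 := by
      intro h2
      have h3 : ((g.restrict hM) ^ s) ^ 2 = 1 := by
        rw [← pow_mul, mul_comm, pow_mul, h2, one_pow]
      have h4 := dvd_of_geom_sum_eq_zero ((g.restrict hM) ^ s) r hr hrF hsum_r 2 h3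
      exact hr2 ((Nat.prime_dvd_prime_iff_eq hr Nat.prime_two).mp h4)
    obtain ⟨k, hk1, hk2, hk3⟩ := hinvform (g.restrict hM) hirr (r * s)
      (Nat.mul_pos hr.pos hs.pos) hgMN hg2 (B.restrict M) hβ hisoM
    have hz := hk3 (g.restrict hM) (Commute.refl _) hisoM
    have hr' : r ∣ Fintype.card F ^ k + 1 :=
      dvd_of_geom_sum_eq_zero ((g.restrict hM) ^ s) r hr hrF hsum_r _
        (by rw [← pow_mul, mul_comm, pow_mul, hz, one_pow])
    have hs' : s ∣ Fintype.card F ^ k + 1 :=
      dvd_of_geom_sum_eq_zero ((g.restrict hM) ^ r) s hs hsF hsum_s _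
        (by rw [← pow_mul, mul_comm, pow_mul, hz, one_pow])
    exact ⟨k, hk1, by omega, Or.inr (hcop.mul_dvd_of_dvd_of_dvd hr' hs')⟩

end Cfsg.Agent.Helper15.S74
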