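import Mathlib
import Cfsg.Agent.Lib.Helper22.S74NXA2Core
import Cfsg.Agent.Lib.Helper6.S74CNT
import Cfsg.Agent.Lib.Helper9.S74INVFORM

/-! S74-NXA2 (S2474 T1/T2, helper15's farm-out): the case of a common support:
`rs ∣ q^d - 1` or `rs ∣ q^d + 1` for some `1 ≤ d ≤ n`.  Wrapper of `s74_nxa2_core`
(`S74NXA2Core.lean`) with the pieces S74-CNT and S74-INVFORM plugged in. -/

set_option autoImplicit false
set_option linter.unusedVariables false

open Cfsg.Agent.Helper15.S62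

namespace Cfsg.Agent.Helper15.S74

universe u

variable {F : Type u} [Field F]

/-- S74-NXA2 -/
theorem nxA_common [Fintype F] {V : Type u} [AddCommGroup V] [Module F V]
    [FiniteDimensional F V] (B : LinearMap.BilinForm F V) (hnd : LND B) (g : Module.End F V)
    (hg : Isom B g) (r s : ℕ) (hr : r.Prime) (hs : s.Prime) (hrs : r ≠ s) (hr2 : r ≠ 2)
    (hs2 : s ≠ 2) (hrF : (r : F) ≠ 0) (hsF : (s : F) ≠ 0) (hgrs : g ^ (r * s) = 1)
    (hne : Wpart (g ^ s) r ⊓ Wpart (g ^ r) s ≠ ⊥) (n : ℕ)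
    (hdim : Module.finrank F V ≤ 2 * n + 1) :
    ∃ d : ℕ, 1 ≤ d ∧ d ≤ n ∧
      (r * s ∣ Fintype.card F ^ d - 1 ∨ r * s ∣ Fintype.card F ^ d + 1) :=
  s74_nxa2_core
    (fun y t ht htF hsum => dvd_card_pow_sub_one y t ht htF hsum)
    (fun g hirr N hN hgN hg2 β hβ hinv => invform g hirr N hN hgN hg2 β hβ hinv)
    B hnd g hg r s hr hs hrs hr2 hs2 hrF hsF hgrs hne n hdim

end Cfsg.Agent.Helper15.S74
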