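import Mathlib
import Cfsg.Agent.Lib.Helper5.S74XDefs
import Cfsg.Agent.Lib.Helper9.S62PROD

/-! S74X-PROD (S2474 T4, helper5's farm-out): orthogonal direct sum of a symplectic model with a
symplectic model no power of whose isometry is `-1`; the order of the product isometry is the `lcm`. -/

set_option autoImplicit false
set_option linter.unusedVariables false

namespace Cfsg.Agent.Helper15.S74

universe v v₁ v₂ u

/-- the orthogonal sum of two models (general form, order `= lcm`). -/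
theorem s74x_prod_model {F : Type u} [Field F] {U₁ : Type v₁} {U₂ : Type v₂} [AddCommGroup U₁]
    [Module F U₁] [AddCommGroup U₂] [Module F U₂] (ω₁ : LinearMap.BilinForm F U₁)
    (ω₂ : LinearMap.BilinForm F U₂)
    (h₁ : ∀ x, ω₁ x x = 0) (h₂ : ∀ x, ω₂ x x = 0) (n₁ : ∀ x, (∀ y, ω₁ x y = 0) → x = 0)
    (n₂ : ∀ x, (∀ y, ω₂ x y = 0) → x = 0) (g₁ : U₁ ≃ₗ[F] U₁) (g₂ : U₂ ≃ₗ[F] U₂)
    (i₁ : ∀ x y, ω₁ (g₁ x) (g₁ y) = ω₁ x y) (i₂ : ∀ x y, ω₂ (g₂ x) (g₂ y) = ω₂ x y)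
    (hneg : ∀ j : ℕ, ∃ x, (g₂ ^ j) x ≠ -x) :
    ∃ (ω : LinearMap.BilinForm F (U₁ × U₂)) (g : (U₁ × U₂) ≃ₗ[F] (U₁ × U₂)),
      (∀ x, ω x x = 0) ∧ (∀ x, (∀ y, ω x y = 0) → x = 0) ∧ (∀ x y, ω (g x) (g y) = ω x y) ∧
      orderOf g = Nat.lcm (orderOf g₁) (orderOf g₂) ∧ ∀ j : ℕ, ∃ x, (g ^ j) x ≠ -x := by
  set ω : LinearMap.BilinForm F (U₁ × U₂) :=
    ω₁.compl₁₂ (LinearMap.fst F U₁ U₂) (LinearMap.fst F U₁ U₂) +
      ω₂.compl₁₂ (LinearMap.snd F U₁ U₂) (LinearMap.snd F U₁ U₂) with hω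
  have hωa : ∀ x y : U₁ × U₂, ω x y = ω₁ x.1 y.1 + ω₂ x.2 y.2 := by
    intro x y
    rw [hω, LinearMap.add_apply, LinearMap.add_apply, LinearMap.compl₁₂_apply,
      LinearMap.compl₁₂_apply]
    rfl
  set g : (U₁ × U₂) ≃ₗ[F] (U₁ × U₂) := S62.s62_prod_hom F U₁ U₂ (g₁, g₂) with hg
  have hga : ∀ x : U₁ × U₂, g x = (g₁ x.1, g₂ x.2) := fun x => rfl
  have hgpow : ∀ (j : ℕ) (x : U₁ × U₂), (g ^ j) x = ((g₁ ^ j) x.1, (g₂ ^ j) x.2) := by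
    intro j x
    rw [hg, ← map_pow, S62.s62_prod_hom_apply]
    rfl
  refine ⟨ω, g, ?_, ?_, ?_, ?_, ?_⟩
  · intro x
    rw [hωa, h₁, h₂, add_zero]
  · intro x hx
    refine Prod.ext ?_ ?_
    · apply n₁
      intro y
      have := hx (y, 0)
      rw [hωa] at this
      simpa using this
    · apply n₂
      intro y
      have := hx (0, y)
      rw [hωa] at this
      simpa using this
  · intro x y
    rw [hωa, hωa, hga, hga, i₁, i₂]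
  · rw [hg, orderOf_injective _ (S62.s62_prod_hom_injective F U₁ U₂), Prod.orderOf]
  · intro j
    obtain ⟨x₂, hx₂⟩ := hneg j
    refine ⟨(0, x₂), ?_⟩
    rw [hgpow]
    intro h
    apply hx₂
    have := congrArg Prod.snd h
    simpa using this

/-- PIECE S74X-PROD. -/
theorem modN_prod {F : Type u} [Field F] (k₁ k₂ N₁ N₂ : ℕ) (h₁ : Mod.{v₁, u} F k₁ N₁)
    (h₂ : ModN.{v₂, u} F k₂ N₂) : ModN.{max v₁ v₂, u} F (k₁ + k₂) (Nat.lcm N₁ N₂) := by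
  obtain ⟨U₁, a1, m1, ω₁, g₁, ⟨hfin1, hdim1, halt1, hnd1, hiso1⟩, hord1⟩ := h₁
  obtain ⟨U₂, a2, m2, ω₂, g₂, ⟨hfin2, hdim2, halt2, hnd2, hiso2⟩, hord2, hneg2⟩ := h₂
  obtain ⟨ω, g, halt, hnd, hiso, hord, hneg⟩ :=
    s74x_prod_model ω₁ ω₂ halt1 halt2 hnd1 hnd2 g₁ g₂ hiso1 hiso2 hneg2
  have hf1 : Module.Finite F U₁ := hfin1
  have hf2 : Module.Finite F U₂ := hfin2
  refine ⟨U₁ × U₂, inferInstance, inferInstance, ω, g, ⟨inferInstance, ?_, halt, hnd, hiso⟩, ?_,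
    hneg⟩
  · rw [Module.finrank_prod, hdim1, hdim2]
    ring
  · rw [hord, hord1, hord2]

end Cfsg.Agent.Helper15.S74
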