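import Mathlib
import Cfsg.Agent.Lib.Helper15.S64Defs
import Cfsg.Agent.Lib.Helper2.OutCongr
import Cfsg.Agent.Lib.Helper2.SzCard

/-!
# S3664 piece S64-CARDL (helper22): `|Sz(8) ⋊ Aut(F_8)| = 29120 * 3`
-/

set_option autoImplicit false
set_option linter.unusedSectionVars false
set_option linter.unusedVariables false

namespace Cfsg.Agent.Helper15.S64

open Matrix Cfsg.Agent.Helper2 Cfsg.Agent.Helper2.Sz

variable {F : Type*} [Field F] [Fintype F] (S : SzData F 1)
  (hF : Fintype.card F = 2 ^ (2 * 1 + 1))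

/-- PIECE S64-CARDL -/
theorem card_L : Nat.card (Lgrp S hF) = 29120 * 3 := by
  have h1 : Nat.card (Cfsg.Sz F 1) = 29120 := by
    rw [S.card_Sz le_rfl hF]; norm_num
  have : Fact (Nat.Prime 2) := ⟨Nat.prime_two⟩
  have h2 : Nat.card (F ≃+* F) = 3 := OutCongr.card_ringEquiv (p := 2) (n := 3) (by rw [hF])
  rw [Nat.card_congr (SemidirectProduct.equivProd (N := Cfsg.Sz F 1) (G := F ≃+* F)
    (φ := S.fieldAut le_rfl hF)), Nat.card_prod, h1, h2]

end Cfsg.Agent.Helper15.S64
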