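import Mathlib
import Cfsg.Agent.Lib.Helper22.W2PDefs
import Cfsg.Agent.Lib.Helper22.CentralizerTrace
import Cfsg.Agent.Lib.Helper18.PermCharOrbits
import Cfsg.Agent.Lib.Helper24.CharOrtho
import Cfsg.Agent.Lib.Helper24.CharAlgebra
import Cfsg.Agent.Lib.Helper20.W2PINVF
import Cfsg.Agent.Lib.Helper28.W2PCYC
import Cfsg.Agent.Lib.Helper15.W2PRK2
import Cfsg.Agent.Lib.Helper27.W2PKERTRIV
import Cfsg.Agent.Lib.Helper26.W2PDECA
import Cfsg.Agent.Lib.Helper26.W2PDECGAL

/-!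
# S0720, PIECE DECOMP: the shape of the permutation character (helper22)
-/

set_option autoImplicit false

namespace Cfsg.Agent.Helper22.W2P

open Cfsg Cfsg.Agent.Helper22.PermCent Cfsg.Agent.Helper24

open scoped ComplexConjugate

universe u v

variable {G : Type u} [Group G] [Fintype G] {Ω : Type v} [Fintype Ω] [DecidableEq Ω]
  [MulAction G Ω]

namespace DECOMP

/-- a sum of natural numbers equal to one has exactly one non-zero term -/
theorem nat_sum_eq_one {ι : Type*} [DecidableEq ι] (s : Finset ι) (f : ι → ℕ)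
    (h : ∑ i ∈ s, f i = 1) : ∃ a ∈ s, f a = 1 ∧ ∀ b ∈ s, b ≠ a → f b = 0 := by
  have h1 : ∃ a ∈ s, f a ≠ 0 := by
    by_contra hcon
    push Not at hcon
    rw [Finset.sum_eq_zero hcon] at h
    exact zero_ne_one h
  obtain ⟨a, ha, hfa⟩ := h1
  have h2 : f a ≤ 1 := by
    rw [← h]
    exact Finset.single_le_sum (fun _ _ => Nat.zero_le _) ha
  have h3 : f a = 1 := by omega
  refine ⟨a, ha, h3, ?_⟩
  rw [← Finset.add_sum_erase s f ha, h3] at h
  have h4 : ∑ i ∈ s.erase a, f i = 0 := by omega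
  intro b hb hba
  exact (Finset.sum_eq_zero_iff.mp h4) b (Finset.mem_erase.mpr ⟨hba, hb⟩)

/-- two terms of a sum of natural numbers -/
theorem pair_le_sum {ι : Type*} [DecidableEq ι] (s : Finset ι) (f : ι → ℕ) {a b : ι}
    (ha : a ∈ s) (hb : b ∈ s) (hab : a ≠ b) : f a + f b ≤ ∑ i ∈ s, f i := by
  rw [← Finset.sum_pair hab]
  apply Finset.sum_le_sum_of_subset
  intro x hx
  simp only [Finset.mem_insert, Finset.mem_singleton] at hx
  rcases hx with rfl | rfl
  · exact ha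
  · exact hb

/-- a non-trivial `n`-th root of unity has vanishing geometric sum -/
theorem geom_zero' (n : ℕ) (ζ : ℂ) (h1 : ζ ^ n = 1) (hne : ζ ≠ 1) :
    ∑ k ∈ Finset.range n, ζ ^ k = 0 := by
  have h := geom_sum_mul ζ n
  rw [h1, sub_self] at h
  rcases mul_eq_zero.1 h with h | h
  · exact h
  · exact absurd (sub_eq_zero.1 h) hne

/-- the sum of a character over `⟨π⟩` -/
theorem sum_pow_eq (p : ℕ) (hp : 0 < p) (ω : ℂ) (hω : IsPrimitiveRoot ω p) (c : ℕ → ℕ)
    (f : ℕ → ℂ) (hf : ∀ k : ℕ, f k = ∑ j ∈ Finset.range p, (c j : ℂ) * ω ^ (j * k)) :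
    ∑ k ∈ Finset.range p, f k = (p : ℂ) * c 0 := by
  have h := fourier_inv p hp ω hω (fun j => (c j : ℂ)) f hf 0 hp
  rw [h]
  refine Finset.sum_congr rfl fun k _ => ?_
  rw [zero_mul, pow_zero, mul_one]

/-- the coefficients of the trivial character -/
theorem coef_trivial (p : ℕ) (hp : 0 < p) (ω : ℂ) (hω : IsPrimitiveRoot ω p) (c : ℕ → ℕ)
    (hc : ∀ k : ℕ, (1 : ℂ) = ∑ j ∈ Finset.range p, (c j : ℂ) * ω ^ (j * k)) :
    c 0 = 1 ∧ ∀ j : ℕ, 1 ≤ j → j < p → c j = 0 := by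
  have hp0 : (p : ℂ) ≠ 0 := by exact_mod_cast hp.ne'
  constructor
  · have h := sum_pow_eq p hp ω hω c (fun _ => 1) hc
    rw [Finset.sum_const, Finset.card_range, nsmul_eq_mul, mul_one] at h
    have : (c 0 : ℂ) = 1 := by
      have h' : (p : ℂ) * 1 = (p : ℂ) * c 0 := by rw [mul_one]; exact h
      exact (mul_left_cancel₀ hp0 h').symm
    exact_mod_cast this
  · intro j hj1 hjp
    have h := fourier_inv p hp ω hω (fun j => (c j : ℂ)) (fun _ => 1) hc j hjp
    have hz : ∑ k ∈ Finset.range p, (1 : ℂ) * (ω⁻¹) ^ (j * k) = 0 := by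
      have : ∀ k ∈ Finset.range p, (1 : ℂ) * (ω⁻¹) ^ (j * k) = ((ω⁻¹) ^ j) ^ k := by
        intro k _
        rw [one_mul, pow_mul]
      rw [Finset.sum_congr rfl this]
      apply geom_zero'
      · rw [← pow_mul, mul_comm, pow_mul, inv_pow, hω.pow_eq_one, inv_one, one_pow]
      · rw [inv_pow]
        intro h1
        rw [inv_eq_one] at h1
        exact hω.pow_ne_one_of_pos_of_lt (by omega) hjp h1
    rw [hz] at h
    have : (c j : ℂ) = 0 := by
      rcases mul_eq_zero.mp h with h | h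
      · exact absurd h hp0
      · exact h
    exact_mod_cast this

/-- a faithful character has a nontrivial eigenvalue on `π` -/
theorem exists_coef_pos (p : ℕ) [Fact p.Prime] (π : G) (hπ : orderOf π = p) (ω : ℂ)
    {χ : G → ℂ} (hfaith : ∀ g : G, χ g = χ 1 → g = 1) (c : ℕ → ℕ)
    (hc : ∀ k : ℕ, χ (π ^ k) = ∑ j ∈ Finset.range p, (c j : ℂ) * ω ^ (j * k)) :
    ∃ j : ℕ, 1 ≤ j ∧ j < p ∧ c j ≠ 0 := by
  by_contra hcon
  push Not at hcon
  have hp := (Fact.out : p.Prime)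
  have key : ∀ k : ℕ, χ (π ^ k) = (c 0 : ℂ) := by
    intro k
    rw [hc k, Finset.sum_eq_single 0]
    · rw [zero_mul, pow_zero, mul_one]
    · intro j hj hj0
      rw [hcon j (by omega) (Finset.mem_range.mp hj), Nat.cast_zero, zero_mul]
    · intro h
      exact absurd (Finset.mem_range.mpr hp.pos) h
  have h1 := key 1
  have h0 := key 0
  rw [pow_one] at h1
  rw [pow_zero] at h0
  have := hfaith π (by rw [h1, h0])
  rw [this, orderOf_one] at hπ
  exact hp.one_lt.ne hπ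

end DECOMP

/-- PIECE DECOMP. -/
theorem decomp_of_pi [FaithfulSMul G Ω] (hprim : MulAction.IsPreprimitive G Ω) (p : ℕ)
    [Fact p.Prime] (hodd : p ≠ 2) (hΩ : Fintype.card Ω = 2 * p) (π : G) (hπ : orderOf π = p)
    (hfix : ∀ x : Ω, π • x ≠ x) (h2 : ¬ MulAction.IsMultiplyPretransitive G Ω 2) :
    ∃ (χ₁ : G → ℂ) (Y : Finset (G → ℂ)), Decomp Ω p π χ₁ Y := by
  classical
  letI : Fintype (IrrCharacter G) := irrFintype
  haveI := hprim.toIsPretransitive
  have hp := (Fact.out : p.Prime)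
  have hppos : 0 < p := hp.pos
  have hp3 : 3 ≤ p := by
    have := hp.two_le
    omega
  have hpos : 0 < Fintype.card Ω := by rw [hΩ]; omega
  haveI : Nonempty Ω := Fintype.card_pos_iff.mp hpos
  obtain ⟨a₀⟩ := ‹Nonempty Ω›
  obtain ⟨ω, hω⟩ : ∃ ω : ℂ, IsPrimitiveRoot ω p :=
    ⟨_, Complex.isPrimitiveRoot_exp p hp.ne_zero⟩
  have hπp : π ^ p = 1 := by rw [← hπ]; exact pow_orderOf_eq_one π
  have hex : ∀ χ : IrrCharacter G, ∃ c : ℕ → ℕ, ∀ k : ℕ,
      (χ : G → ℂ) (π ^ k) = ∑ j ∈ Finset.range p, (c j : ℂ) * ω ^ (j * k) := fun χ =>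
    cyc_mult (isCharacter_of_isIrrCharacter χ.2) π p hppos hπp ω hω
  choose c hc using hex
  have hθ : IsCharacter G (theta G Ω) := by
    have : theta G Ω = (Cfsg.permRep ℂ G Ω).character := by
      funext g
      exact (permRep_character g).symm
    rw [this]
    exact isCharacter_of_rep _
  obtain ⟨hmult, hdec⟩ := isCharacter_decomp hθ
  choose m hm using hmult
  have hA : ∀ j : ℕ, j < p → ∑ χ : IrrCharacter G, m χ * c χ j = 2 := fun j hj =>
    coef_sum p hΩ π hπ hfix ω hω c hc m hm j hj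
  -- the trivial character
  let one : IrrCharacter G := ⟨fun _ => 1, PermCent.isIrrCharacter_one⟩
  have hm1 : m one = 1 := by
    have h1 : classInner (theta G Ω) (fun _ => (1 : ℂ)) = 1 :=
      Cfsg.Agent.Helper18.inner_permChar_one (G := G) (X := Ω)
    have h2' := hm one
    rw [h1] at h2'
    exact_mod_cast h2'.symm
  obtain ⟨hc10, hc1j⟩ := DECOMP.coef_trivial p hppos ω hω (c one) (fun k => hc one k)
  -- faithfulness
  have hfaith : ∀ χ : IrrCharacter G, χ ≠ one → m χ ≠ 0 →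
      ∃ j : ℕ, 1 ≤ j ∧ j < p ∧ c χ j ≠ 0 := by
    intro χ hχ1 hmχ
    refine DECOMP.exists_coef_pos p π hπ ω (ker_trivial hprim χ.2 ?_ ?_) (c χ) (hc χ)
    · intro h
      exact hχ1 (Subtype.ext h)
    · rw [hm χ]
      exact_mod_cast hmχ
  -- the second constituent with a fixed vector of `π`
  have hS0 : ∑ χ ∈ Finset.univ.erase one, m χ * c χ 0 = 1 := by
    have h := hA 0 hppos
    rw [← Finset.add_sum_erase Finset.univ _ (Finset.mem_univ one), hm1, hc10] at h
    omega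
  obtain ⟨χ₁, hχ₁mem, hχ₁1, hothers⟩ := DECOMP.nat_sum_eq_one _ _ hS0
  have hχ₁ne : χ₁ ≠ one := (Finset.mem_erase.mp hχ₁mem).1
  have hmχ₁ : m χ₁ = 1 := (Nat.eq_one_of_mul_eq_one_right hχ₁1)
  have hcχ₁0 : c χ₁ 0 = 1 := (Nat.eq_one_of_mul_eq_one_left hχ₁1)
  have hoth : ∀ χ : IrrCharacter G, χ ≠ one → χ ≠ χ₁ → m χ * c χ 0 = 0 := fun χ h1 h2' =>
    hothers χ (Finset.mem_erase.mpr ⟨h1, Finset.mem_univ _⟩) h2'
  have hχ₁fn : (χ₁ : G → ℂ) ≠ fun _ => 1 := fun h => hχ₁ne (Subtype.ext h)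
  have hinner₁ : classInner (theta G Ω) (χ₁ : G → ℂ) = 1 := by
    rw [hm χ₁, hmχ₁, Nat.cast_one]
  -- Galois
  have hgal : ∀ j : ℕ, 1 ≤ j → j < p → c χ₁ j = c χ₁ 1 := by
    refine galois_const (Ω := Ω) p π hπp ω hω χ₁.2 (c χ₁) (hc χ₁) hχ₁fn hinner₁ ?_
    intro χ hχ hχne hχin hsum
    by_contra hne
    have hne' : (⟨χ, hχ⟩ : IrrCharacter G) ≠ χ₁ := fun h => hne (by rw [← h])
    have hne1 : (⟨χ, hχ⟩ : IrrCharacter G) ≠ one := fun h => hχne (congrArg Subtype.val h)
    have h0 := hoth ⟨χ, hχ⟩ hne1 hne'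
    have hmχ : m ⟨χ, hχ⟩ = 1 := by
      have := hm ⟨χ, hχ⟩
      rw [hχin] at this
      exact_mod_cast this.symm
    have hcχ : c ⟨χ, hχ⟩ 0 = 1 := by
      have e1 := DECOMP.sum_pow_eq p hppos ω hω (c ⟨χ, hχ⟩) (fun k => χ (π ^ k))
        (fun k => hc ⟨χ, hχ⟩ k)
      have e2 := DECOMP.sum_pow_eq p hppos ω hω (c χ₁) (fun k => (χ₁ : G → ℂ) (π ^ k))
        (fun k => hc χ₁ k)
      rw [hsum, e2, hcχ₁0] at e1
      have hp0 : (p : ℂ) ≠ 0 := by exact_mod_cast hppos.ne'
      have := mul_left_cancel₀ hp0 e1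
      exact_mod_cast this.symm
    rw [hmχ, hcχ] at h0
    exact one_ne_zero h0
  -- the constant `b`
  have hb2 : c χ₁ 1 ≤ 2 := by
    have h := hA 1 (by omega)
    have h' : m χ₁ * c χ₁ 1 ≤ ∑ χ : IrrCharacter G, m χ * c χ 1 :=
      Finset.single_le_sum (f := fun χ => m χ * c χ 1) (fun _ _ => Nat.zero_le _)
        (Finset.mem_univ χ₁)
    rw [h, hmχ₁, one_mul] at h'
    exact h'
  have hb0 : c χ₁ 1 ≠ 0 := by
    obtain ⟨j, hj1, hjp, hcj⟩ := hfaith χ₁ hχ₁ne (by rw [hmχ₁]; exact one_ne_zero)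
    rw [hgal j hj1 hjp] at hcj
    exact hcj
  -- `b = 2` gives rank two
  have hb2' : c χ₁ 1 ≠ 2 := by
    intro hb
    apply h2
    have hzero : ∀ χ : IrrCharacter G, χ ≠ one → χ ≠ χ₁ → m χ = 0 := by
      intro χ h1 h2'
      by_contra hmχ
      obtain ⟨j, hj1, hjp, hcj⟩ := hfaith χ h1 hmχ
      have h := hA j hjp
      have h' := DECOMP.pair_le_sum Finset.univ (fun χ => m χ * c χ j) (Finset.mem_univ χ₁)
        (Finset.mem_univ χ) (Ne.symm h2')
      rw [h, hmχ₁, one_mul, hgal j hj1 hjp, hb] at h'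
      have : 0 < m χ * c χ j := Nat.mul_pos (Nat.pos_of_ne_zero hmχ) (Nat.pos_of_ne_zero hcj)
      omega
    have hnorm : classInner (theta G Ω) (theta G Ω) = 2 := by
      rw [classInner_eq_sum_mul (isClassFunction_of_isCharacter hθ)]
      have : ∀ χ : IrrCharacter G, classInner (theta G Ω) (χ : G → ℂ) *
          conj (classInner (theta G Ω) (χ : G → ℂ)) =
          (if χ = one then 1 else 0) + (if χ = χ₁ then 1 else 0) := by
        intro χ
        rw [hm χ]
        by_cases h1 : χ = one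
        · rw [if_pos h1, if_neg (fun h : χ = χ₁ => hχ₁ne (h.symm.trans h1)), h1, hm1]
          simp
        · by_cases h2' : χ = χ₁
          · rw [if_neg h1, if_pos h2', h2', hmχ₁]
            simp
          · rw [if_neg h1, if_neg h2', hzero χ h1 h2']
            simp
      rw [Finset.sum_congr rfl (fun χ _ => this χ), Finset.sum_add_distrib,
        Finset.sum_ite_eq' Finset.univ one, Finset.sum_ite_eq' Finset.univ χ₁,
        if_pos (Finset.mem_univ _), if_pos (Finset.mem_univ _)]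
      norm_num
    have hrank := Cfsg.Agent.Helper18.inner_permChar_self (G := G) (X := Ω) a₀
    have : Nat.card (MulAction.orbitRel.Quotient (MulAction.stabilizer G a₀) Ω) = 2 := by
      have e : classInner (theta G Ω) (theta G Ω) =
          (Nat.card (MulAction.orbitRel.Quotient (MulAction.stabilizer G a₀) Ω) : ℂ) := hrank
      rw [hnorm] at e
      exact_mod_cast e.symm
    exact two_trans_of_rank_two a₀ this
  have hb1 : c χ₁ 1 = 1 := by omega
  have hcall : ∀ j : ℕ, j < p → c χ₁ j = 1 := by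
    intro j hj
    rcases Nat.eq_zero_or_pos j with h0 | h0
    · rw [h0]; exact hcχ₁0
    · rw [hgal j h0 hj, hb1]
  -- the remaining constituents
  let F : Finset (IrrCharacter G) :=
    Finset.univ.filter fun χ => m χ ≠ 0 ∧ χ ≠ one ∧ χ ≠ χ₁
  have hFm : ∀ χ ∈ F, m χ = 1 := by
    intro χ hχ
    obtain ⟨-, hmχ, h1, h2'⟩ := Finset.mem_filter.mp hχ
    obtain ⟨j, hj1, hjp, hcj⟩ := hfaith χ h1 hmχ
    have h := hA j hjp
    have h' := DECOMP.pair_le_sum Finset.univ (fun χ => m χ * c χ j) (Finset.mem_univ χ₁)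
      (Finset.mem_univ χ) (Ne.symm h2')
    rw [h, hmχ₁, one_mul, hcall j hjp] at h'
    have h3 : m χ * c χ j ≤ 1 := by omega
    have h4 : m χ ≤ m χ * c χ j := Nat.le_mul_of_pos_right _ (Nat.pos_of_ne_zero hcj)
    omega
  have hFc : ∀ χ ∈ F, c χ 0 = 0 := by
    intro χ hχ
    obtain ⟨-, hmχ, h1, h2'⟩ := Finset.mem_filter.mp hχ
    rcases Nat.mul_eq_zero.mp (hoth χ h1 h2') with h | h
    · exact absurd h hmχ
    · exact h
  refine ⟨(χ₁ : G → ℂ), F.image Subtype.val, ?_⟩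
  refine
    { irr₁ := χ₁.2
      irrY := ?_
      ne_one₁ := hχ₁fn
      one_notMem := ?_
      chi_notMem := ?_
      deg₁ := ?_
      vanish₁ := ?_
      c0Y := ?_
      theta_eq := ?_ }
  · intro ψ hψ
    obtain ⟨χ, -, rfl⟩ := Finset.mem_image.mp hψ
    exact χ.2
  · intro h
    obtain ⟨χ, hχ, hχe⟩ := Finset.mem_image.mp h
    obtain ⟨-, -, h1, -⟩ := Finset.mem_filter.mp hχ
    exact h1 (Subtype.ext hχe)
  · intro h
    obtain ⟨χ, hχ, hχe⟩ := Finset.mem_image.mp h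
    obtain ⟨-, -, -, h2'⟩ := Finset.mem_filter.mp hχ
    exact h2' (Subtype.ext hχe)
  · have h := hc χ₁ 0
    rw [pow_zero] at h
    rw [h]
    have : ∀ j ∈ Finset.range p, (c χ₁ j : ℂ) * ω ^ (j * 0) = 1 := by
      intro j hj
      rw [hcall j (Finset.mem_range.mp hj), mul_zero, pow_zero, Nat.cast_one, one_mul]
    rw [Finset.sum_congr rfl this, Finset.sum_const, Finset.card_range, nsmul_eq_mul, mul_one]
  · intro k hk
    rw [hc χ₁ k]
    have : ∀ j ∈ Finset.range p, (c χ₁ j : ℂ) * ω ^ (j * k) = (ω ^ k) ^ j := by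
      intro j hj
      rw [hcall j (Finset.mem_range.mp hj), Nat.cast_one, one_mul, mul_comm, pow_mul]
    rw [Finset.sum_congr rfl this]
    apply DECOMP.geom_zero'
    · rw [← pow_mul, mul_comm, pow_mul, hω.pow_eq_one, one_pow]
    · intro h
      exact hk ((hω.pow_eq_one_iff_dvd k).mp h)
  · intro ψ hψ
    obtain ⟨χ, hχ, rfl⟩ := Finset.mem_image.mp hψ
    rw [DECOMP.sum_pow_eq p hppos ω hω (c χ) (fun k => (χ : G → ℂ) (π ^ k)) (fun k => hc χ k),
      hFc χ hχ, Nat.cast_zero, mul_zero]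
  · have key : ∀ χ : IrrCharacter G, classInner (theta G Ω) (χ : G → ℂ) • (χ : G → ℂ) =
        (if χ = one then (χ : G → ℂ) else 0) + (if χ = χ₁ then (χ : G → ℂ) else 0) +
          (if χ ∈ F then (χ : G → ℂ) else 0) := by
      intro χ
      rw [hm χ]
      by_cases h1 : χ = one
      · have hnF : χ ∉ F := fun h => (Finset.mem_filter.mp h).2.2.1 h1
        rw [if_pos h1, if_neg (fun h : χ = χ₁ => hχ₁ne (h.symm.trans h1)), if_neg hnF, h1, hm1]
        simp
      · by_cases h2' : χ = χ₁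
        · have hnF : χ ∉ F := fun h => (Finset.mem_filter.mp h).2.2.2 h2'
          rw [if_neg h1, if_pos h2', if_neg hnF, h2', hmχ₁]
          simp
        · by_cases h3 : m χ = 0
          · have hnF : χ ∉ F := fun h => (Finset.mem_filter.mp h).2.1 h3
            rw [if_neg h1, if_neg h2', if_neg hnF, h3]
            simp
          · have hF : χ ∈ F := Finset.mem_filter.mpr ⟨Finset.mem_univ _, h3, h1, h2'⟩
            rw [if_neg h1, if_neg h2', if_pos hF, hFm χ hF]
            simp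
    rw [hdec, Finset.sum_congr rfl (fun χ _ => key χ), Finset.sum_add_distrib,
      Finset.sum_add_distrib, Finset.sum_ite_eq' Finset.univ one,
      Finset.sum_ite_eq' Finset.univ χ₁, if_pos (Finset.mem_univ _), if_pos (Finset.mem_univ _),
      ← Finset.sum_filter]
    funext g
    rw [Finset.sum_image (fun x _ y _ h => Subtype.ext h)]
    simp only [Pi.add_apply, Finset.sum_apply, Finset.filter_mem_eq_inter, Finset.univ_inter]
    rfl


end Cfsg.Agent.Helper22.W2P
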