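import Mathlib
import Cfsg.Agent.Lib.Helper22.W2PDefs
import Cfsg.Agent.Lib.Helper22.W2PDecomp
import Cfsg.Agent.Lib.Helper1.W2PRK3
import Cfsg.Agent.Lib.Helper15.W2PDEG4
import Cfsg.Agent.Lib.Helper15.W2PKSUMK
import Cfsg.Agent.Lib.Helper16.W2PSYL
import Cfsg.Agent.Lib.Helper19.W2PP5
import Cfsg.Agent.Lib.Helper20.W2PKER
import Cfsg.Agent.Lib.Helper20.W2PSPLIT
import Cfsg.Agent.Lib.Helper23.W2PKSUM
import Cfsg.Agent.Lib.Helper25.W2PARITH
import Cfsg.Agent.Lib.Helper3.W2PEIGEN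
import Cfsg.Agent.Lib.Helper7.W2PREPS
import Cfsg.Agent.Lib.Helper27.W2PYCASES
import Cfsg.Agent.Lib.Helper24.W2PMULT
import Cfsg.Agent.Lib.Helper2.W2PVFORM
import Cfsg.Agent.Lib.Helper5.W2PPRIMNE
import Cfsg.Agent.Lib.Helper28.W2PPAIRK

/-!
# S0720 assembly (helper22)
-/

set_option autoImplicit false

namespace Cfsg.Agent.Helper22.W2P

open Cfsg Cfsg.Agent.Helper22.PermCent Cfsg.Agent.Helper24

open scoped ComplexConjugate

universe u v

variable {G : Type u} [Group G] [Fintype G] {Ω : Type v} [Fintype Ω] [DecidableEq Ω]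
  [MulAction G Ω]

namespace Asm

variable {p : ℕ} [Fact p.Prime] {π : G} {χ₁ ψ ψ' : G → ℂ}

/-- a rational algebraic integer is an integer -/
theorem int_of_integral_rat (q : ℚ) (hq : IsIntegral ℤ (q : ℂ)) : ∃ z : ℤ, q = z := by
  have h1 : IsIntegral ℤ q := by
    have : (algebraMap ℚ ℂ) q = (q : ℂ) := rfl
    rw [← this] at hq
    exact (isIntegral_algebraMap_iff (algebraMap ℚ ℂ).injective).mp hq
  obtain ⟨z, hz⟩ := IsIntegrallyClosed.isIntegral_iff.mp h1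
  exact ⟨z, by rw [← hz]; simp⟩

theorem K_stab_inv {χ : G → ℂ} (hχ : IsClassFunction G χ) (a₀ : Ω) (g : G) (hg : g • a₀ = a₀)
    (y : Ω) : K χ a₀ (g • y) = K χ a₀ y := by
  conv_lhs => rw [← hg]
  exact K_smul hχ g a₀ y

theorem K_stab_inv' {χ : G → ℂ} (hχ : IsClassFunction G χ) (a₀ : Ω) (g : G) (hg : g • a₀ = a₀)
    (y : Ω) : K χ (g • y) a₀ = K χ y a₀ := by
  conv_lhs => rw [← hg]
  exact K_smul hχ g y a₀

section V

variable (C : Ctx2 Ω p π χ₁ ψ ψ') (hΩ : Fintype.card Ω = 2 * p) (a₀ : Ω) (b : Fin 3 → Ω)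
  (hb0 : ∀ i, b i ≠ a₀) (hbne : ∀ i j, i ≠ j → b i ∉ sub G a₀ (b j))
  (hball : ∀ y : Ω, y = a₀ ∨ ∃ i, y ∈ sub G a₀ (b i))

include C hΩ in
theorem p_ne_zero : (p : ℂ) ≠ 0 := by
  have := (Fact.out : p.Prime).pos
  exact_mod_cast this.ne'

include C hΩ in
theorem card_ne_zero : (Fintype.card Ω : ℂ) ≠ 0 := by
  rw [hΩ]
  have := (Fact.out : p.Prime).pos
  push_cast
  exact mul_ne_zero two_ne_zero (by exact_mod_cast this.ne')

theorem n_pos (i : Fin 3) : 0 < Nat.card (sub G a₀ (b i)) := by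
  haveI : Nonempty (sub G a₀ (b i)) := ⟨⟨b i, MulAction.mem_orbit_self _⟩⟩
  exact Nat.card_pos

include C hΩ hb0 in
theorem vform (i : Fin 3) :
    2 * (Nat.card (sub G a₀ (b i)) : ℂ) * K χ₁ a₀ (b i) =
      2 * (kk p π a₀ (b i) : ℂ) - (Nat.card (sub G a₀ (b i)) : ℂ) := by
  simpa using v_formula C hΩ a₀ (b i) (hb0 i) 1

include C hΩ hb0 in
theorem kappa_eq (i : Fin 3) :
    K χ₁ a₀ (b i) = (2 * (kk p π a₀ (b i) : ℂ) - (Nat.card (sub G a₀ (b i)) : ℂ)) /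
      (2 * (Nat.card (sub G a₀ (b i)) : ℂ)) := by
  have h := vform C hΩ a₀ b hb0 i
  have hn : (Nat.card (sub G a₀ (b i)) : ℂ) ≠ 0 := by
    exact_mod_cast (n_pos a₀ b i).ne'
  rw [eq_div_iff (mul_ne_zero two_ne_zero hn), ← h]
  ring

include C hΩ hb0 in
theorem kappa_conj (i : Fin 3) : conj (K χ₁ a₀ (b i)) = K χ₁ a₀ (b i) := by
  rw [kappa_eq C hΩ a₀ b hb0 i]
  simp only [map_div₀, map_sub, map_mul, map_natCast, Complex.conj_ofNat]

include C hΩ hb0 in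
theorem k_pos (i : Fin 3) : 0 < kk p π a₀ (b i) := by
  rcases Nat.eq_zero_or_pos (kk p π a₀ (b i)) with h0 | h0
  · exfalso
    have h := kappa_eq C hΩ a₀ b hb0 i
    have hn : (Nat.card (sub G a₀ (b i)) : ℂ) ≠ 0 := by
      exact_mod_cast (n_pos a₀ b i).ne'
    apply prim_ne C hΩ a₀ (b i) (hb0 i)
    rw [h, h0]
    field_simp
    push_cast
    ring
  · exact h0

include hb0 hbne hball in
theorem split_KK {χ χ' : G → ℂ} (hχ : IsIrrCharacter G χ) (hχ' : IsIrrCharacter G χ') :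
    (if χ = χ' then K χ a₀ a₀ else 0) = K χ a₀ a₀ * K χ' a₀ a₀ +
      ∑ i, (Nat.card (sub G a₀ (b i)) : ℂ) * (K χ a₀ (b i) * conj (K χ' a₀ (b i))) := by
  rw [← K_mul hχ hχ' a₀ a₀]
  have hc := isClassFunction_of_isIrrCharacter hχ
  have hc' := isClassFunction_of_isIrrCharacter hχ'
  rw [split_sum (G := G) a₀ b hb0 hbne hball (fun z => K χ a₀ z * K χ' z a₀)
    (fun g hg y => by
      show K χ a₀ (g • y) * K χ' (g • y) a₀ = K χ a₀ y * K χ' y a₀
      rw [K_stab_inv hc a₀ g hg, K_stab_inv' hc' a₀ g hg])]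
  congr 1
  refine Finset.sum_congr rfl fun i _ => ?_
  rw [K_conj hχ' a₀ (b i)]

include C hΩ in
theorem diag₁ (x : Ω) : K χ₁ x x = 1 / 2 := by
  haveI := C.prim.toIsPretransitive
  obtain ⟨m₁, -, -, -, -⟩ := ctx_mult C hΩ
  rw [K_diag C.irr₁ m₁ x, C.deg₁, hΩ]
  have := p_ne_zero C hΩ
  push_cast
  field_simp

include C hΩ in
theorem diagψ (x : Ω) : K ψ x x = ψ 1 / (2 * p) := by
  haveI := C.prim.toIsPretransitive
  obtain ⟨-, mψ, -, -, -⟩ := ctx_mult C hΩ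
  rw [K_diag C.irrψ mψ x, hΩ]
  push_cast
  ring

include C hΩ in
theorem diagψ' (x : Ω) : K ψ' x x = ψ 1 / (2 * p) := by
  haveI := C.prim.toIsPretransitive
  obtain ⟨-, -, mψ', -, -⟩ := ctx_mult C hΩ
  have hdeg : ψ' 1 = ψ 1 := by
    have h1 := C.degψ
    have h2 := C.degψ'
    have : 2 * ψ' 1 = 2 * ψ 1 := by rw [h1, h2]
    exact mul_left_cancel₀ two_ne_zero this
  rw [K_diag C.irrψ' mψ' x, hΩ, hdeg]
  push_cast
  ring

include C hΩ in
theorem diag_one (x y : Ω) : K (fun _ : G => (1 : ℂ)) x y = 1 / (2 * p) := by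
  haveI := C.prim.toIsPretransitive
  rw [K_one x y, hΩ]
  push_cast
  ring

include C hΩ hb0 hbne hball in
/-- (R1) -/
theorem rel_norm :
    ∑ i, (Nat.card (sub G a₀ (b i)) : ℂ) * (K χ₁ a₀ (b i) * K χ₁ a₀ (b i)) = 1 / 4 := by
  have h := split_KK a₀ b hb0 hbne hball C.irr₁ C.irr₁
  rw [if_pos rfl, diag₁ C hΩ] at h
  have h2 : ∑ i, (Nat.card (sub G a₀ (b i)) : ℂ) * (K χ₁ a₀ (b i) * conj (K χ₁ a₀ (b i))) =
      ∑ i, (Nat.card (sub G a₀ (b i)) : ℂ) * (K χ₁ a₀ (b i) * K χ₁ a₀ (b i)) :=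
    Finset.sum_congr rfl fun i _ => by rw [kappa_conj C hΩ a₀ b hb0 i]
  rw [h2] at h
  linear_combination -h

include C hΩ hb0 hbne hball in
/-- (R2) -/
theorem rel_a :
    ∑ i, (Nat.card (sub G a₀ (b i)) : ℂ) * (K ψ a₀ (b i) - K ψ' a₀ (b i)) = 0 := by
  have hp0 := p_ne_zero C hΩ
  have h1 := split_KK a₀ b hb0 hbne hball C.irrψ (PermCent.isIrrCharacter_one (G := G))
  have h2 := split_KK a₀ b hb0 hbne hball C.irrψ' (PermCent.isIrrCharacter_one (G := G))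
  rw [if_neg C.neψ, diagψ C hΩ, diag_one C hΩ] at h1
  rw [if_neg C.neψ', diagψ' C hΩ, diag_one C hΩ] at h2
  simp only [diag_one C hΩ] at h1 h2
  have e : conj ((1 : ℂ) / (2 * p)) = 1 / (2 * p) := by
    simp only [map_div₀, map_mul, map_natCast, Complex.conj_ofNat, map_one]
  rw [e] at h1 h2
  simp only [mul_sub, Finset.sum_sub_distrib]
  have h1' : ∑ i, (Nat.card (sub G a₀ (b i)) : ℂ) * K ψ a₀ (b i) = - ψ 1 / (2 * p) := by
    have : ∑ i, (Nat.card (sub G a₀ (b i)) : ℂ) * (K ψ a₀ (b i) * (1 / (2 * p))) =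
        (∑ i, (Nat.card (sub G a₀ (b i)) : ℂ) * K ψ a₀ (b i)) * (1 / (2 * p)) := by
      rw [Finset.sum_mul]
      exact Finset.sum_congr rfl fun i _ => by ring
    rw [this] at h1
    field_simp at h1 ⊢
    linear_combination -h1
  have h2' : ∑ i, (Nat.card (sub G a₀ (b i)) : ℂ) * K ψ' a₀ (b i) = - ψ 1 / (2 * p) := by
    have : ∑ i, (Nat.card (sub G a₀ (b i)) : ℂ) * (K ψ' a₀ (b i) * (1 / (2 * p))) =
        (∑ i, (Nat.card (sub G a₀ (b i)) : ℂ) * K ψ' a₀ (b i)) * (1 / (2 * p)) := by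
      rw [Finset.sum_mul]
      exact Finset.sum_congr rfl fun i _ => by ring
    rw [this] at h2
    field_simp at h2 ⊢
    linear_combination -h2
  rw [h1', h2', sub_self]

include C hΩ hb0 hbne hball in
/-- (R3) -/
theorem rel_b :
    ∑ i, (Nat.card (sub G a₀ (b i)) : ℂ) *
      ((K ψ a₀ (b i) - K ψ' a₀ (b i)) * K χ₁ a₀ (b i)) = 0 := by
  have h1 := split_KK a₀ b hb0 hbne hball C.irrψ C.irr₁
  have h2 := split_KK a₀ b hb0 hbne hball C.irrψ' C.irr₁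
  rw [if_neg (Ne.symm C.ne₁ψ), diagψ C hΩ, diag₁ C hΩ] at h1
  rw [if_neg (Ne.symm C.ne₁ψ'), diagψ' C hΩ, diag₁ C hΩ] at h2
  have e1 : ∑ i, (Nat.card (sub G a₀ (b i)) : ℂ) * (K ψ a₀ (b i) * conj (K χ₁ a₀ (b i))) =
      ∑ i, (Nat.card (sub G a₀ (b i)) : ℂ) * (K ψ a₀ (b i) * K χ₁ a₀ (b i)) :=
    Finset.sum_congr rfl fun i _ => by rw [kappa_conj C hΩ a₀ b hb0 i]
  have e2 : ∑ i, (Nat.card (sub G a₀ (b i)) : ℂ) * (K ψ' a₀ (b i) * conj (K χ₁ a₀ (b i))) =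
      ∑ i, (Nat.card (sub G a₀ (b i)) : ℂ) * (K ψ' a₀ (b i) * K χ₁ a₀ (b i)) :=
    Finset.sum_congr rfl fun i _ => by rw [kappa_conj C hΩ a₀ b hb0 i]
  rw [e1] at h1
  rw [e2] at h2
  simp only [sub_mul, mul_sub, Finset.sum_sub_distrib]
  linear_combination h2 - h1

include C hΩ hb0 hbne hball in
/-- (R4) -/
theorem rel_c :
    ∑ i, (Nat.card (sub G a₀ (b i)) : ℂ) *
      ((K ψ a₀ (b i) - K ψ' a₀ (b i)) * conj (K ψ a₀ (b i) - K ψ' a₀ (b i))) = ψ 1 / p := by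
  have hp0 := p_ne_zero C hΩ
  have h1 := split_KK a₀ b hb0 hbne hball C.irrψ C.irrψ
  have h2 := split_KK a₀ b hb0 hbne hball C.irrψ' C.irrψ'
  have h3 := split_KK a₀ b hb0 hbne hball C.irrψ C.irrψ'
  have h4 := split_KK a₀ b hb0 hbne hball C.irrψ' C.irrψ
  rw [if_pos rfl, diagψ C hΩ] at h1
  rw [if_pos rfl, diagψ' C hΩ] at h2
  rw [if_neg C.neψψ', diagψ C hΩ, diagψ' C hΩ] at h3
  rw [if_neg (Ne.symm C.neψψ'), diagψ C hΩ, diagψ' C hΩ] at h4
  simp only [map_sub, sub_mul, mul_sub, Finset.sum_sub_distrib]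
  have : ψ 1 / (p : ℂ) = 2 * (ψ 1 / (2 * p)) := by field_simp
  rw [this]
  linear_combination (-1 : ℂ) * h1 - h2 + h3 + h4

include C hΩ in
open scoped Classical in
theorem ksum4 (x y : Ω) :
    K (fun _ : G => (1 : ℂ)) x y + K χ₁ x y + K ψ x y + K ψ' x y = if x = y then 1 else 0 := by
  have h1 : (fun _ : G => (1 : ℂ)) ∉ ({χ₁, ψ, ψ'} : Finset (G → ℂ)) := by
    simp only [Finset.mem_insert, Finset.mem_singleton, not_or]
    exact ⟨Ne.symm C.ne₁, Ne.symm C.neψ, Ne.symm C.neψ'⟩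
  have h2 : χ₁ ∉ ({ψ, ψ'} : Finset (G → ℂ)) := by
    simp only [Finset.mem_insert, Finset.mem_singleton, not_or]
    exact ⟨C.ne₁ψ, C.ne₁ψ'⟩
  have h3 : ψ ∉ ({ψ'} : Finset (G → ℂ)) := by
    simp only [Finset.mem_singleton]
    exact C.neψψ'
  have key := K_sum (Ω := Ω) ({(fun _ : G => (1 : ℂ)), χ₁, ψ, ψ'} : Finset (G → ℂ))
    (by
      intro χ hχ
      simp only [Finset.mem_insert, Finset.mem_singleton] at hχ
      rcases hχ with rfl | rfl | rfl | rfl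
      · exact PermCent.isIrrCharacter_one
      · exact C.irr₁
      · exact C.irrψ
      · exact C.irrψ')
    (by
      rw [C.theta_eq]
      funext g
      rw [Finset.sum_insert h1, Finset.sum_insert h2, Finset.sum_insert h3,
        Finset.sum_singleton]
      ring) x y
  rw [Finset.sum_insert h1, Finset.sum_insert h2, Finset.sum_insert h3,
    Finset.sum_singleton] at key
  rw [← key]
  ring

include C hΩ hb0 in
theorem AB_sum (i : Fin 3) :
    K ψ a₀ (b i) + K ψ' a₀ (b i) = - (1 / (2 * p)) - K χ₁ a₀ (b i) := by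
  have h := ksum4 C hΩ a₀ (b i)
  rw [if_neg (Ne.symm (hb0 i)), diag_one C hΩ] at h
  linear_combination h

include C hΩ in
theorem eig_int (i : Fin 3) :
    IsIntegral ℤ ((2 * p : ℂ) / ψ 1 * (Nat.card (sub G a₀ (b i)) : ℂ) * K ψ a₀ (b i)) ∧
    IsIntegral ℤ ((2 * p : ℂ) / ψ 1 * (Nat.card (sub G a₀ (b i)) : ℂ) * K ψ' a₀ (b i)) := by
  haveI := C.prim.toIsPretransitive
  obtain ⟨-, mψ, mψ', -, hmf⟩ := ctx_mult C hΩ
  have hdeg : ψ' 1 = ψ 1 := by
    have h1 := C.degψ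
    have h2 := C.degψ'
    have : 2 * ψ' 1 = 2 * ψ 1 := by rw [h1, h2]
    exact mul_left_cancel₀ two_ne_zero this
  have h1 := (eigen_integral hmf C.irrψ mψ a₀ (b i)).1
  have h2 := (eigen_integral hmf C.irrψ' mψ' a₀ (b i)).1
  rw [hΩ] at h1 h2
  rw [hdeg] at h2
  push_cast at h1 h2
  exact ⟨h1, h2⟩

include C in
theorem psi_one_eq (h : ℕ) (hh : 2 * h = p - 1) : ψ 1 = h := by
  have hp1 : 1 ≤ p := (Fact.out : p.Prime).one_lt.le
  have h1 := C.degψ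
  have h2 : ((p - 1 : ℕ) : ℂ) = (p : ℂ) - 1 := by
    rw [Nat.cast_sub hp1, Nat.cast_one]
  rw [← h2, ← hh] at h1
  push_cast at h1
  exact mul_left_cancel₀ two_ne_zero h1

include C hΩ hb0 in
theorem dvd_two_k (h : ℕ) (hh : 2 * h = p - 1) (hp3 : 3 ≤ p) (i : Fin 3) :
    h ∣ 2 * kk p π a₀ (b i) := by
  have hp := (Fact.out : p.Prime)
  have hh0 : 0 < h := by omega
  have hhp : h < p := by omega
  have hψ := psi_one_eq C h hh
  have hp0 := p_ne_zero C hΩ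
  have hhc : (h : ℂ) ≠ 0 := by exact_mod_cast hh0.ne'
  obtain ⟨i1, i2⟩ := eig_int C hΩ a₀ b i
  have hsum := i1.add i2
  have hn : (Nat.card (sub G a₀ (b i)) : ℂ) ≠ 0 := by
    exact_mod_cast (n_pos a₀ b i).ne'
  have hpc : (p : ℂ) = 2 * h + 1 := by
    have : p = 2 * h + 1 := by omega
    exact_mod_cast this
  have e : (2 * p : ℂ) / ψ 1 * (Nat.card (sub G a₀ (b i)) : ℂ) * K ψ a₀ (b i) +
      (2 * p : ℂ) / ψ 1 * (Nat.card (sub G a₀ (b i)) : ℂ) * K ψ' a₀ (b i) =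
      2 * (Nat.card (sub G a₀ (b i)) : ℂ) - ((2 * p * kk p π a₀ (b i) : ℕ) : ℚ) / (h : ℚ) := by
    rw [← mul_add, AB_sum C hΩ a₀ b hb0 i, kappa_eq C hΩ a₀ b hb0 i, hψ]
    push_cast
    field_simp
    rw [hpc]
    ring
  rw [e] at hsum
  have h2 : IsIntegral ℤ (((2 * p * kk p π a₀ (b i) : ℕ) : ℚ) / (h : ℚ) : ℂ) := by
    have h3 : IsIntegral ℤ (2 * (Nat.card (sub G a₀ (b i)) : ℂ)) := by
      have : (2 * (Nat.card (sub G a₀ (b i)) : ℂ)) = ((2 * Nat.card (sub G a₀ (b i)) : ℕ) : ℂ) := by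
        push_cast; ring
      rw [this]
      exact isIntegral_natCast _
    have := h3.sub hsum
    simpa using this
  have h4 : IsIntegral ℤ ((((2 * p * kk p π a₀ (b i) : ℕ) : ℚ) / (h : ℚ) : ℚ) : ℂ) := by
    push_cast
    push_cast at h2
    exact h2
  obtain ⟨z, hz⟩ := int_of_integral_rat _ h4
  have hhq : (h : ℚ) ≠ 0 := by exact_mod_cast hh0.ne'
  rw [div_eq_iff hhq] at hz
  have hz' : ((2 * p * kk p π a₀ (b i) : ℕ) : ℤ) = z * h := by exact_mod_cast hz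
  have hd : (h : ℤ) ∣ ((2 * p * kk p π a₀ (b i) : ℕ) : ℤ) := ⟨z, by rw [hz']; ring⟩
  have hd' : h ∣ 2 * p * kk p π a₀ (b i) := by exact_mod_cast hd
  have hcop : Nat.Coprime h p :=
    (Nat.Coprime.symm ((Nat.Prime.coprime_iff_not_dvd hp).mpr (Nat.not_dvd_of_pos_of_lt hh0 hhp)))
  have : 2 * p * kk p π a₀ (b i) = p * (2 * kk p π a₀ (b i)) := by ring
  rw [this] at hd'
  exact hcop.dvd_of_dvd_mul_left hd'

include C hΩ hb0 hbne hball in
theorem p_eq_five (hp3 : 3 ≤ p) : p = 5 := by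
  have hp := (Fact.out : p.Prime)
  have hodd : p % 2 = 1 := by
    rcases hp.eq_two_or_odd with h2 | h2
    · omega
    · exact h2
  obtain ⟨h, hh⟩ : ∃ h : ℕ, 2 * h = p - 1 := ⟨(p - 1) / 2, by omega⟩
  have hh0 : 0 < h := by omega
  have hψ := psi_one_eq C h hh
  have hp0 := p_ne_zero C hΩ
  have hhc : (h : ℂ) ≠ 0 := by exact_mod_cast hh0.ne'
  have hnc : ∀ i, (Nat.card (sub G a₀ (b i)) : ℂ) ≠ 0 := fun i => by
    exact_mod_cast (n_pos a₀ b i).ne'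
  obtain ⟨hk, hn⟩ := sum_kk C hΩ a₀ b hb0 hbne hball 1
  simp only [one_mul, inv_one, mul_one] at hk
  refine arith p h hp hh hp3 (fun i => Nat.card (sub G a₀ (b i))) (fun i => kk p π a₀ (b i))
    hn hk (fun i => n_pos a₀ b i) (fun i => k_pos C hΩ a₀ b hb0 i)
    (fun i => dvd_two_k C hΩ a₀ b hb0 h hh hp3 i) ?_ ?_
    (fun i => K ψ a₀ (b i) - K ψ' a₀ (b i)) (rel_a C hΩ a₀ b hb0 hbne hball) ?_ ?_ ?_
  · -- norm
    have h1 := rel_norm C hΩ a₀ b hb0 hbne hball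
    have h2 : ∑ i, (((2 * (kk p π a₀ (b i) : ℚ) - (Nat.card (sub G a₀ (b i)) : ℚ)) ^ 2 /
        (Nat.card (sub G a₀ (b i)) : ℚ) : ℚ) : ℂ) = 1 := by
      have : ∀ i, (((2 * (kk p π a₀ (b i) : ℚ) - (Nat.card (sub G a₀ (b i)) : ℚ)) ^ 2 /
          (Nat.card (sub G a₀ (b i)) : ℚ) : ℚ) : ℂ) =
          4 * ((Nat.card (sub G a₀ (b i)) : ℂ) * (K χ₁ a₀ (b i) * K χ₁ a₀ (b i))) := by
        intro i
        rw [kappa_eq C hΩ a₀ b hb0 i]
        have := hnc i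
        push_cast
        field_simp
        ring
      rw [Finset.sum_congr rfl (fun i _ => this i), ← Finset.mul_sum, h1]
      norm_num
    exact_mod_cast h2
  · -- pairing
    intro a b' c hab hac hbc hkk hne
    have hv : K χ₁ a₀ (b a) ≠ 0 := by
      rw [kappa_eq C hΩ a₀ b hb0 a]
      have := hnc a
      intro h0
      rw [div_eq_zero_iff] at h0
      rcases h0 with h0 | h0
      · apply hne
        have : (2 * (kk p π a₀ (b a)) : ℂ) = (Nat.card (sub G a₀ (b a)) : ℂ) := by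
          linear_combination h0
        exact_mod_cast this
      · exact mul_ne_zero two_ne_zero this h0
    obtain ⟨e1, e2⟩ := pair_count C hΩ a₀ b hb0 hbne hball a b' c hab hac hbc hkk hv
    rw [kappa_eq C hΩ a₀ b hb0 a, kappa_eq C hΩ a₀ b hb0 b'] at e1
    rw [kappa_eq C hΩ a₀ b hb0 a, kappa_eq C hΩ a₀ b hb0 c] at e2
    have ha := hnc a
    have hb := hnc b'
    have hc := hnc c
    constructor
    · have : (((2 * (kk p π a₀ (b b') : ℚ) - (Nat.card (sub G a₀ (b b')) : ℚ)) /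
          (Nat.card (sub G a₀ (b b')) : ℚ) : ℚ) : ℂ) =
          ((-((2 * (kk p π a₀ (b a) : ℚ) - (Nat.card (sub G a₀ (b a)) : ℚ)) /
          (Nat.card (sub G a₀ (b a)) : ℚ)) : ℚ) : ℂ) := by
        push_cast
        field_simp at e1 ⊢
        linear_combination e1
      exact_mod_cast this
    · have : (((2 * (kk p π a₀ (b c) : ℚ) - (Nat.card (sub G a₀ (b c)) : ℚ)) /
          (Nat.card (sub G a₀ (b c)) : ℚ) : ℚ) : ℂ) =
          ((-((2 * (kk p π a₀ (b a) : ℚ) - (Nat.card (sub G a₀ (b a)) : ℚ)) /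
          (Nat.card (sub G a₀ (b a)) : ℚ)) : ℚ) : ℂ) := by
        push_cast
        field_simp at e2 ⊢
        linear_combination e2
      exact_mod_cast this
  · -- hDb
    have h1 := rel_b C hΩ a₀ b hb0 hbne hball
    have : ∀ i, (2 * ((kk p π a₀ (b i) : ℕ) : ℂ) - ((Nat.card (sub G a₀ (b i)) : ℕ) : ℂ)) *
        (K ψ a₀ (b i) - K ψ' a₀ (b i)) =
        2 * ((Nat.card (sub G a₀ (b i)) : ℂ) *
          ((K ψ a₀ (b i) - K ψ' a₀ (b i)) * K χ₁ a₀ (b i))) := by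
      intro i
      rw [kappa_eq C hΩ a₀ b hb0 i]
      have := hnc i
      field_simp
    rw [Finset.sum_congr rfl (fun i _ => this i), ← Finset.mul_sum, h1, mul_zero]
  · -- hDc
    have h1 := rel_c C hΩ a₀ b hb0 hbne hball
    rw [hψ] at h1
    exact h1
  · -- hDint
    intro i
    obtain ⟨i1, i2⟩ := eig_int C hΩ a₀ b i
    rw [hψ] at i1 i2
    have := i1.sub i2
    rw [← mul_sub] at this
    exact this

end V

theorem t2_false [FaithfulSMul G Ω] (C : Ctx2 Ω p π χ₁ ψ ψ') (hΩ : Fintype.card Ω = 2 * p)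
    (hodd : p ≠ 2) : False := by
  have hp := (Fact.out : p.Prime)
  have hp3 : 3 ≤ p := by
    have := hp.two_le
    omega
  have hpos : 0 < Fintype.card Ω := by rw [hΩ]; omega
  obtain ⟨a₀⟩ := Fintype.card_pos_iff.mp hpos
  obtain ⟨b, hb0, hbne, hball⟩ := exists_reps C hΩ a₀
  have h5 := p_eq_five C hΩ a₀ b hb0 hbne hball hp3
  obtain ⟨-, mψ, -, -, -⟩ := ctx_mult C hΩ
  have hfaith := ker_trivial C.prim C.irrψ C.neψ (by rw [mψ]; exact one_ne_zero)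
  have hdeg : ψ 1 = 2 := by
    have := C.degψ
    rw [h5] at this
    have h2 : (2 : ℂ) * ψ 1 = 2 * 2 := by rw [this]; norm_num
    exact mul_left_cancel₀ two_ne_zero h2
  exact no_faithful_deg_two C.prim (by rw [hΩ, h5]) (isCharacter_of_isIrrCharacter C.irrψ)
    hdeg hfaith

theorem main [FaithfulSMul G Ω] (hprim : MulAction.IsPreprimitive G Ω) (p : ℕ) [Fact p.Prime]
    (hΩ : Fintype.card Ω = 2 * p) (a₀ : Ω) :
    MulAction.IsMultiplyPretransitive G Ω 2 ∨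
      (Nat.card (MulAction.orbitRel.Quotient (MulAction.stabilizer G a₀) Ω) = 3 ∧
        ∃ a : ℕ, 0 < a ∧ p = 2 * a ^ 2 + 2 * a + 1 ∧ ∀ b : Ω, b ≠ a₀ →
          Nat.card (MulAction.orbit (MulAction.stabilizer G a₀) b) = a * (2 * a + 1) ∨
          Nat.card (MulAction.orbit (MulAction.stabilizer G a₀) b) = (a + 1) * (2 * a + 1)) := by
  classical
  by_cases hp2 : p = 2
  · left
    exact two_trans_of_card_four hprim (by rw [hΩ, hp2])
  by_cases h2 : MulAction.IsMultiplyPretransitive G Ω 2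
  · exact Or.inl h2
  right
  obtain ⟨π, hπ, hfix, hsq⟩ := exists_pi hprim p hp2 hΩ h2
  obtain ⟨χ₁, Y, hD⟩ := decomp_of_pi hprim p hp2 hΩ π hπ hfix h2
  rcases Y_cases hprim p hp2 hΩ π hπ hsq hD with ⟨ψ, rfl, hψ⟩ | ⟨ψ, ψ', hne, rfl, h1, h2'⟩
  · exact rank_three_case hprim p hΩ π hD hψ a₀
  · exfalso
    have hm : ψ ∈ ({ψ, ψ'} : Finset (G → ℂ)) := by simp
    have hm' : ψ' ∈ ({ψ, ψ'} : Finset (G → ℂ)) := by simp
    have C : Ctx2 Ω p π χ₁ ψ ψ' :=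
      { prim := hprim
        ord := hπ
        fpf := hfix
        irr₁ := hD.irr₁
        irrψ := hD.irrY ψ hm
        irrψ' := hD.irrY ψ' hm'
        ne₁ := hD.ne_one₁
        neψ := fun h => hD.one_notMem (h ▸ hm)
        neψ' := fun h => hD.one_notMem (h ▸ hm')
        ne₁ψ := fun h => hD.chi_notMem (h ▸ hm)
        ne₁ψ' := fun h => hD.chi_notMem (h ▸ hm')
        neψψ' := hne
        deg₁ := hD.deg₁
        degψ := h1
        degψ' := h2'
        vanish₁ := hD.vanish₁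
        c0ψ := hD.c0Y ψ hm
        c0ψ' := hD.c0Y ψ' hm'
        theta_eq := by
          rw [hD.theta_eq]
          funext g
          rw [Finset.sum_pair hne]
          ring }
    exact t2_false C hΩ hp2

end Asm

end Cfsg.Agent.Helper22.W2P
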