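import Mathlib

/-!
# S3341 pieces NUM4 + NUM2 (helper22): the integer puzzles from the norm equation
-/

set_option autoImplicit false
set_option linter.unusedVariables false

namespace Cfsg.Agent.Helper16.SSC

namespace NUM

/-- nonzero integers whose squares sum to `m ≤ 3`: all are `±1` and there are `m` of them -/
theorem small_sq_sum {ι : Type*} [DecidableEq ι] (T : Finset ι) (a : ι → ℤ) (m : ℤ) (hm : m ≤ 3)
    (ha : ∀ χ ∈ T, a χ ≠ 0) (hs : ∑ χ ∈ T, a χ ^ 2 = m) :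
    (T.card : ℤ) = m ∧ ∀ χ ∈ T, a χ = 1 ∨ a χ = -1 := by
  have hall : ∀ χ ∈ T, a χ = 1 ∨ a χ = -1 := by
    intro χ hχ
    by_contra hne
    push Not at hne
    have h0 := ha χ hχ
    have h4 : 4 ≤ a χ ^ 2 := by
      have hc : a χ ≤ -2 ∨ 2 ≤ a χ := by
        obtain ⟨h1, h2⟩ := hne
        omega
      rcases hc with h | h <;> nlinarith
    have hsplit := Finset.add_sum_erase T (fun χ => a χ ^ 2) hχ
    have hnn2 : 0 ≤ ∑ x ∈ T.erase χ, a x ^ 2 := Finset.sum_nonneg (fun _ _ => sq_nonneg _)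
    linarith
  refine ⟨?_, hall⟩
  have h1 : ∀ χ ∈ T, a χ ^ 2 = 1 := by
    intro χ hχ
    rcases hall χ hχ with h | h <;> rw [h] <;> norm_num
  rw [← hs, Finset.sum_congr rfl h1]
  simp

end NUM

/-- PIECE NUM4 -/
theorem num_four {ι : Type*} [DecidableEq ι] (Xs Y : Finset ι) (one : ι) (a : ι → ℤ) (dd δ : ℤ)
    (hδ : δ = 1 ∨ δ = -1) (h1 : one ∈ Xs) (ha1 : a one = 1) (ha : ∀ χ ∈ Xs, a χ ≠ 0)
    (hX : Xs.card ≤ 4) (hY : Y.card * 4 = 8)
    (hnorm : (dd - δ) ^ 2 + ((Y.card : ℤ) - 1) * dd ^ 2 + ∑ χ ∈ Xs, a χ ^ 2 = 5) :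
    (dd = 0 ∨ dd = δ) ∧ Xs.card = 4 ∧ Y.card = 2 ∧ ∀ χ ∈ Xs, a χ = 1 ∨ a χ = -1 := by
  have hYc : Y.card = 2 := by omega
  have hone : (Xs.erase one).card + 1 = Xs.card := Finset.card_erase_add_one h1
  have hsum : ∑ χ ∈ Xs, a χ ^ 2 = 1 + ∑ χ ∈ Xs.erase one, a χ ^ 2 := by
    rw [← Finset.add_sum_erase Xs _ h1, ha1]
    norm_num
  have hTmem : ∀ χ ∈ Xs.erase one, χ ∈ Xs := fun χ h => Finset.mem_of_mem_erase h
  have hTnn : 0 ≤ ∑ χ ∈ Xs.erase one, a χ ^ 2 := Finset.sum_nonneg (fun χ _ => sq_nonneg _)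
  rw [hsum, hYc] at hnorm
  push_cast at hnorm
  have hdd : dd = 0 ∨ dd = δ := by
    rcases hδ with rfl | rfl
    · have hc : dd ≤ -1 ∨ dd = 0 ∨ dd = 1 ∨ 2 ≤ dd := by omega
      rcases hc with h | h | h | h
      · exfalso; nlinarith
      · left; exact h
      · right; exact h
      · exfalso; nlinarith
    · have hc : dd ≤ -2 ∨ dd = -1 ∨ dd = 0 ∨ 1 ≤ dd := by omega
      rcases hc with h | h | h | h
      · exfalso; nlinarith
      · right; exact h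
      · left; exact h
      · exfalso; nlinarith
  have hT3 : ∑ χ ∈ Xs.erase one, a χ ^ 2 = 3 := by
    rcases hdd with h | h
    · rw [h] at hnorm
      rcases hδ with h' | h' <;> rw [h'] at hnorm <;> linarith
    · rw [h] at hnorm
      rcases hδ with h' | h' <;> rw [h'] at hnorm <;> linarith
  obtain ⟨hc, hall⟩ := NUM.small_sq_sum (Xs.erase one) a 3 le_rfl
    (fun χ h => ha χ (hTmem χ h)) hT3
  refine ⟨hdd, by omega, hYc, ?_⟩
  intro χ hχ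
  by_cases hχ1 : χ = one
  · left; rw [hχ1, ha1]
  · exact hall χ (Finset.mem_erase.mpr ⟨hχ1, hχ⟩)

/-- PIECE NUM2 -/
theorem num_two {ι : Type*} [DecidableEq ι] (Xs Y : Finset ι) (one : ι) (a : ι → ℤ) (dd δ : ℤ)
    (hδ : δ = 1 ∨ δ = -1) (h1 : one ∈ Xs) (ha1 : a one = 1) (ha : ∀ χ ∈ Xs, a χ ≠ 0)
    (hX : Xs.card ≤ 2) (hY : Y.card * 2 = 8)
    (hnorm : (dd - δ) ^ 2 + ((Y.card : ℤ) - 1) * dd ^ 2 + ∑ χ ∈ Xs, a χ ^ 2 = 3) :
    dd = 0 ∧ Xs.card = 2 ∧ Y.card = 4 ∧ ∀ χ ∈ Xs, a χ = 1 ∨ a χ = -1 := by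
  have hYc : Y.card = 4 := by omega
  have hone : (Xs.erase one).card + 1 = Xs.card := Finset.card_erase_add_one h1
  have hsum : ∑ χ ∈ Xs, a χ ^ 2 = 1 + ∑ χ ∈ Xs.erase one, a χ ^ 2 := by
    rw [← Finset.add_sum_erase Xs _ h1, ha1]
    norm_num
  have hTmem : ∀ χ ∈ Xs.erase one, χ ∈ Xs := fun χ h => Finset.mem_of_mem_erase h
  have hTnn : 0 ≤ ∑ χ ∈ Xs.erase one, a χ ^ 2 := Finset.sum_nonneg (fun χ _ => sq_nonneg _)
  rw [hsum, hYc] at hnorm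
  push_cast at hnorm
  have hdd : dd = 0 := by
    rcases hδ with rfl | rfl
    · have hc : dd ≤ -1 ∨ dd = 0 ∨ 1 ≤ dd := by omega
      rcases hc with h | h | h
      · exfalso; nlinarith
      · exact h
      · exfalso; nlinarith
    · have hc : dd ≤ -1 ∨ dd = 0 ∨ 1 ≤ dd := by omega
      rcases hc with h | h | h
      · exfalso; nlinarith
      · exact h
      · exfalso; nlinarith
  have hT1 : ∑ χ ∈ Xs.erase one, a χ ^ 2 = 1 := by
    rw [hdd] at hnorm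
    rcases hδ with h' | h' <;> rw [h'] at hnorm <;> linarith
  obtain ⟨hc, hall⟩ := NUM.small_sq_sum (Xs.erase one) a 1 (by norm_num)
    (fun χ h => ha χ (hTmem χ h)) hT1
  refine ⟨hdd, by omega, hYc, ?_⟩
  intro χ hχ
  by_cases hχ1 : χ = one
  · left; rw [hχ1, ha1]
  · exact hall χ (Finset.mem_erase.mpr ⟨hχ1, hχ⟩)

end Cfsg.Agent.Helper16.SSC
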