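import Mathlib
import Cfsg.Prelude.Def_Blocks
import Cfsg.Agent.Lib.Helper24.CharAlgebra

/-!
# S3341 piece RES (helper22): a character constant `= a` on `P^#` (`|P| = 9`) has degree `≡ a mod 9`
-/

set_option autoImplicit false
set_option linter.style.haveILetI false

namespace Cfsg.Agent.Helper16.SSC

open Cfsg Cfsg.Agent.Helper24
open scoped ComplexConjugate

universe u

section Chr

variable {G : Type u} [Group G] [Finite G] (P : Sylow 3 G)

/-- PIECE RES: a character constant `= a` on `P^#` has degree `≡ a mod 9`. -/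
theorem restrict_cong (hcard : Nat.card (P : Subgroup G) = 9) (χ : IrrCharacter G) (a : ℤ)
    (hval : ∀ w : (P : Subgroup G), w ≠ 1 → (χ : G → ℂ) (w : G) = (a : ℂ)) :
    ∃ k : ℕ, (charDegree (χ : G → ℂ) : ℤ) + 8 * a = 9 * k := by
  classical
  letI : Fintype (P : Subgroup G) := Fintype.ofFinite _
  letI : Fintype (IrrCharacter (P : Subgroup G)) := irrFintype
  obtain ⟨k, hk⟩ := classInner_char_nat
    (isCharacter_restrict (P : Subgroup G) (isCharacter_of_isIrrCharacter χ.2))
    (isCharacter_one (G := (P : Subgroup G)))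
  refine ⟨k, ?_⟩
  unfold classInner at hk
  simp only [map_one, mul_one] at hk
  have hsum : ∑ z : (P : Subgroup G), (χ : G → ℂ) z = (charDegree (χ : G → ℂ) : ℂ) + 8 * a := by
    rw [← Finset.add_sum_erase Finset.univ _ (Finset.mem_univ (1 : (P : Subgroup G)))]
    rw [Finset.sum_congr rfl (fun w hw => hval w (Finset.ne_of_mem_erase hw))]
    rw [Finset.sum_const, Finset.card_erase_of_mem (Finset.mem_univ _), Finset.card_univ,
      ← Nat.card_eq_fintype_card, hcard]
    rw [Subgroup.coe_one, irr_one_eq_charDegree χ.2]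
    simp
  rw [hsum, hcard] at hk
  have h9 : ((charDegree (χ : G → ℂ) : ℂ) + 8 * a) = 9 * k := by
    have h9' : ((9 : ℕ) : ℂ) ≠ 0 := by norm_num
    field_simp at hk
    push_cast at hk
    linear_combination hk
  exact_mod_cast h9

end Chr

end Cfsg.Agent.Helper16.SSC
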