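import Mathlib

/-!
# S4394 (Sylow subgroups of Schmidt groups force p-length one): definitions
-/

set_option autoImplicit false

namespace Cfsg.Agent.Helper22.SchPL

/-- Abstract "Schmidt action" on a `p`-group `P`: an automorphism `α` of prime order `q ≠ p`
fixing pointwise every proper `α`-invariant subgroup. -/
structure SchAct (p q : ℕ) (P : Type*) [Group P] (α : MulAut P) : Prop where
  hq : q.Prime
  hqp : q ≠ p
  pow_eq : α ^ q = 1
  ne_one : α ≠ 1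
  fix : ∀ H : Subgroup P, H ≠ ⊤ → (∀ h ∈ H, α h ∈ H) → ∀ h ∈ H, α h = h

/-- Semi-extraspecial data for an abstract group `Q` (class two, Camina, `Q/Z(Q)` of exponent `p`),
plus two facts for order `p ^ 3`. -/
structure SEData (p : ℕ) (Q : Type*) [Group Q] : Prop where
  nonab : ∃ a b : Q, a * b ≠ b * a
  comm_mem : ∀ a b : Q, a * b * a⁻¹ * b⁻¹ ∈ Subgroup.center Q
  camina : ∀ u : Q, u ∉ Subgroup.center Q → ∀ z ∈ Subgroup.center Q,
    ∃ v : Q, u * v * u⁻¹ * v⁻¹ = z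
  pow_mem : ∀ v : Q, v ^ p ∈ Subgroup.center Q
  small3 : Nat.card Q = p ^ 3 → p ≠ 3
  small2 : Nat.card Q = p ^ 3 → p = 2 → ∀ H : Subgroup Q, H.index = 2 → IsCyclic H

/-- The same data for a subgroup `Q` of an ambient group `G`, with `Z` playing the role of `Z(Q)`. -/
structure SESub {G : Type*} [Group G] (p : ℕ) (Q Z : Subgroup G) : Prop where
  le : Z ≤ Q
  central : ∀ z ∈ Z, ∀ a ∈ Q, z * a = a * z
  nonab : ∃ a ∈ Q, ∃ b ∈ Q, a * b ≠ b * a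
  comm_mem : ∀ a ∈ Q, ∀ b ∈ Q, a * b * a⁻¹ * b⁻¹ ∈ Z
  camina : ∀ u ∈ Q, u ∉ Z → ∀ z ∈ Z, ∃ v ∈ Q, u * v * u⁻¹ * v⁻¹ = z
  pow_mem : ∀ a ∈ Q, a ^ p ∈ Z
  small3 : Nat.card Q = p ^ 3 → p ≠ 3
  small2 : Nat.card Q = p ^ 3 → p = 2 →
    ∀ H : Subgroup G, H ≤ Q → H.relIndex Q = 2 → IsCyclic H

end Cfsg.Agent.Helper22.SchPL
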