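import Mathlib

/-! AO-CENT (S2262, helper17's farm-out): a scalar matrix in `GL` is central. -/

set_option autoImplicit false

namespace Cfsg.Agent.Helper17.AO

open Polynomial Matrix

section mat
variable {F : Type*} [Field F] {n : ℕ}

/-- AO-CENT -/
theorem mem_center_of_scalar (h : GL (Fin n) F) (c : F)
    (hc : (h : Matrix (Fin n) (Fin n) F) = c • (1 : Matrix (Fin n) (Fin n) F)) :
    h ∈ Subgroup.center (GL (Fin n) F) := by
  rw [Subgroup.mem_center_iff]
  intro g
  apply Units.ext
  rw [Units.val_mul, Units.val_mul, hc, smul_mul_assoc, mul_smul_comm, one_mul, mul_one]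

end mat

end Cfsg.Agent.Helper17.AO
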