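import Mathlib
import Cfsg.Prelude.Def_Characters
import Cfsg.Prelude.Def_Blocks
import Cfsg.Agent.Lib.Helper25.D11J5

/-!
# S0679 piece DT (helper22 for helper27)

A 2-transitive group of degree 11 containing a double transposition contains `A₁₁`.

The supports of the conjugates of the double transposition form a 2-design of 4-subsets; counting
flags gives `12 |F| = 110 λ`, and if no two members met in exactly three points then `λ ≤ 4`,
which is impossible.  Two double transpositions whose supports meet in exactly three points have a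
product which is a 3-cycle or a 5-cycle, and Jordan's theorem (piece J5) applies.
-/

set_option autoImplicit false
set_option linter.unusedSectionVars false
set_option linter.unusedVariables false

namespace Cfsg.Agent.Helper27.D11

open Cfsg Equiv MulAction

universe u

variable {α : Type u} [Fintype α] [DecidableEq α]

namespace DT

/-- basic data of a double transposition -/
theorem basic {t : Perm α} (ht : t.cycleType = {2, 2}) :
    t * t = 1 ∧ t.support.card = 4 ∧ Perm.sign t = 1 := by
  refine ⟨?_, ?_, ?_⟩
  · have h : orderOf t = 2 := by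
      rw [← Perm.lcm_cycleType, ht]; rfl
    rw [← pow_two, ← h]; exact pow_orderOf_eq_one t
  · rw [← Perm.sum_cycleType, ht]; rfl
  · rw [Perm.sign_of_cycleType, ht]; rfl

/-- the possible cycle types of an even permutation moving at most five points whose square is
not the identity -/
theorem cycleType_of_small {u : Perm α} (hs : u.support.card ≤ 5) (hsign : Perm.sign u = 1)
    (hu : u * u ≠ 1) : u.cycleType = {3} ∨ u.cycleType = {5} := by
  have hsum : u.cycleType.sum ≤ 5 := by rw [Perm.sum_cycleType]; exact hs
  have h2 : ∀ n ∈ u.cycleType, 2 ≤ n := fun n hn => Perm.two_le_of_mem_cycleType hn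
  have hev : Even (u.cycleType.sum + Multiset.card u.cycleType) := by
    rw [Perm.sign_of_cycleType] at hsign
    exact (neg_one_pow_eq_one_iff_even (by decide)).1 hsign
  have hord : ¬ orderOf u ∣ 2 := by
    intro h
    apply hu
    rw [← pow_two]
    exact orderOf_dvd_iff_pow_eq_one.1 h
  rw [← Perm.lcm_cycleType] at hord
  have hcard : Multiset.card u.cycleType * 2 ≤ u.cycleType.sum := by
    have := Multiset.card_nsmul_le_sum h2
    simpa [smul_eq_mul] using this
  generalize u.cycleType = m at *
  have hc3 : Multiset.card m ≤ 2 := by omega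
  rcases Nat.lt_or_ge (Multiset.card m) 1 with h0 | h1
  · have : m = 0 := Multiset.card_eq_zero.1 (by omega)
    subst this
    exact absurd (by simp) hord
  rcases Nat.lt_or_ge (Multiset.card m) 2 with h1' | h2'
  · obtain ⟨a, rfl⟩ := Multiset.card_eq_one.1 (by omega : Multiset.card m = 1)
    have ha2 : 2 ≤ a := h2 a (by simp)
    have ha5 : a ≤ 5 := by simpa using hsum
    have hae : Even (a + 1) := by simpa using hev
    interval_cases a
    · exact absurd hae (by decide)
    · left; rfl
    · exact absurd hae (by decide)
    · right; rfl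
  · obtain ⟨a, b, rfl⟩ := Multiset.card_eq_two.1 (by omega : Multiset.card m = 2)
    have ha2 : 2 ≤ a := h2 a (by simp)
    have hb2 : 2 ≤ b := h2 b (by simp)
    have hab : a + b ≤ 5 := by simpa using hsum
    have hae : Even (a + b + 2) := by simpa using hev
    have ha3 : a ≤ 3 := by omega
    have hb3 : b ≤ 3 := by omega
    interval_cases a <;> interval_cases b
    · exact absurd (by decide) hord
    · exact absurd hae (by decide)
    · exact absurd hae (by decide)
    · omega

/-- The product of two double transpositions whose supports meet in exactly three points is a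
3-cycle or a 5-cycle. -/
theorem cycleType_mul {t t' : Perm α} (ht : t.cycleType = {2, 2}) (ht' : t'.cycleType = {2, 2})
    (h3 : (t.support ∩ t'.support).card = 3) :
    (t * t').cycleType = {3} ∨ (t * t').cycleType = {5} := by
  obtain ⟨htt, hts, htsg⟩ := basic ht
  obtain ⟨htt', hts', htsg'⟩ := basic ht'
  apply cycleType_of_small
  · have h1 : (t * t').support ⊆ t.support ∪ t'.support := Perm.support_mul_le t t'
    have h2 := Finset.card_le_card h1
    have h3' := Finset.card_union_add_card_inter t.support t'.support
    omega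
  · rw [map_mul, htsg, htsg']; rfl
  · intro hu
    -- `t` and `t'` commute
    have hcomm : t * t' = t' * t := by
      have e1 : t' * t = (t * t') * (t * t') * (t' * t) := by rw [hu, one_mul]
      have e2 : (t * t') * (t * t') * (t' * t) = t * t' * (t * (t' * t') * t) := by group
      rw [e1, e2, htt', mul_one, htt, mul_one]
    -- the point of `supp t'` outside `supp t`
    have hcard : (t'.support \ t.support).card = 1 := by
      have := Finset.card_sdiff_add_card_inter t'.support t.support
      rw [Finset.inter_comm] at this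
      omega
    obtain ⟨e, he⟩ := Finset.card_eq_one.1 hcard
    have hemem : e ∈ t'.support \ t.support := by rw [he]; exact Finset.mem_singleton_self e
    rw [Finset.mem_sdiff] at hemem
    have h1 : t' e ∈ t'.support := Perm.apply_mem_support.2 hemem.1
    have h2 : t' e ∉ t.support := by
      rw [Perm.mem_support, not_not]
      have h3 : t e = e := by
        have := hemem.2
        rwa [Perm.mem_support, not_not] at this
      calc t (t' e) = (t * t') e := rfl
        _ = (t' * t) e := by rw [hcomm]
        _ = t' (t e) := rfl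
        _ = t' e := by rw [h3]
    have h3 : t' e ∈ t'.support \ t.support := Finset.mem_sdiff.2 ⟨h1, h2⟩
    rw [he, Finset.mem_singleton] at h3
    exact (Perm.mem_support.1 hemem.1) h3

open Classical in
/-- The family of the supports of the conjugates of `g` under `G`. -/
noncomputable def fam (G : Subgroup (Perm α)) (g : Perm α) : Finset (Finset α) :=
  Finset.univ.filter (fun B => ∃ h ∈ G, B = g.support.map (h : Perm α).toEmbedding)

theorem mem_fam {G : Subgroup (Perm α)} {g : Perm α} {B : Finset α} :
    B ∈ fam G g ↔ ∃ h ∈ G, B = g.support.map (h : Perm α).toEmbedding := by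
  classical
  simp [fam]

theorem support_mem_fam (G : Subgroup (Perm α)) (g : Perm α) : g.support ∈ fam G g := by
  rw [mem_fam]
  refine ⟨1, G.one_mem, ?_⟩
  ext x
  simp only [Finset.mem_map, Equiv.coe_toEmbedding, Perm.coe_one, id_eq, exists_eq_right]

theorem map_mem_fam {G : Subgroup (Perm α)} {g : Perm α} {B : Finset α} (hB : B ∈ fam G g)
    {k : Perm α} (hk : k ∈ G) : B.map k.toEmbedding ∈ fam G g := by
  rw [mem_fam] at hB ⊢
  obtain ⟨h, hh, rfl⟩ := hB
  refine ⟨k * h, G.mul_mem hk hh, ?_⟩
  rw [Finset.map_map]
  congr 1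

theorem exists_of_mem_fam {G : Subgroup (Perm α)} {g : Perm α} (hg : g ∈ G)
    (hc : g.cycleType = {2, 2}) {B : Finset α} (hB : B ∈ fam G g) :
    ∃ t ∈ G, t.cycleType = {2, 2} ∧ t.support = B := by
  rw [mem_fam] at hB
  obtain ⟨h, hh, rfl⟩ := hB
  exact ⟨h * g * h⁻¹, G.mul_mem (G.mul_mem hh hg) (G.inv_mem hh), by rw [Perm.cycleType_conj, hc],
    Perm.support_conj⟩

theorem card_of_mem_fam {G : Subgroup (Perm α)} {g : Perm α}
    (hc : g.cycleType = {2, 2}) {B : Finset α} (hB : B ∈ fam G g) : B.card = 4 := by
  rw [mem_fam] at hB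
  obtain ⟨h, hh, rfl⟩ := hB
  rw [Finset.card_map]
  exact (basic hc).2.1

/-- the number of members of the family through two points -/
noncomputable def lam (G : Subgroup (Perm α)) (g : Perm α) (x y : α) : ℕ :=
  ((fam G g).filter (fun B => x ∈ B ∧ y ∈ B)).card

theorem lam_le {G : Subgroup (Perm α)} {g : Perm α} {k : Perm α} (hk : k ∈ G) (x y : α) :
    lam G g x y ≤ lam G g (k x) (k y) := by
  unfold lam
  apply Finset.card_le_card_of_injOn (fun B => B.map k.toEmbedding)
  · intro B hB
    rw [Finset.mem_coe, Finset.mem_filter] at hB ⊢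
    refine ⟨map_mem_fam hB.1 hk, ?_, ?_⟩
    · exact Finset.mem_map.2 ⟨x, hB.2.1, rfl⟩
    · exact Finset.mem_map.2 ⟨y, hB.2.2, rfl⟩
  · intro B _ B' _ h
    exact Finset.map_injective _ h

theorem lam_eq {G : Subgroup (Perm α)} (h2 : IsMultiplyPretransitive G α 2) {g : Perm α}
    {x y x' y' : α} (hxy : x ≠ y) (hxy' : x' ≠ y') : lam G g x y = lam G g x' y' := by
  rw [is_two_pretransitive_iff] at h2
  apply le_antisymm
  · obtain ⟨k, hk1, hk2⟩ := h2 hxy hxy'
    have := lam_le (g := g) k.2 x y
    have e1 : (k : Perm α) x = x' := hk1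
    have e2 : (k : Perm α) y = y' := hk2
    rwa [e1, e2] at this
  · obtain ⟨k, hk1, hk2⟩ := h2 hxy' hxy
    have := lam_le (g := g) k.2 x' y'
    have e1 : (k : Perm α) x' = x := hk1
    have e2 : (k : Perm α) y' = y := hk2
    rwa [e1, e2] at this

/-- double counting of flags -/
theorem double_count (F : Finset (Finset α)) (hF : ∀ B ∈ F, B.card = 4) :
    12 * F.card = ∑ p ∈ (Finset.univ : Finset α).offDiag,
      (F.filter (fun B => p.1 ∈ B ∧ p.2 ∈ B)).card := by
  have h := Finset.sum_card_bipartiteAbove_eq_sum_card_bipartiteBelow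
    (fun (B : Finset α) (p : α × α) => p.1 ∈ B ∧ p.2 ∈ B) (s := F)
    (t := (Finset.univ : Finset α).offDiag)
  have h1 : ∀ B ∈ F, (Finset.bipartiteAbove (fun (B : Finset α) (p : α × α) => p.1 ∈ B ∧ p.2 ∈ B)
      (Finset.univ : Finset α).offDiag B).card = 12 := by
    intro B hB
    have : Finset.bipartiteAbove (fun (B : Finset α) (p : α × α) => p.1 ∈ B ∧ p.2 ∈ B)
        (Finset.univ : Finset α).offDiag B = B.offDiag := by
      ext p
      simp only [Finset.bipartiteAbove, Finset.mem_filter, Finset.mem_offDiag, Finset.mem_univ,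
        true_and]
      tauto
    rw [this, Finset.offDiag_card, hF B hB]
  rw [Finset.sum_congr rfl h1, Finset.sum_const, smul_eq_mul] at h
  rw [mul_comm, h]
  rfl

/-- There are two members of the family meeting in exactly three points. -/
theorem exists_pair (hα : Fintype.card α = 11) (G : Subgroup (Perm α))
    (h2 : IsMultiplyPretransitive G α 2) {g : Perm α} (hc : g.cycleType = {2, 2}) :
    ∃ B ∈ fam G g, ∃ B' ∈ fam G g, (B ∩ B').card = 3 := by
  by_contra hno
  push Not at hno
  have hcard : g.support.card = 4 := (basic hc).2.1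
  obtain ⟨x₀, hx₀, y₀, hy₀, hxy⟩ := Finset.one_lt_card.1 (by omega : 1 < g.support.card)
  -- the flag count
  have hconst : ∀ p ∈ (Finset.univ : Finset α).offDiag,
      ((fam G g).filter (fun B => p.1 ∈ B ∧ p.2 ∈ B)).card = lam G g x₀ y₀ := by
    intro p hp
    rw [Finset.mem_offDiag] at hp
    exact lam_eq h2 hp.2.2 hxy
  have hdc : 12 * (fam G g).card = 110 * lam G g x₀ y₀ := by
    rw [double_count (fam G g) (fun B hB => card_of_mem_fam hc hB),
      Finset.sum_congr rfl hconst, Finset.sum_const, smul_eq_mul, Finset.offDiag_card,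
      Finset.card_univ, hα]
  -- `λ ≥ 1`
  have hl1 : 1 ≤ lam G g x₀ y₀ := by
    unfold lam
    apply Finset.card_pos.2
    exact ⟨g.support, Finset.mem_filter.2 ⟨support_mem_fam G g, hx₀, hy₀⟩⟩
  -- `λ ≤ 4`
  have hl4 : 2 * lam G g x₀ y₀ ≤ 9 := by
    have hdisj : ((↑((fam G g).filter (fun B => x₀ ∈ B ∧ y₀ ∈ B)) : Set (Finset α))).PairwiseDisjoint
        (fun B => B \ {x₀, y₀}) := by
      intro B hB B' hB' hne
      rw [Finset.mem_coe, Finset.mem_filter] at hB hB'
      rw [Function.onFun, Finset.disjoint_left]
      intro z hz hz'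
      rw [Finset.mem_sdiff, Finset.mem_insert, Finset.mem_singleton, not_or] at hz hz'
      apply hno B hB.1 B' hB'.1
      have hsub : ({x₀, y₀, z} : Finset α) ⊆ B ∩ B' := by
        intro w hw
        rw [Finset.mem_insert, Finset.mem_insert, Finset.mem_singleton] at hw
        rw [Finset.mem_inter]
        rcases hw with rfl | rfl | rfl
        · exact ⟨hB.2.1, hB'.2.1⟩
        · exact ⟨hB.2.2, hB'.2.2⟩
        · exact ⟨hz.1, hz'.1⟩
      have h3 : ({x₀, y₀, z} : Finset α).card = 3 := by
        rw [Finset.card_insert_of_notMem, Finset.card_insert_of_notMem, Finset.card_singleton]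
        · rw [Finset.mem_singleton]; exact fun h => hz.2.2 h.symm
        · rw [Finset.mem_insert, Finset.mem_singleton, not_or]
          exact ⟨hxy, fun h => hz.2.1 h.symm⟩
      have hle := Finset.card_le_card hsub
      have hB4 := card_of_mem_fam hc hB.1
      have hB4' := card_of_mem_fam hc hB'.1
      have hle' : (B ∩ B').card ≤ 4 := by
        rw [← hB4]; exact Finset.card_le_card Finset.inter_subset_left
      rcases Nat.lt_or_ge (B ∩ B').card 4 with h | h
      · omega
      · exfalso
        apply hne
        have e1 : B ∩ B' = B :=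
          Finset.eq_of_subset_of_card_le Finset.inter_subset_left (by omega)
        have e2 : B ∩ B' = B' :=
          Finset.eq_of_subset_of_card_le Finset.inter_subset_right (by omega)
        rw [← e1, e2]
    have hbi := Finset.card_biUnion hdisj
    have hsz : ∀ B ∈ (fam G g).filter (fun B => x₀ ∈ B ∧ y₀ ∈ B), (B \ {x₀, y₀}).card = 2 := by
      intro B hB
      rw [Finset.mem_filter] at hB
      have hsub : ({x₀, y₀} : Finset α) ⊆ B := by
        intro w hw
        rw [Finset.mem_insert, Finset.mem_singleton] at hw
        rcases hw with rfl | rfl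
        · exact hB.2.1
        · exact hB.2.2
      rw [Finset.card_sdiff_of_subset hsub, card_of_mem_fam hc hB.1, Finset.card_pair hxy]
    rw [Finset.sum_congr rfl hsz, Finset.sum_const, smul_eq_mul] at hbi
    have hsub : ((fam G g).filter (fun B => x₀ ∈ B ∧ y₀ ∈ B)).biUnion (fun B => B \ {x₀, y₀}) ⊆
        Finset.univ \ {x₀, y₀} := by
      intro w hw
      rw [Finset.mem_biUnion] at hw
      obtain ⟨B, _, hw⟩ := hw
      rw [Finset.mem_sdiff] at hw ⊢
      exact ⟨Finset.mem_univ _, hw.2⟩
    have hle := Finset.card_le_card hsub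
    rw [Finset.card_sdiff_of_subset (Finset.subset_univ _), Finset.card_univ, hα,
      Finset.card_pair hxy, hbi] at hle
    unfold lam
    omega
  omega

end DT

/-- PIECE DT. -/
theorem alt_le_of_double_transposition (hα : Fintype.card α = 11) (G : Subgroup (Perm α))
    (h2 : IsMultiplyPretransitive G α 2) {g : Perm α} (hg : g ∈ G) (hc : g.cycleType = {2, 2}) :
    alternatingGroup α ≤ G := by
  obtain ⟨B, hB, B', hB', h3⟩ := DT.exists_pair hα G h2 hc
  obtain ⟨t, htG, htc, hts⟩ := DT.exists_of_mem_fam hg hc hB
  obtain ⟨t', htG', htc', hts'⟩ := DT.exists_of_mem_fam hg hc hB'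
  have htr : IsPretransitive G α := @isPretransitive_of_is_two_pretransitive _ _ _ _ h2
  rcases DT.cycleType_mul htc htc' (by rw [hts, hts']; exact h3) with h | h
  · exact J5.alt_le_of_prime_cycle hα G (G.mul_mem htG htG') (by norm_num) (by norm_num) h
  · exact J5.alt_le_of_prime_cycle hα G (G.mul_mem htG htG') (by norm_num) (by norm_num) h

end Cfsg.Agent.Helper27.D11
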