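import Mathlib
import Cfsg.Agent.Lib.Helper18.InvC2Defs
import Cfsg.Agent.Lib.Helper19.InvC2MOVE
import Cfsg.Agent.Lib.Helper19.InvC2PERM
import Cfsg.Agent.Lib.Helper12.InvC2UP

/-!
# INVN piece C2-CHAIN (helper22, for helper18): soundness of the chain checker
-/

set_option autoImplicit false
set_option linter.unusedSectionVars false
set_option linter.unusedVariables false

namespace Cfsg.Agent.Helper13.InvN

open Cfsg Cfsg.Lie Cfsg.Agent.Lead.Chev

variable {F : Type*} [Field F] [CharP F 2] {D : ChevalleyDatum} (hF : ChevFacts D F)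
include hF

/-- the side condition of the `up`/`down` steps, unfolded -/
theorem c2chain_rest (FD : FuseData) (rest : List ℕ)
    (h : rest.all (fun r => decide (r < D.nroots) && FD.gs.all fun g => evenComm D g r) = true) :
    ∀ r ∈ rest, r < D.nroots ∧ ∀ g ∈ FD.gs, evenComm D g r = true := by
  intro r hr
  rw [List.all_eq_true] at h
  have h1 := h r hr
  rw [Bool.and_eq_true, decide_eq_true_eq, List.all_eq_true] at h1
  exact ⟨h1.1, h1.2⟩

theorem c2Step_sound (Ws : List ℕ)
    (hWs : ∀ i < D.rank, ∀ v < D.nroots, unpack8 (Ws.getD i 0) v = D.reflectRoot i v)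
    (FD : FuseData) (h : fuseChk D FD = true) (L L' : List ℕ) (s : C2Step)
    (hs : c2Step D Ws FD L s = some L') : CJ D F (xprod hF L) (xprod hF L') := by
  cases s with
  | move c =>
    simp only [c2Step] at hs
    split_ifs at hs with hcond
    rw [Bool.and_eq_true, List.all_eq_true, List.all_eq_true] at hcond
    have hc : ∀ i ∈ c, i < D.rank := fun i hi => of_decide_eq_true (hcond.1 i hi)
    have hL : ∀ r ∈ L, r < D.nroots := fun r hr => of_decide_eq_true (hcond.2 r hr)
    have hL' : L.map (reflWordP Ws c) = L' := Option.some.inj hs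
    have hmap : L.map (reflWordP Ws c) = L.map (reflWord D c) :=
      List.map_congr_left fun r hr => reflWordP_eq D (etaOf D) hF.facts Ws hWs c hc r (hL r hr)
    rw [← hL', hmap]
    exact cj_move hF c hc L hL
  | perm L'' =>
    simp only [c2Step] at hs
    split_ifs at hs with hcond
    rw [Bool.and_eq_true, Bool.and_eq_true, decide_eq_true_eq, decide_eq_true_eq,
      List.all_eq_true] at hcond
    have hL' : L'' = L' := Option.some.inj hs
    rw [← hL']
    apply CJ.of_eq
    apply xprod_perm hF L L'' hcond.1.1
    · intro r hr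
      exact of_decide_eq_true (hcond.1.2 r hr)
    · exact hcond.2
  | up =>
    simp only [c2Step] at hs
    split_ifs at hs with hcond
    rw [Bool.and_eq_true] at hcond
    have hL' : FD.q' ++ L.drop FD.q.length = L' := Option.some.inj hs
    have hpre : FD.q <+: L := List.isPrefixOf_iff_prefix.mp hcond.1
    have hL : L = FD.q ++ L.drop FD.q.length := by
      obtain ⟨t, ht⟩ := hpre
      rw [← ht, List.drop_left]
    rw [← hL']
    conv_lhs => rw [hL]
    exact cj_up hF FD h _ (c2chain_rest hF FD _ hcond.2)
  | down =>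
    simp only [c2Step] at hs
    split_ifs at hs with hcond
    rw [Bool.and_eq_true] at hcond
    have hL' : FD.q ++ L.drop FD.q'.length = L' := Option.some.inj hs
    have hpre : FD.q' <+: L := List.isPrefixOf_iff_prefix.mp hcond.1
    have hL : L = FD.q' ++ L.drop FD.q'.length := by
      obtain ⟨t, ht⟩ := hpre
      rw [← ht, List.drop_left]
    rw [← hL']
    conv_lhs => rw [hL]
    exact (cj_up hF FD h _ (c2chain_rest hF FD _ hcond.2)).symm

theorem c2Run_sound (Ws : List ℕ)
    (hWs : ∀ i < D.rank, ∀ v < D.nroots, unpack8 (Ws.getD i 0) v = D.reflectRoot i v)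
    (FD : FuseData) (h : fuseChk D FD = true) (L L' : List ℕ) (ss : List C2Step)
    (hs : c2Run D Ws FD L ss = some L') : CJ D F (xprod hF L) (xprod hF L') := by
  induction ss generalizing L with
  | nil =>
    unfold c2Run at hs
    have : L = L' := Option.some.inj hs
    rw [this]
    exact CJ.refl _
  | cons s ss ih =>
    unfold c2Run at hs
    cases hstep : c2Step D Ws FD L s with
    | none =>
      rw [hstep] at hs
      exact absurd hs (by simp)
    | some L1 =>
      rw [hstep] at hs
      exact (c2Step_sound hF Ws hWs FD h L L1 s hstep).trans (ih L1 hs)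

theorem frameRootsP_eq (Ws : List ℕ)
    (hWs : ∀ i < D.rank, ∀ v < D.nroots, unpack8 (Ws.getD i 0) v = D.reflectRoot i v)
    (S : Frame) (hS : frameValid D S = true) : frameRootsP D Ws S = frameRoots D S := by
  unfold frameValid at hS
  rw [List.all_eq_true] at hS
  unfold frameRootsP frameRoots
  apply List.map_congr_left
  intro e he
  have h1 := hS e he
  rw [Bool.and_eq_true, List.all_eq_true, decide_eq_true_eq] at h1
  unfold froot
  exact reflWordP_eq D (etaOf D) hF.facts Ws hWs e.1 (fun i hi => of_decide_eq_true (h1.1 i hi))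
    (D.simple e.2) (hF.simple_lt e.2 h1.2)

theorem c2Tab_sound (Ws : List ℕ)
    (hWs : ∀ i < D.rank, ∀ v < D.nroots, unpack8 (Ws.getD i 0) v = D.reflectRoot i v)
    (FD : FuseData) (h : fuseChk D FD = true) (frames : List Frame)
    (reps : List (List ℕ)) (tab : List (List C2Step × ℕ))
    (ht : c2TabChk D Ws FD frames reps tab = true) :
    ∀ S ∈ frames, S = [] ∨ ∃ rep ∈ reps, CJ D F (xprod hF (frameRoots D S)) (xprod hF rep) := by
  unfold c2TabChk at ht
  rw [Bool.and_eq_true, decide_eq_true_eq, List.all_eq_true] at ht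
  obtain ⟨hlen, hall⟩ := ht
  intro S hS
  obtain ⟨i, hi, rfl⟩ := List.mem_iff_getElem.mp hS
  have hi' : i < tab.length := hlen ▸ hi
  have hmem : (frames[i], tab[i]) ∈ frames.zip tab := by
    have hz : i < (frames.zip tab).length := by
      rw [List.length_zip]
      exact lt_min hi hi'
    have := List.getElem_mem hz
    rwa [List.getElem_zip] at this
  have h1 := hall _ hmem
  rw [Bool.or_eq_true] at h1
  rcases h1 with h1 | h1
  · left
    exact List.isEmpty_iff.mp h1
  · right
    rw [Bool.and_eq_true, Bool.and_eq_true, decide_eq_true_eq, decide_eq_true_eq] at h1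
    obtain ⟨⟨hval, hk⟩, hrun⟩ := h1
    rw [frameRootsP_eq hF Ws hWs _ hval] at hrun
    refine ⟨reps.getD (tab[i]).2 [], ?_, c2Run_sound hF Ws hWs FD h _ _ _ hrun⟩
    rw [List.getD_eq_getElem _ _ hk]
    exact List.getElem_mem hk

end Cfsg.Agent.Helper13.InvN
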