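import Mathlib
import Cfsg.Agent.Lib.Helper18.LevDefs

/-!
# S2522 (Lev) PIECE LEV-STEP3, core: `step3_core`

`step_three` with its dependencies (`exists_e`, `exists_phi3`, `childX_ne_zero`, `childY_ne_zero`,
`child_bad_unique3`) taken as hypotheses in the exact form of `plans/S2522_Skel.lean.txt`.
-/

set_option autoImplicit false
set_option linter.unusedSectionVars false
set_option linter.unusedVariables false

namespace Cfsg.Agent.Helper18.Lev

open Module

universe u v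

section step3
variable {K : Type u} [Field K] {V : Type v} [AddCommGroup V] [Module K V]

/-- since `rank (g - 1) ≥ 2`, some `(g - 1) v` lies outside the line `K u`. -/
theorem step3_exists_v [FiniteDimensional K V] (g : V →ₗ[K] V)
    (hr : 2 ≤ finrank K (LinearMap.range (g - LinearMap.id))) (u : V) :
    ∃ v : V, g v - v ∉ Submodule.span K {u} := by
  by_contra hcon
  have hall : ∀ v : V, g v - v ∈ Submodule.span K {u} := by
    intro v
    by_contra hv
    exact hcon ⟨v, hv⟩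
  have hle : LinearMap.range (g - LinearMap.id) ≤ Submodule.span K {u} := by
    rintro _ ⟨v, rfl⟩
    simpa using hall v
  have h1 : finrank K (LinearMap.range (g - LinearMap.id)) ≤ finrank K (Submodule.span K {u}) :=
    Submodule.finrank_mono hle
  have h2 : finrank K (Submodule.span K {u}) ≤ 1 := by
    have := finrank_span_le_card (R := K) ({u} : Set V)
    simpa using this
  omega

/-- PIECE LEV-STEP3, core version. -/
theorem step3_core (hK : 4 ≤ Cardinal.mk K) [FiniteDimensional K V] (h3 : finrank K V = 3)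
    (g : V →ₗ[K] V) (hdet : LinearMap.det g = 1) (hH : HH g)
    (x0 : V) (hx0 : x0 ≠ 0) (y0 : V →ₗ[K] K) (hy0 : y0 ≠ 0)
    -- LEV-ECHOICE
    (hE : ∃ e : V, LinearIndependent K ![e, g e - e] ∧ y0 e ≠ 0 ∧
      x0 ∉ Submodule.span K {g e - e} ∧
      (finrank K (LinearMap.range (g - LinearMap.id)) < finrank K V →
        e ∉ LinearMap.range (g - LinearMap.id)))
    -- LEV-PHI (1)
    (hPhi : ∀ (e u : V), LinearIndependent K ![e, u] → ∀ (z1 z2 : V),
      z1 ∉ Submodule.span K {u} → z2 ∉ Submodule.span K {u} → ∀ (φs : V →ₗ[K] K),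
      ∃ φ : V →ₗ[K] K, φ e = 1 ∧ φ u = 0 ∧ φ z1 ≠ 0 ∧ φ z2 ≠ 0 ∧ φ ≠ φs)
    -- LEV-CHILDA (1), (2)
    (hX : ∀ (e : V) (φ : V →ₗ[K] K), φ e = 1 → φ (g e) = 1 →
      LinearIndependent K ![e, g e - e] → childX g e φ ≠ 0)
    (hY : ∀ (e : V) (φ : V →ₗ[K] K), φ e = 1 → φ (g e) = 1 → ∀ v : V, φ (g v - v) ≠ 0 →
      childY g φ ≠ 0)
    -- LEV-BAD3
    (hBad : ∀ (e : V), LinearIndependent K ![e, g e - e] →
      (finrank K (LinearMap.range (g - LinearMap.id)) < 3 →
        e ∉ LinearMap.range (g - LinearMap.id)) →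
      ∀ (φ φ' : V →ₗ[K] K), φ e = 1 → φ (g e) = 1 → φ' e = 1 → φ' (g e) = 1 →
      ¬ HH (child g e φ) → ¬ HH (child g e φ') → φ = φ') :
    ∃ (e : V) (φ : V →ₗ[K] K), φ e = 1 ∧ φ (g e) = 1 ∧ φ x0 ≠ 0 ∧ y0 e ≠ 0 ∧
      childX g e φ ≠ 0 ∧ childY g φ ≠ 0 ∧ HH (child g e φ) := by
  classical
  obtain ⟨e, hind, hy0e, hx0u, hIe⟩ := hE
  have hr : 2 ≤ finrank K (LinearMap.range (g - LinearMap.id)) := hH.2
  obtain ⟨v, hv⟩ := step3_exists_v g hr (g e - e)
  -- the (at most one) bad functional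
  let φs : V →ₗ[K] K :=
    if h : ∃ ψ : V →ₗ[K] K, ψ e = 1 ∧ ψ (g e) = 1 ∧ ¬ HH (child g e ψ) then h.choose else 0
  obtain ⟨φ, he, hu, hz1, hz2, hne⟩ := hPhi e (g e - e) hind x0 (g v - v) hx0u hv φs
  have hge : φ (g e) = 1 := by
    have : g e = (g e - e) + e := by abel
    rw [this, map_add, hu, he, zero_add]
  refine ⟨e, φ, he, hge, hz1, hy0e, hX e φ he hge hind, hY e φ he hge v hz2, ?_⟩
  by_contra hbad
  have hex : ∃ ψ : V →ₗ[K] K, ψ e = 1 ∧ ψ (g e) = 1 ∧ ¬ HH (child g e ψ) := ⟨φ, he, hge, hbad⟩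
  have hφs : φs = hex.choose := by
    simp only [φs]
    rw [dif_pos hex]
  obtain ⟨he', hge', hbad'⟩ := hex.choose_spec
  apply hne
  rw [hφs]
  refine hBad e hind ?_ φ hex.choose he hge he' hge' hbad hbad'
  intro hlt
  apply hIe
  rw [h3]
  exact hlt

end step3

end Cfsg.Agent.Helper18.Lev
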