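import Mathlib
import Cfsg.Agent.Lib.Helper18.LevDefs
import Cfsg.Agent.Lib.Helper22.LEVSTEP3Core
import Cfsg.Agent.Lib.Helper1.LEVPHI
import Cfsg.Agent.Lib.Helper4.LEVECHOICE
import Cfsg.Agent.Lib.Helper25.LEVCHILDA

/-!
# S2522 (Lev) PIECE LEV-STEP3: `step3_of_bad3`

`step_three` with only `child_bad_unique3` (PIECE LEV-BAD3) left as a hypothesis; the other
dependencies (`exists_e`, `exists_phi3`, `childX_ne_zero`, `childY_ne_zero`) are the landed pieces.
-/

set_option autoImplicit false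
set_option linter.unusedSectionVars false
set_option linter.unusedVariables false

namespace Cfsg.Agent.Helper18.Lev

open Module

universe u v

section step3
variable {K : Type u} [Field K] {V : Type v} [AddCommGroup V] [Module K V]

/-- `step_three` modulo PIECE LEV-BAD3 (given for this `g`). -/
theorem step3_of_bad3 (hK : 4 ≤ Cardinal.mk K) [FiniteDimensional K V] (h3 : finrank K V = 3)
    (g : V →ₗ[K] V) (hdet : LinearMap.det g = 1) (hH : HH g)
    (x0 : V) (hx0 : x0 ≠ 0) (y0 : V →ₗ[K] K) (hy0 : y0 ≠ 0)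
    (hBad : ∀ (e : V), LinearIndependent K ![e, g e - e] →
      (finrank K (LinearMap.range (g - LinearMap.id)) < 3 →
        e ∉ LinearMap.range (g - LinearMap.id)) →
      ∀ (φ φ' : V →ₗ[K] K), φ e = 1 → φ (g e) = 1 → φ' e = 1 → φ' (g e) = 1 →
      ¬ HH (child g e φ) → ¬ HH (child g e φ') → φ = φ') :
    ∃ (e : V) (φ : V →ₗ[K] K), φ e = 1 ∧ φ (g e) = 1 ∧ φ x0 ≠ 0 ∧ y0 e ≠ 0 ∧
      childX g e φ ≠ 0 ∧ childY g φ ≠ 0 ∧ HH (child g e φ) :=
  step3_core hK h3 g hdet hH x0 hx0 y0 hy0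
    (exists_e hK g hH x0 hx0 y0 hy0)
    (fun e u hind z1 z2 hz1 hz2 φs => exists_phi3 hK (by omega) e u hind z1 z2 hz1 hz2 φs)
    (fun e φ he hge hind => childX_ne_zero g e φ he hge hind)
    (fun e φ he hge v hv => childY_ne_zero g e φ he hge v hv)
    hBad

end step3

end Cfsg.Agent.Helper18.Lev
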