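import Mathlib
import Cfsg.Agent.Lib.Helper21.PGroupFrattini

/-!
# S4118 piece FRATIDX (helper22): a finite 2-group with a cyclic subgroup of index at most 2 has a Frattini
quotient of order at most 4
-/

set_option autoImplicit false

namespace Cfsg.Agent.Helper2.TIH

namespace FRATIDX

/-- in a group of exponent two, integer powers of `q` are `1` or `q` -/
theorem zpow_eq_one_or_self {Q : Type*} [Group Q] (hsq : ∀ q : Q, q ^ 2 = 1) (q : Q) (k : ℤ) :
    q ^ k = 1 ∨ q ^ k = q := by
  obtain ⟨m, rfl | rfl⟩ := Int.even_or_odd' k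
  · left
    rw [zpow_mul, zpow_ofNat, hsq, one_zpow]
  · right
    rw [zpow_add, zpow_mul, zpow_ofNat, hsq, one_zpow, one_mul, zpow_one]

end FRATIDX

theorem frattini_index_le_four {R : Type*} [Group R] [Finite R] (hR : IsPGroup 2 R) (A : Subgroup R)
    (hA : IsCyclic A) (hidx : A.index ≤ 2) : ∃ r : ℕ, r ≤ 2 ∧ (frattini R).index = 2 ^ r := by
  have : Fact (Nat.Prime 2) := ⟨Nat.prime_two⟩
  obtain ⟨r, hr⟩ := hR.index (frattini R)
  refine ⟨r, ?_, hr⟩
  have hcard : (frattini R).index ≤ 4 := by
    obtain ⟨g, hg⟩ := hA.exists_generator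
    obtain ⟨y, hy⟩ : ∃ y : R, ∀ x : R, x ∈ A ∨ x * y ∈ A := by
      have h0 : A.index ≠ 0 := Subgroup.index_ne_zero_of_finite
      have h12 : A.index = 1 ∨ A.index = 2 := by omega
      rcases h12 with h1 | h2
      · rw [Subgroup.index_eq_one] at h1
        exact ⟨1, fun x => Or.inl (h1 ▸ Subgroup.mem_top x)⟩
      · obtain ⟨a, ha⟩ := Subgroup.index_eq_two_iff.mp h2
        refine ⟨a, fun x => ?_⟩
        rcases ha x with h | h
        · exact Or.inr h.1
        · exact Or.inl h.1
    have hsq : ∀ q : R ⧸ frattini R, q ^ 2 = 1 := by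
      intro q
      induction q using QuotientGroup.induction_on with
      | H x =>
        rw [← QuotientGroup.mk_pow, QuotientGroup.eq_one_iff]
        exact Cfsg.Agent.Helper21.pow_mem_frattini_of_isPGroup hR x
    let f : Fin 2 × Fin 2 → R ⧸ frattini R := fun ij =>
      (QuotientGroup.mk (g : R)) ^ (ij.1 : ℕ) * (QuotientGroup.mk y⁻¹) ^ (ij.2 : ℕ)
    have hsurj : Function.Surjective f := by
      intro q
      induction q using QuotientGroup.induction_on with
      | H x =>
        rcases hy x with hx | hx
        · obtain ⟨k, hk⟩ := Subgroup.mem_zpowers_iff.mp (hg ⟨x, hx⟩)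
          have hk' : ((g : R)) ^ k = x := by
            have := congrArg (fun z : A => (z : R)) hk
            simpa using this
          have hq : (QuotientGroup.mk x : R ⧸ frattini R) = (QuotientGroup.mk (g : R)) ^ k := by
            rw [← hk', QuotientGroup.mk_zpow]
          rcases FRATIDX.zpow_eq_one_or_self hsq (QuotientGroup.mk (g : R)) k with h | h
          · exact ⟨(0, 0), by simp [f, hq, h]⟩
          · exact ⟨(1, 0), by simp [f, hq, h]⟩
        · obtain ⟨k, hk⟩ := Subgroup.mem_zpowers_iff.mp (hg ⟨x * y, hx⟩)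
          have hk' : ((g : R)) ^ k = x * y := by
            have := congrArg (fun z : A => (z : R)) hk
            simpa using this
          have hq : (QuotientGroup.mk x : R ⧸ frattini R) =
              (QuotientGroup.mk (g : R)) ^ k * QuotientGroup.mk y⁻¹ := by
            rw [← QuotientGroup.mk_zpow, ← QuotientGroup.mk_mul, hk']
            congr 1
            group
          rcases FRATIDX.zpow_eq_one_or_self hsq (QuotientGroup.mk (g : R)) k with h | h
          · exact ⟨(0, 1), by simp [f, hq, h]⟩
          · exact ⟨(1, 1), by simp [f, hq, h]⟩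
    have hle := Nat.card_le_card_of_surjective f hsurj
    have h4 : Nat.card (Fin 2 × Fin 2) = 4 := by simp
    rw [h4] at hle
    exact hle
  rw [hr] at hcard
  by_contra hlt
  push Not at hlt
  have h8 : 2 ^ 3 ≤ 2 ^ r := Nat.pow_le_pow_right (by norm_num) hlt
  omega

end Cfsg.Agent.Helper2.TIH
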