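import Mathlib
import Cfsg.Agent.S4208
import Cfsg.Agent.Lib.Helper22.TIHFRATIDX
import Cfsg.Agent.Lib.Helper26.TIHORD2A3

/-!
# S4118 piece AUT2 (helper22): the automorphism group of a 2-group with a cyclic subgroup of index at most 2
is solvable
-/

set_option autoImplicit false

namespace Cfsg.Agent.Helper2.TIH

theorem mulAut_solvable_of_cyclic_index_two {R : Type*} [Group R] [Finite R] (hR : IsPGroup 2 R)
    (A : Subgroup R) (hA : IsCyclic A) (hidx : A.index ≤ 2) : Group.IsSolvable (MulAut R) := by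
  have : Fact (Nat.Prime 2) := ⟨Nat.prime_two⟩
  obtain ⟨r, hr2, hr⟩ := frattini_index_le_four hR A hA hidx
  obtain ⟨n, hn⟩ := hR.exists_card_eq
  have hdvd := Cfsg.Agent.S4208.result hn hr
  have hprod : (∏ i ∈ Finset.range r, (2 ^ r - 2 ^ i)) ∣ 2 * 3 := by
    interval_cases r <;> simp [Finset.prod_range_succ]
  refine solvable_of_card_dvd (r * (n - r) + 1) (hdvd.trans ?_)
  rw [pow_succ, mul_assoc]
  exact Nat.mul_dvd_mul_left _ hprod

end Cfsg.Agent.Helper2.TIH
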