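import Mathlib

/-!
# S4118 piece AUTCYC (helper22): the automorphism group of a cyclic group is solvable
-/

set_option autoImplicit false

namespace Cfsg.Agent.Helper2.TIH

theorem mulAut_solvable_of_isCyclic {R : Type*} [Group R] [Finite R] [IsCyclic R] :
    Group.IsSolvable (MulAut R) :=
  Group.isSolvable_of_isSolvable_injective (f := (IsCyclic.mulAutMulEquiv R).toMonoidHom)
    (IsCyclic.mulAutMulEquiv R).injective

end Cfsg.Agent.Helper2.TIH
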