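import Mathlib

/-!
# Groups with exactly two conjugacy classes of maximal subgroups: definitions and basic facts
-/

set_option autoImplicit false
open Pointwise

namespace Cfsg.Agent.Helper22.TwoMax

variable {G : Type*} [Group G]

/-- `M₁`, `M₂` represent the two (distinct) conjugacy classes of maximal subgroups of `G`. -/
structure TwoCls (M₁ M₂ : Subgroup G) : Prop where
  h1 : IsCoatom M₁
  h2 : IsCoatom M₂
  hne : ∀ g : G, M₂ ≠ MulAut.conj g • M₁
  hall : ∀ M : Subgroup G, IsCoatom M →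
    ∃ g : G, M = MulAut.conj g • M₁ ∨ M = MulAut.conj g • M₂

theorem TwoCls.symm {M₁ M₂ : Subgroup G} (h : TwoCls M₁ M₂) : TwoCls M₂ M₁ where
  h1 := h.h2
  h2 := h.h1
  hne := by
    intro g hg
    apply h.hne g⁻¹
    rw [hg, smul_smul, ← map_mul, inv_mul_cancel, map_one, one_smul]
  hall := by
    intro M hM
    obtain ⟨g, hg | hg⟩ := h.hall M hM
    · exact ⟨g, Or.inr hg⟩
    · exact ⟨g, Or.inl hg⟩

theorem mem_conj_smul {H : Subgroup G} {g x : G} :
    x ∈ MulAut.conj g • H ↔ g⁻¹ * x * g ∈ H := by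
  rw [Subgroup.mem_pointwise_smul_iff_inv_smul_mem]
  simp [MulAut.smul_def]

theorem index_conj_smul (H : Subgroup G) (g : G) : (MulAut.conj g • H).index = H.index :=
  Subgroup.index_map_of_bijective (MulAut.conj g).bijective H

theorem card_conj_smul (H : Subgroup G) (g : G) :
    Nat.card ↥(MulAut.conj g • H) = Nat.card ↥H :=
  Nat.card_congr ((Subgroup.equivMapOfInjective H _ (MulAut.conj g).injective).symm.toEquiv)

theorem isCoatom_conj_smul {H : Subgroup G} (hH : IsCoatom H) (g : G) :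
    IsCoatom (MulAut.conj g • H) :=
  ((MulEquiv.mapSubgroup (MulAut.conj g)).isCoatom_iff H).2 hH

/-- Every coatom has the index of `M₁` or of `M₂`. -/
theorem TwoCls.index_coatom {M₁ M₂ : Subgroup G} (h : TwoCls M₁ M₂) {L : Subgroup G}
    (hL : IsCoatom L) : L.index = M₁.index ∨ L.index = M₂.index := by
  obtain ⟨g, rfl | rfl⟩ := h.hall L hL
  · exact Or.inl (index_conj_smul _ _)
  · exact Or.inr (index_conj_smul _ _)

theorem TwoCls.ne {M₁ M₂ : Subgroup G} (h : TwoCls M₁ M₂) : M₁ ≠ M₂ := by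
  intro he
  apply h.hne 1
  rw [map_one, one_smul, he]

theorem TwoCls.ne_bot_left {M₁ M₂ : Subgroup G} (h : TwoCls M₁ M₂) : M₁ ≠ ⊥ := by
  intro he
  apply h.ne
  rw [he]
  by_contra hne
  have hlt : (⊥ : Subgroup G) < M₂ := bot_lt_iff_ne_bot.2 (Ne.symm hne)
  exact h.h2.1 ((he ▸ h.h1).2 _ hlt)

theorem TwoCls.ne_bot_right {M₁ M₂ : Subgroup G} (h : TwoCls M₁ M₂) : M₂ ≠ ⊥ :=
  h.symm.ne_bot_left

/-- A normal subgroup contained in some coatom is contained in `M₁` or in `M₂`. -/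
theorem TwoCls.normal_le {M₁ M₂ : Subgroup G} (h : TwoCls M₁ M₂) (N : Subgroup G) [N.Normal]
    {L : Subgroup G} (hL : IsCoatom L) (hNL : N ≤ L) : N ≤ M₁ ∨ N ≤ M₂ := by
  have key : ∀ (g : G) (M : Subgroup G), N ≤ MulAut.conj g • M → N ≤ M := by
    intro g M hle x hx
    have hx' : g * x * g⁻¹ ∈ N := Subgroup.Normal.conj_mem inferInstance x hx g
    have := hle hx'
    rw [mem_conj_smul] at this
    simpa [mul_assoc] using this
  obtain ⟨g, rfl | rfl⟩ := h.hall L hL
  · exact Or.inl (key g _ hNL)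
  · exact Or.inr (key g _ hNL)

end Cfsg.Agent.Helper22.TwoMax
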