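import Mathlib
import Cfsg.Agent.Lib.Lead.NC2Defs

/-!
# S3894 (n = 2) piece N2-DISJ (helper22): an element without eigenvector commutes with no nilpotent `N ≠ 0`,
and every non-scalar element commuting with it has no eigenvector either.
-/

set_option autoImplicit false

namespace Cfsg.Agent.Lead.NC2

open Matrix

variable {F : Type*} [Field F]

theorem nc2_disj_isScalar_iff (x : Matrix (Fin 2) (Fin 2) F) :
    IsScalar x ↔ x 0 1 = 0 ∧ x 1 0 = 0 ∧ x 0 0 = x 1 1 := by
  constructor
  · rintro ⟨c, rfl⟩
    simp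
  · rintro ⟨h1, h2, h3⟩
    refine ⟨x 0 0, ?_⟩
    ext i j
    fin_cases i <;> fin_cases j <;> simp [h1, h2, h3]

theorem nc2_disj_commutant_aux (p q r s a b c d : F) (h11 : q * c = b * r)
    (h12 : p * b + q * d = a * q + b * s) (h21 : r * a + s * c = c * p + d * r)
    (hns : ¬ (q = 0 ∧ r = 0 ∧ p = s)) :
    ∃ α β : F, a = α + β * p ∧ b = β * q ∧ c = β * r ∧ d = α + β * s := by
  by_cases hq : q = 0
  · by_cases hr : r = 0
    · have hps : p - s ≠ 0 := fun h => hns ⟨hq, hr, sub_eq_zero.1 h⟩
      subst hq hr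
      have hb : b = 0 := by
        have : (p - s) * b = 0 := by linear_combination h12
        exact (mul_eq_zero.1 this).resolve_left hps
      have hc : c = 0 := by
        have : (p - s) * c = 0 := by linear_combination -h21
        exact (mul_eq_zero.1 this).resolve_left hps
      refine ⟨a - (a - d) / (p - s) * p, (a - d) / (p - s), by ring, by simp [hb], by simp [hc], ?_⟩
      field_simp
      ring
    · subst hq
      have hb : b = 0 := by
        have : b * r = 0 := by linear_combination -h11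
        exact (mul_eq_zero.1 this).resolve_right hr
      refine ⟨a - c / r * p, c / r, by ring, by simp [hb], by field_simp, ?_⟩
      field_simp
      linear_combination -h21
  · refine ⟨a - b / q * p, b / q, by ring, by field_simp, ?_, ?_⟩
    · field_simp
      linear_combination h11
    · field_simp
      linear_combination h12

/-- the commutant of a non-scalar 2×2 matrix `x` is `F + F x`. -/
theorem nc2_disj_commutant (x y : Matrix (Fin 2) (Fin 2) F) (hx : ¬ IsScalar x)
    (hxy : x * y = y * x) :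
    ∃ a b : F, y = a • (1 : Matrix (Fin 2) (Fin 2) F) + b • x := by
  have e11 := congrFun (congrFun hxy 0) 0
  have e12 := congrFun (congrFun hxy 0) 1
  have e21 := congrFun (congrFun hxy 1) 0
  simp only [Matrix.mul_apply, Fin.sum_univ_two] at e11 e12 e21
  rw [nc2_disj_isScalar_iff] at hx
  obtain ⟨α, β, h1, h2, h3, h4⟩ := nc2_disj_commutant_aux (x 0 0) (x 0 1) (x 1 0) (x 1 1)
    (y 0 0) (y 0 1) (y 1 0) (y 1 1) (by linear_combination e11) (by linear_combination e12)
    (by linear_combination e21) hx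
  refine ⟨α, β, ?_⟩
  ext i j
  fin_cases i <;> fin_cases j <;> simp [h1, h2, h3, h4]

/-- a matrix without eigenvector is not scalar. -/
theorem nc2_disj_not_isScalar {x : GL (Fin 2) F} (hx : NoEig x) :
    ¬ IsScalar (x : Matrix (Fin 2) (Fin 2) F) := by
  rintro ⟨c, hc⟩
  refine hx (fun i => if i = 0 then 1 else 0) c ?_ ?_
  · intro h
    have := congrFun h 0
    simp at this
  · rw [hc, Matrix.smul_mulVec, Matrix.one_mulVec]

theorem noEig_not_commute_nilp {x : GL (Fin 2) F} (hx : NoEig x)
    (N : Matrix (Fin 2) (Fin 2) F) (hN : N * N = 0) (hN0 : N ≠ 0) :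
    (x : Matrix (Fin 2) (Fin 2) F) * N ≠ N * (x : Matrix (Fin 2) (Fin 2) F) := by
  intro hcomm
  -- `N` is not scalar
  have hNs : ¬ IsScalar N := by
    rintro ⟨c, hc⟩
    rw [hc] at hN
    have h00 := congrFun (congrFun hN 0) 0
    simp at h00
    apply hN0
    rw [hc, h00, zero_smul]
  obtain ⟨a, b, hab⟩ := nc2_disj_commutant N (x : Matrix (Fin 2) (Fin 2) F) hNs hcomm.symm
  -- a vector `v` with `N v ≠ 0`
  have hv : ∃ v : Fin 2 → F, N.mulVec v ≠ 0 := by
    by_contra hcon
    push Not at hcon
    apply hN0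
    ext i j
    have := congrFun (hcon (Pi.single j 1)) i
    simpa using this
  obtain ⟨v, hv⟩ := hv
  refine hx (N.mulVec v) a hv ?_
  rw [hab, Matrix.add_mulVec, Matrix.smul_mulVec, Matrix.smul_mulVec, Matrix.one_mulVec,
    Matrix.mulVec_mulVec, hN, Matrix.zero_mulVec, smul_zero, add_zero]

theorem noEig_of_commute {x y : GL (Fin 2) F} (hx : NoEig x)
    (hy : ¬ IsScalar (y : Matrix (Fin 2) (Fin 2) F)) (h : y * x = x * y) : NoEig y := by
  have hm : (y : Matrix (Fin 2) (Fin 2) F) * (x : Matrix (Fin 2) (Fin 2) F) =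
      (x : Matrix (Fin 2) (Fin 2) F) * (y : Matrix (Fin 2) (Fin 2) F) := by
    have := congrArg (fun g : GL (Fin 2) F => (g : Matrix (Fin 2) (Fin 2) F)) h
    simpa using this
  obtain ⟨a, b, hab⟩ := nc2_disj_commutant (y : Matrix (Fin 2) (Fin 2) F)
    (x : Matrix (Fin 2) (Fin 2) F) hy hm
  intro v c hv hyv
  refine hx v (a + b * c) hv ?_
  rw [hab, Matrix.add_mulVec, Matrix.smul_mulVec, Matrix.smul_mulVec, Matrix.one_mulVec, hyv,
    smul_smul, add_smul]

end Cfsg.Agent.Lead.NC2
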