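import Mathlib

/-!
# S4150 piece FIVESYL: a subgroup of order 25 supported on 10 points contains a 5-cycle (helper22 for helper2's skeleton)
-/

set_option autoImplicit false
set_option linter.style.haveILetI false
set_option linter.unusedVariables false

open Equiv Equiv.Perm MulAction Subgroup

namespace Cfsg.Agent.Helper2.AG

section T13

variable {β : Type*} [Fintype β] [DecidableEq β]

/-- FIVESYL -/
theorem exists_five_cycle_of_card_25 (P : Subgroup (Perm β)) (hP : Nat.card P = 25)
    (S : Finset β) (hS : S.card = 10) (hPS : ∀ k ∈ P, k.support ⊆ S) :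
    ∃ k ∈ P, k.IsCycle ∧ k.support.card = 5 := by
  classical
  by_contra hno
  -- every non-identity element of `P` is fixed point free on `S`
  have hfpf : ∀ k ∈ P, k ≠ 1 → ∀ s ∈ S, k s ≠ s := by
    intro k hk hk1 s hs hks
    have hdvd : orderOf k ∣ 25 := by
      have h := orderOf_dvd_natCard (⟨k, hk⟩ : P)
      rw [hP] at h
      rwa [← Subgroup.orderOf_mk k hk]
    have h5 : 5 ∣ orderOf k := by
      have hne : orderOf k ≠ 1 := by
        intro h; exact hk1 (orderOf_eq_one_iff.1 h)
      have h25 : (25 : ℕ) = 5 ^ 2 := by norm_num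
      rw [h25] at hdvd
      obtain ⟨i, hi, hoi⟩ := (Nat.dvd_prime_pow Nat.prime_five).1 hdvd
      rw [hoi]
      rcases i with _ | i
      · exact absurd (by rw [hoi]; rfl) hne
      · exact Dvd.intro_left (5 ^ i) (by ring)
    set j : Perm β := k ^ (orderOf k / 5) with hj
    have hoj : orderOf j = 5 := orderOf_pow_orderOf_div (orderOf_pos k).ne' h5
    have hjP : j ∈ P := P.pow_mem hk _
    have hjs : j s = s := by
      rw [hj]; exact Equiv.Perm.pow_apply_eq_self_of_apply_eq_self hks _
    obtain ⟨n, hn⟩ := Equiv.Perm.cycleType_prime_order (σ := j) (by rw [hoj]; exact Nat.prime_five)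
    rw [hoj] at hn
    have hsum : (n + 1) * 5 = j.support.card := by
      rw [← Equiv.Perm.sum_cycleType, hn, Multiset.sum_replicate, smul_eq_mul]
    have hle : j.support.card ≤ 10 := by
      rw [← hS]; exact Finset.card_le_card (hPS j hjP)
    have hn01 : n = 0 ∨ n = 1 := by omega
    rcases hn01 with rfl | rfl
    · -- a 5-cycle
      apply hno
      refine ⟨j, hjP, ?_, by omega⟩
      rw [← Equiv.Perm.card_cycleType_eq_one, hn]
      simp
    · -- support = S
      have hsupp : j.support = S := by
        apply Finset.eq_of_subset_of_card_le (hPS j hjP)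
        rw [hS]; omega
      have : s ∈ j.support := by rw [hsupp]; exact hs
      exact (Equiv.Perm.mem_support.1 this) hjs
  -- the orbit map is injective
  obtain ⟨s0, hs0⟩ : S.Nonempty := by
    rw [← Finset.card_pos, hS]; norm_num
  have hmem : ∀ k ∈ P, k s0 ∈ S := by
    intro k hk
    by_cases h : k s0 = s0
    · rw [h]; exact hs0
    · apply hPS k hk
      rw [Equiv.Perm.mem_support]
      intro h'
      exact h (k.injective h')
  have hinj : Function.Injective (fun k : P => (⟨(k : Perm β) s0, hmem k.1 k.2⟩ : S)) := by
    intro k k' hkk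
    have e : (k : Perm β) s0 = (k' : Perm β) s0 := congrArg Subtype.val hkk
    by_contra hne
    have hne' : ((k' : Perm β)⁻¹ * (k : Perm β)) ≠ 1 := by
      intro h
      apply hne
      apply Subtype.ext
      have := inv_mul_eq_one.1 h
      exact this.symm
    have := hfpf _ (P.mul_mem (P.inv_mem k'.2) k.2) hne' s0 hs0
    apply this
    rw [Equiv.Perm.mul_apply, e]; simp
  have hcard := Nat.card_le_card_of_injective _ hinj
  rw [hP, Nat.card_eq_fintype_card, Fintype.card_coe, hS] at hcard
  omega

end T13

end Cfsg.Agent.Helper2.AG
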