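import Mathlib

/-!
# S4150 piece RESTRICT: restricting two permutations to the union of their supports (helper22 for helper2's skeleton)
-/

set_option autoImplicit false
set_option linter.style.haveILetI false
set_option linter.unusedVariables false

open Equiv Equiv.Perm MulAction Subgroup

namespace Cfsg.Agent.Helper2.AG

namespace RESTRICT

variable {α : Type*} [Fintype α] [DecidableEq α]

/-- a permutation preserves every set containing its support -/
theorem apply_mem_iff (x : Perm α) {s : Finset α} (hs : x.support ⊆ s) (a : α) : x a ∈ s ↔ a ∈ s := by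
  by_cases h : x a = a
  · rw [h]
  · have h1 : a ∈ x.support := Equiv.Perm.mem_support.2 h
    have h2 : x a ∈ x.support := Equiv.Perm.apply_mem_support.2 h1
    exact ⟨fun _ => hs h1, fun _ => hs h2⟩

end RESTRICT

/-- RESTRICT -/
theorem exists_restrict {α : Type*} [Fintype α] [DecidableEq α] (x y : Perm α) :
    ∃ (s : Finset α) (x' y' : Perm s), s = x.support ∪ y.support ∧
      x'.cycleType = x.cycleType ∧ y'.cycleType = y.cycleType ∧
      (∀ a : s, a ∈ x'.support ∨ a ∈ y'.support) ∧
      Nonempty (closure ({x, y} : Set (Perm α)) ≃* closure ({x', y'} : Set (Perm s))) := by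
  classical
  set s : Finset α := x.support ∪ y.support with hs
  have hxs : x.support ⊆ s := Finset.subset_union_left
  have hys : y.support ⊆ s := Finset.subset_union_right
  have hx1 : ∀ a, x a ∈ s ↔ a ∈ s := RESTRICT.apply_mem_iff x hxs
  have hy1 : ∀ a, y a ∈ s ↔ a ∈ s := RESTRICT.apply_mem_iff y hys
  have hx2 : ∀ a, x a ≠ a → a ∈ s := fun a h => hxs (Equiv.Perm.mem_support.2 h)
  have hy2 : ∀ a, y a ≠ a → a ∈ s := fun a h => hys (Equiv.Perm.mem_support.2 h)
  set x' : Perm s := x.subtypePerm hx1 with hx'
  set y' : Perm s := y.subtypePerm hy1 with hy'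
  have ex : ofSubtype x' = x := Equiv.Perm.ofSubtype_subtypePerm hx1 hx2
  have ey : ofSubtype y' = y := Equiv.Perm.ofSubtype_subtypePerm hy1 hy2
  refine ⟨s, x', y', rfl, ?_, ?_, ?_, ?_⟩
  · rw [← ex, Equiv.Perm.cycleType_ofSubtype]
  · rw [← ey, Equiv.Perm.cycleType_ofSubtype]
  · intro a
    have ha : (a : α) ∈ x.support ∪ y.support := a.2
    rcases Finset.mem_union.1 ha with h | h
    · left
      rw [Equiv.Perm.mem_support] at h ⊢
      intro h'
      apply h
      have := congrArg Subtype.val h'
      rwa [hx', Equiv.Perm.subtypePerm_apply] at this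
    · right
      rw [Equiv.Perm.mem_support] at h ⊢
      intro h'
      apply h
      have := congrArg Subtype.val h'
      rwa [hy', Equiv.Perm.subtypePerm_apply] at this
  · have hmap : (closure ({x', y'} : Set (Perm s))).map (ofSubtype : Perm s →* Perm α) =
        closure ({x, y} : Set (Perm α)) := by
      rw [MonoidHom.map_closure]
      congr 1
      rw [Set.image_pair, ex, ey]
    have e1 := (closure ({x', y'} : Set (Perm s))).equivMapOfInjective
      (ofSubtype : Perm s →* Perm α) Equiv.Perm.ofSubtype_injective
    exact ⟨(MulEquiv.subgroupCongr hmap.symm).trans e1.symm⟩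

end Cfsg.Agent.Helper2.AG
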