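import Mathlib
import Cfsg.Agent.Lib.Helper8.ABDefs

/-!
S3301 piece AB-ABEL (owner helper8): reduction to homomorphisms into `Ab(H) / Ab(H)^4`.
-/

set_option autoImplicit false

namespace Cfsg.Agent.Helper8.AB

/-- PIECE AB-ABEL -/
theorem abel_exp4 {H : Type*} [Group H]
    (a : Abelianization H ⧸ (powMonoidHom 4 : Abelianization H →* Abelianization H).range) :
    a ^ 4 = 1 := by
  induction a using QuotientGroup.induction_on with
  | H b =>
    rw [← QuotientGroup.mk_pow, QuotientGroup.eq_one_iff]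
    exact ⟨b, rfl⟩

/-- Iterating `a ^ 2 ∈ A ^ 4`: every square is a `2 ^ (m + 1)`-th power. -/
theorem ababel_iter {A : Type*} [CommGroup A] (h : ∀ a : A, ∃ b : A, b ^ 4 = a ^ 2) (m : ℕ) :
    ∀ a : A, ∃ d : A, d ^ 2 ^ (m + 1) = a ^ 2 := by
  induction m with
  | zero => intro a; exact ⟨a, by simp⟩
  | succ m ih =>
    intro a
    obtain ⟨d, hd⟩ := ih a
    obtain ⟨e, he⟩ := h d
    refine ⟨e, ?_⟩
    rw [← hd]
    have : (2 : ℕ) ^ (m + 1 + 1) = 4 * 2 ^ m := by ring
    rw [this, pow_mul, he, ← pow_mul]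
    congr 1
    ring

/-- In a finite commutative group where every square is a fourth power, elements of 2-power order
have order at most `2`. -/
theorem ababel_core {A : Type*} [CommGroup A] [Finite A] (h : ∀ a : A, ∃ b : A, b ^ 4 = a ^ 2)
    (q : A) (hq : ∃ k : ℕ, orderOf q = 2 ^ k) : q ^ 2 = 1 := by
  obtain ⟨k, hk⟩ := hq
  obtain ⟨e, o, ho, hN⟩ := Nat.exists_eq_two_pow_mul_odd (n := Nat.card A) Nat.card_pos.ne'
  obtain ⟨d, hd⟩ := ababel_iter h e q
  have h1 : (q ^ 2) ^ o = 1 := by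
    rw [← hd, ← pow_mul]
    have : 2 ^ (e + 1) * o = Nat.card A * 2 := by rw [hN]; ring
    rw [this, pow_mul, pow_card_eq_one', one_pow]
  rw [← pow_mul] at h1
  have hdvd : 2 ^ k ∣ 2 * o := by
    rw [← hk]; exact orderOf_dvd_of_pow_eq_one h1
  have hcop : Nat.Coprime (2 ^ k) o := by
    apply Nat.Coprime.pow_left
    exact ho.coprime_two_left
  have h2 : 2 ^ k ∣ 2 := by
    have := hcop.dvd_of_dvd_mul_right hdvd
    exact this
  apply orderOf_dvd_iff_pow_eq_one.1
  rw [hk]; exact h2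

/-- PIECE AB-ABEL -/
theorem abel_reduce {H : Type*} [Group H] [Finite H]
    (hmain : ∀ (φ : H →* (Abelianization H ⧸
        (powMonoidHom 4 : Abelianization H →* Abelianization H).range)) (h : H), φ h ^ 2 = 1) :
    ∀ q : Abelianization H, (∃ k : ℕ, orderOf q = 2 ^ k) → q ^ 2 = 1 := by
  have hsq : ∀ a : Abelianization H, ∃ b : Abelianization H, b ^ 4 = a ^ 2 := by
    intro a
    obtain ⟨h, rfl⟩ := QuotientGroup.mk_surjective a
    change ∃ b : Abelianization H, b ^ 4 = (Abelianization.of h) ^ 2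
    have := hmain ((QuotientGroup.mk' _).comp Abelianization.of) h
    rw [MonoidHom.comp_apply, QuotientGroup.mk'_apply, ← QuotientGroup.mk_pow,
      QuotientGroup.eq_one_iff] at this
    obtain ⟨b, hb⟩ := this
    exact ⟨b, hb⟩
  intro q hq
  exact ababel_core hsq q hq

end Cfsg.Agent.Helper8.AB
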