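import Mathlib
import Cfsg.Agent.Lib.Helper20.A5QDefs

set_option autoImplicit false
set_option linter.unusedSectionVars false
set_option linter.unusedVariables false
set_option linter.style.haveILetI false

/-!
S3106 piece **A5Q-INITA**: the facts about the alternating group of degree `5` that are used
in the initial configuration (`a5_facts`).
-/

namespace Cfsg.Agent.Helper20.A5Q

/-- The two elements of `A5`: `f₀ = (0 1 2 3 4)` and `t₀ = (1 4)(2 3)`. -/
theorem inita_a5_elems : ∃ f0 t0 : ↥(alternatingGroup (Fin 5)),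
    f0 ^ 5 = 1 ∧ f0 ≠ 1 ∧ t0 ≠ 1 ∧ t0 ^ 2 = 1 ∧ t0 * f0 * t0⁻¹ * f0 = 1 ∧ t0 * f0 ≠ f0 * t0 := by
  refine ⟨⟨finRotate 5, Equiv.Perm.mem_alternatingGroup.2 (by decide)⟩,
    ⟨Equiv.swap 1 4 * Equiv.swap 2 3, Equiv.Perm.mem_alternatingGroup.2 (by decide)⟩, ?_⟩
  decide

/-- `A5` is not solvable. -/
theorem inita_a5_not_solvable : ¬ Group.IsSolvable ↥(alternatingGroup (Fin 5)) := by
  intro hs
  obtain ⟨f0, t0, -, -, -, -, -, hne⟩ := inita_a5_elems
  haveI : IsSimpleGroup ↥(alternatingGroup (Fin 5)) := alternatingGroup.isSimpleGroup (by simp)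
  exact hne (IsSimpleGroup.comm_iff_isSolvable.2 hs t0 f0)

/-- **A5Q-INITA.** The facts about the alternating group of degree `5` that are used. -/
theorem a5_facts {Y : Type*} [Group Y] [Finite Y] (P : Subgroup Y) [P.Normal]
    (hP : IsPGroup 2 P) (e : Y ⧸ P ≃* ↥(alternatingGroup (Fin 5))) :
    (∃ f t : Y, orderOf f = 5 ∧ t ∉ P ∧ t ^ 2 ∈ P ∧ t * f * t⁻¹ * f ∈ P) ∧
      (∀ K : Subgroup Y, K.Normal → P ≤ K → K = P ∨ K = ⊤) ∧ ¬ Group.IsSolvable Y := by
  classical
  haveI : Fact (Nat.Prime 5) := ⟨by norm_num⟩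
  -- the projection onto `A5`
  set π : Y →* ↥(alternatingGroup (Fin 5)) := e.toMonoidHom.comp (QuotientGroup.mk' P) with hπ
  have hsurj : Function.Surjective π := by
    intro a
    obtain ⟨q, hq⟩ := e.surjective a
    obtain ⟨y, hy⟩ := QuotientGroup.mk'_surjective P q
    refine ⟨y, ?_⟩
    show e (QuotientGroup.mk' P y) = a
    rw [hy, hq]
  have hker : ∀ x : Y, π x = 1 ↔ x ∈ P := by
    intro x
    have : π x = e (QuotientGroup.mk' P x) := rfl
    rw [this, MulEquiv.map_eq_one_iff, QuotientGroup.mk'_apply, QuotientGroup.eq_one_iff]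
  have hkerP : π.ker = P := by
    ext x
    rw [MonoidHom.mem_ker, hker]
  refine ⟨?_, ?_, ?_⟩
  · obtain ⟨f0, t0, hf5, hf1, ht1, ht2, hinv, -⟩ := inita_a5_elems
    obtain ⟨f1, hf1'⟩ := hsurj f0
    obtain ⟨t, ht'⟩ := hsurj t0
    have hf15 : f1 ^ 5 ∈ P := by
      rw [← hker, map_pow, hf1', hf5]
    obtain ⟨k, hk⟩ := hP ⟨f1 ^ 5, hf15⟩
    have hk' : (f1 ^ 5) ^ (2 ^ k) = 1 := by
      have := congrArg Subtype.val hk
      simpa using this
    have hord0 : orderOf f0 = 5 := orderOf_eq_prime hf5 hf1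
    have hf0k : f0 ^ (2 ^ k) ≠ 1 := by
      intro h
      have hdvd : orderOf f0 ∣ 2 ^ k := orderOf_dvd_of_pow_eq_one h
      rw [hord0] at hdvd
      have : 5 ∣ 2 := Nat.Prime.dvd_of_dvd_pow (by norm_num) hdvd
      omega
    have hconj : t0 * f0 * t0⁻¹ = f0⁻¹ := by
      rw [eq_inv_iff_mul_eq_one]
      exact hinv
    refine ⟨f1 ^ (2 ^ k), t, ?_, ?_, ?_, ?_⟩
    · apply orderOf_eq_prime
      · rw [← pow_mul, mul_comm, pow_mul]
        exact hk'
      · intro h
        apply hf0k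
        rw [← hf1', ← map_pow, h, map_one]
    · rw [← hker, ht']
      exact ht1
    · rw [← hker, map_pow, ht', ht2]
    · rw [← hker]
      simp only [map_mul, map_inv, map_pow, ht', hf1']
      rw [← conj_pow, hconj, inv_pow, inv_mul_cancel]
  · intro K hK hPK
    haveI : IsSimpleGroup ↥(alternatingGroup (Fin 5)) := alternatingGroup.isSimpleGroup (by simp)
    have hn : (K.map π).Normal := Subgroup.Normal.map hK π hsurj
    rcases hn.eq_bot_or_eq_top with h | h
    · left
      apply le_antisymm _ hPK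
      rw [← hkerP]
      exact (Subgroup.map_eq_bot_iff K).1 h
    · right
      have h1 : (K.map π).comap π = K ⊔ π.ker := Subgroup.comap_map_eq π K
      rw [h, Subgroup.comap_top, hkerP, sup_eq_left.2 hPK] at h1
      exact h1.symm
  · intro hs
    exact inita_a5_not_solvable (Group.isSolvable_of_surjective hsurj)

end Cfsg.Agent.Helper20.A5Q
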