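import Mathlib
import Cfsg.Agent.Lib.Helper20.A5QDefs
import Cfsg.Agent.Lib.Helper20.A5QRANK
import Cfsg.Agent.Lib.Helper22.A5QINITA
import Cfsg.Agent.Lib.Helper21.A5QINITR

set_option autoImplicit false
set_option linter.unusedSectionVars false
set_option linter.unusedVariables false
set_option linter.style.haveILetI false

/-!
S3106 piece **A5Q-INIT**, core: the initial configuration `L` = preimage of the `A5` of `X/O_2(X)`,
with the faithfulness statement (piece INITF) as a hypothesis.
-/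

namespace Cfsg.Agent.Helper20.A5Q

open Cfsg.Agent.Helper22.SecRank

theorem init_pCore_normal (p : ℕ) (G : Type*) [Group G] : (Cfsg.pCore p G).Normal :=
  Subgroup.sSup_normal _ (fun _ hK => hK.1)

theorem init_pCore_isPGroup (p : ℕ) (G : Type*) [Group G] : IsPGroup p (Cfsg.pCore p G) :=
  Sylow.sSup_of_normal _ (fun _ h => h.2) (fun _ h => h.1)

/-- The first isomorphism theorem for the preimage of a subgroup of a quotient. -/
theorem init_quot_equiv {X : Type*} [Group X] (R : Subgroup X) [R.Normal]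
    (A : Subgroup (X ⧸ R)) :
    Nonempty ((↥(A.comap (QuotientGroup.mk' R)) ⧸ R.subgroupOf (A.comap (QuotientGroup.mk' R)))
      ≃* ↥A) := by
  set φ : ↥(A.comap (QuotientGroup.mk' R)) →* ↥A := (QuotientGroup.mk' R).subgroupComap A with hφ
  have hsurj : Function.Surjective φ :=
    MonoidHom.subgroupComap_surjective_of_surjective _ _ (QuotientGroup.mk'_surjective R)
  have hker : φ.ker = R.subgroupOf (A.comap (QuotientGroup.mk' R)) := by
    ext x
    rw [MonoidHom.mem_ker, Subgroup.mem_subgroupOf, ← QuotientGroup.eq_one_iff]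
    constructor
    · intro h
      exact congrArg Subtype.val h
    · intro h
      exact Subtype.ext h
  exact ⟨(QuotientGroup.quotientMulEquivOfEq hker.symm).trans
    (QuotientGroup.quotientKerEquivOfSurjective φ hsurj)⟩

/-- **A5Q-INIT**, with the conclusion of INITF as a hypothesis. -/
theorem init_exists_a5s_core {X : Type*} [Group X] [Finite X]
    (hfaith : ∀ L : Subgroup X, Cfsg.pCore 2 X ≤ L →
      ∀ y : ↥L, (∀ x ∈ (Cfsg.pCore 2 X).subgroupOf L,
        y * x * y⁻¹ * x⁻¹ ∈ Sq ((Cfsg.pCore 2 X).subgroupOf L)) →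
          y ∈ (Cfsg.pCore 2 X).subgroupOf L)
    (h4 : Cfsg.SectionalPRankLE 2 4 X)
    (hQ : ∃ A : Subgroup (X ⧸ Cfsg.pCore 2 X), Nonempty (↥A ≃* ↥(alternatingGroup (Fin 5)))) :
    ∃ L : Subgroup X, Cfsg.pCore 2 X ≤ L ∧ A5S ↥L ((Cfsg.pCore 2 X).subgroupOf L) := by
  classical
  haveI hRn : (Cfsg.pCore 2 X).Normal := init_pCore_normal 2 X
  obtain ⟨A, ⟨eA⟩⟩ := hQ
  set L : Subgroup X := A.comap (QuotientGroup.mk' (Cfsg.pCore 2 X)) with hL
  have hRL : Cfsg.pCore 2 X ≤ L := by
    intro x hx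
    rw [hL, Subgroup.mem_comap, QuotientGroup.mk'_apply, (QuotientGroup.eq_one_iff x).2 hx]
    exact A.one_mem
  obtain ⟨e0⟩ := init_quot_equiv (Cfsg.pCore 2 X) A
  have hP : IsPGroup 2 ↥((Cfsg.pCore 2 X).subgroupOf L) :=
    (init_pCore_isPGroup 2 X).of_equiv (Subgroup.subgroupOfEquivOfLe hRL).symm
  obtain ⟨h1, h2, h3⟩ := a5_facts ((Cfsg.pCore 2 X).subgroupOf L) hP (e0.trans eA)
  refine ⟨L, hRL, ?_⟩
  exact
    { normal := inferInstance
      pgroup := hP
      rank := rankSq_subgroup (rankSq_of_sectional h4) L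
      faith := hfaith L hRL
      elems := h1
      simple := h2
      ns := h3 }

end Cfsg.Agent.Helper20.A5Q
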