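import Mathlib
import Cfsg.Agent.Lib.Helper22.A5QINITCore
import Cfsg.Agent.Lib.Helper18.A5QINITF

set_option autoImplicit false
set_option linter.unusedSectionVars false
set_option linter.unusedVariables false

/-!
S3106 piece **A5Q-INIT**: the initial configuration `L` = preimage of the `A5` of `X/O_2(X)`
(`init_exists_a5s_core` + piece INITF).
-/

namespace Cfsg.Agent.Helper20.A5Q

open Cfsg.Agent.Helper22.SecRank

/-- **A5Q-INIT.** -/
theorem exists_a5s {X : Type*} [Group X] [Finite X] (hc : Cfsg.IsPConstrained 2 X)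
    (hO : Cfsg.oddCore X = ⊥) (h4 : Cfsg.SectionalPRankLE 2 4 X)
    (hQ : ∃ A : Subgroup (X ⧸ Cfsg.pCore 2 X), Nonempty (↥A ≃* ↥(alternatingGroup (Fin 5)))) :
    ∃ L : Subgroup X, Cfsg.pCore 2 X ≤ L ∧ A5S ↥L ((Cfsg.pCore 2 X).subgroupOf L) :=
  init_exists_a5s_core (fun L hRL => faith_of_constrained hc hO L hRL) h4 hQ

end Cfsg.Agent.Helper20.A5Q
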