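import Mathlib
import Cfsg.Agent.Lib.Helper23.S63Defs

/-!
# S63-SL2Q8 (helper22): a quaternion triple `i, j, ij` in `SL(2, F)`, `F` a finite field
-/

set_option autoImplicit false
set_option linter.unusedVariables false

namespace Cfsg.Agent.Helper23.S63

open Cfsg
open scoped Pointwise

/-- In a finite field `-1` is a sum of two squares. -/
theorem s63_sl2q8_sum_sq {F : Type*} [Field F] [Fintype F] : ∃ a b : F, a ^ 2 + b ^ 2 = -1 := by
  have hp : NeZero (ringChar F) := ⟨CharP.char_ne_zero_of_finite F (ringChar F)⟩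
  obtain ⟨a, b, h⟩ := CharP.sq_add_sq F (ringChar F) (-1)
  exact ⟨a, b, by simpa using h⟩

/-- A trace-zero matrix of determinant one squares to `-1`. -/
theorem s63_sl2q8_sq {F : Type*} [Field F] (x y z : F) (h : x * (-x) - y * z = 1) :
    (!![x, y; z, -x] : Matrix (Fin 2) (Fin 2) F) * !![x, y; z, -x] = -1 := by
  ext r c
  fin_cases r <;> fin_cases c <;> simp [Matrix.mul_apply, Fin.sum_univ_two] <;>
    first | linear_combination (-1 : F) * h | ring

theorem s63_sl2q8_aux {F : Type*} [Field F] (a b : F) (hab : a ^ 2 + b ^ 2 = -1)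
    (i j : Matrix.SpecialLinearGroup (Fin 2) F)
    (hi : (i : Matrix (Fin 2) (Fin 2) F) = !![0, 1; -1, 0])
    (hj : (j : Matrix (Fin 2) (Fin 2) F) = !![a, b; b, -a]) :
      (i : Matrix (Fin 2) (Fin 2) F).trace = 0 ∧ (j : Matrix (Fin 2) (Fin 2) F).trace = 0 ∧
      ((i * j : Matrix.SpecialLinearGroup (Fin 2) F) : Matrix (Fin 2) (Fin 2) F).trace = 0 ∧
      i * i = -1 ∧ j * j = -1 ∧ (i * j) * (i * j) = -1 := by
  have hijm : (!![0, 1; -1, 0] : Matrix (Fin 2) (Fin 2) F) * !![a, b; b, -a] = !![b, -a; -a, -b] := by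
    ext r c
    fin_cases r <;> fin_cases c <;> simp [Matrix.mul_apply, Fin.sum_univ_two]
  refine ⟨?_, ?_, ?_, ?_, ?_, ?_⟩
  · rw [hi]; simp [Matrix.trace_fin_two]
  · rw [hj]; simp [Matrix.trace_fin_two]
  · rw [Matrix.SpecialLinearGroup.coe_mul, hi, hj, hijm]
    simp [Matrix.trace_fin_two]
  · apply Subtype.ext
    rw [Matrix.SpecialLinearGroup.coe_mul, Matrix.SpecialLinearGroup.coe_neg,
      Matrix.SpecialLinearGroup.coe_one, hi]
    have := s63_sl2q8_sq (F := F) 0 1 (-1) (by ring)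
    simpa using this
  · apply Subtype.ext
    rw [Matrix.SpecialLinearGroup.coe_mul, Matrix.SpecialLinearGroup.coe_neg,
      Matrix.SpecialLinearGroup.coe_one, hj]
    exact s63_sl2q8_sq a b b (by linear_combination (-1 : F) * hab)
  · apply Subtype.ext
    rw [Matrix.SpecialLinearGroup.coe_mul, Matrix.SpecialLinearGroup.coe_neg,
      Matrix.SpecialLinearGroup.coe_one, Matrix.SpecialLinearGroup.coe_mul, hi, hj, hijm]
    exact s63_sl2q8_sq b (-a) (-a) (by linear_combination (-1 : F) * hab)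

theorem sl2_q8 {F : Type*} [Field F] [Fintype F] (h2 : (2 : F) ≠ 0) :
    ∃ i j : Matrix.SpecialLinearGroup (Fin 2) F,
      (i : Matrix (Fin 2) (Fin 2) F).trace = 0 ∧ (j : Matrix (Fin 2) (Fin 2) F).trace = 0 ∧
      ((i * j : Matrix.SpecialLinearGroup (Fin 2) F) : Matrix (Fin 2) (Fin 2) F).trace = 0 ∧
      i * i = -1 ∧ j * j = -1 ∧ (i * j) * (i * j) = -1 := by
  obtain ⟨a, b, hab⟩ := s63_sl2q8_sum_sq (F := F)
  have hi : (!![0, 1; -1, 0] : Matrix (Fin 2) (Fin 2) F).det = 1 := by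
    rw [Matrix.det_fin_two_of]; ring
  have hj : (!![a, b; b, -a] : Matrix (Fin 2) (Fin 2) F).det = 1 := by
    rw [Matrix.det_fin_two_of]; linear_combination (-1 : F) * hab
  exact ⟨⟨_, hi⟩, ⟨_, hj⟩, s63_sl2q8_aux a b hab _ _ rfl rfl⟩

end Cfsg.Agent.Helper23.S63
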