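import Mathlib
import Cfsg.Agent.Lib.Helper20.SchDefs

/-!
# S4395 PIECE SCH-COMMFORM (core): the commutator form, with SCH-FORM as a hypothesis
-/

set_option autoImplicit false
set_option linter.unusedSectionVars false
set_option linter.unusedVariables false

namespace Cfsg.Agent.Helper20.Sch

open scoped commutatorElement IsMulCommutative

theorem sch_commform_mul_left {X : Type*} [Group X] (u u' v : X)
    (h : ⁅u', v⁆ ∈ Subgroup.center X) : ⁅u * u', v⁆ = ⁅u, v⁆ * ⁅u', v⁆ := by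
  obtain ⟨c, hc⟩ : ∃ c, c = ⁅u', v⁆ := ⟨_, rfl⟩
  rw [← hc] at h ⊢
  have hcomm := Subgroup.mem_center_iff.1 h
  have e : u' * v = c * v * u' := by rw [hc, commutatorElement_def]; group
  calc ⁅u * u', v⁆ = u * (u' * v) * u'⁻¹ * u⁻¹ * v⁻¹ := by rw [commutatorElement_def]; group
    _ = u * (c * v * u') * u'⁻¹ * u⁻¹ * v⁻¹ := by rw [e]
    _ = (u * c) * v * u⁻¹ * v⁻¹ := by group
    _ = (c * u) * v * u⁻¹ * v⁻¹ := by rw [hcomm u]
    _ = c * ⁅u, v⁆ := by rw [commutatorElement_def]; group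
    _ = ⁅u, v⁆ * c := (hcomm _).symm

theorem sch_commform_mul_right {X : Type*} [Group X] (u v v' : X)
    (h : ⁅u, v'⁆ ∈ Subgroup.center X) : ⁅u, v * v'⁆ = ⁅u, v⁆ * ⁅u, v'⁆ := by
  obtain ⟨c, hc⟩ : ∃ c, c = ⁅u, v'⁆ := ⟨_, rfl⟩
  rw [← hc] at h ⊢
  have hcomm := Subgroup.mem_center_iff.1 h
  have e : v' * u⁻¹ * v'⁻¹ = u⁻¹ * c := by rw [hc, commutatorElement_def]; group
  calc ⁅u, v * v'⁆ = u * v * (v' * u⁻¹ * v'⁻¹) * v⁻¹ := by rw [commutatorElement_def]; group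
    _ = u * v * (u⁻¹ * c) * v⁻¹ := by rw [e]
    _ = u * v * u⁻¹ * (c * v⁻¹) := by group
    _ = u * v * u⁻¹ * (v⁻¹ * c) := by rw [hcomm v⁻¹]
    _ = ⁅u, v⁆ * c := by rw [commutatorElement_def]; group

theorem sch_commform_central_left {X : Type*} [Group X] (u v n : X)
    (h : n ∈ Subgroup.center X) : ⁅u * n, v⁆ = ⁅u, v⁆ := by
  have hc := Subgroup.mem_center_iff.1 h
  calc ⁅u * n, v⁆ = u * (n * v) * n⁻¹ * u⁻¹ * v⁻¹ := by rw [commutatorElement_def]; group
    _ = u * (v * n) * n⁻¹ * u⁻¹ * v⁻¹ := by rw [hc v]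
    _ = ⁅u, v⁆ := by rw [commutatorElement_def]; group

theorem sch_commform_central_right {X : Type*} [Group X] (u v n : X)
    (h : n ∈ Subgroup.center X) : ⁅u, v * n⁆ = ⁅u, v⁆ := by
  have hc := Subgroup.mem_center_iff.1 h
  calc ⁅u, v * n⁆ = u * v * (n * u⁻¹) * n⁻¹ * v⁻¹ := by rw [commutatorElement_def]; group
    _ = u * v * (u⁻¹ * n) * n⁻¹ * v⁻¹ := by rw [hc u⁻¹]
    _ = ⁅u, v⁆ := by rw [commutatorElement_def]; group

/-- commutators only depend on the cosets modulo a central subgroup -/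
theorem sch_commform_congr {X : Type*} [Group X] (N : Subgroup X) [N.Normal]
    (hNc : N ≤ Subgroup.center X) (u u' v v' : X)
    (hu : (QuotientGroup.mk' N u) = QuotientGroup.mk' N u')
    (hv : (QuotientGroup.mk' N v) = QuotientGroup.mk' N v') : ⁅u, v⁆ = ⁅u', v'⁆ := by
  have h1 : u⁻¹ * u' ∈ N := QuotientGroup.eq.1 hu
  have h2 : v⁻¹ * v' ∈ N := QuotientGroup.eq.1 hv
  have e1 : u' = u * (u⁻¹ * u') := by group
  have e2 : v' = v * (v⁻¹ * v') := by group
  rw [e1, e2, sch_commform_central_left _ _ _ (hNc h1), sch_commform_central_right _ _ _ (hNc h2)]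


/-- commutators of elements of `P` lie in `derSub P` -/
theorem sch_commform_mem_derSub {X : Type*} [Group X] (P : Subgroup X) (u v : X) (hu : u ∈ P)
    (hv : v ∈ P) : ⁅u, v⁆ ∈ derSub P := by
  refine Subgroup.mem_map.2 ⟨⁅(⟨u, hu⟩ : ↥P), ⟨v, hv⟩⁆, ?_, rfl⟩
  rw [commutator_def]
  exact Subgroup.commutator_mem_commutator (Subgroup.mem_top _) (Subgroup.mem_top _)

/-- SCH-COMMFORM, core: SCH-FORM (instantiated at `C = Additive (center X)`) is a hypothesis. -/
theorem sch_commform_core {X : Type*} [Group X] [Finite X] (P : Subgroup X) [P.Normal] (y₁ : X)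
    (N : Subgroup X) [N.Normal] (hN : N = derSub P) (hNc : N ≤ Subgroup.center X)
    (F : Type*) [Field F] [Finite F] (μ : F)
    (θ : Multiplicative F →* X ⧸ N) (hθr : θ.range = P.map (QuotientGroup.mk' N))
    (hθy : ∀ x : F, θ (Multiplicative.ofAdd (μ * x)) =
        (QuotientGroup.mk' N y₁) * θ (Multiplicative.ofAdd x) * (QuotientGroup.mk' N y₁)⁻¹)
    (bound : ℕ)
    (hFORM : ∀ (B : F →+ F →+ Additive (Subgroup.center X)), (∀ x, B x x = 0) →
      (∀ x x', B (μ * x) (μ * x') = B x x') →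
      Nat.card (AddSubgroup.closure (Set.range fun z : F × F => B z.1 z.2)) ≤ bound) :
    Nat.card N ≤ bound := by
  classical
  -- lifts
  have hlift : ∀ x : F, ∃ u : X, u ∈ P ∧ QuotientGroup.mk' N u = θ (Multiplicative.ofAdd x) := by
    intro x
    have h1 : θ (Multiplicative.ofAdd x) ∈ θ.range := ⟨_, rfl⟩
    rw [hθr] at h1
    obtain ⟨u, hu, hu'⟩ := Subgroup.mem_map.1 h1
    exact ⟨u, hu, hu'⟩
  choose s hsP hs using hlift
  have hcN : ∀ x x' : F, ⁅s x, s x'⁆ ∈ N := by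
    intro x x'
    rw [hN]; exact sch_commform_mem_derSub P _ _ (hsP x) (hsP x')
  have hcZ : ∀ x x' : F, ⁅s x, s x'⁆ ∈ Subgroup.center X := fun x x' => hNc (hcN x x')
  -- the form
  let b : F → F → Additive (Subgroup.center X) :=
    fun x x' => Additive.ofMul (⟨⁅s x, s x'⁆, hcZ x x'⟩ : Subgroup.center X)
  have hb_add_right : ∀ x x₁ x₂ : F, b x (x₁ + x₂) = b x x₁ + b x x₂ := by
    intro x x₁ x₂
    have h1 : QuotientGroup.mk' N (s (x₁ + x₂)) = QuotientGroup.mk' N (s x₁ * s x₂) := by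
      rw [hs, map_mul, hs, hs, ofAdd_add, map_mul]
    have h2 : ⁅s x, s (x₁ + x₂)⁆ = ⁅s x, s x₁⁆ * ⁅s x, s x₂⁆ := by
      rw [sch_commform_congr N hNc (s x) (s x) (s (x₁ + x₂)) (s x₁ * s x₂) rfl h1]
      exact sch_commform_mul_right _ _ _ (hcZ x x₂)
    show Additive.ofMul (⟨⁅s x, s (x₁ + x₂)⁆, hcZ x (x₁ + x₂)⟩ : Subgroup.center X) =
      Additive.ofMul (⟨⁅s x, s x₁⁆, hcZ x x₁⟩ : Subgroup.center X) +
        Additive.ofMul (⟨⁅s x, s x₂⁆, hcZ x x₂⟩ : Subgroup.center X)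
    rw [← ofMul_mul]
    congr 1
    exact Subtype.ext h2
  have hb_add_left : ∀ x₁ x₂ x' : F, b (x₁ + x₂) x' = b x₁ x' + b x₂ x' := by
    intro x₁ x₂ x'
    have h1 : QuotientGroup.mk' N (s (x₁ + x₂)) = QuotientGroup.mk' N (s x₁ * s x₂) := by
      rw [hs, map_mul, hs, hs, ofAdd_add, map_mul]
    have h2 : ⁅s (x₁ + x₂), s x'⁆ = ⁅s x₁, s x'⁆ * ⁅s x₂, s x'⁆ := by
      rw [sch_commform_congr N hNc (s (x₁ + x₂)) (s x₁ * s x₂) (s x') (s x') h1 rfl]
      exact sch_commform_mul_left _ _ _ (hcZ x₂ x')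
    show Additive.ofMul (⟨⁅s (x₁ + x₂), s x'⁆, hcZ (x₁ + x₂) x'⟩ : Subgroup.center X) =
      Additive.ofMul (⟨⁅s x₁, s x'⁆, hcZ x₁ x'⟩ : Subgroup.center X) +
        Additive.ofMul (⟨⁅s x₂, s x'⁆, hcZ x₂ x'⟩ : Subgroup.center X)
    rw [← ofMul_mul]
    congr 1
    exact Subtype.ext h2
  let B : F →+ F →+ Additive (Subgroup.center X) :=
    AddMonoidHom.mk' (fun x => AddMonoidHom.mk' (fun x' => b x x') (hb_add_right x)) (by
      intro x₁ x₂
      apply AddMonoidHom.ext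
      intro x'
      exact hb_add_left x₁ x₂ x')
  have hB : ∀ x x', B x x' = b x x' := fun x x' => rfl
  have halt : ∀ x, B x x = 0 := by
    intro x
    rw [hB]
    show Additive.ofMul (⟨⁅s x, s x⁆, hcZ x x⟩ : Subgroup.center X) = 0
    have h1 : (⟨⁅s x, s x⁆, hcZ x x⟩ : Subgroup.center X) = 1 :=
      Subtype.ext (commutatorElement_self (s x))
    rw [h1]; rfl
  have hinv : ∀ x x', B (μ * x) (μ * x') = B x x' := by
    intro x x'
    rw [hB, hB]
    show Additive.ofMul (⟨⁅s (μ * x), s (μ * x')⁆, hcZ (μ * x) (μ * x')⟩ : Subgroup.center X) =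
      Additive.ofMul (⟨⁅s x, s x'⁆, hcZ x x'⟩ : Subgroup.center X)
    congr 1
    apply Subtype.ext
    show ⁅s (μ * x), s (μ * x')⁆ = ⁅s x, s x'⁆
    have h1 : ∀ x : F, QuotientGroup.mk' N (s (μ * x)) = QuotientGroup.mk' N (y₁ * s x * y₁⁻¹) := by
      intro x
      rw [hs, hθy, map_mul, map_mul, map_inv, hs]
    rw [sch_commform_congr N hNc _ _ _ _ (h1 x) (h1 x')]
    have h2 : ⁅y₁ * s x * y₁⁻¹, y₁ * s x' * y₁⁻¹⁆ = y₁ * ⁅s x, s x'⁆ * y₁⁻¹ := by
      rw [commutatorElement_def, commutatorElement_def]; group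
    rw [h2, Subgroup.mem_center_iff.1 (hcZ x x') y₁]
    group
  have hbound := hFORM B halt hinv
  -- every element of N is in the closure of the values
  have hmem : ∀ n : X, n ∈ N → ∃ h : n ∈ Subgroup.center X,
      Additive.ofMul (⟨n, h⟩ : Subgroup.center X) ∈
        AddSubgroup.closure (Set.range fun z : F × F => B z.1 z.2) := by
    intro n hn
    rw [hN] at hn
    obtain ⟨g, hg, rfl⟩ := Subgroup.mem_map.1 hn
    clear hn
    rw [commutator_def, Subgroup.commutator_def] at hg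
    induction hg using Subgroup.closure_induction with
    | mem g hg =>
      obtain ⟨g₁, -, g₂, -, rfl⟩ := hg
      have hg1 : QuotientGroup.mk' N (g₁ : X) ∈ θ.range := by
        rw [hθr]; exact Subgroup.mem_map.2 ⟨g₁, g₁.2, rfl⟩
      have hg2 : QuotientGroup.mk' N (g₂ : X) ∈ θ.range := by
        rw [hθr]; exact Subgroup.mem_map.2 ⟨g₂, g₂.2, rfl⟩
      obtain ⟨m₁, hm₁⟩ := hg1
      obtain ⟨m₂, hm₂⟩ := hg2
      have e : (P.subtype ⁅g₁, g₂⁆ : X) = ⁅s (Multiplicative.toAdd m₁), s (Multiplicative.toAdd m₂)⁆ := by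
        show ⁅(g₁ : X), (g₂ : X)⁆ = _
        refine sch_commform_congr N hNc _ _ _ _ ?_ ?_
        · rw [hs, ofAdd_toAdd, hm₁]
        · rw [hs, ofAdd_toAdd, hm₂]
      refine ⟨by rw [e]; exact hcZ _ _, ?_⟩
      refine AddSubgroup.subset_closure ⟨(Multiplicative.toAdd m₁, Multiplicative.toAdd m₂), ?_⟩
      show Additive.ofMul (⟨⁅s (Multiplicative.toAdd m₁), s (Multiplicative.toAdd m₂)⁆, _⟩ :
        Subgroup.center X) = _
      congr 1
      exact Subtype.ext e.symm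
    | one =>
      refine ⟨Subgroup.one_mem _, ?_⟩
      have h1 : (⟨P.subtype 1, Subgroup.one_mem _⟩ : Subgroup.center X) = 1 := Subtype.ext (map_one _)
      have h2 : (⟨P.subtype 1, by rw [map_one]; exact Subgroup.one_mem _⟩ : Subgroup.center X) = 1 :=
        Subtype.ext (map_one _)
      rw [h2]
      exact AddSubgroup.zero_mem _
    | mul g g' _ _ ih ih' =>
      obtain ⟨h1, h2⟩ := ih
      obtain ⟨h1', h2'⟩ := ih'
      refine ⟨by rw [map_mul]; exact Subgroup.mul_mem _ h1 h1', ?_⟩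
      have h3 : (⟨P.subtype (g * g'), by rw [map_mul]; exact Subgroup.mul_mem _ h1 h1'⟩ :
          Subgroup.center X) = ⟨P.subtype g, h1⟩ * ⟨P.subtype g', h1'⟩ :=
        Subtype.ext (map_mul _ _ _)
      rw [h3, ofMul_mul]
      exact AddSubgroup.add_mem _ h2 h2'
    | inv g _ ih =>
      obtain ⟨h1, h2⟩ := ih
      refine ⟨by rw [map_inv]; exact Subgroup.inv_mem _ h1, ?_⟩
      have h3 : (⟨P.subtype g⁻¹, by rw [map_inv]; exact Subgroup.inv_mem _ h1⟩ :
          Subgroup.center X) = (⟨P.subtype g, h1⟩ : Subgroup.center X)⁻¹ :=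
        Subtype.ext (map_inv _ _)
      rw [h3, ofMul_inv]
      exact AddSubgroup.neg_mem _ h2
  -- the injection
  refine le_trans ?_ hbound
  let ι : N → AddSubgroup.closure (Set.range fun z : F × F => B z.1 z.2) :=
    fun n => ⟨Additive.ofMul (⟨(n : X), (hmem n n.2).1⟩ : Subgroup.center X), (hmem n n.2).2⟩
  refine Nat.card_le_card_of_injective ι ?_
  intro n n' h
  have h1 := congrArg Subtype.val h
  have h2 : (⟨(n : X), (hmem n n.2).1⟩ : Subgroup.center X) = ⟨(n' : X), (hmem n' n'.2).1⟩ :=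
    Additive.ofMul.injective h1
  exact Subtype.ext (congrArg (Subtype.val : Subgroup.center X → X) h2)

end Cfsg.Agent.Helper20.Sch
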