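import Mathlib
import Cfsg.Prelude.Def_Transfer
import Cfsg.Agent.Lib.Helper20.SchDefs
import Cfsg.Agent.Lib.Helper22.SchPLDefs
import Cfsg.Agent.Lib.Helper22.SchCOMMFORMCore
import Cfsg.Agent.Lib.Helper20.SchFORM2

/-!
# S4395 PIECE SCH-COMMFORM: the commutator form and the bound on `|N|` (exact-name wrapper)
-/

set_option autoImplicit false
set_option linter.unusedSectionVars false
set_option linter.unusedVariables false

namespace Cfsg.Agent.Helper20.Sch

open Cfsg.Agent.Helper22.SchPL (SchAct)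

universe u

variable {p q : ℕ} [Fact p.Prime] [Fact q.Prime]

section structure_

open scoped IsMulCommutative in
/-- SCH-COMMFORM : the commutator form and the bound on `|N|`. -/
theorem card_derSub_le {X : Type*} [Group X] [Finite X] (hpq : p ≠ q) {a : ℕ}
    (ha : a = orderOf (p : ZMod q)) (P : Subgroup X) [P.Normal] (y₁ : X)
    (N : Subgroup X) [N.Normal] (hN : N = derSub P) (hNc : N ≤ Subgroup.center X)
    (F : Type*) [Field F] [Finite F] (hF : Nat.card F = p ^ a) (μ : F) (hμ : orderOf μ = q)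
    (θ : Multiplicative F →* X ⧸ N) (hθr : θ.range = P.map (QuotientGroup.mk' N))
    (hθy : ∀ x : F, θ (Multiplicative.ofAdd (μ * x)) =
        (QuotientGroup.mk' N y₁) * θ (Multiplicative.ofAdd x) * (QuotientGroup.mk' N y₁)⁻¹)
    (a₀ : ℕ) (ha₀ : a₀ = if a % 2 = 1 then a else 3 * a / 2) :
    Nat.card N ≤ p ^ (a₀ - a) :=
  sch_commform_core P y₁ N hN hNc F μ θ hθr hθy (p ^ (a₀ - a))
    (fun B halt hinv => form_bound hpq ha hF μ hμ B halt hinv a₀ ha₀)

end structure_

end Cfsg.Agent.Helper20.Sch
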