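import Mathlib
import Cfsg.Agent.Lib.Helper20.TCDefs
import Cfsg.Agent.Lib.Helper12.Small60

/-!
# S3104 piece ALL3 (helper22, for helper20)
-/

set_option autoImplicit false

namespace Cfsg.Agent.Helper20.TC

open Cfsg Cfsg.Agent.Helper20.GL4Sub
open scoped Pointwise

namespace ALL3

/-- the order of a nonidentity element of `M` is 3, 5 or 7 -/
theorem orderOf_cases (M : Subgroup A8)
    (hcard : Nat.card M = 3 ∨ Nat.card M = 5 ∨ Nat.card M = 7 ∨ Nat.card M = 9)
    (h9 : Nat.card M = 9 → ∀ a ∈ M, a ^ 3 = 1) (x : A8) (hx : x ∈ M) (hx1 : x ≠ 1) :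
    orderOf x = 3 ∨ orderOf x = 5 ∨ orderOf x = 7 := by
  have hdvd : orderOf x ∣ Nat.card M := by
    have h := orderOf_dvd_natCard (⟨x, hx⟩ : M)
    rwa [Subgroup.orderOf_mk] at h
  have hne1 : orderOf x ≠ 1 := fun h => hx1 (orderOf_eq_one_iff.mp h)
  rcases hcard with h | h | h | h
  · left
    rw [h] at hdvd
    exact ((Nat.dvd_prime (by norm_num)).mp hdvd).resolve_left hne1
  · right; left
    rw [h] at hdvd
    exact ((Nat.dvd_prime (by norm_num)).mp hdvd).resolve_left hne1
  · right; right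
    rw [h] at hdvd
    exact ((Nat.dvd_prime (by norm_num)).mp hdvd).resolve_left hne1
  · left
    have h3 : orderOf x ∣ 3 := orderOf_dvd_of_pow_eq_one (h9 h x hx)
    exact ((Nat.dvd_prime (by norm_num)).mp h3).resolve_left hne1

end ALL3

theorem all_three_cycles (hC : CentSmall) (C M : Subgroup A8) (hns : ¬ Group.IsSolvable ↥C)
    (hCM : C ≤ Subgroup.centralizer (M : Set A8))
    (hcard : Nat.card M = 3 ∨ Nat.card M = 5 ∨ Nat.card M = 7 ∨ Nat.card M = 9)
    (h9 : Nat.card M = 9 → ∀ a ∈ M, a ^ 3 = 1) :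
    ∀ x ∈ M, x ≠ 1 → ((x : A8) : Equiv.Perm (Fin 8)).IsThreeCycle := by
  intro x hx hx1
  by_contra hnot
  apply hns
  have hord := ALL3.orderOf_cases M hcard h9 x hx hx1
  have hordc : orderOf ((x : A8) : Equiv.Perm (Fin 8)) = orderOf x := Subgroup.orderOf_coe x
  have hsmall : Nat.card (Subgroup.centralizer ({((x : A8) : Equiv.Perm (Fin 8))} :
      Set (Equiv.Perm (Fin 8)))) < 60 := by
    apply hC ((x : A8) : Equiv.Perm (Fin 8)) (orderOf x) hord hordc hnot
  -- the injective hom
  let f : ↥C →* ↥(Subgroup.centralizer ({((x : A8) : Equiv.Perm (Fin 8))} :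
      Set (Equiv.Perm (Fin 8)))) :=
    { toFun := fun c => ⟨((c : A8) : Equiv.Perm (Fin 8)), by
        rw [Subgroup.mem_centralizer_iff]
        intro y hy
        rw [Set.mem_singleton_iff] at hy
        subst hy
        have h1 := hCM c.2
        rw [Subgroup.mem_centralizer_iff] at h1
        have h2 := h1 x hx
        have h3 := congrArg (fun z : A8 => (z : Equiv.Perm (Fin 8))) h2
        simpa using h3⟩
      map_one' := by
        apply Subtype.ext
        rfl
      map_mul' := fun a b => by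
        apply Subtype.ext
        rfl }
  have hf : Function.Injective f := by
    intro a b hab
    have h1 : (((a : ↥C) : A8) : Equiv.Perm (Fin 8)) = (((b : ↥C) : A8) : Equiv.Perm (Fin 8)) :=
      congrArg (fun z : ↥(Subgroup.centralizer ({((x : A8) : Equiv.Perm (Fin 8))} :
        Set (Equiv.Perm (Fin 8)))) => (z : Equiv.Perm (Fin 8))) hab
    apply Subtype.ext
    apply Subtype.ext
    exact h1
  have hsol : Group.IsSolvable ↥(Subgroup.centralizer ({((x : A8) : Equiv.Perm (Fin 8))} :
      Set (Equiv.Perm (Fin 8)))) :=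
    Cfsg.Agent.Helper12.Small60.isSolvable_of_card_lt _ _ rfl hsmall
  exact Group.isSolvable_of_isSolvable_injective hf

end Cfsg.Agent.Helper20.TC
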