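import Mathlib
import Cfsg.Agent.Lib.Helper20.TCDefs
import Cfsg.Agent.Lib.Helper4.GL4SubISO

/-!
# S3104 piece AUT16 (helper22, for helper20): `MulAut V ≃* A8` for `V` elementary abelian of order 16
-/

set_option autoImplicit false
set_option linter.style.haveILetI false

namespace Cfsg.Agent.Helper20.TC

open Cfsg Cfsg.Agent.Helper20.GL4Sub
open scoped Pointwise

namespace AUT16

section linear

variable {M : Type*} [AddCommGroup M] [Module (ZMod 2) M]

/-- conjugation by a linear equivalence, as an isomorphism of automorphism groups -/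
def cj {M' : Type*} [AddCommGroup M'] [Module (ZMod 2) M'] (e : M ≃ₗ[ZMod 2] M') :
    (M ≃ₗ[ZMod 2] M) ≃* (M' ≃ₗ[ZMod 2] M') where
  toFun g := e.symm.trans (g.trans e)
  invFun g := e.trans (g.trans e.symm)
  left_inv g := by
    apply LinearEquiv.ext
    intro x
    simp
  right_inv g := by
    apply LinearEquiv.ext
    intro x
    simp
  map_mul' g g' := by
    apply LinearEquiv.ext
    intro x
    show e ((g * g') (e.symm x)) = e (g (e.symm (e (g' (e.symm x)))))
    rw [LinearEquiv.symm_apply_apply]
    rfl

/-- a module over `ZMod 2` with 16 elements is isomorphic to `U4` -/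
theorem exists_linearEquiv [Finite M] (hcard : Nat.card M = 16) :
    Nonempty (M ≃ₗ[ZMod 2] U4) := by
  haveI : Fintype M := Fintype.ofFinite M
  have h1 : Fintype.card M = Fintype.card (ZMod 2) ^ Module.finrank (ZMod 2) M :=
    Module.card_eq_pow_finrank
  rw [ZMod.card, ← Nat.card_eq_fintype_card, hcard] at h1
  have hr : Module.finrank (ZMod 2) M = 4 := by
    have h2 : (2 : ℕ) ^ 4 = 2 ^ Module.finrank (ZMod 2) M := by rw [← h1]; norm_num
    exact (Nat.pow_right_injective (le_refl 2) h2).symm
  have hfin : Module.finrank (ZMod 2) M = Module.finrank (ZMod 2) U4 := by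
    rw [Module.finrank_fin_fun, hr]
  exact ⟨LinearEquiv.ofFinrankEq _ _ hfin⟩

end linear

/-- the automorphisms of a commutative group of exponent 2 are the linear automorphisms of its
additive version -/
def toLin {V : Type*} [CommGroup V] [Module (ZMod 2) (Additive V)] :
    MulAut V ≃* (Additive V ≃ₗ[ZMod 2] Additive V) where
  toFun φ :=
    { toFun := fun m => Additive.ofMul (φ m.toMul)
      invFun := fun m => Additive.ofMul (φ.symm m.toMul)
      left_inv := fun m => by simp
      right_inv := fun m => by simp
      map_add' := fun a b => by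
        show Additive.ofMul (φ (a.toMul * b.toMul)) = _
        rw [map_mul]; rfl
      map_smul' := fun c m => by
        let g : Additive V →+ Additive V :=
          { toFun := fun m => Additive.ofMul (φ m.toMul)
            map_zero' := by show Additive.ofMul (φ 1) = 0; rw [map_one]; rfl
            map_add' := fun a b => by
              show Additive.ofMul (φ (a.toMul * b.toMul)) = _
              rw [map_mul]; rfl }
        exact (AddMonoidHom.toZModLinearMap 2 g).map_smul c m }
  invFun g :=
    { toFun := fun v => (g (Additive.ofMul v)).toMul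
      invFun := fun v => (g.symm (Additive.ofMul v)).toMul
      left_inv := fun v => by simp
      right_inv := fun v => by simp
      map_mul' := fun a b => by
        show (g (Additive.ofMul a + Additive.ofMul b)).toMul = _
        rw [map_add]; rfl }
  left_inv φ := by
    apply MulEquiv.ext
    intro v
    rfl
  right_inv g := by
    apply LinearEquiv.ext
    intro m
    rfl
  map_mul' φ ψ := by
    apply LinearEquiv.ext
    intro m
    rfl

end AUT16

theorem aut_iso_A8 {V : Type*} [Group V] (h : IsE16 V) : Nonempty (MulAut V ≃* A8) := by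
  obtain ⟨hcomm, hexp, hcard⟩ := h
  haveI : Finite V := Nat.finite_of_card_ne_zero (by rw [hcard]; norm_num)
  letI : CommGroup V := { (inferInstance : Group V) with mul_comm := hcomm }
  have h2 : ∀ x : Additive V, 2 • x = 0 := by
    intro x
    show Additive.ofMul (x.toMul ^ 2) = 0
    rw [hexp]
    rfl
  letI : Module (ZMod 2) (Additive V) := AddCommGroup.zmodModule h2
  have hcard' : Nat.card (Additive V) = 16 := hcard
  obtain ⟨e⟩ := AUT16.exists_linearEquiv (M := Additive V) hcard'
  let e1 : (U4 ≃ₗ[ZMod 2] U4) ≃* GL (Fin 4) (ZMod 2) :=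
    ((LinearMap.GeneralLinearGroup.generalLinearEquiv (ZMod 2) U4).symm).trans
      (Matrix.GeneralLinearGroup.toLin (n := Fin 4) (R := ZMod 2)).symm
  obtain ⟨e2⟩ := gl4_iso
  exact ⟨((AUT16.toLin.trans (AUT16.cj e)).trans e1).trans e2⟩

end Cfsg.Agent.Helper20.TC
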