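import Mathlib
import Cfsg.Agent.Lib.Helper22.BG127C

/-!
# Bender-Glauberman Corollary 12.7, part D (helper22): `τ₂(M) = {p}`
-/

set_option autoImplicit false

namespace Cfsg.Agent.Helper22.BG127

open Cfsg Subgroup
open Cfsg.Agent.Helper22.BG13
open Cfsg.Agent.Helper14.BGTrans Cfsg.Agent.Helper14.BGUniq
open Cfsg.Agent.Helper10 (IsPiNum)
open Cfsg.Agent.Helper15 (IsSylowIn exists_isSylowIn_ge exists_isSylowIn
  isSylowIn_of_not_dvd_relIndex mem_map_conj_iff)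

universe u

variable {G : Type u} [Group G] [Finite G]

/-- a Sylow subgroup of a Hall subgroup `W` of `K` for a prime of the Hall set is a Sylow subgroup
of `K` -/
theorem isSylowIn_of_isPiHallOf {π : Set ℕ} {W K T' : Subgroup G} {p : ℕ} [Fact p.Prime]
    (hW : IsPiHallOf π W K) (hpπ : p ∈ π) (hT' : IsSylowIn p T' W) : IsSylowIn p T' K := by
  have hpp : p.Prime := Fact.out
  apply isSylowIn_of_not_dvd_relIndex hT'.isPGroup (hT'.le.trans hW.1)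
  rw [← Subgroup.relIndex_mul_relIndex T' W K hT'.le hW.1]
  intro h
  rcases (Nat.Prime.dvd_mul hpp).mp h with h | h
  · exact hT'.not_dvd_relIndex h
  · exact hW.2.2 p hpp hpπ h

/-- **BG 12.7(a)**: `τ₂(M) = {p}` when the Sylow `p`-subgroups of `G` are nonabelian -/
theorem tau2_eq (hG : IsMinSimpleOddOrder G) (h1403 : Hyp1403 G) (h1350 : Hyp1350 G)
    (h1405 : Hyp1405 G) (h1408 : Hyp1408 G) (h1414 : Hyp1414 G) (h1416 : Hyp1416 G)
    (h1417 : Hyp1417 G) (h1418 : Hyp1418 G)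
    {M : Subgroup G} (hM : IsCoatom M) {E : Subgroup G} (hE : IsComplIn E (sigmaCore M) M)
    {p : ℕ} [Fact p.Prime] (hp : p ∈ tau2 M)
    (hS : ∀ S : Sylow p G, ¬ IsMulCommutative ↥(S : Subgroup G)) {A : Subgroup G}
    (hAE : A ≤ E) (hAe : IsElementaryAbelian p A) (hAc : Nat.card ↥A = p ^ 2) :
    tau2 M = {p} := by
  have hpp : p.Prime := Fact.out
  have hEM : E ≤ M := hE.1
  have hAM : A ≤ M := hAE.trans hEM
  ext q
  rw [Set.mem_singleton_iff]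
  constructor
  swap
  · rintro rfl; exact hp
  intro hq
  by_contra hqp
  have hqq : q.Prime := hq.1
  have : Fact q.Prime := ⟨hqq⟩
  obtain ⟨B, hBE, hBe, hBc⟩ :=
    Cfsg.Agent.Helper21.BG143.exists_elemAb_sq_le_compl hG h1350 hM hE hq
  have hBM : B ≤ M := hBE.trans hEM
  have hBp : IsPGroup q ↥B := IsPGroup.of_card hBc
  have hAp : IsPGroup p ↥A := IsPGroup.of_card hAc
  have hEA : E ≤ normalizer (A : Set G) := (h1418 M hM E hE p hp A ⟨hAE, hAe, hAc⟩).1.1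
  have hEB : E ≤ normalizer (B : Set G) := (h1418 M hM E hE q hq B ⟨hBE, hBe, hBc⟩).1.1
  -- `A` and `B` commute
  have hAB : ∀ a ∈ A, ∀ b ∈ B, a * b = b * a := by
    intro a ha b hb
    have h1 : a * b * a⁻¹ * b⁻¹ ∈ B :=
      B.mul_mem ((Subgroup.mem_normalizer_iff.mp (hEB (hAE ha)) b).mp hb) (B.inv_mem hb)
    have h2 : a * b * a⁻¹ * b⁻¹ ∈ A := by
      have h3 : b * a⁻¹ * b⁻¹ ∈ A :=
        (Subgroup.mem_normalizer_iff.mp (hEA (hBE hb)) a⁻¹).mp (A.inv_mem ha)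
      have h4 : a * b * a⁻¹ * b⁻¹ = a * (b * a⁻¹ * b⁻¹) := by group
      rw [h4]; exact A.mul_mem ha h3
    have hdisj := IsPGroup.disjoint_of_ne p q (fun h => hqp h.symm) A B hAp hBp
    have h5 : a * b * a⁻¹ * b⁻¹ = 1 := by
      have : a * b * a⁻¹ * b⁻¹ ∈ A ⊓ B := ⟨h2, h1⟩
      rw [hdisj.eq_bot] at this
      exact Subgroup.mem_bot.mp this
    calc a * b = a * b * a⁻¹ * b⁻¹ * (b * a) := by group
      _ = b * a := by rw [h5, one_mul]
  -- the set-up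
  obtain ⟨S₀, T, t, z, hS₀, hAS₀, hΩ, hcomm, hT, hS₀T, hTM, hTna, htT, htM, htA, hzA, hz1, hzc⟩ :=
    exists_setup h1416 h1417 hM hp hS hAM hAe hAc
  have hz1' : zpowers z ≠ ⊥ := fun h => hz1 (Subgroup.zpowers_eq_bot.mp h)
  obtain ⟨H, hH, hCH⟩ := exists_isCoatom_ge
    (Cfsg.Agent.Helper23.BG10.centralizer_ne_top' hG hz1')
  have hmemC : ∀ x : G, x * z = z * x → x ∈ centralizer (zpowers z : Set G) := by
    intro x hx
    rw [Cfsg.Agent.Helper22.centralizer_zpowers_eq]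
    exact Subgroup.mem_centralizer_singleton_iff.mpr hx
  have hTH : T ≤ H := fun x hx => hCH (hmemC x (hzc x hx))
  have hBH : B ≤ H := fun b hb => hCH (hmemC b (hAB z hzA b hb).symm)
  have hpH : p ∈ sigma H :=
    Cfsg.Agent.Lead.BGNonab.mem_sigma_of_nonabelian hG h1403
      (fun M hM p _ hp A hA P => ((h1417 M hM p hp A hA).2.1 P).1) hH hT.isPGroup hTna hTH
  have hTσ : T ≤ sigmaCore H :=
    le_sigmaCore_of_isPiNum h1350 hH hTH (isPiNum_of_isPGroup hpH hT.isPGroup)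
  have hHM : M ≠ H := by
    rintro rfl
    exact hp.2.1 hpH
  -- `q ∈ σ(H)`
  have hqdH : q ∣ Nat.card ↥H := by
    have h1 : Nat.card ↥B ∣ Nat.card ↥H := Subgroup.card_dvd_of_le hBH
    rw [hBc] at h1
    exact (dvd_pow_self q (by norm_num)).trans h1
  have hqH : q ∈ sigma H := by
    by_contra hqσ
    have hr2 : PRankLE q 2 ↥H :=
      Cfsg.Agent.Helper21.BG143.pRankLE_two_of_not_mem_sigma h1405 hH hqq hqdH hqσ
    have hr1 : ¬ PRankLE q 1 ↥H :=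
      Cfsg.Agent.Helper21.BG143.not_pRankLE_one_of_elemAb_sq hqq hBH hBe hBc
    have hqτ : q ∈ tau2 H := ⟨hqq, hqσ, hr2, hr1⟩
    obtain ⟨-, -, -, -, hstar, -⟩ := h1417 H hH q hqτ B ⟨hBH, hBe, hBc⟩
    have h1 := hstar M hM hHM hBM
    have h2 : z ∈ sigmaCore H ⊓ M := ⟨hTσ (hS₀T (hAS₀ hzA)), hAM hzA⟩
    rw [h1] at h2
    exact hz1 (Subgroup.mem_bot.mp h2)
  -- `p, q ∉ β(H)`
  have hpβ : p ∉ beta H := fun h => (h1408 M hM p hp.2.1 hp.2.2.1 hp.2.2.2).1 h.2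
  have hqβ : q ∉ beta H := fun h => (h1408 M hM q hq.2.1 hq.2.2.1 hq.2.2.2).1 h.2
  obtain ⟨-, -, -, ⟨W, hW, hWnil⟩, -⟩ := h1414 H hH
  obtain ⟨T', hT'⟩ := exists_isSylowIn (p := p) W
  obtain ⟨Q', hQ'⟩ := exists_isSylowIn (p := q) W
  have hT'σ : IsSylowIn p T' (sigmaCore H) := isSylowIn_of_isPiHallOf hW ⟨hpp, hpβ⟩ hT'
  have hQ'σ : IsSylowIn q Q' (sigmaCore H) := isSylowIn_of_isPiHallOf hW ⟨hqq, hqβ⟩ hQ'
  have hT'H : IsSylowIn p T' H := isSylowIn_of_isSylowIn_sigmaCore h1350 hH hpH hT'σ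
  have hT'top : IsSylowIn p T' ⊤ := isSylowIn_top_of_mem_sigma hpH hT'H
  have hcommW := commute_of_isSylowIn_nilpotent hWnil hT' hQ' (fun h => hqp h.symm)
  have hBσ : B ≤ sigmaCore H :=
    le_sigmaCore_of_isPiNum h1350 hH hBH (isPiNum_of_isPGroup hqH hBp)
  obtain ⟨Q'', hBQ'', hQ''⟩ := exists_isSylowIn_ge hBp hBσ
  obtain ⟨k, hk, hkQ⟩ := hQ''.exists_conj hQ'σ
  -- the conjugate of `T'` centralizing `B`
  set T'' := T'.map (MulAut.conj k⁻¹).toMonoidHom with hT''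
  have hT''top : IsSylowIn p T'' ⊤ := hT'top.map_conj_of_mem (Subgroup.mem_top _)
  have hCBM : centralizer (B : Set G) ≤ M := (h1416 M hM q B ⟨hBM, hBe, hBc⟩).1
  have hT''M : T'' ≤ M := by
    intro y hy
    apply hCBM
    obtain ⟨x, hx, rfl⟩ := hy
    apply Subgroup.mem_centralizer_iff.mpr
    intro b hb
    have hkb : k * b * k⁻¹ ∈ Q' := by
      rw [← hkQ]
      exact ⟨b, hBQ'' hb, rfl⟩
    have h1 := hcommW x hx _ hkb
    show b * (k⁻¹ * x * k⁻¹⁻¹) = k⁻¹ * x * k⁻¹⁻¹ * b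
    calc b * (k⁻¹ * x * k⁻¹⁻¹) = k⁻¹ * ((k * b * k⁻¹) * x) * k := by group
      _ = k⁻¹ * (x * (k * b * k⁻¹)) * k := by rw [h1]
      _ = k⁻¹ * x * k⁻¹⁻¹ * b := by group
  have hT''M' : IsSylowIn p T'' M := hT''top.of_le hT''M le_top
  have hc := ((h1417 M hM p hp A ⟨hAM, hAe, hAc⟩).2.1 hT''M'.toSylow).1
  apply hS hT''top.sylowOfTop
  refine ⟨⟨fun a b => Subtype.ext ?_⟩⟩
  have ha' : (⟨a.1, hT''M a.2⟩ : ↥M) ∈ (hT''M'.toSylow : Subgroup ↥M) := by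
    rw [hT''M'.coe_toSylow]; exact Subgroup.mem_subgroupOf.mpr a.2
  have hb' : (⟨b.1, hT''M b.2⟩ : ↥M) ∈ (hT''M'.toSylow : Subgroup ↥M) := by
    rw [hT''M'.coe_toSylow]; exact Subgroup.mem_subgroupOf.mpr b.2
  have h1 := hc.is_comm.comm (⟨⟨a.1, hT''M a.2⟩, ha'⟩ : ↥(hT''M'.toSylow : Subgroup ↥M))
    ⟨⟨b.1, hT''M b.2⟩, hb'⟩
  exact congrArg (fun w : ↥(hT''M'.toSylow : Subgroup ↥M) => ((w : ↥M) : G)) h1

end Cfsg.Agent.Helper22.BG127
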