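import Mathlib
import Cfsg.Agent.Lib.Helper22.BG127D
import Cfsg.Agent.Lib.Helper19.BG16C

/-!
# Bender-Glauberman Corollary 12.7, part E (helper22): the subgroup `A₀ = C_A(M_σ)`
-/

set_option autoImplicit false

namespace Cfsg.Agent.Helper22.BG127

open Cfsg Subgroup
open Cfsg.Agent.Helper22.BG13
open Cfsg.Agent.Helper14.BGTrans Cfsg.Agent.Helper14.BGUniq
open Cfsg.Agent.Helper10 (IsPiNum)
open Cfsg.Agent.Helper15 (IsSylowIn)

universe u

variable {G : Type u} [Group G] [Finite G]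

/-- **BG 12.7(b) (first part) and (c)**, given a `p`-element `t` of `N_G(A)` outside `M` -/
theorem partBC (hG : IsMinSimpleOddOrder G) (h1405 : Hyp1405 G) (h1417 : Hyp1417 G)
    (h1418 : Hyp1418 G)
    {M : Subgroup G} (hM : IsCoatom M) {E : Subgroup G} (hE : IsComplIn E (sigmaCore M) M)
    {p : ℕ} [Fact p.Prime] (hp : p ∈ tau2 M) {A : Subgroup G}
    (hAE : A ≤ E) (hAe : IsElementaryAbelian p A) (hAc : Nat.card ↥A = p ^ 2)
    (hCAM : centralizer (A : Set G) ≤ M)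
    {t : G} (htp : IsPGroup p ↥(zpowers t)) (htM : t ∉ M) (htA : t ∈ normalizer (A : Set G)) :
    Nat.card ↥(A ⊓ centralizer (sigmaCore M : Set G) : Subgroup G) = p ∧
      (∀ y ∈ A ⊓ centralizer (sigmaCore M : Set G), t * y = y * t → y = 1) ∧
      ∀ X : Subgroup G, X ≤ E → Nat.card ↥X = p → X ≠ A ⊓ centralizer (sigmaCore M : Set G) →
        sigmaCore M ⊓ centralizer (X : Set G) = ⊥ ∧ ¬ centralizer (X : Set G) ≤ M := by
  have hpp : p.Prime := Fact.out
  have hAM : A ≤ M := hAE.trans hE.1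
  obtain ⟨-, -, -, hCA, hstar, -⟩ := h1417 M hM p hp A ⟨hAM, hAe, hAc⟩
  obtain ⟨⟨-, hXA⟩, -, hbad⟩ := h1418 M hM E hE p hp A ⟨hAE, hAe, hAc⟩
  have htC : t ∉ centralizer (A : Set G) := fun h => htM (hCAM h)
  obtain ⟨Z₁, hZA, hZc, hZmem, hconj⟩ := exists_point_of_pElement hAe hAc htA htp htC
  have hσ1 : sigmaCore M ≠ ⊥ := Cfsg.Agent.Helper19.BG16.sigmaCore_ne_bot hG h1405 hM
  set σ := sigmaCore M with hσ
  have hpowM : ∀ k j : ℕ, (t ^ k) ^ j = t → t ^ k ∉ M := by
    intro k j hj h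
    apply htM
    rw [← hj]
    exact M.pow_mem h j
  -- conjugating a point with nontrivial fixed points
  have hbadconj : ∀ X : Subgroup G, X ≤ A → Nat.card ↥X = p → σ ⊓ centralizer (X : Set G) ≠ ⊥ →
      ∀ g : G, X.map (MulAut.conj g).toMonoidHom ≤ A →
      σ ⊓ centralizer ((X.map (MulAut.conj g).toMonoidHom : Subgroup G) : Set G) ≠ ⊥ →
      g ∈ M := by
    intro X hXA' hXc hXb g hgA hgb
    obtain ⟨-, hU1⟩ := hbad X hXA' hXc hXb
    obtain ⟨hC2, -⟩ := hbad (X.map (MulAut.conj g).toMonoidHom) hgA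
      (by rw [Subgroup.card_map_of_injective (MulAut.conj g).injective, hXc]) hgb
    have h1 : centralizer (X : Set G) ≤ M.map (MulAut.conj g⁻¹).toMonoidHom := by
      intro x hx
      have h2 : g * x * g⁻¹ ∈
          centralizer ((X.map (MulAut.conj g).toMonoidHom : Subgroup G) : Set G) := by
        apply Subgroup.mem_centralizer_iff.mpr
        rintro y ⟨w, hw, rfl⟩
        have h3 : w * x = x * w := Subgroup.mem_centralizer_iff.mp hx w hw
        show g * w * g⁻¹ * (g * x * g⁻¹) = g * x * g⁻¹ * (g * w * g⁻¹)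
        calc g * w * g⁻¹ * (g * x * g⁻¹) = g * (w * x) * g⁻¹ := by group
          _ = g * (x * w) * g⁻¹ := by rw [h3]
          _ = g * x * g⁻¹ * (g * w * g⁻¹) := by group
      refine ⟨g * x * g⁻¹, hC2 h2, ?_⟩
      show g⁻¹ * (g * x * g⁻¹) * g⁻¹⁻¹ = x
      group
    have h4 := hU1 _ (isCoatom_map_conj hM g⁻¹) h1
    have h5 := mem_of_map_conj_eq hG hM h4
    have := M.inv_mem h5
    rwa [inv_inv] at this
  have htZ : t ∈ centralizer (Z₁ : Set G) := by
    apply Subgroup.mem_centralizer_iff.mpr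
    intro z hz
    exact (((hZmem z).mp hz).2).symm
  have hZnb : σ ⊓ centralizer (Z₁ : Set G) = ⊥ := by
    by_contra h
    exact htM ((hbad Z₁ hZA hZc h).1 htZ)
  have huniq : ∀ X X' : Subgroup G, X ≤ A → Nat.card ↥X = p → X' ≤ A → Nat.card ↥X' = p →
      σ ⊓ centralizer (X : Set G) ≠ ⊥ → σ ⊓ centralizer (X' : Set G) ≠ ⊥ → X' = X := by
    intro X X' hXA' hXc hX'A hX'c hXb hX'b
    by_contra hne
    have hXZ : X ≠ Z₁ := by rintro rfl; exact hXb hZnb
    have hX'Z : X' ≠ Z₁ := by rintro rfl; exact hX'b hZnb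
    obtain ⟨k, hk, hk2⟩ :=
      exists_conj_point hAe hAc hZA hZc hconj hXA' hXc hXZ hX'A hX'c hX'Z
    obtain ⟨j, hj⟩ := hk2 hne
    exact hpowM k j hj (hbadconj X hXA' hXc hXb (t ^ k) (hk ▸ hX'A) (hk ▸ hX'b))
  -- coprime generation
  have hA1 : A ≠ ⊥ := by
    intro h
    rw [h, Subgroup.card_bot] at hAc
    have := hpp.one_lt
    nlinarith
  have hσp : ¬ p ∣ Nat.card ↥σ := fun h => hp.2.1 (isPiNum_card_sigmaCore M p hpp h)
  have hAσ : A ≤ normalizer (σ : Set G) := hAM.trans (le_normalizer_sigmaCore M)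
  have key := Cfsg.Agent.Helper14.KBal.le_iSup_hyperplane hAe hA1 hσp hAσ
  have hDc : ∀ D : Subgroup G, D ≤ A → D.relIndex A = p → Nat.card ↥D = p := by
    intro D hDA hDr
    have h1 := Cfsg.Agent.Helper14.KBal.card_hyperplane hDA hDr
    rw [hAc, sq] at h1
    exact Nat.eq_of_mul_eq_mul_right hpp.pos h1
  have hex : ∃ As : Subgroup G, As ≤ A ∧ Nat.card ↥As = p ∧
      σ ⊓ centralizer (As : Set G) ≠ ⊥ := by
    by_contra hno
    push Not at hno
    apply hσ1
    rw [eq_bot_iff]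
    refine key.trans (iSup_le ?_)
    rintro ⟨D, hDA, hDr⟩
    exact (hno D hDA (hDc D hDA hDr)).le
  obtain ⟨As, hAsA, hAsc, hAsb⟩ := hex
  have hσAs : σ ≤ centralizer (As : Set G) := by
    refine key.trans (iSup_le ?_)
    rintro ⟨D, hDA, hDr⟩
    by_cases hD : D = As
    · show σ ⊓ centralizer (D : Set G) ≤ centralizer (As : Set G)
      rw [hD]; exact inf_le_right
    · show σ ⊓ centralizer (D : Set G) ≤ centralizer (As : Set G)
      have h1 : σ ⊓ centralizer (D : Set G) = ⊥ := by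
        by_contra hb
        exact hD (huniq As D hAsA hAsc hDA (hDc D hDA hDr) hAsb hb)
      rw [h1]; exact bot_le
  set A₀ := A ⊓ centralizer (σ : Set G) with hA₀
  have hAsA₀ : As ≤ A₀ := by
    intro x hx
    refine ⟨hAsA hx, ?_⟩
    apply Subgroup.mem_centralizer_iff.mpr
    intro s hs
    exact (Subgroup.mem_centralizer_iff.mp (hσAs hs) x hx).symm
  have hA₀A : A₀ ≤ A := inf_le_left
  have hA₀ne : A₀ ≠ A := by
    intro h
    apply hσ1
    rw [eq_bot_iff, ← hCA]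
    intro s hs
    refine ⟨hs, ?_⟩
    apply Subgroup.mem_centralizer_iff.mpr
    intro a ha
    have : a ∈ A₀ := by rw [h]; exact ha
    exact (Subgroup.mem_centralizer_iff.mp this.2 s hs).symm
  have hA₀c : Nat.card ↥A₀ = p := by
    have h1 : Nat.card ↥A₀ ∣ p ^ 2 := hAc ▸ Subgroup.card_dvd_of_le hA₀A
    obtain ⟨i, hi2, hi⟩ := (Nat.dvd_prime_pow hpp).mp h1
    have hpd : p ∣ Nat.card ↥A₀ := hAsc ▸ Subgroup.card_dvd_of_le hAsA₀
    have hi0 : i ≠ 0 := by
      rintro rfl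
      rw [hi, pow_zero] at hpd
      exact hpp.one_lt.ne' (Nat.dvd_one.mp hpd)
    have hi2' : i ≠ 2 := by
      rintro rfl
      exact hA₀ne (Subgroup.eq_of_le_of_card_ge hA₀A (by rw [hi, hAc]))
    have : i = 1 := by omega
    rw [hi, this, pow_one]
  have hA₀As : As = A₀ := Subgroup.eq_of_le_of_card_ge hAsA₀ (by rw [hA₀c, hAsc])
  have hA₀b : σ ⊓ centralizer (A₀ : Set G) ≠ ⊥ := hA₀As ▸ hAsb
  have hA₀Z : A₀ ≠ Z₁ := by
    intro h
    rw [h] at hA₀b
    exact hA₀b hZnb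
  refine ⟨hA₀c, ?_, ?_⟩
  · intro y hy hty
    have hyZ : y ∈ Z₁ := (hZmem y).mpr ⟨hA₀A hy, hty⟩
    exact eq_one_of_mem_of_mem_of_ne hpp hA₀c hZc hA₀Z hy hyZ
  · intro X hXE hXc hXne
    have hXA' : X ≤ A := hXA X hXE hXc
    have hXnb : σ ⊓ centralizer (X : Set G) = ⊥ := by
      by_contra hb
      exact hXne (huniq A₀ X hA₀A hA₀c hXA' hXc hA₀b hb)
    refine ⟨hXnb, ?_⟩
    intro hCX
    by_cases hXZ : X = Z₁
    · rw [hXZ] at hCX
      exact htM (hCX htZ)
    · obtain ⟨k, hk, hk2⟩ :=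
        exists_conj_point hAe hAc hZA hZc hconj hA₀A hA₀c hA₀Z hXA' hXc hXZ
      obtain ⟨j, hj⟩ := hk2 hXne
      set g := t ^ k with hg
      have hgM : g ∉ M := hpowM k j hj
      have hgA : g ∈ normalizer (A : Set G) := (normalizer (A : Set G)).pow_mem htA k
      have hσL : σ ≤ M.map (MulAut.conj g⁻¹).toMonoidHom := by
        intro s hs
        have h2 : g * s * g⁻¹ ∈ centralizer (X : Set G) := by
          apply Subgroup.mem_centralizer_iff.mpr
          intro y hy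
          rw [← hk] at hy
          obtain ⟨w, hw, rfl⟩ := hy
          have h3 : s * w = w * s := Subgroup.mem_centralizer_iff.mp hw.2 s hs
          show g * w * g⁻¹ * (g * s * g⁻¹) = g * s * g⁻¹ * (g * w * g⁻¹)
          calc g * w * g⁻¹ * (g * s * g⁻¹) = g * (w * s) * g⁻¹ := by group
            _ = g * (s * w) * g⁻¹ := by rw [h3]
            _ = g * s * g⁻¹ * (g * w * g⁻¹) := by group
        refine ⟨g * s * g⁻¹, hCX h2, ?_⟩
        show g⁻¹ * (g * s * g⁻¹) * g⁻¹⁻¹ = s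
        group
      have hL : IsCoatom (M.map (MulAut.conj g⁻¹).toMonoidHom) := isCoatom_map_conj hM g⁻¹
      have hLM : M.map (MulAut.conj g⁻¹).toMonoidHom ≠ M := by
        intro h
        have h5 := mem_of_map_conj_eq hG hM h
        have := M.inv_mem h5
        rw [inv_inv] at this
        exact hgM this
      have hAL : A ≤ M.map (MulAut.conj g⁻¹).toMonoidHom := by
        intro a ha
        have h1 : g * a * g⁻¹ ∈ A := (Subgroup.mem_normalizer_iff.mp hgA a).mp ha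
        refine ⟨g * a * g⁻¹, hAM h1, ?_⟩
        show g⁻¹ * (g * a * g⁻¹) * g⁻¹⁻¹ = a
        group
      have h6 := hstar _ hL hLM hAL
      apply hσ1
      rw [eq_bot_iff, ← h6]
      exact le_inf le_rfl hσL

end Cfsg.Agent.Helper22.BG127
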