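import Mathlib
import Cfsg.Prelude.Def_Blocks
import Cfsg.Agent.Lib.Helper24.CharLinear
import Cfsg.Agent.Lib.Helper24.CharInduced
import Cfsg.Agent.Lib.Helper24.CharComplete
import Cfsg.Agent.Lib.Helper24.CharOrtho
import Cfsg.Agent.Lib.Helper10.BR996Defs
import Cfsg.Agent.Lib.Helper21.BTDefs
import Cfsg.Agent.Lib.Helper21.BHDefs
import Cfsg.Agent.Lib.Helper12.BTSUPP

/-!
# S4504, PIECE MOMENT (helper22): the second and fourth moments of `ζ` over the `p`-regular elements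

`T g := |Ξ g|² + |Ξ' g|² - 2 Ξ g`.  `∑_H T = |H| (w - 1)` (Parseval + `NumOut`), `∑_{sing} T = r w (w² - 1)`
(`SUPP.classInner_one_of_support`), so `∑_{reg} T = r w² (w - 1)`; on the other hand `T 1 = 2 w⁴ - 2 w²` and
`T g = 2 ρ (ρ - 1) ≤ 0` for `g ≠ 1` regular.  Hence `r ≤ 2 (w + 1) = p + 1`.
-/

set_option autoImplicit false
set_option linter.unusedSectionVars false
set_option linter.unusedVariables false
set_option linter.style.haveILetI false

namespace Cfsg.Agent.Helper21.BH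

open scoped ComplexConjugate
open Cfsg Cfsg.Agent.Helper24 Cfsg.Agent.Helper10.BR996 Cfsg.Agent.Helper21.BT

universe u

variable {H : Type u} [Group H] [Fintype H] [Fintype (IrrCharacter H)]
variable {p : ℕ} [Fact p.Prime] {Q : Subgroup H}

namespace MOMENT

/-- Parseval for the irreducible characters -/
theorem parseval {Θ₁ Θ₂ : H → ℂ} (h₁ : IsClassFunction H Θ₁) :
    classInner Θ₁ Θ₂ = ∑ χ : IrrCharacter H,
      classInner Θ₁ (χ : H → ℂ) * conj (classInner Θ₂ (χ : H → ℂ)) := by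
  have e := classFunction_expansion h₁
  have e' : Θ₁ = ∑ χ : IrrCharacter H, classInner Θ₁ (χ : H → ℂ) • (χ : H → ℂ) := by
    convert e using 2
  conv_lhs => rw [e']
  rw [classInner_sum_left]
  refine Finset.sum_congr rfl fun χ _ => ?_
  rw [classInner_smul_left, classInner_conj_symm]

/-- elements of `Q ∖ 1` have order `p` -/
theorem orderOf_eq (hcard : Nat.card Q = p) {z : H} (hz : z ∈ Q) (hz1 : z ≠ 1) : orderOf z = p := by
  have hp : p.Prime := Fact.out
  have hd : orderOf (⟨z, hz⟩ : Q) ∣ p := by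
    have := orderOf_dvd_natCard (⟨z, hz⟩ : Q)
    rwa [hcard] at this
  rw [Subgroup.orderOf_mk] at hd
  rcases (Nat.dvd_prime hp).1 hd with h | h
  · exact absurd (orderOf_eq_one_iff.1 h) hz1
  · exact h

/-- the sum of a class function over the `p`-singular elements -/
theorem sum_singular (hcard : Nat.card Q = p) (hcent : Subgroup.centralizer (Q : Set H) ≤ Q)
    {F : H → ℂ} (hF : IsClassFunction H F) :
    (p : ℂ) * (Q.relIndex (Subgroup.normalizer (Q : Set H)) : ℂ) *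
      ∑ g : H, (if p ∣ orderOf g then F g else 0) = (Nat.card H : ℂ) * dsum Q F := by
  classical
  set φ : H → ℂ := fun g => if p ∣ orderOf g then F g else 0 with hφ
  have hφc : IsClassFunction H φ := by
    intro g x
    have ho : orderOf (x * g * x⁻¹) = orderOf g := (MulAut.conj x).orderOf_eq g
    simp only [hφ, ho, hF g x]
  have hv : ∀ g : H, ¬ p ∣ orderOf g → φ g = 0 := fun g hg => by simp only [hφ, if_neg hg]
  have h1 := SUPP.classInner_one_of_support p Q hcard hcent hφc hv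
  have h2 : dsum Q φ = dsum Q F := by
    unfold dsum
    refine Finset.sum_congr rfl fun z _ => ?_
    by_cases hz : z ∈ Q ∧ z ≠ 1
    · rw [if_pos hz, if_pos hz]
      simp only [hφ]
      rw [if_pos]
      rw [orderOf_eq hcard hz.1 hz.2]
    · rw [if_neg hz, if_neg hz]
  rw [h2] at h1
  have hH : (Nat.card H : ℂ) ≠ 0 := by exact_mod_cast (Nat.card_pos (α := H)).ne'
  have hp0 : (p : ℂ) ≠ 0 := by exact_mod_cast (Fact.out : p.Prime).ne_zero
  have hw0 : (Q.relIndex (Subgroup.normalizer (Q : Set H)) : ℂ) ≠ 0 := by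
    have : Q.relIndex (Subgroup.normalizer (Q : Set H)) ≠ 0 := Subgroup.index_ne_zero_of_finite
    exact_mod_cast this
  have h3 : ∑ g : H, φ g = (Nat.card H : ℂ) *
      (((p : ℂ) * (Q.relIndex (Subgroup.normalizer (Q : Set H)) : ℂ))⁻¹ * dsum Q F) := by
    rw [← h1, ← mul_assoc, mul_inv_cancel₀ hH, one_mul]
  rw [h3]
  field_simp

/-- the count of the multiplicities -/
theorem count {w t : ℕ} (D : BTData p Q w t) {m1 m2 : IrrCharacter H → ℕ}
    (hnum : NumOut (fun χ : IrrCharacter H => charDegree (χ : H → ℂ)) D.X D.Y D.sg D.d0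
      (principalChar H) p w m1 m2) :
    ∑ χ : IrrCharacter H, ((m1 χ) ^ 2 + (m2 χ) ^ 2) = w + 1 := by
  classical
  obtain ⟨hX1, hX2, hrest, hY⟩ := hnum
  have hsub : ∑ χ : IrrCharacter H, ((m1 χ) ^ 2 + (m2 χ) ^ 2) =
      ∑ χ ∈ D.X ∪ D.Y, ((m1 χ) ^ 2 + (m2 χ) ^ 2) := by
    symm
    apply Finset.sum_subset (Finset.subset_univ _)
    intro χ _ hχ
    rw [Finset.mem_union, not_or] at hχ
    obtain ⟨h1, h2⟩ := hrest χ hχ.1 hχ.2
    rw [h1, h2]; norm_num
  rw [hsub, Finset.sum_union D.disj]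
  have hXs : ∑ χ ∈ D.X, ((m1 χ) ^ 2 + (m2 χ) ^ 2) = w := by
    have hc := D.cardX
    rw [Finset.card_eq_sum_ones] at hc
    refine Eq.trans ?_ hc
    refine Finset.sum_congr rfl fun χ hχ => ?_
    rcases D.sg_pm χ hχ with h | h
    · obtain ⟨a, b, -⟩ := hX1 χ hχ h
      rw [a, b]; norm_num
    · obtain ⟨a, b, -⟩ := hX2 χ hχ h
      rw [a, b]; norm_num
  have hYs : ∑ χ ∈ D.Y, ((m1 χ) ^ 2 + (m2 χ) ^ 2) = 1 := by
    rcases hY with ⟨-, hY1, hY2⟩ | ⟨-, hY1, hY2⟩
    · rw [← hY2]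
      refine Finset.sum_congr rfl fun χ hχ => ?_
      have hle : m2 χ ≤ 1 := by
        rw [← hY2]; exact Finset.single_le_sum (fun i _ => Nat.zero_le _) hχ
      rw [(hY1 χ hχ).2]
      have : m2 χ = 0 ∨ m2 χ = 1 := by omega
      rcases this with h | h <;> rw [h] <;> norm_num
    · rw [← hY2]
      refine Finset.sum_congr rfl fun χ hχ => ?_
      have hle : m1 χ ≤ 1 := by
        rw [← hY2]; exact Finset.single_le_sum (fun i _ => Nat.zero_le _) hχ
      rw [(hY1 χ hχ).2]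
      have : m1 χ = 0 ∨ m1 χ = 1 := by omega
      rcases this with h | h <;> rw [h] <;> norm_num
  rw [hXs, hYs]

end MOMENT

/-- PIECE MOMENT (section 4 of the bound note): the second and fourth moments of `ζ` over the `p`-regular elements. -/
theorem moment (hcard : Nat.card Q = p) (hcent : Subgroup.centralizer (Q : Set H) ≤ Q)
    {w t : ℕ} (hpw : 2 * w + 1 = p) (hw : 2 ≤ w)
    (hrel : Q.relIndex (Subgroup.normalizer (Q : Set H)) = w) (D : BTData p Q w t) (ht : 2 ≤ t)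
    {y₁ y₂ : H} (hy₁ : y₁ ∈ Q) (hy₂ : y₂ ∈ Q) (hy₁1 : y₁ ≠ 1) (hy₂1 : y₂ ≠ 1)
    (hsumQ : ∀ F : H → ℂ, IsClassFunction H F → dsum Q F = (w : ℂ) * (F y₁ + F y₂))
    {Ξ Ξ' : H → ℂ} (hΞ : IsCharacter H Ξ) (hΞ' : IsCharacter H Ξ')
    {m1 m2 : IrrCharacter H → ℕ}
    (hm1 : ∀ χ : IrrCharacter H, classInner Ξ (χ : H → ℂ) = (m1 χ : ℂ))
    (hm2 : ∀ χ : IrrCharacter H, classInner Ξ' (χ : H → ℂ) = (m2 χ : ℂ))
    (hnum : NumOut (fun χ : IrrCharacter H => charDegree (χ : H → ℂ)) D.X D.Y D.sg D.d0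
      (principalChar H) p w m1 m2)
    (hreg : ∀ g : H, ¬ p ∣ orderOf g → Ξ' g = Ξ g)
    (hΞ1 : Ξ 1 = (w : ℂ) ^ 2)
    (η₁ η₂ : ℂ) (h11 : Ξ y₁ = η₁ * conj η₁) (h12 : Ξ y₂ = η₂ * conj η₂)
    (h21 : Ξ' y₁ = η₁ * conj η₂) (h22 : Ξ' y₂ = η₂ * conj η₁)
    (hnorm : η₁ * conj η₁ + η₂ * conj η₂ = (w : ℂ) + 1)
    (hle : ∀ g : H, ¬ p ∣ orderOf g → g ≠ 1 → ∃ r : ℝ, Ξ g = (r : ℂ) ∧ 0 ≤ r ∧ r ≤ 1) :
    (Subgroup.normalizer (Q : Set H)).index ≤ p + 1 := by
  classical
  have hp : p.Prime := Fact.out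
  set r := (Subgroup.normalizer (Q : Set H)).index with hr
  -- `|H| = p w r`
  have hcardH : Nat.card H = p * w * r := by
    have h1 := Subgroup.relIndex_mul_index (Subgroup.le_normalizer : Q ≤ Subgroup.normalizer (Q : Set H))
    have h2 := Subgroup.card_mul_index Q
    rw [hrel] at h1
    rw [← h2, ← h1, hcard, hr]; ring
  have hcardHC : (Nat.card H : ℂ) = (p : ℂ) * w * r := by rw [hcardH]; push_cast; ring
  have hH : (Nat.card H : ℂ) ≠ 0 := by exact_mod_cast (Nat.card_pos (α := H)).ne'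
  have hΞc := isClassFunction_of_isCharacter hΞ
  have hΞ'c := isClassFunction_of_isCharacter hΞ'
  have hpC : (p : ℂ) = 2 * (w : ℂ) + 1 := by rw [← hpw]; push_cast; ring
  have hp0 : (p : ℂ) ≠ 0 := by exact_mod_cast hp.ne_zero
  have hw0 : (w : ℂ) ≠ 0 := by
    have : w ≠ 0 := by omega
    exact_mod_cast this
  -- singular sums
  have hsing : ∀ F : H → ℂ, IsClassFunction H F →
      ∑ g : H, (if p ∣ orderOf g then F g else 0) = (r : ℂ) * ((w : ℂ) * (F y₁ + F y₂)) := by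
    intro F hF
    have h1 := MOMENT.sum_singular hcard hcent hF
    rw [hrel, hsumQ F hF, hcardHC] at h1
    have hpw0 : (p : ℂ) * (w : ℂ) ≠ 0 := mul_ne_zero hp0 hw0
    apply mul_left_cancel₀ hpw0
    linear_combination h1
  -- the multiplicity of the principal character
  have hone : m1 (principalChar H) = 1 := by
    have hmem := D.one_memX ht
    have hsg : D.sg (principalChar H) = 1 := by
      have h0 := D.valX (principalChar H) hmem y₁ hy₁ hy₁1
      have h1 : ((principalChar H : IrrCharacter H) : H → ℂ) y₁ = 1 := rfl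
      rw [h1] at h0
      exact_mod_cast h0.symm
    exact (hnum.1 _ hmem hsg).1
  -- total sums
  have htot1 : ∑ g : H, Ξ g = (Nat.card H : ℂ) := by
    have h1 := hm1 (principalChar H)
    rw [hone] at h1
    have h2 : classInner Ξ ((principalChar H : IrrCharacter H) : H → ℂ) =
        (Nat.card H : ℂ)⁻¹ * ∑ g : H, Ξ g := by
      unfold classInner
      congr 1
      refine Finset.sum_congr rfl fun g _ => ?_
      have : ((principalChar H : IrrCharacter H) : H → ℂ) g = 1 := rfl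
      rw [this, map_one, mul_one]
    rw [h2] at h1
    have h3 : ∑ g : H, Ξ g = (Nat.card H : ℂ) * ((Nat.card H : ℂ)⁻¹ * ∑ g : H, Ξ g) := by
      rw [← mul_assoc, mul_inv_cancel₀ hH, one_mul]
    rw [h3, h1]; simp
  have hsq : ∀ (Θ : H → ℂ) (m : IrrCharacter H → ℕ), IsClassFunction H Θ →
      (∀ χ : IrrCharacter H, classInner Θ (χ : H → ℂ) = (m χ : ℂ)) →
      ∑ g : H, Θ g * conj (Θ g) =
        (Nat.card H : ℂ) * ∑ χ : IrrCharacter H, ((m χ : ℂ)) ^ 2 := by
    intro Θ m hΘ hm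
    have h2 : classInner Θ Θ = ∑ χ : IrrCharacter H, ((m χ : ℂ)) ^ 2 := by
      rw [MOMENT.parseval (Θ₂ := Θ) hΘ]
      refine Finset.sum_congr rfl fun χ _ => ?_
      rw [hm χ, Complex.conj_natCast, pow_two]
    have h3 : classInner Θ Θ = (Nat.card H : ℂ)⁻¹ * ∑ g : H, Θ g * conj (Θ g) := rfl
    rw [← h2, h3, ← mul_assoc, mul_inv_cancel₀ hH, one_mul]
  have hcount := MOMENT.count D hnum
  have hcountC : ∑ χ : IrrCharacter H, ((m1 χ : ℂ)) ^ 2 + ∑ χ : IrrCharacter H, ((m2 χ : ℂ)) ^ 2 =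
      (w : ℂ) + 1 := by
    rw [← Finset.sum_add_distrib]
    have := congrArg (fun n : ℕ => (n : ℂ)) hcount
    push_cast at this
    exact this
  -- the function `T`
  set T : H → ℂ := fun g => Ξ g * conj (Ξ g) + Ξ' g * conj (Ξ' g) - 2 * Ξ g with hT
  have hTc : IsClassFunction H T := by
    intro g x
    simp only [hT, hΞc g x, hΞ'c g x]
  have hTtot : ∑ g : H, T g = (Nat.card H : ℂ) * ((w : ℂ) - 1) := by
    simp only [hT]
    rw [Finset.sum_sub_distrib, Finset.sum_add_distrib, ← Finset.mul_sum, hsq Ξ m1 hΞc hm1,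
      hsq Ξ' m2 hΞ'c hm2, htot1, ← mul_add, hcountC]
    ring
  have hTy : T y₁ + T y₂ = (w : ℂ) ^ 2 - 1 := by
    simp only [hT]
    rw [h11, h12, h21, h22]
    simp only [map_mul, Complex.conj_conj]
    linear_combination (η₁ * conj η₁ + η₂ * conj η₂ + (w : ℂ) - 1) * hnorm
  have hTsing := hsing T hTc
  rw [hTy] at hTsing
  have hTreg : ∑ g : H, (if p ∣ orderOf g then 0 else T g) =
      (r : ℂ) * (w : ℂ) ^ 2 * ((w : ℂ) - 1) := by
    have h1 : ∑ g : H, (if p ∣ orderOf g then 0 else T g) =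
        ∑ g : H, T g - ∑ g : H, (if p ∣ orderOf g then T g else 0) := by
      rw [← Finset.sum_sub_distrib]
      refine Finset.sum_congr rfl fun g _ => ?_
      split_ifs <;> ring
    rw [h1, hTtot, hTsing, hcardHC, hpC]
    ring
  -- real parts
  have hre := congrArg Complex.re hTreg
  rw [Complex.re_sum] at hre
  have hrhs : ((r : ℂ) * (w : ℂ) ^ 2 * ((w : ℂ) - 1)).re = (r : ℝ) * (w : ℝ) ^ 2 * ((w : ℝ) - 1) := by
    have : ((r : ℂ) * (w : ℂ) ^ 2 * ((w : ℂ) - 1)) =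
        (((r : ℝ) * (w : ℝ) ^ 2 * ((w : ℝ) - 1) : ℝ) : ℂ) := by push_cast; ring
    rw [this, Complex.ofReal_re]
  rw [hrhs] at hre
  have h1reg : ¬ p ∣ orderOf (1 : H) := by
    rw [orderOf_one]
    exact fun h => hp.one_lt.ne' (Nat.dvd_one.mp h)
  have hbound : ∑ g : H, (if p ∣ orderOf g then (0 : ℂ) else T g).re ≤
      ∑ g : H, (if g = 1 then 2 * (w : ℝ) ^ 4 - 2 * (w : ℝ) ^ 2 else 0) := by
    refine Finset.sum_le_sum fun g _ => ?_
    by_cases hg : p ∣ orderOf g
    · have hg1 : g ≠ 1 := by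
        rintro rfl
        exact h1reg hg
      rw [if_pos hg, if_neg hg1]; simp
    · rw [if_neg hg]
      by_cases hg1 : g = 1
      · subst hg1
        rw [if_pos rfl]
        have hT1 : T 1 = ((2 * (w : ℝ) ^ 4 - 2 * (w : ℝ) ^ 2 : ℝ) : ℂ) := by
          simp only [hT]
          rw [hreg 1 h1reg, hΞ1]
          simp only [map_pow, Complex.conj_natCast]
          push_cast
          ring
        rw [hT1, Complex.ofReal_re]
      · rw [if_neg hg1]
        obtain ⟨ρ, hρ, hρ0, hρ1⟩ := hle g hg hg1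
        have hTg : T g = ((2 * ρ * (ρ - 1) : ℝ) : ℂ) := by
          simp only [hT]
          rw [hreg g hg, hρ, Complex.conj_ofReal]
          push_cast
          ring
        rw [hTg, Complex.ofReal_re]
        nlinarith
  rw [Finset.sum_ite_eq' Finset.univ (1 : H)] at hbound
  simp only [Finset.mem_univ, if_true] at hbound
  rw [hre] at hbound
  -- conclusion
  have hwR : (2 : ℝ) ≤ (w : ℝ) := by exact_mod_cast hw
  have hpos : 0 < (w : ℝ) ^ 2 * ((w : ℝ) - 1) := by
    apply mul_pos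
    · positivity
    · linarith
  have hfin : (r : ℝ) ≤ 2 * (w : ℝ) + 2 := by
    by_contra hcon
    push Not at hcon
    have : (2 * (w : ℝ) + 2) * ((w : ℝ) ^ 2 * ((w : ℝ) - 1)) < (r : ℝ) * ((w : ℝ) ^ 2 * ((w : ℝ) - 1)) :=
      mul_lt_mul_of_pos_right hcon hpos
    nlinarith
  have hfinN : r ≤ 2 * w + 2 := by exact_mod_cast hfin
  omega

end Cfsg.Agent.Helper21.BH
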