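import Mathlib
import Cfsg.Agent.Lib.Helper8.TIG5Defs

/-!
# S1786 Part G, step G5, piece TI-G5-5: `[PA, D] ≤ E`
-/

set_option autoImplicit false
set_option linter.unusedSectionVars false
set_option linter.unusedVariables false

namespace Cfsg.Agent.Helper26.TI

variable {G : Type*} [Group G] {V A P PA U : Subgroup G}

/-- TI-G5-5.  `[PA, D] ≤ E`. -/
theorem g5_comm_PA_D (h : G5Data V A P PA U) (hnt : NoTwist V A PA)
    (h2 : ∀ y ∈ PA, ∀ v ∈ V, cm y v ∈ g5E V PA)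
    (h4 : ∀ d ∈ g5D A P, ∀ e ∈ g5E V PA, cm d e ∈ A) :
    ∀ y ∈ PA, ∀ d ∈ g5D A P, cm y d ∈ g5E V PA := by
  intro y hy d hd
  obtain ⟨hdP, hdA⟩ := mem_g5D.1 hd
  have hdA' : ∀ a ∈ A, d * a = a * d := fun a ha => (hdA a ha).symm
  have hw : cm y d ∈ PA := by
    have h1 : d * y⁻¹ * d⁻¹ ∈ PA := h.norm_PA d hdA' y⁻¹ (PA.inv_mem hy)
    have h3 : cm y d = y * (d * y⁻¹ * d⁻¹) := by unfold cm; group
    rw [h3]; exact PA.mul_mem hy h1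
  refine mem_g5E.2 ⟨hw, ?_⟩
  intro v hv
  obtain ⟨w, hwdef⟩ : ∃ w, w = cm y d := ⟨_, rfl⟩
  rw [← hwdef] at hw ⊢
  obtain ⟨c, hcdef⟩ : ∃ c, c = cm v y := ⟨_, rfl⟩
  have hcE : c ∈ g5E V PA := by
    have h1 := h2 y hy v hv
    have h3 : c = (cm y v)⁻¹ := by rw [hcdef]; unfold cm; group
    rw [h3]; exact (g5E V PA).inv_mem h1
  obtain ⟨hcPA, hcV⟩ := mem_g5E.1 hcE
  have hcinvE : c⁻¹ ∈ g5E V PA := (g5E V PA).inv_mem hcE
  obtain ⟨a1, ha1def⟩ : ∃ a1, a1 = cm d c⁻¹ := ⟨_, rfl⟩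
  obtain ⟨a2, ha2def⟩ : ∃ a2, a2 = cm c w := ⟨_, rfl⟩
  have ha1 : a1 ∈ A := by rw [ha1def]; exact h4 d hd _ hcinvE
  have ha2 : a2 ∈ A := by rw [ha2def]; exact h.comm_PA _ hcPA _ hw
  have hvd : v * d = d * v := h.V_central v hv d hdP
  have hd1 : v * d * v⁻¹ = d := by rw [hvd]; group
  have hd2 : v * d⁻¹ * v⁻¹ = d⁻¹ := by
    have : v * d⁻¹ * v⁻¹ = (v * d * v⁻¹)⁻¹ := by group
    rw [this, hd1]
  have e1 : v * w * v⁻¹ = c * w * (d * c⁻¹ * d⁻¹) := by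
    calc v * w * v⁻¹ = (v * y * v⁻¹) * (v * d * v⁻¹) * (v * y⁻¹ * v⁻¹) * (v * d⁻¹ * v⁻¹) := by
          rw [hwdef]; unfold cm; group
      _ = (v * y * v⁻¹) * d * (v * y⁻¹ * v⁻¹) * d⁻¹ := by rw [hd1, hd2]
      _ = c * w * (d * c⁻¹ * d⁻¹) := by rw [hwdef, hcdef]; unfold cm; group
  have e2 : d * c⁻¹ * d⁻¹ = a1 * c⁻¹ := by rw [ha1def]; unfold cm; group
  have e3 : a1 * (c * w) = (c * w) * a1 := h.A_central a1 ha1 _ (PA.mul_mem hcPA hw)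
  have key : v * w * v⁻¹ = a1 * a2 * w := by
    calc v * w * v⁻¹ = c * w * (a1 * c⁻¹) := by rw [e1, e2]
      _ = ((c * w) * a1) * c⁻¹ := by group
      _ = (a1 * (c * w)) * c⁻¹ := by rw [e3]
      _ = a1 * a2 * w := by rw [ha2def]; unfold cm; group
  have h5 : cm w v = (a1 * a2)⁻¹ := by
    have h6 : cm w v = w * (v * w * v⁻¹)⁻¹ := by unfold cm; group
    rw [h6, key]; group
  have h6 : cm w v ∈ A := by rw [h5]; exact A.inv_mem (A.mul_mem ha1 ha2)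
  have h7 : cm w v = 1 := hnt w hw v hv h6
  have h8 : w * v * w⁻¹ * v⁻¹ = 1 := h7
  have h9 : w * v = v * w := by
    calc w * v = (w * v * w⁻¹ * v⁻¹) * (v * w) := by group
      _ = v * w := by rw [h8, one_mul]
  exact h9.symm

end Cfsg.Agent.Helper26.TI
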