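import Mathlib
import Cfsg.Agent.Lib.Helper8.ABDefs
import Cfsg.Agent.Lib.Helper9.ABINVPROD

/-!
S3301 piece AB-BLKA (owner helper8): if `u ∉ H` then `u` acts freely on the `Q`-block of the base
coset and preserves the factors, so the block product is `1`.
-/

set_option autoImplicit false
set_option linter.unusedSectionVars false

namespace Cfsg.Agent.Helper8.AB

open Cfsg.Agent.Helper8.XS

section block

variable {G : Type*} [Group G] [Finite G] {A : Type*} [CommGroup A] {z : G} {H : Subgroup G}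
  [Fintype (G ⧸ H)] {φ : ↥H →* A} {n : ℕ}

omit [Finite G] in
/-- Elements of the block of the base coset are the cosets `e H` with `e ∈ Q`. -/
theorem abblka_mem {Q : Subgroup G} {x : G ⧸ H} (hx : x ∈ blk Q H ((1 : G) : G ⧸ H)) :
    ∃ e ∈ Q, x = ((e : G) : G ⧸ H) := by
  obtain ⟨e, he, hxe⟩ := mem_blk.1 hx
  refine ⟨e, he, ?_⟩
  rw [hxe, MulAction.Quotient.smul_mk, smul_eq_mul, mul_one]

/-- PIECE AB-BLKA: the involution `u` acts freely on the block. -/
theorem block_A (gl : Glob z H φ n) (u : G) (Q : Subgroup G) (xs : XSp Q u)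
    (v : G) (hvu : v * u = u * v) (huH : u ∉ H) :
    ∏ x ∈ blk Q H ((1 : G) : G ⧸ H), valH (psi φ) (x.out⁻¹ * v * x.out) = 1 := by
  apply blk_prod_one Q H (fun x => valH (psi φ) (x.out⁻¹ * v * x.out)) _ u xs.hzE
  · intro x _
    rw [← mul_smul, xs.hzz, one_smul]
  · intro x hx hfix
    obtain ⟨e, he, rfl⟩ := abblka_mem hx
    rw [MulAction.Quotient.smul_mk, smul_eq_mul, QuotientGroup.eq] at hfix
    apply huH
    have h1 : (u * e)⁻¹ * e = e⁻¹ * u⁻¹ * e := by group
    have h2 : e⁻¹ * u⁻¹ * e = u⁻¹ := by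
      have hc := xs.hcen e he
      calc e⁻¹ * u⁻¹ * e = e⁻¹ * u⁻¹ * (e * u) * u⁻¹ := by group
        _ = e⁻¹ * u⁻¹ * (u * e) * u⁻¹ := by rw [hc]
        _ = u⁻¹ := by group
    rw [h1, h2] at hfix
    simpa using H.inv_mem hfix
  · intro x hx
    obtain ⟨e, he, rfl⟩ := abblka_mem hx
    show valH (psi φ) ((u • ((e : G) : G ⧸ H)).out⁻¹ * v * (u • ((e : G) : G ⧸ H)).out) =
      valH (psi φ) ((((e : G) : G ⧸ H)).out⁻¹ * v * (((e : G) : G ⧸ H)).out)
    rw [MulAction.Quotient.smul_mk, smul_eq_mul, valH_out, valH_out]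
    congr 1
    calc (u * e)⁻¹ * v * (u * e) = e⁻¹ * (u⁻¹ * (v * u)) * e := by group
      _ = e⁻¹ * (u⁻¹ * (u * v)) * e := by rw [hvu]
      _ = e⁻¹ * v * e := by group
  · intro x _
    exact valH_psi_sq φ gl.h4 _

end block

end Cfsg.Agent.Helper8.AB
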