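import Mathlib

/-!
# The alternating group has fewer conjugacy classes than the symmetric group
(helper22's library)
-/

set_option autoImplicit false

namespace Cfsg.Agent.Helper22.AltClasses

open Equiv Equiv.Perm

variable {α : Type*} [Fintype α] [DecidableEq α]

/-! ### Conjugacy inside the alternating group -/

theorem sign_eq_neg_one_of_ne {x : Perm α} (h : sign x ≠ 1) : sign x = -1 :=
  (Int.units_eq_one_or (sign x)).resolve_left h

/-- two even permutations conjugate under an even permutation are conjugate in `A_n` -/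
theorem isConj_of_even {h₀ h : alternatingGroup α} {x : Perm α} (hx : sign x = 1)
    (e : x * (h₀ : Perm α) * x⁻¹ = (h : Perm α)) : IsConj h₀ h := by
  rw [isConj_iff]
  exact ⟨⟨x, mem_alternatingGroup.mpr hx⟩, Subtype.ext e⟩

/-- if two even permutations are conjugate in `S_n` but not in `A_n`, the centraliser is even -/
theorem centralizer_le_of_not_isConj {h₀ h : alternatingGroup α}
    (hc : IsConj (h₀ : Perm α) (h : Perm α)) (hn : ¬ IsConj h₀ h) :
    Subgroup.centralizer {(h₀ : Perm α)} ≤ alternatingGroup α := by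
  obtain ⟨x, hx⟩ := isConj_iff.mp hc
  have hxs : sign x = -1 := by
    apply sign_eq_neg_one_of_ne
    intro h1
    exact hn (isConj_of_even h1 hx)
  intro z hz
  rw [mem_alternatingGroup]
  by_contra hz1
  have hzs := sign_eq_neg_one_of_ne hz1
  apply hn
  apply isConj_of_even (x := x * z)
  · rw [map_mul, hxs, hzs]; norm_num
  · have hcomm : z * (h₀ : Perm α) = (h₀ : Perm α) * z :=
      (Subgroup.mem_centralizer_singleton_iff.mp hz)
    rw [← hx]
    calc x * z * (h₀ : Perm α) * (x * z)⁻¹ = x * (z * (h₀ : Perm α)) * z⁻¹ * x⁻¹ := by group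
      _ = x * ((h₀ : Perm α) * z) * z⁻¹ * x⁻¹ := by rw [hcomm]
      _ = x * (h₀ : Perm α) * x⁻¹ := by group

/-- among three even permutations conjugate in `S_n`, two are conjugate in `A_n` -/
theorem isConj_of_three {h₀ h h' : alternatingGroup α}
    (hc : IsConj (h₀ : Perm α) (h : Perm α)) (hc' : IsConj (h₀ : Perm α) (h' : Perm α))
    (hn : ¬ IsConj h₀ h) (hn' : ¬ IsConj h₀ h') : IsConj h h' := by
  obtain ⟨x, hx⟩ := isConj_iff.mp hc
  obtain ⟨y, hy⟩ := isConj_iff.mp hc'
  have hxs : sign x = -1 := by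
    apply sign_eq_neg_one_of_ne
    intro h1
    exact hn (isConj_of_even h1 hx)
  have hys : sign y = -1 := by
    apply sign_eq_neg_one_of_ne
    intro h1
    exact hn' (isConj_of_even h1 hy)
  apply isConj_of_even (x := y * x⁻¹)
  · rw [map_mul, map_inv, hxs, hys]; norm_num
  · rw [← hx, ← hy]
    group

/-! ### The transform on cycle types -/

/-- the hypothesis on a cycle type equivalent to the centraliser being even -/
def Good (m : Multiset ℕ) (n : ℕ) : Prop :=
  (∀ c ∈ m, Odd c) ∧ n ≤ m.sum + 1 ∧ ∀ i, Multiset.count i m ≤ 1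

/-- injectivity of "replace a part `a` by `a - 1`" on multisets of odd numbers -/
theorem transform_injective {m₁ m₂ : Multiset ℕ} (h₁ : ∀ c ∈ m₁, Odd c) (h₂ : ∀ c ∈ m₂, Odd c)
    {a₁ a₂ : ℕ} (ha₁ : a₁ ∈ m₁) (ha₂ : a₂ ∈ m₂)
    (e : m₁.erase a₁ + {a₁ - 1} = m₂.erase a₂ + {a₂ - 1}) : m₁ = m₂ := by
  have hf : ∀ (m : Multiset ℕ) (a : ℕ), (∀ c ∈ m, Odd c) → a ∈ m →
      (m.erase a + {a - 1}).filter Even = {a - 1} := by
    intro m a hm ha
    rw [Multiset.filter_add]
    have e1 : (m.erase a).filter Even = 0 := by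
      rw [Multiset.filter_eq_nil]
      intro c hc
      rw [Nat.not_even_iff_odd]
      exact hm c (Multiset.mem_of_mem_erase hc)
    have e2 : ({a - 1} : Multiset ℕ).filter Even = {a - 1} := by
      rw [Multiset.filter_eq_self]
      intro c hc
      rw [Multiset.mem_singleton] at hc
      rw [hc]
      obtain ⟨k, hk⟩ := hm a ha
      exact ⟨k, by omega⟩
    rw [e1, e2, zero_add]
  have e3 := congrArg (Multiset.filter Even) e
  rw [hf m₁ a₁ h₁ ha₁, hf m₂ a₂ h₂ ha₂, Multiset.singleton_inj] at e3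
  have hp₁ : 0 < a₁ := (h₁ a₁ ha₁).pos
  have hp₂ : 0 < a₂ := (h₂ a₂ ha₂).pos
  have ha : a₁ = a₂ := by omega
  rw [ha] at e ha₁
  have e4 := add_right_cancel e
  rw [← Multiset.cons_erase ha₁, ← Multiset.cons_erase ha₂, e4]

/-- the transform, with a chosen part -/
noncomputable def Tm (m : Multiset ℕ) : Multiset ℕ :=
  if h : m = 0 then 0 else
    m.erase (Classical.choose (Multiset.exists_mem_of_ne_zero h)) +
      {Classical.choose (Multiset.exists_mem_of_ne_zero h) - 1}

theorem Tm_spec {m : Multiset ℕ} (h : m ≠ 0) : ∃ a ∈ m, Tm m = m.erase a + {a - 1} := by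
  refine ⟨Classical.choose (Multiset.exists_mem_of_ne_zero h),
    Classical.choose_spec (Multiset.exists_mem_of_ne_zero h), ?_⟩
  unfold Tm
  rw [dif_neg h]

theorem Tm_injective {m₁ m₂ : Multiset ℕ} (h₁ : ∀ c ∈ m₁, Odd c) (h₂ : ∀ c ∈ m₂, Odd c)
    (hn₁ : m₁ ≠ 0) (hn₂ : m₂ ≠ 0) (e : Tm m₁ = Tm m₂) : m₁ = m₂ := by
  obtain ⟨a₁, ha₁, e₁⟩ := Tm_spec hn₁
  obtain ⟨a₂, ha₂, e₂⟩ := Tm_spec hn₂
  rw [e₁, e₂] at e
  exact transform_injective h₁ h₂ ha₁ ha₂ e

theorem Tm_sum {m : Multiset ℕ} (h : ∀ c ∈ m, Odd c) (hn : m ≠ 0) : (Tm m).sum + 1 = m.sum := by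
  obtain ⟨a, ha, e⟩ := Tm_spec hn
  rw [e, Multiset.sum_add, Multiset.sum_singleton]
  have h1 := Multiset.sum_erase ha
  have h2 : 0 < a := (h a ha).pos
  omega

theorem Tm_card {m : Multiset ℕ} (hn : m ≠ 0) : Multiset.card (Tm m) = Multiset.card m := by
  obtain ⟨a, ha, e⟩ := Tm_spec hn
  rw [e, Multiset.card_add, Multiset.card_singleton, Multiset.card_erase_of_mem ha]
  have : 0 < Multiset.card m := Multiset.card_pos_iff_exists_mem.mpr ⟨a, ha⟩
  rw [Nat.pred_eq_sub_one]
  omega

theorem Tm_two_le {m : Multiset ℕ} (h : ∀ c ∈ m, Odd c) (h2 : ∀ c ∈ m, 2 ≤ c) (hn : m ≠ 0) :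
    ∀ c ∈ Tm m, 2 ≤ c := by
  obtain ⟨a, ha, e⟩ := Tm_spec hn
  intro c hc
  rw [e] at hc
  rcases Multiset.mem_add.mp hc with h1 | h1
  · exact h2 c (Multiset.mem_of_mem_erase h1)
  · rw [Multiset.mem_singleton] at h1
    obtain ⟨k, hk⟩ := h a ha
    have := h2 a ha
    omega

theorem Tm_ne_two {m : Multiset ℕ} (hn : m ≠ 0) (hs : 4 ≤ m.sum) : Tm m ≠ {2} := by
  obtain ⟨a, ha, e⟩ := Tm_spec hn
  intro h
  have hc := Tm_card hn
  rw [h, Multiset.card_singleton] at hc
  obtain ⟨b, hb⟩ := Multiset.card_eq_one.mp hc.symm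
  rw [hb, Multiset.mem_singleton] at ha
  rw [e, hb, ha, Multiset.erase_singleton, zero_add, Multiset.singleton_inj] at h
  rw [hb, Multiset.sum_singleton] at hs
  omega

/-! ### Classes -/

/-- the cycle type of a conjugacy class of permutations -/
noncomputable def ct (c : ConjClasses (Perm α)) : Multiset ℕ := (Quotient.out c).cycleType

theorem mk_out (c : ConjClasses (Perm α)) : ConjClasses.mk (Quotient.out c) = c := by
  rw [← ConjClasses.quotient_mk_eq_mk]
  exact Quotient.out_eq c

theorem ct_mk (g : Perm α) : ct (ConjClasses.mk g) = g.cycleType := by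
  unfold ct
  apply isConj_iff_cycleType_eq.mp
  rw [← ConjClasses.mk_eq_mk_iff_isConj, mk_out]

theorem eq_of_ct_eq {c c' : ConjClasses (Perm α)} (h : ct c = ct c') : c = c' := by
  rw [← mk_out c, ← mk_out c', ConjClasses.mk_eq_mk_iff_isConj, isConj_iff_cycleType_eq]
  exact h

theorem ct_two_le (c : ConjClasses (Perm α)) : ∀ i ∈ ct c, 2 ≤ i :=
  fun _ hi => two_le_of_mem_cycleType hi

theorem ct_sum_le (c : ConjClasses (Perm α)) : (ct c).sum ≤ Fintype.card α := by
  unfold ct
  rw [sum_cycleType]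
  exact Finset.card_le_univ _

/-- the image class -/
noncomputable def tau (c : ConjClasses (Perm α)) : ConjClasses (Perm α) :=
  if h : ∃ g : Perm α, g.cycleType = Tm (ct c) then ConjClasses.mk (Classical.choose h) else c

theorem ct_ne_zero {c : ConjClasses (Perm α)} (hg : Good (ct c) (Fintype.card α))
    (h5 : 5 ≤ Fintype.card α) : ct c ≠ 0 := by
  intro h
  have := hg.2.1
  rw [h, Multiset.sum_zero] at this
  omega

theorem ct_tau {c : ConjClasses (Perm α)} (hg : Good (ct c) (Fintype.card α))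
    (h5 : 5 ≤ Fintype.card α) : ct (tau c) = Tm (ct c) := by
  have hn := ct_ne_zero hg h5
  have hex : ∃ g : Perm α, g.cycleType = Tm (ct c) := by
    rw [exists_with_cycleType_iff]
    refine ⟨?_, Tm_two_le hg.1 (ct_two_le c) hn⟩
    have h1 := Tm_sum hg.1 hn
    have h2 := ct_sum_le c
    omega
  unfold tau
  rw [dif_pos hex, ct_mk]
  exact Classical.choose_spec hex

/-- the map on classes induced by the inclusion of the alternating group -/
def iota (a : ConjClasses (alternatingGroup α)) : ConjClasses (Perm α) :=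
  ConjClasses.map (alternatingGroup α).subtype a

theorem iota_mk (h : alternatingGroup α) : iota (ConjClasses.mk h) = ConjClasses.mk (h : Perm α) :=
  rfl

theorem even_ct_iota (a : ConjClasses (alternatingGroup α)) :
    Even ((ct (iota a)).sum + Multiset.card (ct (iota a))) := by
  obtain ⟨h, rfl⟩ := ConjClasses.exists_rep a
  rw [iota_mk, ct_mk]
  have h1 : sign (h : Perm α) = 1 := mem_alternatingGroup.mp h.2
  rw [sign_of_cycleType] at h1
  exact (neg_one_pow_eq_one_iff_even (by decide)).mp h1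

open Classical in
/-- a chosen class of the alternating group in each fibre -/
noncomputable def chosen (c : ConjClasses (Perm α)) : ConjClasses (alternatingGroup α) :=
  if h : ∃ a, iota a = c then Classical.choose h else ConjClasses.mk 1

theorem iota_chosen (a : ConjClasses (alternatingGroup α)) : iota (chosen (iota a)) = iota a := by
  have hex : ∃ a', iota a' = iota a := ⟨a, rfl⟩
  unfold chosen
  rw [dif_pos hex]
  exact Classical.choose_spec hex

theorem good_of_ne {a : ConjClasses (alternatingGroup α)} (h : a ≠ chosen (iota a)) :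
    Good (ct (iota a)) (Fintype.card α) := by
  have h1 := iota_chosen a
  obtain ⟨g, hg⟩ := ConjClasses.exists_rep a
  obtain ⟨g₀, hg₀⟩ := ConjClasses.exists_rep (chosen (iota a))
  rw [← hg₀, ← hg, iota_mk, iota_mk, ConjClasses.mk_eq_mk_iff_isConj] at h1
  have h2 : ¬ IsConj g₀ g := by
    intro hc
    apply h
    rw [← hg₀, ← hg, ConjClasses.mk_eq_mk_iff_isConj]
    exact hc.symm
  have h3 := centralizer_le_of_not_isConj h1 h2
  rw [centralizer_le_alternating_iff] at h3
  have h4 : ct (iota a) = (g₀ : Perm α).cycleType := by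
    rw [← hg, iota_mk, ct_mk]
    exact (isConj_iff_cycleType_eq.mp h1).symm
  rw [h4]
  exact h3

theorem eq_of_ne_chosen {a a' : ConjClasses (alternatingGroup α)} (hι : iota a = iota a')
    (h : a ≠ chosen (iota a)) (h' : a' ≠ chosen (iota a')) : a = a' := by
  have h1 := iota_chosen a
  rw [← hι] at h'
  obtain ⟨g, hg⟩ := ConjClasses.exists_rep a
  obtain ⟨g', hg'⟩ := ConjClasses.exists_rep a'
  obtain ⟨g₀, hg₀⟩ := ConjClasses.exists_rep (chosen (iota a))
  have e1 : IsConj (g₀ : Perm α) (g : Perm α) := by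
    rw [← hg₀, ← hg, iota_mk, iota_mk, ConjClasses.mk_eq_mk_iff_isConj] at h1
    exact h1
  have e2 : IsConj (g₀ : Perm α) (g' : Perm α) := by
    have h1' : iota (chosen (iota a)) = iota a' := h1.trans hι
    rw [← hg₀, ← hg', iota_mk, iota_mk, ConjClasses.mk_eq_mk_iff_isConj] at h1'
    exact h1'
  have n1 : ¬ IsConj g₀ g := by
    intro hc
    apply h
    rw [← hg₀, ← hg, ConjClasses.mk_eq_mk_iff_isConj]
    exact hc.symm
  have n2 : ¬ IsConj g₀ g' := by
    intro hc
    apply h'
    rw [← hg₀, ← hg', ConjClasses.mk_eq_mk_iff_isConj]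
    exact hc.symm
  rw [← hg, ← hg', ConjClasses.mk_eq_mk_iff_isConj]
  exact isConj_of_three e1 e2 n1 n2

open Classical in
/-- the injection from the classes of the alternating group to those of the symmetric group -/
noncomputable def Phi (a : ConjClasses (alternatingGroup α)) : ConjClasses (Perm α) :=
  if a = chosen (iota a) then iota a else tau (iota a)

theorem odd_ct_tau {c : ConjClasses (Perm α)} (hg : Good (ct c) (Fintype.card α))
    (h5 : 5 ≤ Fintype.card α) (hev : Even ((ct c).sum + Multiset.card (ct c))) :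
    ¬ Even ((ct (tau c)).sum + Multiset.card (ct (tau c))) := by
  rw [ct_tau hg h5, Tm_card (ct_ne_zero hg h5)]
  have h1 := Tm_sum hg.1 (ct_ne_zero hg h5)
  rw [← h1] at hev
  intro h
  rw [Nat.even_add] at hev h
  rw [Nat.even_add_one] at hev
  tauto

theorem Phi_injective (h5 : 5 ≤ Fintype.card α) : Function.Injective (Phi (α := α)) := by
  classical
  intro a a' haa'
  unfold Phi at haa'
  by_cases h : a = chosen (iota a) <;> by_cases h' : a' = chosen (iota a')
  · rw [if_pos h, if_pos h'] at haa'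
    rw [h, h', haa']
  · rw [if_pos h, if_neg h'] at haa'
    exfalso
    apply odd_ct_tau (good_of_ne h') h5 (even_ct_iota a')
    rw [← haa']
    exact even_ct_iota a
  · rw [if_neg h, if_pos h'] at haa'
    exfalso
    apply odd_ct_tau (good_of_ne h) h5 (even_ct_iota a)
    rw [haa']
    exact even_ct_iota a'
  · rw [if_neg h, if_neg h'] at haa'
    have hg := good_of_ne h
    have hg' := good_of_ne h'
    have e1 := congrArg ct haa'
    rw [ct_tau hg h5, ct_tau hg' h5] at e1
    have e2 := Tm_injective hg.1 hg'.1 (ct_ne_zero hg h5) (ct_ne_zero hg' h5) e1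
    exact eq_of_ne_chosen (eq_of_ct_eq e2) h h'

theorem Phi_not_surjective (h5 : 5 ≤ Fintype.card α) : ¬ Function.Surjective (Phi (α := α)) := by
  classical
  intro hsurj
  obtain ⟨x, y, hxy⟩ := Fintype.exists_pair_of_one_lt_card (α := α) (by omega)
  obtain ⟨a, ha⟩ := hsurj (ConjClasses.mk (swap x y))
  have hct : ct (ConjClasses.mk (swap x y)) = {2} := by
    rw [ct_mk, (isCycle_swap hxy).cycleType, card_support_swap hxy]
  unfold Phi at ha
  by_cases h : a = chosen (iota a)
  · rw [if_pos h] at ha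
    have := even_ct_iota a
    rw [ha, hct] at this
    revert this
    decide
  · rw [if_neg h] at ha
    have hg := good_of_ne h
    have e1 := congrArg ct ha
    rw [ct_tau hg h5, hct] at e1
    have h4 : 4 ≤ (ct (iota a)).sum := by
      have := hg.2.1
      omega
    exact Tm_ne_two (ct_ne_zero hg h5) h4 e1

/-- for `n ≥ 5` the alternating group has fewer classes than the symmetric group -/
theorem card_conjClasses_lt (h5 : 5 ≤ Fintype.card α) :
    Fintype.card (ConjClasses (alternatingGroup α)) < Fintype.card (ConjClasses (Perm α)) :=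
  Fintype.card_lt_of_injective_not_surjective _ (Phi_injective h5) (Phi_not_surjective h5)

end Cfsg.Agent.Helper22.AltClasses
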