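import Mathlib

set_option autoImplicit false

/-! Two-groups with exactly three involutions, all central, and an automorphism of 3-power order
fixing none of them: basic facts. -/

namespace Cfsg.Agent.Helper22.Aut3

open Subgroup

variable {T : Type*} [Group T]

/-- The configuration. -/
structure Cfg (T : Type*) [Group T] (ψ : MulAut T) : Prop where
  fin : Finite T
  pg : IsPGroup 2 T
  cen : ∀ x : T, x * x = 1 → ∀ g : T, g * x = x * g
  four : Nat.card {x : T // x * x = 1} = 4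
  nofix : ∀ x : T, x * x = 1 → ψ x = x → x = 1
  ord : ∃ a : ℕ, ψ ^ (3 ^ a) = 1

variable {ψ : MulAut T}

/-- The subgroup of elements of order at most two. -/
def Cfg.Z (C : Cfg T ψ) : Subgroup T where
  carrier := {x | x * x = 1}
  one_mem' := by simp
  mul_mem' := by
    intro a b ha hb
    simp only [Set.mem_ofPred_eq] at *
    have h := C.cen a ha b
    calc a * b * (a * b) = a * (b * a) * b := by group
      _ = a * (a * b) * b := by rw [h]
      _ = (a * a) * (b * b) := by group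
      _ = 1 := by rw [ha, hb, one_mul]
  inv_mem' := by
    intro a ha
    simp only [Set.mem_ofPred_eq] at *
    have : a⁻¹ = a := by
      rw [inv_eq_iff_mul_eq_one]; exact ha
    rw [this]; exact ha

theorem Cfg.mem_Z (C : Cfg T ψ) {x : T} : x ∈ C.Z ↔ x * x = 1 := Iff.rfl

theorem Cfg.card_Z (C : Cfg T ψ) : Nat.card C.Z = 4 := C.four

theorem Cfg.Z_comm (C : Cfg T ψ) {x : T} (hx : x ∈ C.Z) (g : T) : g * x = x * g :=
  C.cen x hx g

theorem Cfg.Z_le_center (C : Cfg T ψ) : C.Z ≤ center T := by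
  intro x hx
  rw [mem_center_iff]
  intro g
  exact C.cen x hx g

theorem Cfg.inv_of_mem_Z (C : Cfg T ψ) {x : T} (hx : x ∈ C.Z) : x⁻¹ = x := by
  rw [inv_eq_iff_mul_eq_one]; exact hx

theorem Cfg.psi_mem_Z (C : Cfg T ψ) {x : T} (hx : x ∈ C.Z) : ψ x ∈ C.Z := by
  rw [C.mem_Z] at *
  rw [← map_mul, hx, map_one]

theorem Cfg.Z_normal (C : Cfg T ψ) : C.Z.Normal := by
  constructor
  intro n hn g
  have h := C.Z_comm hn g
  have : g * n * g⁻¹ = n := by rw [h]; group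
  rw [this]; exact hn

/-- Every nontrivial element has a power which is an involution. -/
theorem Cfg.exists_pow_invol (C : Cfg T ψ) {x : T} (hx : x ≠ 1) :
    ∃ k : ℕ, x ^ k ≠ 1 ∧ x ^ k ∈ C.Z := by
  have := C.fin
  obtain ⟨m, hm⟩ := (IsPGroup.iff_orderOf.mp C.pg) x
  have hm0 : m ≠ 0 := by
    rintro rfl
    rw [pow_zero, orderOf_eq_one_iff] at hm
    exact hx hm
  obtain ⟨j, rfl⟩ := Nat.exists_eq_succ_of_ne_zero hm0
  refine ⟨2 ^ j, ?_, ?_⟩
  · intro h
    have hd := orderOf_dvd_of_pow_eq_one h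
    rw [hm] at hd
    have : 2 ^ (j + 1) ≤ 2 ^ j := Nat.le_of_dvd (by positivity) hd
    have : 2 ^ j < 2 ^ (j + 1) := Nat.pow_lt_pow_right (by norm_num) (Nat.lt_succ_self j)
    omega
  · rw [C.mem_Z, ← pow_add, ← two_mul, ← pow_succ', ← hm, pow_orderOf_eq_one]

/-- `ψ` has no nontrivial fixed points. -/
theorem Cfg.fpf (C : Cfg T ψ) {x : T} (h : ψ x = x) : x = 1 := by
  by_contra hx
  obtain ⟨k, hk1, hk2⟩ := C.exists_pow_invol hx
  apply hk1
  apply C.nofix _ hk2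
  rw [map_pow, h]

theorem pow_fix {x : T} (h : ψ x = x) (n : ℕ) : (ψ ^ n) x = x := by
  induction n with
  | zero => simp
  | succ n ih => rw [pow_succ, MulAut.mul_apply, h, ih]

/-- A `ψ`-invariant subgroup `N`: if `x⁻¹ ψ(x) ∈ N` then `x ∈ N`. -/
theorem Cfg.sec_fpf (C : Cfg T ψ) (N : Subgroup T) (hN : ∀ n ∈ N, ψ n ∈ N) {x : T}
    (h : x⁻¹ * ψ x ∈ N) : x ∈ N := by
  have := C.fin
  let f : N → N := fun n => ⟨(n : T)⁻¹ * ψ n, N.mul_mem (N.inv_mem n.2) (hN n n.2)⟩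
  have hinj : Function.Injective f := by
    intro a b hab
    have h1 : (a : T)⁻¹ * ψ a = (b : T)⁻¹ * ψ b := congrArg Subtype.val hab
    have h2 : ψ ((a : T) * (b : T)⁻¹) = (a : T) * (b : T)⁻¹ := by
      rw [map_mul, map_inv]
      have : ψ (a : T) = (a : T) * ((b : T)⁻¹ * ψ b) := by rw [← h1]; group
      rw [this]; group
    have h3 := C.fpf h2
    apply Subtype.ext
    rw [mul_inv_eq_one] at h3
    exact h3
  obtain ⟨n, hn⟩ := (Finite.injective_iff_surjective.mp hinj) ⟨_, h⟩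
  have h1 : (n : T)⁻¹ * ψ n = x⁻¹ * ψ x := congrArg Subtype.val hn
  have h2 : ψ (x * (n : T)⁻¹) = x * (n : T)⁻¹ := by
    rw [map_mul, map_inv]
    have : ψ x = x * ((n : T)⁻¹ * ψ n) := by rw [h1]; group
    rw [this]; group
  have h3 := C.fpf h2
  rw [mul_inv_eq_one] at h3
  rw [h3]; exact n.2

/-- An invariant subgroup is mapped onto itself. -/
theorem Cfg.exists_preimage (C : Cfg T ψ) (N : Subgroup T) (hN : ∀ n ∈ N, ψ n ∈ N) {x : T}
    (hx : x ∈ N) : ∃ y ∈ N, ψ y = x := by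
  have := C.fin
  let f : N → N := fun n => ⟨ψ n, hN n n.2⟩
  have hinj : Function.Injective f := by
    intro a b hab
    have h1 : ψ (a : T) = ψ (b : T) := congrArg Subtype.val hab
    exact Subtype.ext (ψ.injective h1)
  obtain ⟨n, hn⟩ := (Finite.injective_iff_surjective.mp hinj) ⟨x, hx⟩
  exact ⟨n, n.2, congrArg Subtype.val hn⟩

section Zstruct

theorem Cfg.psi_ne (C : Cfg T ψ) {z : T} (hz : z ∈ C.Z) (hz1 : z ≠ 1) : ψ z ≠ z :=
  fun h => hz1 (C.nofix z hz h)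

theorem Cfg.psi_ne_one (_C : Cfg T ψ) {z : T} (hz1 : z ≠ 1) : ψ z ≠ 1 := by
  intro h
  apply hz1
  have : ψ z = ψ 1 := by rw [h, map_one]
  exact ψ.injective this

theorem Cfg.mul_psi_ne_one (C : Cfg T ψ) {z : T} (hz : z ∈ C.Z) (hz1 : z ≠ 1) : z * ψ z ≠ 1 := by
  intro h
  have h1 : ψ z = z⁻¹ := by rw [eq_inv_iff_mul_eq_one, ← h]; exact (C.Z_comm hz _)
  rw [C.inv_of_mem_Z hz] at h1
  exact C.psi_ne hz hz1 h1

/-- The elements of `Z` are `1, z, ψ z, z ψ z`. -/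
theorem Cfg.Z_cases (C : Cfg T ψ) {z : T} (hz : z ∈ C.Z) (hz1 : z ≠ 1) {w : T} (hw : w ∈ C.Z) :
    w = 1 ∨ w = z ∨ w = ψ z ∨ w = z * ψ z := by
  have := C.fin
  have hpz := C.psi_mem_Z hz
  let f : Fin 4 → C.Z := ![1, ⟨z, hz⟩, ⟨ψ z, hpz⟩, ⟨z * ψ z, C.Z.mul_mem hz hpz⟩]
  have h01 : (1 : T) ≠ z := fun h => hz1 h.symm
  have h02 : (1 : T) ≠ ψ z := fun h => C.psi_ne_one hz1 h.symm
  have h03 : (1 : T) ≠ z * ψ z := fun h => C.mul_psi_ne_one hz hz1 h.symm
  have h12 : z ≠ ψ z := fun h => C.psi_ne hz hz1 h.symm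
  have h13 : z ≠ z * ψ z := by
    intro h
    apply C.psi_ne_one hz1
    have : z * 1 = z * ψ z := by rw [mul_one]; exact h
    exact (mul_left_cancel this).symm
  have h23 : ψ z ≠ z * ψ z := by
    intro h
    apply hz1
    have : 1 * ψ z = z * ψ z := by rw [one_mul]; exact h
    exact (mul_right_cancel this).symm
  have hinj : Function.Injective f := by
    intro i j hij
    have hv : ((f i : C.Z) : T) = ((f j : C.Z) : T) := congrArg Subtype.val hij
    fin_cases i <;> fin_cases j <;> simp [f] at hv <;> first | rfl | (exfalso; tauto)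
  have hbij := hinj.bijective_of_nat_card_le (by rw [C.card_Z]; simp)
  obtain ⟨i, hi⟩ := hbij.2 ⟨w, hw⟩
  have hv : ((f i : C.Z) : T) = w := congrArg Subtype.val hi
  fin_cases i <;> simp [f] at hv
  · left; exact hv.symm
  · right; left; exact hv.symm
  · right; right; left; exact hv.symm
  · right; right; right; exact hv.symm

theorem Cfg.psi_psi (C : Cfg T ψ) {z : T} (hz : z ∈ C.Z) (hz1 : z ≠ 1) : ψ (ψ z) = z * ψ z := by
  have hpz := C.psi_mem_Z hz
  have hppz := C.psi_mem_Z hpz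
  rcases C.Z_cases hz hz1 hppz with h | h | h | h
  · exfalso
    exact C.psi_ne_one (C.psi_ne_one hz1) h
  · exfalso
    -- then z * ψ z is fixed
    have hfix : ψ (z * ψ z) = z * ψ z := by
      rw [map_mul, h]; exact (C.Z_comm hz _)
    exact C.mul_psi_ne_one hz hz1 (C.nofix _ (C.Z.mul_mem hz hpz) hfix)
  · exfalso
    exact C.psi_ne hpz (C.psi_ne_one hz1) h
  · exact h

theorem Cfg.psi_cube (C : Cfg T ψ) {z : T} (hz : z ∈ C.Z) (hz1 : z ≠ 1) : ψ (ψ (ψ z)) = z := by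
  have hpz := C.psi_mem_Z hz
  rw [C.psi_psi hz hz1, map_mul, C.psi_psi hz hz1]
  have h1 : ψ z * (z * ψ z) = z * (ψ z * ψ z) := by
    rw [← mul_assoc, C.Z_comm hz (ψ z), mul_assoc]
  rw [h1, (C.mem_Z.mp hpz), mul_one]

end Zstruct

theorem Cfg.psi_cube' (C : Cfg T ψ) {z : T} (hz : z ∈ C.Z) : ψ (ψ (ψ z)) = z := by
  by_cases h : z = 1
  · subst h; simp
  · exact C.psi_cube hz h

/-- `Z` is nontrivial: there is an involution. -/
theorem Cfg.exists_invol (C : Cfg T ψ) : ∃ z ∈ C.Z, z ≠ 1 := by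
  have := C.fin
  by_contra h
  have : C.Z = ⊥ := by
    rw [eq_bot_iff]; intro x hx; rw [mem_bot]
    by_contra hx1
    exact h ⟨x, hx, hx1⟩
  have h4 := C.card_Z
  rw [this] at h4
  simp at h4

/-- A nontrivial invariant subgroup contains `Z`. -/
theorem Cfg.Z_le_of_inv (C : Cfg T ψ) (N : Subgroup T) (hN : ∀ n ∈ N, ψ n ∈ N) (hne : N ≠ ⊥) :
    C.Z ≤ N := by
  obtain ⟨x, hxN, hx1⟩ : ∃ x ∈ N, x ≠ 1 := by
    by_contra h
    apply hne
    rw [eq_bot_iff]
    intro x hx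
    rw [mem_bot]
    by_contra hx1
    exact h ⟨x, hx, hx1⟩
  obtain ⟨k, hk1, hk2⟩ := C.exists_pow_invol hx1
  have hzN : x ^ k ∈ N := N.pow_mem hxN k
  intro w hw
  rcases C.Z_cases hk2 hk1 hw with h | h | h | h
  · rw [h]; exact N.one_mem
  · rw [h]; exact hzN
  · rw [h]; exact hN _ hzN
  · rw [h]; exact N.mul_mem hzN (hN _ hzN)

theorem Cfg.psi_psi' (C : Cfg T ψ) {w : T} (hw : w ∈ C.Z) : ψ (ψ w) = w * ψ w := by
  by_cases h : w = 1
  · subst h; simp
  · exact C.psi_psi hw h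

theorem Cfg.Z_cases' (C : Cfg T ψ) {z : T} (hz : z ∈ C.Z) (hz1 : z ≠ 1) {w : T} (hw : w ∈ C.Z) :
    w = 1 ∨ w = z ∨ w = ψ z ∨ w = ψ (ψ z) := by
  rw [C.psi_psi hz hz1]
  exact C.Z_cases hz hz1 hw

theorem Cfg.mul_self_of_mem_Z (C : Cfg T ψ) {w : T} (hw : w ∈ C.Z) : w * w = 1 := C.mem_Z.mp hw

theorem Cfg.Z_mul_comm (C : Cfg T ψ) {w : T} (hw : w ∈ C.Z) (g : T) : w * g = g * w :=
  (C.Z_comm hw g).symm

end Cfsg.Agent.Helper22.Aut3
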