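import Cfsg.Agent.Lib.Helper22.Aut3A
import Cfsg.Agent.Lib.Helper22.Aut3U

set_option autoImplicit false

/-! Invariant abelian subgroups in the configuration `Cfg`: they are homocyclic of rank two. -/

namespace Cfsg.Agent.Helper22.Aut3

open Subgroup

variable {T : Type*} [Group T] {ψ : MulAut T}

/-- A `ψ`-invariant abelian subgroup. -/
structure AbInv (ψ : MulAut T) (N : Subgroup T) : Prop where
  inv : ∀ n ∈ N, ψ n ∈ N
  comm : ∀ a ∈ N, ∀ b ∈ N, a * b = b * a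

theorem AbInv.mul_pow {N : Subgroup T} (hN : AbInv ψ N) {a b : T} (ha : a ∈ N) (hb : b ∈ N)
    (k : ℕ) : (a * b) ^ k = a ^ k * b ^ k :=
  Commute.mul_pow (hN.comm a ha b hb) k

theorem Cfg.exists_expo (C : Cfg T ψ) (N : Subgroup T) : ∃ n : ℕ, ∀ a ∈ N, a ^ (2 ^ n) = 1 := by
  have := C.fin
  haveI : Fact (Nat.Prime 2) := ⟨Nat.prime_two⟩
  obtain ⟨n, hn⟩ := IsPGroup.iff_card.mp C.pg
  refine ⟨n, fun a _ => ?_⟩
  rw [← hn]
  exact pow_card_eq_one'

open Classical in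
/-- The exponent of `N` is `2 ^ expo N`. -/
noncomputable def Cfg.expo (C : Cfg T ψ) (N : Subgroup T) : ℕ := Nat.find (C.exists_expo N)

theorem Cfg.pow_expo (C : Cfg T ψ) {N : Subgroup T} {a : T} (ha : a ∈ N) :
    a ^ (2 ^ C.expo N) = 1 := by
  classical
  exact Nat.find_spec (C.exists_expo N) a ha

theorem Cfg.exists_pow_ne (C : Cfg T ψ) {N : Subgroup T} (h : C.expo N ≠ 0) :
    ∃ a ∈ N, a ^ (2 ^ (C.expo N - 1)) ≠ 1 := by
  classical
  by_contra hcon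
  have h1 : ∀ a ∈ N, a ^ (2 ^ (C.expo N - 1)) = 1 := by
    intro a ha
    by_contra h2
    exact hcon ⟨a, ha, h2⟩
  have h2 : C.expo N ≤ C.expo N - 1 := Nat.find_min' (C.exists_expo N) h1
  omega

theorem Cfg.expo_le (C : Cfg T ψ) {N : Subgroup T} {m : ℕ} (h : ∀ a ∈ N, a ^ (2 ^ m) = 1) :
    C.expo N ≤ m := by
  classical
  exact Nat.find_min' (C.exists_expo N) h

theorem Cfg.pow_mem_Z (C : Cfg T ψ) {a : T} {k : ℕ} (h : a ^ (2 ^ (k + 1)) = 1) :
    a ^ (2 ^ k) ∈ C.Z := by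
  rw [C.mem_Z, ← pow_add, ← two_mul, ← pow_succ']
  exact h

/-- If `N` contains an involution then its exponent is at least two. -/
theorem Cfg.expo_ne_zero (C : Cfg T ψ) {N : Subgroup T} {a : T} (ha : a ∈ N) (h1 : a ≠ 1) :
    C.expo N ≠ 0 := by
  intro h
  have := C.pow_expo ha
  rw [h, pow_zero, pow_one] at this
  exact h1 this

theorem Cfg.two_le_expo (C : Cfg T ψ) {N : Subgroup T} {a : T} (ha : a ∈ N) (h1 : a * a ≠ 1) :
    2 ≤ C.expo N := by
  by_contra h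
  have h2 : C.expo N ≤ 1 := by omega
  have h3 := C.pow_expo ha
  have h4 : a ^ 2 = 1 := by
    have : (2 : ℕ) = 2 ^ C.expo N * 2 ^ (1 - C.expo N) := by
      rw [← pow_add]
      have : C.expo N + (1 - C.expo N) = 1 := by omega
      rw [this, pow_one]
    rw [this, pow_mul, h3, one_pow]
  apply h1
  rw [← pow_two]; exact h4

/-- Surjectivity of the power maps onto `Z`. -/
theorem Cfg.exists_pow_eq (C : Cfg T ψ) {N : Subgroup T} (hN : AbInv ψ N) {i : ℕ}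
    (hi : i < C.expo N) {w : T} (hw : w ∈ C.Z) :
    ∃ e ∈ N, e ^ (2 ^ (i + 1)) = 1 ∧ e ^ (2 ^ i) = w := by
  set n := C.expo N with hn
  obtain ⟨t₀, ht₀N, ht₀⟩ := C.exists_pow_ne (N := N) (by omega)
  rw [← hn] at ht₀
  have hexp : t₀ ^ (2 ^ n) = 1 := C.pow_expo ht₀N
  set e₀ := t₀ ^ (2 ^ (n - 1 - i)) with he₀
  have he₀N : e₀ ∈ N := N.pow_mem ht₀N _
  have h1 : e₀ ^ (2 ^ i) = t₀ ^ (2 ^ (n - 1)) := by
    rw [he₀, ← pow_mul, ← pow_add]
    congr 2; omega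
  have h2 : e₀ ^ (2 ^ (i + 1)) = 1 := by
    rw [he₀, ← pow_mul, ← pow_add]
    have : n - 1 - i + (i + 1) = n := by omega
    rw [this]; exact hexp
  set w₀ := t₀ ^ (2 ^ (n - 1)) with hw₀
  have hw₀Z : w₀ ∈ C.Z := by
    apply C.pow_mem_Z
    have : n - 1 + 1 = n := by omega
    rw [this]; exact hexp
  rcases C.Z_cases hw₀Z ht₀ hw with h | h | h | h
  · exact ⟨1, N.one_mem, by simp, by simp [h]⟩
  · exact ⟨e₀, he₀N, h2, by rw [h1, h]⟩
  · refine ⟨ψ e₀, hN.inv _ he₀N, ?_, ?_⟩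
    · rw [← map_pow, h2, map_one]
    · rw [← map_pow, h1, h]
  · refine ⟨e₀ * ψ e₀, N.mul_mem he₀N (hN.inv _ he₀N), ?_, ?_⟩
    · rw [hN.mul_pow he₀N (hN.inv _ he₀N), ← map_pow, h2, map_one, mul_one]
    · rw [hN.mul_pow he₀N (hN.inv _ he₀N), ← map_pow, h1, h]

/-- Elements of `N` killed by `2 ^ (n - 1)` are squares in `N`. -/
theorem Cfg.exists_sq_eq (C : Cfg T ψ) {N : Subgroup T} (hN : AbInv ψ N) {a : T} (ha : a ∈ N)
    (h : a ^ (2 ^ (C.expo N - 1)) = 1) : ∃ b ∈ N, b * b = a := by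
  set n := C.expo N with hn
  have key : ∀ k : ℕ, k ≤ n - 1 → ∀ a ∈ N, a ^ (2 ^ k) = 1 → ∃ b ∈ N, b * b = a := by
    intro k
    induction k with
    | zero =>
      intro _ a _ h
      rw [pow_zero, pow_one] at h
      exact ⟨1, N.one_mem, by rw [h, one_mul]⟩
    | succ k ih =>
      intro hk a ha h
      have hwZ : a ^ (2 ^ k) ∈ C.Z := C.pow_mem_Z h
      obtain ⟨e, heN, he1, he2⟩ := C.exists_pow_eq hN (i := k + 1) (by omega) hwZ
      have ha' : a * (e * e)⁻¹ ∈ N := N.mul_mem ha (N.inv_mem (N.mul_mem heN heN))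
      have h3 : (a * (e * e)⁻¹) ^ (2 ^ k) = 1 := by
        rw [hN.mul_pow ha (N.inv_mem (N.mul_mem heN heN)), inv_pow, ← pow_two, ← pow_mul,
          ← pow_succ', he2, mul_inv_cancel]
      obtain ⟨b', hb'N, hb'⟩ := ih (by omega) _ ha' h3
      refine ⟨b' * e, N.mul_mem hb'N heN, ?_⟩
      have h4 : b' * e * (b' * e) = (b' * b') * (e * e) := by
        rw [mul_assoc, ← mul_assoc e b' e, hN.comm e heN b' hb'N]; group
      rw [h4, hb']; group
  exact key (n - 1) le_rfl a ha h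

end Cfsg.Agent.Helper22.Aut3
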