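import Cfsg.Agent.Lib.Helper22.Aut3B

set_option autoImplicit false

/-! The abelian case: `T` is homocyclic of rank two. -/

namespace Cfsg.Agent.Helper22.Aut3

open Subgroup

variable {T : Type*} [Group T] {ψ : MulAut T}

theorem abInv_top (hab : ∀ a b : T, a * b = b * a) : AbInv ψ (⊤ : Subgroup T) :=
  ⟨fun _ _ => mem_top _, fun a _ b _ => hab a b⟩

/-- Powers of an involution. -/
theorem pow_of_sq_eq_one {z : T} (hz : z * z = 1) (k : ℕ) :
    (k % 2 = 0 ∧ z ^ k = 1) ∨ (k % 2 = 1 ∧ z ^ k = z) := by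
  have h2 : z ^ 2 = 1 := by rw [pow_two]; exact hz
  rcases Nat.mod_two_eq_zero_or_one k with h | h
  · left; refine ⟨h, ?_⟩
    rw [pow_eq_pow_mod k h2, h, pow_zero]
  · right; refine ⟨h, ?_⟩
    rw [pow_eq_pow_mod k h2, h, pow_one]

section iso

variable (C : Cfg T ψ) (hab : ∀ a b : T, a * b = b * a) {n : ℕ} {x z : T}
  (hz : z ∈ C.Z) (hz1 : z ≠ 1) (hxn : x ^ (2 ^ n) = 1) (hn : n ≠ 0)
  (hxz : x ^ (2 ^ (n - 1)) = z)

include C hab hz hz1 hxn hn hxz

theorem indep_aux {a b : ℕ} (h : x ^ a * (ψ x) ^ b = 1) :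
    ∀ k : ℕ, k ≤ n → 2 ^ k ∣ a ∧ 2 ^ k ∣ b := by
  intro k
  induction k with
  | zero => intro _; simp
  | succ k ih =>
    intro hk
    obtain ⟨⟨a', rfl⟩, ⟨b', rfl⟩⟩ := ih (by omega)
    have h1 : (x ^ (2 ^ k * a') * (ψ x) ^ (2 ^ k * b')) ^ (2 ^ (n - 1 - k)) = 1 := by
      rw [h, one_pow]
    rw [Commute.mul_pow (hab _ _), ← pow_mul, ← pow_mul] at h1
    have e1 : 2 ^ k * a' * 2 ^ (n - 1 - k) = 2 ^ (n - 1) * a' := by
      have : (2 : ℕ) ^ (n - 1) = 2 ^ k * 2 ^ (n - 1 - k) := by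
        rw [← pow_add]; congr 1; omega
      rw [this]; ring
    have e2 : 2 ^ k * b' * 2 ^ (n - 1 - k) = 2 ^ (n - 1) * b' := by
      have : (2 : ℕ) ^ (n - 1) = 2 ^ k * 2 ^ (n - 1 - k) := by
        rw [← pow_add]; congr 1; omega
      rw [this]; ring
    rw [e1, e2, pow_mul, pow_mul, ← map_pow, hxz] at h1
    have hpz := C.psi_mem_Z hz
    rcases pow_of_sq_eq_one (C.mem_Z.mp hz) a' with ⟨ha, ha'⟩ | ⟨ha, ha'⟩ <;>
    rcases pow_of_sq_eq_one (C.mem_Z.mp hpz) b' with ⟨hb, hb'⟩ | ⟨hb, hb'⟩ <;>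
    rw [ha', hb'] at h1
    · constructor
      · rw [pow_succ]; exact Nat.mul_dvd_mul_left _ (Nat.dvd_of_mod_eq_zero ha)
      · rw [pow_succ]; exact Nat.mul_dvd_mul_left _ (Nat.dvd_of_mod_eq_zero hb)
    · rw [one_mul] at h1
      exact absurd h1 (C.psi_ne_one hz1)
    · rw [mul_one] at h1
      exact absurd h1 hz1
    · exact absurd h1 (C.mul_psi_ne_one hz hz1)

theorem indep {a b : ℕ} (ha : a < 2 ^ n) (hb : b < 2 ^ n) (h : x ^ a * (ψ x) ^ b = 1) :
    a = 0 ∧ b = 0 := by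
  obtain ⟨h1, h2⟩ := indep_aux C hab hz hz1 hxn hn hxz h n le_rfl
  exact ⟨Nat.eq_zero_of_dvd_of_lt h1 ha, Nat.eq_zero_of_dvd_of_lt h2 hb⟩

theorem span_aux (R : Subgroup T) (hxR : x ∈ R) (hyR : ψ x ∈ R)
    (hexp : ∀ t : T, t ^ (2 ^ n) = 1) : ∀ i : ℕ, i ≤ n → ∀ t : T, t ^ (2 ^ i) = 1 → t ∈ R := by
  intro i
  induction i with
  | zero =>
    intro _ t ht
    rw [pow_zero, pow_one] at ht
    rw [ht]; exact R.one_mem
  | succ i ih =>
    intro hi t ht
    have hw : t ^ (2 ^ i) ∈ C.Z := C.pow_mem_Z ht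
    set u := x ^ (2 ^ (n - 1 - i)) with hu
    have huR : u ∈ R := R.pow_mem hxR _
    have hvR : ψ u ∈ R := by rw [hu, map_pow]; exact R.pow_mem hyR _
    have hu1 : u ^ (2 ^ i) = z := by
      rw [hu, ← pow_mul, ← pow_add, ← hxz]; congr 2; omega
    have key : ∀ r ∈ R, r ^ (2 ^ i) = t ^ (2 ^ i) → t ∈ R := by
      intro r hr hrt
      have h1 : (t * r⁻¹) ^ (2 ^ i) = 1 := by
        rw [Commute.mul_pow (hab _ _), inv_pow, hrt, mul_inv_cancel]
      have h2 := ih (by omega) _ h1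
      have : t = (t * r⁻¹) * r := by group
      rw [this]; exact R.mul_mem h2 hr
    rcases C.Z_cases hz hz1 hw with h | h | h | h
    · exact key 1 R.one_mem (by rw [h, one_pow])
    · exact key u huR (by rw [h, hu1])
    · exact key (ψ u) hvR (by rw [h, ← map_pow, hu1])
    · exact key (u * ψ u) (R.mul_mem huR hvR)
        (by rw [h, Commute.mul_pow (hab _ _), ← map_pow, hu1])

end iso

/-- The main theorem in the abelian case. -/
theorem Cfg.abelian_iso (C : Cfg T ψ) (hab : ∀ a b : T, a * b = b * a) :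
    ∃ n : ℕ, 1 ≤ n ∧ Nonempty (T ≃* Multiplicative (ZMod (2 ^ n) × ZMod (2 ^ n))) := by
  have hN : AbInv ψ (⊤ : Subgroup T) := abInv_top hab
  set n := C.expo (⊤ : Subgroup T) with hn
  obtain ⟨z, hz, hz1⟩ := C.exists_invol
  have hn0 : n ≠ 0 := C.expo_ne_zero (mem_top z) hz1
  obtain ⟨x, -, hx1, hx2⟩ := C.exists_pow_eq hN (i := n - 1) (by omega) hz
  have hxn : x ^ (2 ^ n) = 1 := by
    have : n - 1 + 1 = n := by omega
    rw [this] at hx1; exact hx1
  have hyn : (ψ x) ^ (2 ^ n) = 1 := by rw [← map_pow, hxn, map_one]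
  haveI : NeZero (2 ^ n) := ⟨by positivity⟩
  let f : Multiplicative (ZMod (2 ^ n) × ZMod (2 ^ n)) →* T := MonoidHom.mk'
    (fun p => x ^ (Multiplicative.toAdd p).1.val * (ψ x) ^ (Multiplicative.toAdd p).2.val)
    (by
      intro p q
      have e1 : (Multiplicative.toAdd (p * q)).1.val =
          ((Multiplicative.toAdd p).1.val + (Multiplicative.toAdd q).1.val) % 2 ^ n := by
        rw [toAdd_mul, Prod.fst_add, ZMod.val_add]
      have e2 : (Multiplicative.toAdd (p * q)).2.val =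
          ((Multiplicative.toAdd p).2.val + (Multiplicative.toAdd q).2.val) % 2 ^ n := by
        rw [toAdd_mul, Prod.snd_add, ZMod.val_add]
      show x ^ _ * (ψ x) ^ _ = (x ^ _ * (ψ x) ^ _) * (x ^ _ * (ψ x) ^ _)
      rw [e1, e2, ← pow_eq_pow_mod _ hxn, ← pow_eq_pow_mod _ hyn, pow_add, pow_add]
      rw [mul_assoc, mul_assoc, ← mul_assoc (x ^ _) ((ψ x) ^ _) ((ψ x) ^ _),
        hab (x ^ (Multiplicative.toAdd q).1.val) ((ψ x) ^ (Multiplicative.toAdd p).2.val)]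
      group)
  have hf : ∀ p, f p = x ^ (Multiplicative.toAdd p).1.val * (ψ x) ^ (Multiplicative.toAdd p).2.val :=
    fun _ => rfl
  have hinj : Function.Injective f := by
    rw [injective_iff_map_eq_one]
    intro p hp
    rw [hf] at hp
    obtain ⟨h1, h2⟩ := indep C hab hz hz1 hxn hn0 hx2 (ZMod.val_lt _) (ZMod.val_lt _) hp
    have h3 : (Multiplicative.toAdd p).1 = 0 := (ZMod.val_eq_zero _).mp h1
    have h4 : (Multiplicative.toAdd p).2 = 0 := (ZMod.val_eq_zero _).mp h2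
    have : Multiplicative.toAdd p = 0 := Prod.ext h3 h4
    exact this
  have hpowx : ∀ k : ℕ, x ^ k ∈ f.range := by
    intro k
    refine ⟨Multiplicative.ofAdd ((k : ZMod (2 ^ n)), 0), ?_⟩
    rw [hf]
    simp only [toAdd_ofAdd, ZMod.val_natCast, ZMod.val_zero, pow_zero, mul_one]
    rw [← pow_eq_pow_mod _ hxn]
  have hpowy : ∀ k : ℕ, (ψ x) ^ k ∈ f.range := by
    intro k
    refine ⟨Multiplicative.ofAdd (0, (k : ZMod (2 ^ n))), ?_⟩
    rw [hf]
    simp only [toAdd_ofAdd, ZMod.val_natCast, ZMod.val_zero, pow_zero, one_mul]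
    rw [← pow_eq_pow_mod _ hyn]
  have hsurj : Function.Surjective f := by
    intro t
    have hexp : ∀ t : T, t ^ (2 ^ n) = 1 := fun t => C.pow_expo (mem_top t)
    have h1 := span_aux C hab hz hz1 hxn hn0 hx2 f.range
      (by simpa using hpowx 1) (by simpa using hpowy 1) hexp n le_rfl t (hexp t)
    exact h1
  exact ⟨n, by omega, ⟨(MulEquiv.ofBijective f ⟨hinj, hsurj⟩).symm⟩⟩

end Cfsg.Agent.Helper22.Aut3
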