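import Cfsg.Agent.Lib.Helper22.Aut3B

set_option autoImplicit false

/-! The equivariance lemma: commutator pairings into `Z` are semilinear. -/

namespace Cfsg.Agent.Helper22.Aut3

open Subgroup
open scoped commutatorElement

variable {T : Type*} [Group T] {ψ : MulAut T}

/-- The pairing data. -/
structure Pairing (C : Cfg T ψ) (E : Subgroup T) (π : T → T) : Prop where
  inv : ∀ e ∈ E, ψ e ∈ E
  piZ : ∀ e ∈ E, π e ∈ C.Z
  pimul : ∀ e ∈ E, ∀ e' ∈ E, π (e * e') = π e * π e'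
  pipsi : ∀ e ∈ E, π (ψ e) = ψ (π e)

namespace Pairing

variable {C : Cfg T ψ} {E : Subgroup T} {π : T → T}

theorem pi_one (P : Pairing C E π) : π 1 = 1 := by
  have h := P.pimul 1 E.one_mem 1 E.one_mem
  rw [mul_one] at h
  have : π 1 * 1 = π 1 * π 1 := by rw [mul_one]; exact h
  exact (mul_left_cancel this).symm

theorem pi_inv (P : Pairing C E π) {e : T} (he : e ∈ E) : π e⁻¹ = (π e)⁻¹ := by
  have h := P.pimul e he e⁻¹ (E.inv_mem he)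
  rw [mul_inv_cancel, P.pi_one] at h
  exact (inv_eq_of_mul_eq_one_right h.symm).symm

/-- The elements acting on `E` through the pairing. -/
def T1 (_P : Pairing C E π) : Subgroup T where
  carrier := {t | ∀ e ∈ E, ⁅t, e⁆ ∈ C.Z ∧ (π e = 1 → ⁅t, e⁆ = 1)}
  one_mem' := by
    intro e _
    have : ⁅(1 : T), e⁆ = 1 := by simp [commutatorElement_def]
    rw [this]
    exact ⟨C.Z.one_mem, fun _ => rfl⟩
  mul_mem' := by
    intro a b ha hb e he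
    have h1 : ⁅a * b, e⁆ = ⁅b, e⁆ * ⁅a, e⁆ := comm_mul_left_of_comm (C.Z_comm (hb e he).1 a)
    rw [h1]
    refine ⟨C.Z.mul_mem (hb e he).1 (ha e he).1, fun h => ?_⟩
    rw [(hb e he).2 h, (ha e he).2 h, one_mul]
  inv_mem' := by
    intro a ha e he
    have h1 : ⁅a⁻¹, e⁆ = ⁅a, e⁆⁻¹ := comm_inv_left_of_comm (C.Z_comm (ha e he).1 a)
    rw [h1]
    refine ⟨C.Z.inv_mem (ha e he).1, fun h => ?_⟩
    rw [(ha e he).2 h, inv_one]

theorem mem_T1 (P : Pairing C E π) {t : T} :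
    t ∈ P.T1 ↔ ∀ e ∈ E, ⁅t, e⁆ ∈ C.Z ∧ (π e = 1 → ⁅t, e⁆ = 1) := Iff.rfl

theorem comm_mem_Z (P : Pairing C E π) {t e : T} (ht : t ∈ P.T1) (he : e ∈ E) : ⁅t, e⁆ ∈ C.Z :=
  (ht e he).1

theorem comm_mul (P : Pairing C E π) {t e e' : T} (ht : t ∈ P.T1) (_he : e ∈ E) (he' : e' ∈ E) :
    ⁅t, e * e'⁆ = ⁅t, e⁆ * ⁅t, e'⁆ :=
  comm_mul_right_of_comm (C.Z_comm (ht e' he').1 e)

theorem comm_mul_left (P : Pairing C E π) {t t' e : T} (_ht : t ∈ P.T1) (ht' : t' ∈ P.T1)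
    (he : e ∈ E) : ⁅t * t', e⁆ = ⁅t', e⁆ * ⁅t, e⁆ :=
  comm_mul_left_of_comm (C.Z_comm (ht' e he).1 t)

theorem comm_eq_of_pi_eq (P : Pairing C E π) {t e e' : T} (ht : t ∈ P.T1) (he : e ∈ E)
    (he' : e' ∈ E) (h : π e = π e') : ⁅t, e⁆ = ⁅t, e'⁆ := by
  have h1 : π (e * e'⁻¹) = 1 := by
    rw [P.pimul e he _ (E.inv_mem he'), P.pi_inv he', h, mul_inv_cancel]
  have h2 := (ht _ (E.mul_mem he (E.inv_mem he'))).2 h1
  have h3 : e = (e * e'⁻¹) * e' := by group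
  rw [h3, P.comm_mul ht (E.mul_mem he (E.inv_mem he')) he', h2, one_mul]

theorem psi_mem_T1 (P : Pairing C E π) {t : T} (ht : t ∈ P.T1) : ψ t ∈ P.T1 := by
  intro e he
  obtain ⟨e', he', rfl⟩ := C.exists_preimage E P.inv he
  have h1 : ⁅ψ t, ψ e'⁆ = ψ ⁅t, e'⁆ := (map_commutatorElement ψ t e').symm
  rw [h1]
  refine ⟨C.psi_mem_Z (ht e' he').1, fun h => ?_⟩
  rw [P.pipsi e' he'] at h
  have h2 : π e' = 1 := by
    apply ψ.injective; rw [h, map_one]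
  rw [(ht e' he').2 h2, map_one]

/-- The elements acting trivially on `E`. -/
def T2 (P : Pairing C E π) : Subgroup T where
  carrier := {t | t ∈ P.T1 ∧ ∀ e ∈ E, ⁅t, e⁆ = 1}
  one_mem' := ⟨P.T1.one_mem, fun e _ => by simp [commutatorElement_def]⟩
  mul_mem' := by
    rintro a b ⟨ha, ha'⟩ ⟨hb, hb'⟩
    refine ⟨P.T1.mul_mem ha hb, fun e he => ?_⟩
    rw [P.comm_mul_left ha hb he, ha' e he, hb' e he, one_mul]
  inv_mem' := by
    rintro a ⟨ha, ha'⟩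
    refine ⟨P.T1.inv_mem ha, fun e he => ?_⟩
    have h1 : ⁅a⁻¹, e⁆ = ⁅a, e⁆⁻¹ := comm_inv_left_of_comm (C.Z_comm (ha e he).1 a)
    rw [h1, ha' e he, inv_one]

theorem psi_mem_T2 (P : Pairing C E π) {t : T} (ht : t ∈ P.T2) : ψ t ∈ P.T2 := by
  refine ⟨P.psi_mem_T1 ht.1, fun e he => ?_⟩
  obtain ⟨e', he', rfl⟩ := C.exists_preimage E P.inv he
  rw [← map_commutatorElement, ht.2 e' he', map_one]

/-- `ψ³` acts trivially on the pairing. -/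
theorem comm_psi_cube (P : Pairing C E π) {t e : T} (ht : t ∈ P.T1) (he : e ∈ E) :
    ⁅ψ (ψ (ψ t)), e⁆ = ⁅t, e⁆ := by
  obtain ⟨e₁, he₁, rfl⟩ := C.exists_preimage E P.inv he
  obtain ⟨e₂, he₂, rfl⟩ := C.exists_preimage E P.inv he₁
  obtain ⟨e₃, he₃, rfl⟩ := C.exists_preimage E P.inv he₂
  rw [← map_commutatorElement, ← map_commutatorElement, ← map_commutatorElement,
    C.psi_cube' (ht e₃ he₃).1]
  apply P.comm_eq_of_pi_eq ht he₃ he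
  rw [P.pipsi _ he₁, P.pipsi _ he₂, P.pipsi _ he₃, C.psi_cube' (P.piZ _ he₃)]

/-- The norm relation. -/
theorem comm_norm (P : Pairing C E π) {t e : T} (ht : t ∈ P.T1) (he : e ∈ E) :
    ⁅t, e⁆ * ⁅ψ t, e⁆ * ⁅ψ (ψ t), e⁆ = 1 := by
  have ht1 := P.psi_mem_T1 ht
  have ht2 := P.psi_mem_T1 ht1
  have ht3 := P.psi_mem_T1 ht2
  set s := t * ψ t * ψ (ψ t) with hs
  have hsT1 : s ∈ P.T1 := P.T1.mul_mem (P.T1.mul_mem ht ht1) ht2
  have hcs : ∀ e ∈ E, ⁅s, e⁆ = ⁅t, e⁆ * ⁅ψ t, e⁆ * ⁅ψ (ψ t), e⁆ := by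
    intro e he
    have hz0 := P.comm_mem_Z ht he
    have hz1 := P.comm_mem_Z ht1 he
    have hz2 := P.comm_mem_Z ht2 he
    rw [hs, P.comm_mul_left (P.T1.mul_mem ht ht1) ht2 he, P.comm_mul_left ht ht1 he]
    rw [C.Z_mul_comm hz2, C.Z_mul_comm hz1]
  have hcps : ∀ e ∈ E, ⁅ψ s, e⁆ = ⁅s, e⁆ := by
    intro e he
    have hz0 := P.comm_mem_Z ht he
    have hz1 := P.comm_mem_Z ht1 he
    have hz2 := P.comm_mem_Z ht2 he
    have : ψ s = ψ t * ψ (ψ t) * ψ (ψ (ψ t)) := by rw [hs, map_mul, map_mul]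
    rw [this, P.comm_mul_left (P.T1.mul_mem ht1 ht2) ht3 he, P.comm_mul_left ht1 ht2 he,
      P.comm_psi_cube ht he, hcs e he]
    rw [C.Z_mul_comm hz2 ⁅ψ t, e⁆, ← mul_assoc]
  have hmem : s⁻¹ * ψ s ∈ P.T2 := by
    refine ⟨P.T1.mul_mem (P.T1.inv_mem hsT1) (P.psi_mem_T1 hsT1), fun e he => ?_⟩
    rw [P.comm_mul_left (P.T1.inv_mem hsT1) (P.psi_mem_T1 hsT1) he, hcps e he]
    have h1 : ⁅s⁻¹, e⁆ = ⁅s, e⁆⁻¹ := comm_inv_left_of_comm (C.Z_comm (hsT1 e he).1 s)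
    rw [h1, mul_inv_cancel]
  have hsT2 : s ∈ P.T2 := C.sec_fpf P.T2 (fun n hn => P.psi_mem_T2 hn) hmem
  rw [← hcs e he]
  exact hsT2.2 e he

/-- The key semilinearity. -/
theorem comm_psi (P : Pairing C E π) {t e : T} (ht : t ∈ P.T1) (he : e ∈ E) :
    ⁅t, ψ e⁆ = ψ (ψ ⁅t, e⁆) := by
  have ht1 := P.psi_mem_T1 ht
  have ht2 := P.psi_mem_T1 ht1
  have he1 := P.inv e he
  have he2 := P.inv _ he1
  have he3 := P.inv _ he2
  set a := ⁅t, e⁆ with ha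
  set b := ⁅t, ψ e⁆ with hb
  have haZ : a ∈ C.Z := P.comm_mem_Z ht he
  have hbZ : b ∈ C.Z := P.comm_mem_Z ht he1
  -- the value on `ψ² e`
  have h2 : ⁅t, ψ (ψ e)⁆ = a * b := by
    have hpi : π (e * ψ e * ψ (ψ e)) = 1 := by
      rw [P.pimul _ (E.mul_mem he he1) _ he2, P.pimul _ he _ he1, P.pipsi _ he1, P.pipsi _ he,
        C.psi_psi' (P.piZ e he)]
      have hw := P.piZ e he
      have hpw := C.psi_mem_Z hw
      calc π e * ψ (π e) * (π e * ψ (π e)) = π e * (ψ (π e) * π e) * ψ (π e) := by group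
        _ = π e * (π e * ψ (π e)) * ψ (π e) := by rw [C.Z_mul_comm hpw]
        _ = (π e * π e) * (ψ (π e) * ψ (π e)) := by group
        _ = 1 := by rw [C.mul_self_of_mem_Z hw, C.mul_self_of_mem_Z hpw, one_mul]
    have h3 := (ht _ (E.mul_mem (E.mul_mem he he1) he2)).2 hpi
    rw [P.comm_mul ht (E.mul_mem he he1) he2, P.comm_mul ht he he1] at h3
    have h4 : ⁅t, ψ (ψ e)⁆ = (a * b)⁻¹ := by
      rw [eq_inv_iff_mul_eq_one, C.Z_mul_comm (P.comm_mem_Z ht he2)]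
      exact h3
    rw [h4, C.inv_of_mem_Z (C.Z.mul_mem haZ hbZ)]
  -- the norm relation at `ψ³ e`
  have h3 := P.comm_norm ht he3
  have e1 : ⁅t, ψ (ψ (ψ e))⁆ = a := by
    apply P.comm_eq_of_pi_eq ht he3 he
    rw [P.pipsi _ he2, P.pipsi _ he1, P.pipsi _ he, C.psi_cube' (P.piZ e he)]
  have e2 : ⁅ψ t, ψ (ψ (ψ e))⁆ = ψ (a * b) := by
    rw [← map_commutatorElement, h2]
  have e3 : ⁅ψ (ψ t), ψ (ψ (ψ e))⁆ = ψ (ψ b) := by
    rw [← map_commutatorElement, ← map_commutatorElement]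
  rw [e1, e2, e3, map_mul] at h3
  have h5 : a * (ψ a * ψ b) * ψ (ψ b) = ψ (ψ a) * b := by
    calc a * (ψ a * ψ b) * ψ (ψ b) = (a * ψ a) * (ψ b * ψ (ψ b)) := by group
      _ = ψ (ψ a) * ψ (b * ψ b) := by rw [C.psi_psi' haZ, map_mul]
      _ = ψ (ψ a) * b := by rw [← C.psi_psi' hbZ, C.psi_cube' hbZ]
  rw [h5] at h3
  have hppa : ψ (ψ a) ∈ C.Z := C.psi_mem_Z (C.psi_mem_Z haZ)
  have h6 : b = (ψ (ψ a))⁻¹ := by
    rw [eq_inv_iff_mul_eq_one, C.Z_mul_comm hbZ]; exact h3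
  rw [h6, C.inv_of_mem_Z hppa]

/-- If `t` centralizes one element of `E` outside the kernel, it centralizes `E`. -/
theorem comm_eq_one_of (P : Pairing C E π) {t e₁ : T} (ht : t ∈ P.T1) (he₁ : e₁ ∈ E)
    (hpi : π e₁ ≠ 1) (h : ⁅t, e₁⁆ = 1) : ∀ e ∈ E, ⁅t, e⁆ = 1 := by
  intro e he
  have he2 := P.inv _ he₁
  have he3 := P.inv _ he2
  have h2 : ⁅t, ψ e₁⁆ = 1 := by rw [P.comm_psi ht he₁, h, map_one, map_one]
  have h3 : ⁅t, ψ (ψ e₁)⁆ = 1 := by rw [P.comm_psi ht he2, h2, map_one, map_one]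
  rcases C.Z_cases' (P.piZ _ he₁) hpi (P.piZ e he) with h4 | h4 | h4 | h4
  · exact (ht e he).2 h4
  · rw [P.comm_eq_of_pi_eq ht he he₁ h4, h]
  · rw [P.comm_eq_of_pi_eq ht he he2 (by rw [h4, P.pipsi _ he₁]), h2]
  · rw [P.comm_eq_of_pi_eq ht he he3 (by rw [h4, P.pipsi _ he2, P.pipsi _ he₁]), h3]

/-- The commutator pairing with `t` is never the map `π` itself. -/
theorem exists_comm_ne_pi (P : Pairing C E π) {t e₁ : T} (ht : t ∈ P.T1) (he₁ : e₁ ∈ E)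
    (hpi : π e₁ ≠ 1) : ∃ e ∈ E, ⁅t, e⁆ ≠ π e := by
  by_contra hcon
  have h1 : ∀ e ∈ E, ⁅t, e⁆ = π e := by
    intro e he
    by_contra h2
    exact hcon ⟨e, he, h2⟩
  have h2 := P.comm_psi ht he₁
  rw [h1 _ (P.inv _ he₁), h1 _ he₁, P.pipsi _ he₁] at h2
  have h3 : ψ (π e₁) = π e₁ := by
    apply ψ.injective; exact h2.symm
  exact hpi (C.nofix _ (P.piZ _ he₁) h3)

/-- The transposition structure of the commutator pairing. -/
theorem exists_transposition (P : Pairing C E π) {t e₁ : T} (ht : t ∈ P.T1) (he₁ : e₁ ∈ E)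
    (h : ⁅t, e₁⁆ ≠ 1) :
    ∃ w ∈ C.Z, w ≠ 1 ∧ ∀ e ∈ E, (π e = w → ⁅t, e⁆ = w) ∧ (π e = ψ w → ⁅t, e⁆ = ψ (ψ w)) ∧
      (π e = ψ (ψ w) → ⁅t, e⁆ = ψ w) := by
  have he2 := P.inv _ he₁
  have he3 := P.inv _ he2
  have hz : π e₁ ∈ C.Z := P.piZ _ he₁
  have hz1 : π e₁ ≠ 1 := fun h0 => h ((ht e₁ he₁).2 h0)
  set z := π e₁ with hzdef
  set a := ⁅t, e₁⁆ with ha
  have haZ : a ∈ C.Z := P.comm_mem_Z ht he₁
  have h2 : ⁅t, ψ e₁⁆ = ψ (ψ a) := P.comm_psi ht he₁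
  have h3 : ⁅t, ψ (ψ e₁)⁆ = ψ a := by
    rw [P.comm_psi ht he2, h2, C.psi_cube' haZ]
  have p2 : π (ψ e₁) = ψ z := P.pipsi _ he₁
  have p3 : π (ψ (ψ e₁)) = ψ (ψ z) := by rw [P.pipsi _ he2, p2]
  have c3 : ψ (ψ (ψ z)) = z := C.psi_cube' hz
  rcases C.Z_cases' hz hz1 haZ with h4 | h4 | h4 | h4
  · exact absurd h4 h
  · refine ⟨z, hz, hz1, fun e he => ⟨fun h5 => ?_, fun h5 => ?_, fun h5 => ?_⟩⟩
    · rw [P.comm_eq_of_pi_eq ht he he₁ h5]; exact h4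
    · rw [P.comm_eq_of_pi_eq ht he he2 (by rw [h5, p2]), h2, h4]
    · rw [P.comm_eq_of_pi_eq ht he he3 (by rw [h5, p3]), h3, h4]
  · refine ⟨ψ (ψ z), C.psi_mem_Z (C.psi_mem_Z hz), ?_,
      fun e he => ⟨fun h5 => ?_, fun h5 => ?_, fun h5 => ?_⟩⟩
    · intro h0
      apply hz1
      have : ψ (ψ z) = ψ (ψ 1) := by rw [h0, map_one, map_one]
      exact ψ.injective (ψ.injective this)
    · rw [P.comm_eq_of_pi_eq ht he he3 (by rw [h5, p3]), h3, h4]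
    · rw [c3] at h5 ⊢
      rw [P.comm_eq_of_pi_eq ht he he₁ h5]; exact h4
    · rw [c3] at h5
      rw [c3, P.comm_eq_of_pi_eq ht he he2 (by rw [h5, p2]), h2, h4, c3]
  · refine ⟨ψ z, C.psi_mem_Z hz, C.psi_ne_one hz1,
      fun e he => ⟨fun h5 => ?_, fun h5 => ?_, fun h5 => ?_⟩⟩
    · rw [P.comm_eq_of_pi_eq ht he he2 (by rw [h5, p2]), h2, h4, c3]
    · rw [c3, P.comm_eq_of_pi_eq ht he he3 (by rw [h5, p3]), h3, h4, c3]
    · rw [c3] at h5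
      rw [P.comm_eq_of_pi_eq ht he he₁ h5]; exact h4

end Pairing

end Cfsg.Agent.Helper22.Aut3
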