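import Cfsg.Agent.Lib.Helper22.Aut3B

set_option autoImplicit false

/-! Enlarging an invariant normal abelian subgroup. -/

namespace Cfsg.Agent.Helper22.Aut3

open Subgroup
open scoped commutatorElement

variable {T : Type*} [Group T] {ψ : MulAut T}

/-- A `ψ`-invariant normal abelian subgroup. -/
structure NAb (ψ : MulAut T) (A : Subgroup T) : Prop where
  inv : ∀ n ∈ A, ψ n ∈ A
  comm : ∀ a ∈ A, ∀ b ∈ A, a * b = b * a
  normal : ∀ a ∈ A, ∀ g : T, g * a * g⁻¹ ∈ A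

theorem NAb.toAbInv {A : Subgroup T} (hA : NAb ψ A) : AbInv ψ A := ⟨hA.inv, hA.comm⟩

theorem NAb.comm_mem {A : Subgroup T} (hA : NAb ψ A) {a : T} (ha : a ∈ A) (g : T) :
    ⁅g, a⁆ ∈ A := by
  rw [commutatorElement_def]
  exact A.mul_mem (hA.normal a ha g) (A.inv_mem ha)

theorem NAb.comm_mem' {A : Subgroup T} (hA : NAb ψ A) {a : T} (ha : a ∈ A) (g : T) :
    ⁅a, g⁆ ∈ A := by
  rw [← commutatorElement_inv]
  exact A.inv_mem (hA.comm_mem ha g)

theorem Cfg.nab_Z (C : Cfg T ψ) : NAb ψ C.Z :=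
  ⟨fun _ hn => C.psi_mem_Z hn, fun a ha b _ => (C.Z_comm ha b).symm, fun a ha g => by
      have : g * a * g⁻¹ = a := by rw [C.Z_comm ha g]; group
      rw [this]; exact ha⟩

/-- The elements centralizing `A` and commuting with everything modulo `A`. -/
def dSub (A : Subgroup T) (hA : NAb ψ A) : Subgroup T where
  carrier := {x | (∀ a ∈ A, x * a = a * x) ∧ ∀ g : T, ⁅g, x⁆ ∈ A}
  one_mem' := ⟨fun a _ => by simp, fun g => by simp [commutatorElement_def, A.one_mem]⟩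
  mul_mem' := by
    rintro x y ⟨hx1, hx2⟩ ⟨hy1, hy2⟩
    refine ⟨fun a ha => ?_, fun g => ?_⟩
    · rw [mul_assoc, hy1 a ha, ← mul_assoc, hx1 a ha, mul_assoc]
    · have : ⁅g, x * y⁆ = ⁅g, x⁆ * (x * ⁅g, y⁆ * x⁻¹) := by
        simp only [commutatorElement_def]; group
      rw [this]
      exact A.mul_mem (hx2 g) (hA.normal _ (hy2 g) x)
  inv_mem' := by
    rintro x ⟨hx1, hx2⟩
    refine ⟨fun a ha => ?_, fun g => ?_⟩
    · have := hx1 a ha
      have h2 : x⁻¹ * a = x⁻¹ * (a * x) * x⁻¹ := by group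
      rw [h2, ← this]; group
    · have : ⁅g, x⁻¹⁆ = x⁻¹ * ⁅g, x⁆⁻¹ * x⁻¹⁻¹ := by
        simp only [commutatorElement_def]; group
      rw [this]
      exact hA.normal _ (A.inv_mem (hx2 g)) x⁻¹

theorem mem_dSub {A : Subgroup T} {hA : NAb ψ A} {x : T} :
    x ∈ dSub A hA ↔ (∀ a ∈ A, x * a = a * x) ∧ ∀ g : T, ⁅g, x⁆ ∈ A := Iff.rfl

theorem Cfg.psi_mem_dSub (C : Cfg T ψ) {A : Subgroup T} {hA : NAb ψ A} {x : T}
    (hx : x ∈ dSub A hA) : ψ x ∈ dSub A hA := by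
  refine ⟨fun a ha => ?_, fun g => ?_⟩
  · obtain ⟨a', ha', rfl⟩ := C.exists_preimage A hA.inv ha
    rw [← map_mul, hx.1 a' ha', map_mul]
  · have : g = ψ (ψ.symm g) := by simp
    rw [this, ← map_commutatorElement]
    exact hA.inv _ (hx.2 _)

theorem le_dSub {A : Subgroup T} {hA : NAb ψ A} : A ≤ dSub A hA := by
  intro a ha
  exact ⟨fun a' ha' => hA.comm a ha a' ha', fun g => hA.comm_mem ha g⟩

/-- The growth lemma. -/
theorem Cfg.grow (C : Cfg T ψ) {A : Subgroup T} (hA : NAb ψ A) {b : T}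
    (hbc : ∀ a ∈ A, b * a = a * b) (hbn : ∀ g : T, ⁅g, b⁆ ∈ A)
    (hb3 : b⁻¹ * ψ (ψ (ψ b)) ∈ A) :
    ∃ B : Subgroup T, NAb ψ B ∧ A ≤ B ∧ b ∈ B := by
  have hbD : b ∈ dSub A hA := ⟨hbc, hbn⟩
  have hb1D : ψ b ∈ dSub A hA := C.psi_mem_dSub hbD
  have hb2D : ψ (ψ b) ∈ dSub A hA := C.psi_mem_dSub hb1D
  set b₁ := ψ b with hb₁
  set b₂ := ψ b₁ with hb₂
  set b₃ := ψ b₂ with hb₃
  set s := b * b₁ * b₂ with hs
  -- `s ∈ A`
  have hsA : s ∈ A := by
    apply C.sec_fpf A hA.inv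
    have h1 : ψ s = b₁ * b₂ * b₃ := by rw [hs, map_mul, map_mul]
    have h2 : s⁻¹ * ψ s = ⁅(b₁ * b₂)⁻¹, b⁻¹⁆ * (b⁻¹ * b₃) := by
      rw [h1, hs, commutatorElement_def]; group
    rw [h2]
    exact A.mul_mem (((dSub A hA).inv_mem hbD).2 _) hb3
  -- the commutator of `b` and `ψ b` is fixed
  have hcA : ⁅b, b₁⁆ ∈ A := hb1D.2 b
  have hfix : ψ ⁅b, b₁⁆ = ⁅b, b₁⁆ := by
    rw [map_commutatorElement]
    have hb2 : b₂ = b₁⁻¹ * b⁻¹ * s := by rw [hs]; group
    have h1 : ψ b = b₁ := rfl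
    have h2 : ψ b₁ = b₂ := rfl
    rw [h1, h2, hb2]
    have h3 : ⁅b₁, b₁⁻¹ * b⁻¹ * s⁆ = b⁻¹ * (s * b₁⁻¹) * s⁻¹ * b * b₁ := by
      rw [commutatorElement_def]; group
    have h4 : s * b₁⁻¹ = b₁⁻¹ * s := (((dSub A hA).inv_mem hb1D).1 s hsA).symm
    rw [h3, h4]
    have h5 : b⁻¹ * (b₁⁻¹ * s) * s⁻¹ * b * b₁ = (b₁ * b)⁻¹ * ⁅b, b₁⁆ * (b₁ * b) := by
      rw [commutatorElement_def]; group
    rw [h5]
    have h6 : (b₁ * b) * ⁅b, b₁⁆ = ⁅b, b₁⁆ * (b₁ * b) :=
      ((dSub A hA).mul_mem hb1D hbD).1 _ hcA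
    rw [mul_assoc, ← h6]; group
  have hc1 : ⁅b, b₁⁆ = 1 := C.fpf hfix
  have hbb : b * b₁ = b₁ * b := by
    rw [commutatorElement_def] at hc1
    have : b * b₁ = (b * b₁ * b⁻¹ * b₁⁻¹) * (b₁ * b) := by group
    rw [this, hc1, one_mul]
  set S : Set T := (A : Set T) ∪ {b, b₁} with hS
  have hAS : A ≤ closure S := by
    intro a ha
    exact subset_closure (Or.inl ha)
  have hbS : b ∈ closure S := subset_closure (Or.inr (Or.inl rfl))
  have hb1S : b₁ ∈ closure S := subset_closure (Or.inr (Or.inr rfl))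
  refine ⟨closure S, ⟨?_, ?_, ?_⟩, hAS, hbS⟩
  · -- invariance
    intro n hn
    refine map_mem_closure ψ ?_ hn
    rintro x (hx | hx | hx)
    · exact hAS (hA.inv x hx)
    · rw [hx]; exact hb1S
    · rw [Set.mem_singleton_iff] at hx
      rw [hx]
      have hb2 : b₂ = b₁⁻¹ * b⁻¹ * s := by rw [hs]; group
      show b₂ ∈ closure S
      rw [hb2]
      exact (closure S).mul_mem ((closure S).mul_mem ((closure S).inv_mem hb1S)
        ((closure S).inv_mem hbS)) (hAS hsA)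
  · -- commutativity
    intro x hx y hy
    refine closure_comm_of_comm ?_ hx hy
    rintro x (hx | hx | hx) y (hy | hy | hy)
    · exact hA.comm x hx y hy
    · rw [hy]; exact (hbc x hx).symm
    · rw [Set.mem_singleton_iff] at hy
      rw [hy]; exact (hb1D.1 x hx).symm
    · rw [hx]; exact hbc y hy
    · rw [hx, hy]
    · rw [Set.mem_singleton_iff] at hy
      rw [hx, hy]; exact hbb
    · rw [Set.mem_singleton_iff] at hx
      rw [hx]; exact hb1D.1 y hy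
    · rw [Set.mem_singleton_iff] at hx
      rw [hx, hy]; exact hbb.symm
    · rw [Set.mem_singleton_iff] at hx hy
      rw [hx, hy]
  · -- normality
    have hn : (closure S).Normal := by
      apply closure_normal_of_conj
      rintro g x (hx | hx | hx)
      · exact hAS (hA.normal x hx g)
      · rw [hx, conj_eq_comm_mul]
        exact (closure S).mul_mem (hAS (hbn g)) hbS
      · rw [Set.mem_singleton_iff] at hx
        rw [hx, conj_eq_comm_mul]
        exact (closure S).mul_mem (hAS (hb1D.2 g)) hb1S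
    intro a ha g
    exact hn.conj_mem a ha g

end Cfsg.Agent.Helper22.Aut3
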