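import Cfsg.Agent.Lib.Helper22.Aut3U

set_option autoImplicit false

/-! A Chevalley–Warning bound: five elements of a group whose squares and commutators lie in a
central four-group are dependent modulo that subgroup, up to an involution. -/

namespace Cfsg.Agent.Helper22.Aut3

open Subgroup MvPolynomial
open scoped commutatorElement

/-- Functions on `(ZMod 2)^5` given by polynomials of degree at most `d`. -/
def IsDeg (d : ℕ) (g : (Fin 5 → ZMod 2) → ZMod 2) : Prop :=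
  ∃ f : MvPolynomial (Fin 5) (ZMod 2), f.totalDegree ≤ d ∧ ∀ e, eval e f = g e

theorem isDeg_const (d : ℕ) (c : ZMod 2) : IsDeg d (fun _ => c) :=
  ⟨C c, by simp, fun e => by simp⟩

theorem isDeg_coord (i : Fin 5) : IsDeg 1 (fun e => e i) :=
  ⟨X i, by rw [totalDegree_X], fun e => by simp⟩

theorem IsDeg.add {d : ℕ} {g h : (Fin 5 → ZMod 2) → ZMod 2} (hg : IsDeg d g) (hh : IsDeg d h) :
    IsDeg d (fun e => g e + h e) := by
  obtain ⟨f₁, h1, h1'⟩ := hg
  obtain ⟨f₂, h2, h2'⟩ := hh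
  exact ⟨f₁ + f₂, (totalDegree_add _ _).trans (max_le h1 h2), fun e => by
    rw [map_add, h1', h2']⟩

theorem IsDeg.mul {d₁ d₂ : ℕ} {g h : (Fin 5 → ZMod 2) → ZMod 2} (hg : IsDeg d₁ g)
    (hh : IsDeg d₂ h) : IsDeg (d₁ + d₂) (fun e => g e * h e) := by
  obtain ⟨f₁, h1, h1'⟩ := hg
  obtain ⟨f₂, h2, h2'⟩ := hh
  exact ⟨f₁ * f₂, (totalDegree_mul _ _).trans (Nat.add_le_add h1 h2), fun e => by
    rw [map_mul, h1', h2']⟩

theorem IsDeg.mono {d d' : ℕ} {g : (Fin 5 → ZMod 2) → ZMod 2} (h : d ≤ d') (hg : IsDeg d g) :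
    IsDeg d' g := by
  obtain ⟨f, h1, h1'⟩ := hg
  exact ⟨f, h1.trans h, h1'⟩

theorem IsDeg.congr {d : ℕ} {g h : (Fin 5 → ZMod 2) → ZMod 2} (hgh : ∀ e, g e = h e)
    (hg : IsDeg d g) : IsDeg d h := by
  have : g = h := funext hgh
  rw [← this]; exact hg

theorem zmod_two_cases (x : ZMod 2) : x = 0 ∨ x = 1 := by
  fin_cases x
  · left; rfl
  · right; rfl

section classTwo

variable {G : Type*} [Group G] {Z M : Subgroup G}
  (hZc : ∀ z ∈ Z, ∀ g : G, g * z = z * g)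
  (hsq : ∀ m ∈ M, m * m ∈ Z)
  (hcomm : ∀ m ∈ M, ∀ m' ∈ M, ⁅m, m'⁆ ∈ Z)
  {lam : G → ZMod 2} (hlam : ∀ z ∈ Z, ∀ z' ∈ Z, lam (z * z') = lam z + lam z')

/-- The inductive invariant. -/
def Good (M : Subgroup G) (lam : G → ZMod 2) (w : (Fin 5 → ZMod 2) → G) : Prop :=
  (∀ e, w e ∈ M) ∧ (∀ v ∈ M, IsDeg 1 (fun e => lam ⁅v, w e⁆)) ∧ IsDeg 2 (fun e => lam (w e * w e))

include hlam in
theorem lam_one : lam 1 = 0 := by
  have h := hlam 1 Z.one_mem 1 Z.one_mem
  rw [mul_one] at h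
  have : lam 1 + 0 = lam 1 + lam 1 := by rw [add_zero]; exact h
  exact (add_left_cancel this).symm

include hlam in
theorem good_one : Good M lam (fun _ => (1 : G)) := by
  have h1 := lam_one hlam
  refine ⟨fun _ => M.one_mem, fun v _ => ?_, ?_⟩
  · have : ∀ e : Fin 5 → ZMod 2, (0 : ZMod 2) = lam ⁅v, (1 : G)⁆ := by
      intro e
      have : ⁅v, (1 : G)⁆ = 1 := by simp [commutatorElement_def]
      rw [this, h1]
    exact (isDeg_const 1 0).congr this
  · have : ∀ e : Fin 5 → ZMod 2, (0 : ZMod 2) = lam ((1 : G) * 1) := by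
      intro e; rw [mul_one, h1]
    exact (isDeg_const 2 0).congr this

include hZc hsq hcomm hlam in
theorem good_step {w : (Fin 5 → ZMod 2) → G} (hw : Good M lam w) {u : G} (hu : u ∈ M) (i : Fin 5) :
    Good M lam (fun e => w e * u ^ (e i).val) := by
  obtain ⟨hw1, hw2, hw3⟩ := hw
  refine ⟨fun e => M.mul_mem (hw1 e) (M.pow_mem hu _), fun v hv => ?_, ?_⟩
  · have key : ∀ e : Fin 5 → ZMod 2,
        lam ⁅v, w e⁆ + e i * lam ⁅v, u⁆ = lam ⁅v, w e * u ^ (e i).val⁆ := by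
      intro e
      rcases zmod_two_cases (e i) with h | h
      · rw [h]; simp
      · rw [h]
        have hv1 : (1 : ZMod 2).val = 1 := rfl
        rw [hv1, pow_one, one_mul,
          comm_mul_right_of_comm (hZc _ (hcomm v hv u hu) (w e)),
          hlam _ (hcomm v hv _ (hw1 e)) _ (hcomm v hv u hu)]
    refine IsDeg.congr key ((hw2 v hv).add ?_)
    exact ((isDeg_coord i).mul (isDeg_const 0 (lam ⁅v, u⁆))).mono (by norm_num)
  · have key : ∀ e : Fin 5 → ZMod 2,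
        lam (w e * w e) + (e i * lam (u * u) + e i * lam ⁅u, w e⁆) =
          lam (w e * u ^ (e i).val * (w e * u ^ (e i).val)) := by
      intro e
      rcases zmod_two_cases (e i) with h | h
      · rw [h]; simp
      · rw [h]
        have hv1 : (1 : ZMod 2).val = 1 := rfl
        have hc := hcomm u hu _ (hw1 e)
        rw [hv1, pow_one, one_mul, one_mul,
          mul_sq_of_comm (hZc _ hc (w e)) (hZc _ hc u),
          hlam _ (Z.mul_mem (hsq _ (hw1 e)) (hsq u hu)) _ hc,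
          hlam _ (hsq _ (hw1 e)) _ (hsq u hu), add_assoc]
    refine IsDeg.congr key (hw3.add (IsDeg.add ?_ ?_))
    · exact ((isDeg_coord i).mul (isDeg_const 0 (lam (u * u)))).mono (by norm_num)
    · exact ((isDeg_coord i).mul (hw2 u hu)).mono (by norm_num)

end classTwo

/-- The ordered product attached to an exponent vector. -/
def wprod {G : Type*} [Group G] (u : Fin 5 → G) (e : Fin 5 → ZMod 2) : G :=
  1 * u 0 ^ (e 0).val * u 1 ^ (e 1).val * u 2 ^ (e 2).val * u 3 ^ (e 3).val * u 4 ^ (e 4).val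

theorem wprod_zero {G : Type*} [Group G] (u : Fin 5 → G) : wprod u 0 = 1 := by
  simp [wprod]

/-- The dependence statement. -/
theorem exists_dep {G : Type*} [Group G] {Z M : Subgroup G}
    (hZc : ∀ z ∈ Z, ∀ g : G, g * z = z * g)
    (hsq : ∀ m ∈ M, m * m ∈ Z)
    (hcomm : ∀ m ∈ M, ∀ m' ∈ M, ⁅m, m'⁆ ∈ Z)
    {lam₁ lam₂ : G → ZMod 2}
    (h₁ : ∀ z ∈ Z, ∀ z' ∈ Z, lam₁ (z * z') = lam₁ z + lam₁ z')
    (h₂ : ∀ z ∈ Z, ∀ z' ∈ Z, lam₂ (z * z') = lam₂ z + lam₂ z')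
    (hinj : ∀ z ∈ Z, lam₁ z = 0 → lam₂ z = 0 → z = 1)
    (u : Fin 5 → G) (hu : ∀ i, u i ∈ M) :
    ∃ e : Fin 5 → ZMod 2, e ≠ 0 ∧ wprod u e * wprod u e = 1 := by
  classical
  have hgood : ∀ lam : G → ZMod 2, (∀ z ∈ Z, ∀ z' ∈ Z, lam (z * z') = lam z + lam z') →
      Good M lam (wprod u) := by
    intro lam hlam
    have g0 := good_one (M := M) hlam
    have g1 := good_step hZc hsq hcomm hlam g0 (hu 0) 0
    have g2 := good_step hZc hsq hcomm hlam g1 (hu 1) 1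
    have g3 := good_step hZc hsq hcomm hlam g2 (hu 2) 2
    have g4 := good_step hZc hsq hcomm hlam g3 (hu 3) 3
    have g5 := good_step hZc hsq hcomm hlam g4 (hu 4) 4
    exact g5
  obtain ⟨hM, -, f₁, hd₁, hf₁⟩ := hgood lam₁ h₁
  obtain ⟨-, -, f₂, hd₂, hf₂⟩ := hgood lam₂ h₂
  simp only at hf₁ hf₂
  have hlt : f₁.totalDegree + f₂.totalDegree < Fintype.card (Fin 5) := by
    rw [Fintype.card_fin]; omega
  have hdvd := char_dvd_card_solutions_of_add_lt 2 hlt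
  have hzero : eval (0 : Fin 5 → ZMod 2) f₁ = 0 ∧ eval (0 : Fin 5 → ZMod 2) f₂ = 0 := by
    rw [hf₁, hf₂, wprod_zero, mul_one, lam_one h₁, lam_one h₂]
    exact ⟨rfl, rfl⟩
  have hpos : 0 < Fintype.card {x : Fin 5 → ZMod 2 // eval x f₁ = 0 ∧ eval x f₂ = 0} :=
    Fintype.card_pos_iff.mpr ⟨⟨0, hzero⟩⟩
  have h1lt : 1 < Fintype.card {x : Fin 5 → ZMod 2 // eval x f₁ = 0 ∧ eval x f₂ = 0} := by
    have := Nat.le_of_dvd hpos hdvd
    omega
  obtain ⟨⟨e, he⟩, hne⟩ := Fintype.exists_ne_of_one_lt_card h1lt ⟨0, hzero⟩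
  refine ⟨e, fun h => hne (Subtype.ext h), ?_⟩
  rw [hf₁, hf₂] at he
  exact hinj _ (hsq _ (hM e)) he.1 he.2

end Cfsg.Agent.Helper22.Aut3
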