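import Cfsg.Agent.Lib.Helper22.Aut3E
import Cfsg.Agent.Lib.Helper22.Aut3F

set_option autoImplicit false

/-! The subgroup `M` of elements of order at most two in the centre of `T / Z`: it has order at
most `64`, and contains an element outside `Z` fixed by `ψ³` when `T ≠ Z`. -/

namespace Cfsg.Agent.Helper22.Aut3

open Subgroup
open scoped commutatorElement

variable {T : Type*} [Group T] {ψ : MulAut T}

/-- The subgroup `M`. -/
def Cfg.M (C : Cfg T ψ) : Subgroup T where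
  carrier := {m | m * m ∈ C.Z ∧ ∀ g : T, ⁅g, m⁆ ∈ C.Z}
  one_mem' := ⟨by simp [C.Z.one_mem], fun g => by simp [commutatorElement_def, C.Z.one_mem]⟩
  mul_mem' := by
    rintro x y ⟨hx1, hx2⟩ ⟨hy1, hy2⟩
    refine ⟨?_, fun g => ?_⟩
    · have : x * y * (x * y) = (x * x) * ⁅x⁻¹, y⁆ * (y * y) := by
        simp only [commutatorElement_def]; group
      rw [this]
      exact C.Z.mul_mem (C.Z.mul_mem hx1 (hy2 _)) hy1
    · rw [comm_mul_right_of_comm (C.Z_comm (hy2 g) x)]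
      exact C.Z.mul_mem (hx2 g) (hy2 g)
  inv_mem' := by
    rintro x ⟨hx1, hx2⟩
    refine ⟨?_, fun g => ?_⟩
    · have : x⁻¹ * x⁻¹ = (x * x)⁻¹ := by group
      rw [this]; exact C.Z.inv_mem hx1
    · rw [comm_inv_right_of_comm (C.Z_comm (hx2 g) x)]
      exact C.Z.inv_mem (hx2 g)

theorem Cfg.mem_M (C : Cfg T ψ) {m : T} : m ∈ C.M ↔ m * m ∈ C.Z ∧ ∀ g : T, ⁅g, m⁆ ∈ C.Z :=
  Iff.rfl

theorem Cfg.Z_le_M (C : Cfg T ψ) : C.Z ≤ C.M := by
  intro z hz
  refine ⟨?_, fun g => ?_⟩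
  · rw [C.mul_self_of_mem_Z hz]; exact C.Z.one_mem
  · have : ⁅g, z⁆ = 1 := by
      rw [commutatorElement_def, C.Z_comm hz g]; group
    rw [this]; exact C.Z.one_mem

theorem Cfg.psi_mem_M (C : Cfg T ψ) {m : T} (hm : m ∈ C.M) : ψ m ∈ C.M := by
  refine ⟨?_, fun g => ?_⟩
  · rw [← map_mul]; exact C.psi_mem_Z hm.1
  · have : g = ψ (ψ.symm g) := by simp
    rw [this, ← map_commutatorElement]
    exact C.psi_mem_Z (hm.2 _)

/-- `M` is strictly larger than `Z` unless `T = Z`. -/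
theorem Cfg.exists_mem_M_not_mem_Z (C : Cfg T ψ) {t : T} (ht : t ∉ C.Z) :
    ∃ m ∈ C.M, m ∉ C.Z := by
  have := C.fin
  haveI : Fact (Nat.Prime 2) := ⟨Nat.prime_two⟩
  haveI := C.Z_normal
  have hpq : IsPGroup 2 (T ⧸ C.Z) := C.pg.to_quotient C.Z
  haveI : Nontrivial (T ⧸ C.Z) := by
    refine ⟨⟨(t : T ⧸ C.Z), 1, ?_⟩⟩
    intro h
    exact ht ((QuotientGroup.eq_one_iff t).mp h)
  have hc := hpq.center_nontrivial
  obtain ⟨⟨c, hc⟩, hc1⟩ := exists_ne (1 : center (T ⧸ C.Z))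
  obtain ⟨m₀, rfl⟩ := QuotientGroup.mk_surjective c
  have hm₀Z : m₀ ∉ C.Z := by
    intro h
    apply hc1
    apply Subtype.ext
    exact (QuotientGroup.eq_one_iff m₀).mpr h
  have hm₀ : ∀ g : T, ⁅g, m₀⁆ ∈ C.Z := by
    intro g
    rw [← QuotientGroup.eq_one_iff, commutatorElement_def]
    simp only [QuotientGroup.mk_mul, QuotientGroup.mk_inv]
    rw [mem_center_iff] at hc
    rw [hc (g : T ⧸ C.Z)]; group
  -- pass to a suitable power
  have hD : m₀ ∈ dSub C.Z C.nab_Z := ⟨fun a ha => C.Z_comm ha m₀, hm₀⟩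
  have hex : ∃ k : ℕ, m₀ ^ (2 ^ k) ∈ C.Z := by
    obtain ⟨k, hk⟩ := C.exists_expo ⊤
    exact ⟨k, by rw [hk m₀ (mem_top _)]; exact C.Z.one_mem⟩
  classical
  have hk0 : Nat.find hex ≠ 0 := by
    intro h0
    have := Nat.find_spec hex
    rw [h0, pow_zero, pow_one] at this
    exact hm₀Z this
  obtain ⟨k, hk⟩ := Nat.exists_eq_succ_of_ne_zero hk0
  have h1 : m₀ ^ (2 ^ (k + 1)) ∈ C.Z := by
    have := Nat.find_spec hex
    rw [hk] at this; exact this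
  have h2 : m₀ ^ (2 ^ k) ∉ C.Z := by
    have := Nat.find_min hex (m := k) (by omega)
    exact this
  refine ⟨m₀ ^ (2 ^ k), ⟨?_, ?_⟩, h2⟩
  · rw [← pow_add, ← two_mul, ← pow_succ']; exact h1
  · exact ((dSub C.Z C.nab_Z).pow_mem hD _).2

/-! ### Characters of `Z` -/

open Classical in
/-- The character of `Z` with kernel `{1, z}`. -/
noncomputable def chi (z : T) (w : T) : ZMod 2 := if w = 1 ∨ w = z then 0 else 1

theorem chi_eq_zero_iff {z w : T} : chi z w = 0 ↔ (w = 1 ∨ w = z) := by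
  unfold chi
  split_ifs with h
  · simp [h]
  · simp [h]

theorem chi_eq_one_iff {z w : T} : chi z w = 1 ↔ ¬ (w = 1 ∨ w = z) := by
  unfold chi
  split_ifs with h
  · simp [h]
  · simp [h]

theorem Cfg.chi_mul (C : Cfg T ψ) {z : T} (hz : z ∈ C.Z) (hz1 : z ≠ 1) {w w' : T} (hw : w ∈ C.Z)
    (hw' : w' ∈ C.Z) : chi z (w * w') = chi z w + chi z w' := by
  have hzz := C.mul_self_of_mem_Z hz
  have hpz := C.psi_mem_Z hz
  have hpp := C.mul_self_of_mem_Z hpz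
  have hcomm : ψ z * z = z * ψ z := C.Z_comm hz _
  have e1 : ψ z * (z * ψ z) = z := by
    rw [← mul_assoc, hcomm, mul_assoc, hpp, mul_one]
  have e2 : z * ψ z * ψ z = z := by rw [mul_assoc, hpp, mul_one]
  have e3 : z * ψ z * (z * ψ z) = 1 := by
    rw [mul_assoc, e1, hzz]
  have n1 : ψ z ≠ 1 := C.psi_ne_one hz1
  have n2 : ψ z ≠ z := C.psi_ne hz hz1
  have n3 : z * ψ z ≠ 1 := C.mul_psi_ne_one hz hz1
  have n4 : z * ψ z ≠ z := by
    intro h
    apply n1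
    have : z * ψ z = z * 1 := by rw [mul_one]; exact h
    exact mul_left_cancel this
  have c0 : chi z (1 : T) = 0 := chi_eq_zero_iff.mpr (Or.inl rfl)
  have c1 : chi z z = 0 := chi_eq_zero_iff.mpr (Or.inr rfl)
  have c2 : chi z (ψ z) = 1 := chi_eq_one_iff.mpr (by rintro (h | h); exact n1 h; exact n2 h)
  have c3 : chi z (z * ψ z) = 1 := chi_eq_one_iff.mpr (by rintro (h | h); exact n3 h; exact n4 h)
  have h11 : (1 : ZMod 2) + 1 = 0 := by decide
  rcases C.Z_cases hz hz1 hw with rfl | rfl | rfl | rfl <;>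
  rcases C.Z_cases hz hz1 hw' with rfl | rfl | rfl | rfl
  · simp [c0]
  · simp [c0, c1]
  · simp [c0, c2]
  · simp [c0, c3]
  · simp [c0, c1]
  · rw [hzz, c0, c1]; simp
  · rw [c3, c1, c2]; simp
  · rw [← mul_assoc, hzz, one_mul, c2, c1, c3]; simp
  · simp [c0, c2]
  · rw [hcomm, c3, c2, c1]; simp
  · rw [hpp, c0, c2, h11]
  · rw [e1, c1, c2, c3, h11]
  · simp [c0, c3]
  · rw [mul_assoc, hcomm, ← mul_assoc, hzz, one_mul, c2, c3, c1]; simp
  · rw [e2, c1, c3, c2, h11]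
  · rw [e3, c0, c3, h11]

theorem Cfg.chi_inj (C : Cfg T ψ) {z : T} (hz : z ∈ C.Z) (hz1 : z ≠ 1) {w : T}
    (h1 : chi z w = 0) (h2 : chi (ψ z) w = 0) : w = 1 := by
  rw [chi_eq_zero_iff] at h1 h2
  rcases h1 with h1 | h1
  · exact h1
  · rcases h2 with h2 | h2
    · exact h2
    · exact absurd (h2.symm.trans h1) (C.psi_ne hz hz1)

/-! ### The bound `|M| ≤ 64` -/

theorem Cfg.card_closure_insert_M (C : Cfg T ψ) {S : Set T} (hZS : (C.Z : Set T) ⊆ S)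
    (hSM : S ⊆ C.M) {u : T} (hu : u ∈ C.M) :
    Nat.card (closure (insert u S)) ≤ 2 * Nat.card (closure S) := by
  have := C.fin
  apply card_closure_insert_le
  · exact subset_closure (hZS hu.1)
  · intro s hs
    rw [conj_eq_comm_mul]
    exact (closure S).mul_mem (subset_closure (hZS ((hSM hs).2 u))) (subset_closure hs)

theorem Cfg.exists_not_mem_closure (C : Cfg T ψ) {S : Set T} (_hSM : S ⊆ C.M)
    (hc : Nat.card (closure S) < Nat.card C.M) : ∃ u ∈ C.M, u ∉ closure S := by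
  have := C.fin
  by_contra hcon
  have hle : C.M ≤ closure S := by
    intro m hm
    by_contra h
    exact hcon ⟨m, hm, h⟩
  have := Subgroup.card_le_of_le hle
  omega

theorem Cfg.peel (C : Cfg T ψ) {K : Subgroup T} (hZK : C.Z ≤ K) {p u : T} (hp : p ∈ K)
    (hu : u ∉ K) (x : ZMod 2) (h : p * u ^ x.val ∈ C.Z) : x = 0 ∧ p ∈ C.Z := by
  rcases zmod_two_cases x with rfl | rfl
  · refine ⟨rfl, ?_⟩
    simpa using h
  · exfalso
    have hv1 : (1 : ZMod 2).val = 1 := rfl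
    rw [hv1, pow_one] at h
    apply hu
    have : u = p⁻¹ * (p * u) := by group
    rw [this]
    exact K.mul_mem (K.inv_mem hp) (hZK h)

theorem Cfg.card_M_le (C : Cfg T ψ) : Nat.card C.M ≤ 64 := by
  have := C.fin
  by_contra hcon
  have hbig : 64 < Nat.card C.M := by omega
  obtain ⟨z, hz, hz1⟩ := C.exists_invol
  set S₀ : Set T := (C.Z : Set T) with hS₀
  have hZS₀ : (C.Z : Set T) ⊆ S₀ := subset_rfl
  have hS₀M : S₀ ⊆ C.M := C.Z_le_M
  have hc₀ : Nat.card (closure S₀) = 4 := by rw [hS₀, closure_eq]; exact C.card_Z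
  obtain ⟨u₀, hu₀M, hu₀⟩ := C.exists_not_mem_closure hS₀M (by omega)
  set S₁ : Set T := insert u₀ S₀ with hS₁
  have hZS₁ : (C.Z : Set T) ⊆ S₁ := hZS₀.trans (Set.subset_insert _ _)
  have hS₁M : S₁ ⊆ C.M := Set.insert_subset hu₀M hS₀M
  have hc₁ : Nat.card (closure S₁) ≤ 8 := by
    have : Nat.card (closure S₁) ≤ 2 * Nat.card (closure S₀) :=
      C.card_closure_insert_M hZS₀ hS₀M hu₀M
    omega
  obtain ⟨u₁, hu₁M, hu₁⟩ := C.exists_not_mem_closure hS₁M (by omega)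
  set S₂ : Set T := insert u₁ S₁ with hS₂
  have hZS₂ : (C.Z : Set T) ⊆ S₂ := hZS₁.trans (Set.subset_insert _ _)
  have hS₂M : S₂ ⊆ C.M := Set.insert_subset hu₁M hS₁M
  have hc₂ : Nat.card (closure S₂) ≤ 16 := by
    have : Nat.card (closure S₂) ≤ 2 * Nat.card (closure S₁) :=
      C.card_closure_insert_M hZS₁ hS₁M hu₁M
    omega
  obtain ⟨u₂, hu₂M, hu₂⟩ := C.exists_not_mem_closure hS₂M (by omega)
  set S₃ : Set T := insert u₂ S₂ with hS₃
  have hZS₃ : (C.Z : Set T) ⊆ S₃ := hZS₂.trans (Set.subset_insert _ _)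
  have hS₃M : S₃ ⊆ C.M := Set.insert_subset hu₂M hS₂M
  have hc₃ : Nat.card (closure S₃) ≤ 32 := by
    have : Nat.card (closure S₃) ≤ 2 * Nat.card (closure S₂) :=
      C.card_closure_insert_M hZS₂ hS₂M hu₂M
    omega
  obtain ⟨u₃, hu₃M, hu₃⟩ := C.exists_not_mem_closure hS₃M (by omega)
  set S₄ : Set T := insert u₃ S₃ with hS₄
  have hZS₄ : (C.Z : Set T) ⊆ S₄ := hZS₃.trans (Set.subset_insert _ _)
  have hS₄M : S₄ ⊆ C.M := Set.insert_subset hu₃M hS₃M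
  have hc₄ : Nat.card (closure S₄) ≤ 64 := by
    have : Nat.card (closure S₄) ≤ 2 * Nat.card (closure S₃) :=
      C.card_closure_insert_M hZS₃ hS₃M hu₃M
    omega
  obtain ⟨u₄, hu₄M, hu₄⟩ := C.exists_not_mem_closure hS₄M (by omega)
  -- apply the dependence statement
  have hu : ∀ i : Fin 5, (![u₀, u₁, u₂, u₃, u₄] : Fin 5 → T) i ∈ C.M := by
    intro i
    fin_cases i
    · exact hu₀M
    · exact hu₁M
    · exact hu₂M
    · exact hu₃M
    · exact hu₄M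
  obtain ⟨e, he0, he⟩ := exists_dep (Z := C.Z) (M := C.M) (fun z hz g => C.Z_comm hz g)
    (fun m hm => hm.1) (fun m _ m' hm' => hm'.2 m)
    (fun w hw w' hw' => C.chi_mul hz hz1 hw hw')
    (fun w hw w' hw' => C.chi_mul (C.psi_mem_Z hz) (C.psi_ne_one hz1) hw hw')
    (fun w _ h1 h2 => C.chi_inj hz hz1 h1 h2) ![u₀, u₁, u₂, u₃, u₄] hu
  have hwZ : wprod ![u₀, u₁, u₂, u₃, u₄] e ∈ C.Z := C.mem_Z.mpr he
  have hw : wprod ![u₀, u₁, u₂, u₃, u₄] e = 1 * u₀ ^ (e 0).val * u₁ ^ (e 1).val * u₂ ^ (e 2).val *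
      u₃ ^ (e 3).val * u₄ ^ (e 4).val := rfl
  rw [hw] at hwZ
  -- the partial products
  have hl₀₁ : closure S₀ ≤ closure S₁ := closure_mono (Set.subset_insert _ _)
  have hl₁₂ : closure S₁ ≤ closure S₂ := closure_mono (Set.subset_insert _ _)
  have hl₂₃ : closure S₂ ≤ closure S₃ := closure_mono (Set.subset_insert _ _)
  have hl₃₄ : closure S₃ ≤ closure S₄ := closure_mono (Set.subset_insert _ _)
  have hp₀ : (1 : T) ∈ closure S₀ := (closure S₀).one_mem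
  have hp₁ : 1 * u₀ ^ (e 0).val ∈ closure S₁ :=
    (closure S₁).mul_mem (hl₀₁ hp₀) ((closure S₁).pow_mem (subset_closure (Set.mem_insert _ _)) _)
  have hp₂ : 1 * u₀ ^ (e 0).val * u₁ ^ (e 1).val ∈ closure S₂ :=
    (closure S₂).mul_mem (hl₁₂ hp₁) ((closure S₂).pow_mem (subset_closure (Set.mem_insert _ _)) _)
  have hp₃ : 1 * u₀ ^ (e 0).val * u₁ ^ (e 1).val * u₂ ^ (e 2).val ∈ closure S₃ :=
    (closure S₃).mul_mem (hl₂₃ hp₂) ((closure S₃).pow_mem (subset_closure (Set.mem_insert _ _)) _)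
  have hp₄ : 1 * u₀ ^ (e 0).val * u₁ ^ (e 1).val * u₂ ^ (e 2).val * u₃ ^ (e 3).val ∈ closure S₄ :=
    (closure S₄).mul_mem (hl₃₄ hp₃) ((closure S₄).pow_mem (subset_closure (Set.mem_insert _ _)) _)
  have hZle : ∀ S : Set T, (C.Z : Set T) ⊆ S → C.Z ≤ closure S :=
    fun S hS w hw => subset_closure (hS hw)
  obtain ⟨e4, hq₄⟩ := C.peel (hZle S₄ hZS₄) hp₄ hu₄ (e 4) hwZ
  obtain ⟨e3, hq₃⟩ := C.peel (hZle S₃ hZS₃) hp₃ hu₃ (e 3) hq₄
  obtain ⟨e2, hq₂⟩ := C.peel (hZle S₂ hZS₂) hp₂ hu₂ (e 2) hq₃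
  obtain ⟨e1, hq₁⟩ := C.peel (hZle S₁ hZS₁) hp₁ hu₁ (e 1) hq₂
  obtain ⟨e0, -⟩ := C.peel (hZle S₀ hZS₀) hp₀ hu₀ (e 0) hq₁
  apply he0
  funext i
  fin_cases i
  · exact e0
  · exact e1
  · exact e2
  · exact e3
  · exact e4

end Cfsg.Agent.Helper22.Aut3
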