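import Cfsg.Agent.Lib.Helper22.Aut3G

set_option autoImplicit false

/-! The wide case: if `T ≠ Z` there is an invariant normal abelian subgroup strictly
containing `Z`. -/

namespace Cfsg.Agent.Helper22.Aut3

open Subgroup
open scoped commutatorElement

/-- A permutation of three-power order, whose cube has no fixed points, acts on a set of
cardinality divisible by nine. -/
theorem nine_dvd_card_of_perm {X : Type*} [Fintype X] [DecidableEq X] (g : Equiv.Perm X) {a : ℕ}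
    (h : g ^ (3 ^ a) = 1) (h3 : ∀ x, (g ^ 3) x ≠ x) : 9 ∣ Fintype.card X := by
  have hsupp : g.support = Finset.univ := by
    ext x
    simp only [Equiv.Perm.mem_support, Finset.mem_univ, iff_true]
    intro hx
    apply h3 x
    have : g ^ 3 = g * g * g := pow_three' g
    rw [this, Equiv.Perm.mul_apply, Equiv.Perm.mul_apply, hx, hx, hx]
  have hsum : g.cycleType.sum = Fintype.card X := by
    rw [Equiv.Perm.sum_cycleType, hsupp, Finset.card_univ]
  rw [← hsum]
  apply Multiset.dvd_sum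
  intro n hn
  have h1 : n ∣ 3 ^ a := (Equiv.Perm.dvd_of_mem_cycleType hn).trans (orderOf_dvd_of_pow_eq_one h)
  obtain ⟨j, -, rfl⟩ := (Nat.dvd_prime_pow Nat.prime_three).mp h1
  have h2 : 2 ≤ 3 ^ j := Equiv.Perm.two_le_of_mem_cycleType hn
  have hj0 : j ≠ 0 := by
    rintro rfl
    simp at h2
  have hj1 : j ≠ 1 := by
    rintro rfl
    rw [pow_one] at hn
    obtain ⟨c, τ, hg, hd, hc, hcard⟩ := Equiv.Perm.mem_cycleType_iff.mp hn
    have hne : c.support.Nonempty := by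
      rw [← Finset.card_pos, hcard]; norm_num
    obtain ⟨x, hx⟩ := hne
    have hcx : c x ≠ x := Equiv.Perm.mem_support.mp hx
    have hτx : τ x = x := (hd x).resolve_left hcx
    have hc3 : c ^ 3 = 1 := by
      rw [← hcard, ← hc.orderOf]; exact pow_orderOf_eq_one c
    apply h3 x
    rw [hg, hd.commute.mul_pow, hc3, one_mul]
    have : τ ^ 3 = τ * τ * τ := pow_three' τ
    rw [this, Equiv.Perm.mul_apply, Equiv.Perm.mul_apply, hτx, hτx, hτx]
  obtain ⟨k, rfl⟩ : ∃ k, j = k + 2 := ⟨j - 2, by omega⟩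
  rw [pow_add]
  exact Dvd.intro_left _ rfl

variable {T : Type*} [Group T] {ψ : MulAut T}

theorem pow_apply_eq {x : T} (k : ℕ) : (ψ ^ k) x = (fun y => ψ y)^[k] x := by
  induction k generalizing x with
  | zero => simp
  | succ k ih =>
    rw [pow_succ, MulAut.mul_apply, Function.iterate_succ_apply, ih]

/-- There is an element of `M` outside `Z` fixed by `ψ³`. -/
theorem Cfg.exists_fixed_cube (C : Cfg T ψ) {t : T} (ht : t ∉ C.Z) :
    ∃ y ∈ C.M, y ∉ C.Z ∧ ψ (ψ (ψ y)) = y := by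
  classical
  have := C.fin
  haveI : Fact (Nat.Prime 2) := ⟨Nat.prime_two⟩
  by_contra hcon
  have hno : ∀ y ∈ C.M, y ∉ C.Z → ψ (ψ (ψ y)) ≠ y := by
    intro y hy hyZ h
    exact hcon ⟨y, hy, hyZ, h⟩
  obtain ⟨a, ha⟩ := C.ord
  -- the set `M \\ Z`
  let X := {m : T // m ∈ C.M ∧ m ∉ C.Z}
  haveI : Fintype X := Fintype.ofFinite X
  have hmap : ∀ m : T, (m ∈ C.M ∧ m ∉ C.Z) → (ψ m ∈ C.M ∧ ψ m ∉ C.Z) := by
    intro m hm
    refine ⟨C.psi_mem_M hm.1, fun h => hm.2 ?_⟩
    have h3 := C.psi_mem_Z (C.psi_mem_Z h)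
    have h4 : ψ (ψ (ψ m)) * ψ (ψ (ψ m)) = 1 := C.mem_Z.mp h3
    rw [← map_mul, ← map_mul, ← map_mul] at h4
    have : ψ (ψ (ψ (m * m))) = ψ (ψ (ψ 1)) := by rw [h4]; simp
    have h5 : m * m = 1 := ψ.injective (ψ.injective (ψ.injective this))
    exact C.mem_Z.mpr h5
  let f : X → X := fun x => ⟨ψ x.1, hmap x.1 x.2⟩
  have hfinj : Function.Injective f := by
    intro x y hxy
    have : ψ x.1 = ψ y.1 := congrArg Subtype.val hxy
    exact Subtype.ext (ψ.injective this)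
  let g : Equiv.Perm X := Equiv.ofBijective f (Finite.injective_iff_bijective.mp hfinj)
  have hgpow : ∀ (k : ℕ) (x : X), ((g ^ k) x).1 = (ψ ^ k) x.1 := by
    intro k
    induction k with
    | zero => intro x; simp
    | succ k ih =>
      intro x
      rw [pow_succ', Equiv.Perm.mul_apply, pow_succ', MulAut.mul_apply, ← ih x]
      rfl
  have hg1 : g ^ (3 ^ a) = 1 := by
    ext x
    rw [hgpow, ha]; rfl
  have hg3 : ∀ x, (g ^ 3) x ≠ x := by
    intro x hx
    have h1 := congrArg Subtype.val hx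
    rw [hgpow] at h1
    have h2 : (ψ ^ 3) x.1 = ψ (ψ (ψ x.1)) := by
      have : ψ ^ 3 = ψ * ψ * ψ := pow_three' ψ
      rw [this, MulAut.mul_apply, MulAut.mul_apply]
    rw [h2] at h1
    exact hno x.1 x.2.1 x.2.2 h1
  have h9 := nine_dvd_card_of_perm g hg1 hg3
  -- the cardinality of `X`
  have hcardX : Fintype.card X = Nat.card C.M - 4 := by
    rw [← Nat.card_eq_fintype_card]
    have h1 : Nat.card X = ((C.M : Set T) \ (C.Z : Set T)).ncard := by
      rw [← Nat.card_coe_set_eq]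
      rfl
    rw [h1, Set.ncard_sdiff (C.Z_le_M) (Set.toFinite _)]
    have h2 : (C.M : Set T).ncard = Nat.card C.M := rfl
    have h3 : (C.Z : Set T).ncard = Nat.card C.Z := rfl
    rw [h2, h3, C.card_Z]
  -- the cardinality of `M`
  obtain ⟨k, hk⟩ := IsPGroup.iff_card.mp (C.pg.to_subgroup C.M)
  have hle := C.card_M_le
  obtain ⟨m, hmM, hmZ⟩ := C.exists_mem_M_not_mem_Z ht
  have hlt : 4 < Nat.card C.M := by
    by_contra hcon2
    have h5 : Nat.card C.M ≤ Nat.card C.Z := by rw [C.card_Z]; omega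
    have h6 : C.Z = C.M := Subgroup.eq_of_le_of_card_ge C.Z_le_M h5
    exact hmZ (h6 ▸ hmM)
  rw [hcardX, hk] at h9
  rw [hk] at hle hlt
  have hk6 : k ≤ 6 := by
    by_contra h
    have : 2 ^ 7 ≤ 2 ^ k := Nat.pow_le_pow_right (by norm_num) (by omega)
    omega
  interval_cases k <;> omega

/-- The wide case. -/
theorem Cfg.exists_nab_gt_Z (C : Cfg T ψ) {t : T} (ht : t ∉ C.Z) :
    ∃ B : Subgroup T, NAb ψ B ∧ C.Z ≤ B ∧ ∃ b ∈ B, b ∉ C.Z := by
  obtain ⟨y, hyM, hyZ, hy3⟩ := C.exists_fixed_cube ht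
  obtain ⟨B, hB, hZB, hyB⟩ := C.grow C.nab_Z (b := y) (fun a ha => C.Z_comm ha y) hyM.2
    (by rw [hy3, inv_mul_cancel]; exact C.Z.one_mem)
  exact ⟨B, hB, hZB, y, hyB, hyZ⟩

end Cfsg.Agent.Helper22.Aut3
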