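import Cfsg.Agent.Lib.Helper22.Aut3H

set_option autoImplicit false

/-! A maximal invariant normal abelian subgroup is self-centralizing. -/

namespace Cfsg.Agent.Helper22.Aut3

open Subgroup
open scoped commutatorElement

/-- A nontrivial normal subgroup of a finite `p`-group contains a nontrivial central element. -/
theorem exists_central_of_normal {G : Type*} [Group G] [Finite G] {p : ℕ} [Fact p.Prime]
    (hG : IsPGroup p G) (N : Subgroup G) [hN : N.Normal] (hne : N ≠ ⊥) :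
    ∃ b ∈ N, b ≠ 1 ∧ ∀ g : G, g * b = b * g := by
  let _inst : MulAction G N := MulAction.compHom N (MulAut.conjNormal : G →* MulAut N)
  have hsmul : ∀ (g : G) (n : N), ((g • n : N) : G) = g * n * g⁻¹ := fun g n => rfl
  have h1 : (1 : N) ∈ MulAction.fixedPoints G N := by
    intro g
    apply Subtype.ext
    rw [hsmul]
    simp
  have hdvd : p ∣ Nat.card N := by
    have hNp : IsPGroup p N := hG.to_subgroup N
    have : Nontrivial N := (Subgroup.nontrivial_iff_ne_bot N).mpr hne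
    obtain ⟨n, hn0, hn⟩ := hNp.nontrivial_iff_card.mp inferInstance
    rw [hn]
    exact dvd_pow_self _ (ne_of_gt hn0)
  obtain ⟨b, hb, hb1⟩ :=
    hG.exists_fixed_point_of_prime_dvd_card_of_fixed_point N hdvd h1
  refine ⟨b, b.2, fun h => hb1 (Subtype.ext h.symm), fun g => ?_⟩
  have := hb g
  have h2 : g * (b : G) * g⁻¹ = b := by rw [← hsmul, this]
  calc g * (b : G) = (g * b * g⁻¹) * g := by group
    _ = b * g := by rw [h2]

variable {T : Type*} [Group T] {ψ : MulAut T}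

theorem Cfg.exists_max_nab (C : Cfg T ψ) :
    ∃ A : Subgroup T, NAb ψ A ∧ C.Z ≤ A ∧ ∀ B : Subgroup T, NAb ψ B → Nat.card B ≤ Nat.card A := by
  have := C.fin
  haveI : Nonempty {A : Subgroup T // NAb ψ A} := ⟨⟨C.Z, C.nab_Z⟩⟩
  obtain ⟨⟨A, hA⟩, hmax⟩ := Finite.exists_max (fun A : {A : Subgroup T // NAb ψ A} => Nat.card A.1)
  refine ⟨A, hA, ?_, fun B hB => hmax ⟨B, hB⟩⟩
  apply C.Z_le_of_inv A hA.inv
  intro h
  have h1 := hmax ⟨C.Z, C.nab_Z⟩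
  simp only at h1
  rw [C.card_Z, h, Subgroup.card_bot] at h1
  omega

/-- An element of `dSub A` outside `A` has a power outside `A` whose square lies in `A`. -/
theorem Cfg.exists_pow_sq_mem (C : Cfg T ψ) {A : Subgroup T} {c : T} (hc : c ∉ A) :
    ∃ k : ℕ, c ^ (2 ^ k) ∉ A ∧ c ^ (2 ^ k) * c ^ (2 ^ k) ∈ A := by
  classical
  have hex : ∃ k : ℕ, c ^ (2 ^ k) ∈ A := by
    obtain ⟨k, hk⟩ := C.exists_expo ⊤
    exact ⟨k, by rw [hk c (mem_top _)]; exact A.one_mem⟩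
  have hk0 : Nat.find hex ≠ 0 := by
    intro h0
    have := Nat.find_spec hex
    rw [h0, pow_zero, pow_one] at this
    exact hc this
  obtain ⟨k, hk⟩ := Nat.exists_eq_succ_of_ne_zero hk0
  refine ⟨k, Nat.find_min hex (m := k) (by omega), ?_⟩
  have := Nat.find_spec hex
  rw [hk] at this
  rw [← pow_add, ← two_mul, ← pow_succ']; exact this

/-- Squaring a product in `dSub A`. -/
theorem sq_mul_dSub {A : Subgroup T} {hA : NAb ψ A} {g g' : T} (hg : g ∈ dSub A hA)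
    (hg' : g' ∈ dSub A hA) (hg2 : g * g ∈ A) :
    g * g' * (g * g') = (g * g) * ⁅g⁻¹, g'⁆ * (g' * g') ∧ ⁅g⁻¹, g'⁆ ∈ A ∧
      ⁅g⁻¹, g'⁆ * ⁅g⁻¹, g'⁆ = 1 := by
  have hcA : ⁅g⁻¹, g'⁆ ∈ A := hg'.2 g⁻¹
  refine ⟨by simp only [commutatorElement_def]; group, hcA, ?_⟩
  set c := ⁅g⁻¹, g'⁆ with hc
  have h1 : g' * g * g'⁻¹ = g * c := by rw [hc, commutatorElement_def]; group
  have h2 : g' * (g * g) * g'⁻¹ = (g * c) * (g * c) := by
    rw [← h1]; group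
  have h3 : g' * (g * g) * g'⁻¹ = g * g := by
    rw [hg'.1 _ hg2]; group
  have h4 : (g * c) * (g * c) = (g * g) * (c * c) := by
    rw [mul_assoc, ← mul_assoc c g c, ← hg.1 c hcA]; group
  rw [h3, h4] at h2
  have : (g * g) * 1 = (g * g) * (c * c) := by rw [mul_one]; exact h2
  exact (mul_left_cancel this).symm

theorem Cfg.pow_mul_dSub (_C : Cfg T ψ) {A : Subgroup T} {hA : NAb ψ A} {g g' : T}
    (hg : g ∈ dSub A hA) (hg' : g' ∈ dSub A hA) (hg2 : g * g ∈ A) (hg'2 : g' * g' ∈ A) {n : ℕ}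
    (hn : 2 ≤ n) : (g * g') ^ (2 ^ n) = g ^ (2 ^ n) * g' ^ (2 ^ n) := by
  obtain ⟨h1, h2, h3⟩ := sq_mul_dSub hg hg' hg2
  obtain ⟨m, rfl⟩ : ∃ m, n = m + 2 := ⟨n - 2, by omega⟩
  have e : ∀ x : T, x ^ (2 ^ (m + 2)) = (x * x) ^ (2 ^ (m + 1)) := by
    intro x
    rw [← pow_two, ← pow_mul, ← pow_succ']
  rw [e, e g, e g', h1, hA.toAbInv.mul_pow (A.mul_mem hg2 h2) hg'2, hA.toAbInv.mul_pow hg2 h2]
  have : ⁅g⁻¹, g'⁆ ^ (2 ^ (m + 1)) = 1 := by
    rw [pow_succ', pow_mul, pow_two, h3, one_pow]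
  rw [this, mul_one]

/-- Self-centralizing property of a maximal invariant normal abelian subgroup. -/
theorem Cfg.mem_of_centralizes (C : Cfg T ψ) {A : Subgroup T} (hA : NAb ψ A) (hZA : C.Z ≤ A)
    (hmax : ∀ B : Subgroup T, NAb ψ B → Nat.card B ≤ Nat.card A) (hn : 2 ≤ C.expo A) {b : T}
    (hb : ∀ a ∈ A, b * a = a * b) : b ∈ A := by
  have := C.fin
  haveI : Fact (Nat.Prime 2) := ⟨Nat.prime_two⟩
  by_contra hbA
  haveI hAn : A.Normal := ⟨fun a ha g => hA.normal a ha g⟩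
  -- the centralizer
  set CA : Subgroup T := centralizer (A : Set T) with hCA
  have hmemCA : ∀ x : T, x ∈ CA ↔ ∀ a ∈ A, x * a = a * x := by
    intro x
    rw [hCA, mem_centralizer_iff]
    constructor
    · intro h a ha; exact (h a ha).symm
    · intro h a ha; exact (h a ha).symm
  haveI hCAn : CA.Normal := by
    rw [hCA]; infer_instance
  have hpq : IsPGroup 2 (T ⧸ A) := C.pg.to_quotient A
  set N : Subgroup (T ⧸ A) := CA.map (QuotientGroup.mk' A) with hN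
  haveI hNn : N.Normal := hCAn.map _ (QuotientGroup.mk'_surjective A)
  have hNne : N ≠ ⊥ := by
    intro h
    have h1 : (QuotientGroup.mk' A) b ∈ N := mem_map_of_mem _ ((hmemCA b).mpr hb)
    rw [h, mem_bot] at h1
    exact hbA ((QuotientGroup.eq_one_iff b).mp h1)
  obtain ⟨c', hc'N, hc'1, hc'c⟩ := exists_central_of_normal hpq N hNne
  obtain ⟨c, hcCA, rfl⟩ := mem_map.mp hc'N
  have hcA : c ∉ A := fun h => hc'1 ((QuotientGroup.eq_one_iff c).mpr h)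
  have hcD : c ∈ dSub A hA := by
    refine ⟨(hmemCA c).mp hcCA, fun g => ?_⟩
    rw [← QuotientGroup.eq_one_iff, commutatorElement_def]
    have := hc'c (g : T ⧸ A)
    simp only [QuotientGroup.mk'_apply] at this
    simp only [QuotientGroup.mk_mul, QuotientGroup.mk_inv]
    rw [this]; group
  obtain ⟨k, hk1, hk2⟩ := C.exists_pow_sq_mem hcA
  set b' := c ^ (2 ^ k) with hb'
  have hb'D : b' ∈ dSub A hA := (dSub A hA).pow_mem hcD _
  -- `d = b'⁻¹ ψ³ b'` lies in `A`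
  set n := C.expo A with hndef
  set b₃ := ψ (ψ (ψ b')) with hb₃
  have hb₃D : b₃ ∈ dSub A hA := C.psi_mem_dSub (C.psi_mem_dSub (C.psi_mem_dSub hb'D))
  have hbi2 : b'⁻¹ * b'⁻¹ ∈ A := by
    have : b'⁻¹ * b'⁻¹ = (b' * b')⁻¹ := by group
    rw [this]; exact A.inv_mem hk2
  have hb₃2 : b₃ * b₃ ∈ A := by
    rw [hb₃, ← map_mul, ← map_mul, ← map_mul]
    exact hA.inv _ (hA.inv _ (hA.inv _ hk2))
  have hbiD : b'⁻¹ ∈ dSub A hA := (dSub A hA).inv_mem hb'D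
  have hdpow : (b'⁻¹ * b₃) ^ (2 ^ n) = 1 := by
    rw [C.pow_mul_dSub hbiD hb₃D hbi2 hb₃2 hn]
    have hw : b' ^ (2 ^ n) ∈ C.Z := by
      rw [C.mem_Z, ← (Commute.refl b').mul_pow]
      exact C.pow_expo hk2
    rw [hb₃, ← map_pow, ← map_pow, ← map_pow, C.psi_cube' hw, inv_pow, inv_mul_cancel]
  obtain ⟨hd1, hd2, hd3⟩ := sq_mul_dSub hbiD hb₃D hbi2
  have hdsqA : (b'⁻¹ * b₃) * (b'⁻¹ * b₃) ∈ A := by
    rw [hd1]; exact A.mul_mem (A.mul_mem hbi2 hd2) hb₃2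
  have hdsq : ((b'⁻¹ * b₃) * (b'⁻¹ * b₃)) ^ (2 ^ (n - 1)) = 1 := by
    rw [← pow_two, ← pow_mul, ← pow_succ']
    have : n - 1 + 1 = n := by omega
    rw [this]; exact hdpow
  obtain ⟨a, haA, ha⟩ := C.exists_sq_eq hA.toAbInv hdsqA hdsq
  have hdD : b'⁻¹ * b₃ ∈ dSub A hA := (dSub A hA).mul_mem hbiD hb₃D
  have hdA : b'⁻¹ * b₃ ∈ A := by
    have h1 : (b'⁻¹ * b₃ * a⁻¹) * (b'⁻¹ * b₃ * a⁻¹) = 1 := by
      have h2 : (b'⁻¹ * b₃) * a⁻¹ = a⁻¹ * (b'⁻¹ * b₃) := hdD.1 _ (A.inv_mem haA)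
      calc (b'⁻¹ * b₃ * a⁻¹) * (b'⁻¹ * b₃ * a⁻¹)
          = (b'⁻¹ * b₃) * (a⁻¹ * (b'⁻¹ * b₃)) * a⁻¹ := by group
        _ = (b'⁻¹ * b₃) * ((b'⁻¹ * b₃) * a⁻¹) * a⁻¹ := by rw [h2]
        _ = ((b'⁻¹ * b₃) * (b'⁻¹ * b₃)) * (a * a)⁻¹ := by group
        _ = 1 := by rw [ha, mul_inv_cancel]
    have h3 : b'⁻¹ * b₃ * a⁻¹ ∈ A := hZA (C.mem_Z.mpr h1)
    have : b'⁻¹ * b₃ = (b'⁻¹ * b₃ * a⁻¹) * a := by group
    rw [this]; exact A.mul_mem h3 haA
  obtain ⟨B, hB, hAB, hb'B⟩ := C.grow hA hb'D.1 hb'D.2 hdA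
  have h5 : A = B := Subgroup.eq_of_le_of_card_ge hAB (hmax B hB)
  exact hk1 (h5 ▸ hb'B)

end Cfsg.Agent.Helper22.Aut3
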