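import Cfsg.Agent.Lib.Helper22.Aut3D
import Cfsg.Agent.Lib.Helper22.Aut3E

set_option autoImplicit false

/-! The layers of a self-centralizing invariant normal abelian subgroup: its exponent is at most
four unless it is the whole group. -/

namespace Cfsg.Agent.Helper22.Aut3

open Subgroup
open scoped commutatorElement

variable {T : Type*} [Group T] {ψ : MulAut T}

/-- The subgroup of elements of `A` of order dividing `2 ^ i`. -/
def om (A : Subgroup T) (hA : NAb ψ A) (i : ℕ) : Subgroup T where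
  carrier := {a | a ∈ A ∧ a ^ (2 ^ i) = 1}
  one_mem' := ⟨A.one_mem, one_pow _⟩
  mul_mem' := by
    rintro a b ⟨ha, ha'⟩ ⟨hb, hb'⟩
    exact ⟨A.mul_mem ha hb, by rw [hA.toAbInv.mul_pow ha hb, ha', hb', one_mul]⟩
  inv_mem' := by
    rintro a ⟨ha, ha'⟩
    exact ⟨A.inv_mem ha, by rw [inv_pow, ha', inv_one]⟩

theorem mem_om {A : Subgroup T} {hA : NAb ψ A} {i : ℕ} {a : T} :
    a ∈ om A hA i ↔ a ∈ A ∧ a ^ (2 ^ i) = 1 := Iff.rfl

theorem om_le {A : Subgroup T} {hA : NAb ψ A} {i : ℕ} : om A hA i ≤ A := fun _ h => h.1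

theorem om_mono {A : Subgroup T} {hA : NAb ψ A} {i j : ℕ} (h : i ≤ j) : om A hA i ≤ om A hA j := by
  rintro a ⟨ha, ha'⟩
  refine ⟨ha, ?_⟩
  obtain ⟨k, rfl⟩ := Nat.exists_eq_add_of_le h
  rw [pow_add, pow_mul, ha', one_pow]

theorem psi_mem_om {A : Subgroup T} {hA : NAb ψ A} {i : ℕ} {a : T} (ha : a ∈ om A hA i) :
    ψ a ∈ om A hA i :=
  ⟨hA.inv _ ha.1, by rw [← map_pow, ha.2, map_one]⟩

/-- The pairing attached to a layer. -/
theorem Cfg.pairing_om (C : Cfg T ψ) {A : Subgroup T} (hA : NAb ψ A) (i : ℕ) :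
    Pairing C (om A hA (i + 1)) (fun e => e ^ (2 ^ i)) where
  inv := fun _ he => psi_mem_om he
  piZ := fun _ he => C.pow_mem_Z he.2
  pimul := fun _ he _ he' => hA.toAbInv.mul_pow he.1 he'.1 _
  pipsi := fun _ _ => (map_pow ψ _ _).symm

/-- Elements centralizing the `i`-th layer act on the next one through the pairing. -/
theorem Cfg.mem_T1_om (C : Cfg T ψ) {A : Subgroup T} (hA : NAb ψ A) {i : ℕ} {x : T}
    (hx : ∀ a ∈ om A hA i, x * a = a * x) : x ∈ (C.pairing_om hA i).T1 := by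
  intro e he
  have he2 : e * e ∈ om A hA i := by
    refine ⟨A.mul_mem he.1 he.1, ?_⟩
    rw [← pow_two, ← pow_mul, ← pow_succ']; exact he.2
  have hf : x * e * x⁻¹ ∈ A := hA.normal e he.1 x
  refine ⟨?_, fun h => ?_⟩
  · rw [C.mem_Z, commutatorElement_def]
    have h1 : x * e * x⁻¹ * e⁻¹ * (x * e * x⁻¹ * e⁻¹) =
        (x * e * x⁻¹) * (e⁻¹ * (x * e * x⁻¹)) * e⁻¹ := by group
    rw [h1, hA.comm _ (A.inv_mem he.1) _ hf]
    have h2 : (x * e * x⁻¹) * ((x * e * x⁻¹) * e⁻¹) * e⁻¹ = (x * (e * e)) * x⁻¹ * (e * e)⁻¹ := by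
      group
    rw [h2, hx _ he2]; group
  · have he' : e ∈ om A hA i := ⟨he.1, h⟩
    rw [commutatorElement_def, hx e he']; group

section layer

variable (C : Cfg T ψ) {A : Subgroup T} (hA : NAb ψ A) (hZA : C.Z ≤ A) {x : T}
  (hx2 : x * x ∈ A) (hxA : x ∉ A)

/-- The map `a ↦ x⁻¹ a x a`. -/
def kap (x a : T) : T := x⁻¹ * a * x * a

theorem sq_mul_eq_kap (x a : T) : (x * a) * (x * a) = (x * x) * kap x a := by
  unfold kap; group

include hA in
theorem kap_mem {a : T} (ha : a ∈ A) : kap x a ∈ A := by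
  unfold kap
  have : x⁻¹ * a * x = x⁻¹ * a * x⁻¹⁻¹ := by group
  rw [this]
  exact A.mul_mem (hA.normal a ha x⁻¹) ha

include hA in
theorem kap_mul {a b : T} (ha : a ∈ A) (hb : b ∈ A) : kap x (a * b) = kap x a * kap x b := by
  unfold kap
  have h1 : x⁻¹ * b * x ∈ A := by
    have : x⁻¹ * b * x = x⁻¹ * b * x⁻¹⁻¹ := by group
    rw [this]; exact hA.normal b hb x⁻¹
  have h2 : x⁻¹ * (a * b) * x * (a * b) = (x⁻¹ * a * x) * ((x⁻¹ * b * x) * a) * b := by group
  rw [h2, hA.comm _ h1 a ha]; group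

theorem kap_of_comm {a : T} (h : x * a = a * x) : kap x a = a * a := by
  unfold kap
  rw [mul_assoc x⁻¹, ← h]; group

include hA hx2 in
/-- `kap x a` is centralized by `x`. -/
theorem kap_comm {a : T} (ha : a ∈ A) : x * kap x a = kap x a * x := by
  unfold kap
  have h1 : x⁻¹ * a * x ∈ A := by
    have : x⁻¹ * a * x = x⁻¹ * a * x⁻¹⁻¹ := by group
    rw [this]; exact hA.normal a ha x⁻¹
  have h2 : (x * x) * a = a * (x * x) := hA.comm _ hx2 a ha
  have h3 : x * (x⁻¹ * a * x * a) = a * (x * a * x⁻¹) * x := by group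
  have h4 : x * a * x⁻¹ = x⁻¹ * ((x * x) * a) * x⁻¹ := by group
  have h5 : x⁻¹ * (a * (x * x)) * x⁻¹ = x⁻¹ * a * x := by group
  rw [h3, h4, h2, h5, hA.comm a ha _ h1]

include C hA in
/-- The centralizer of `x` in `A` is exactly the last layer centralized by `x`. -/
theorem cent_le_om {i : ℕ} (hx : ∀ a ∈ om A hA i, x * a = a * x)
    (hnot : ¬ ∀ a ∈ om A hA (i + 1), x * a = a * x) {a : T} (ha : a ∈ A) (hxa : x * a = a * x) :
    a ∈ om A hA i := by
  have hT1 := C.mem_T1_om hA hx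
  have hP := C.pairing_om hA i
  by_contra hcon
  classical
  have hex : ∃ k : ℕ, a ^ (2 ^ k) = 1 := ⟨_, C.pow_expo ha⟩
  have hk0 : i < Nat.find hex := by
    by_contra hle
    have hle' : Nat.find hex ≤ i := by omega
    apply hcon
    refine ⟨ha, ?_⟩
    obtain ⟨d, hd⟩ := Nat.exists_eq_add_of_le hle'
    rw [hd, pow_add, pow_mul, Nat.find_spec hex, one_pow]
  set k₀ := Nat.find hex with hk₀
  set e := a ^ (2 ^ (k₀ - 1 - i)) with he
  have heE : e ∈ om A hA (i + 1) := by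
    refine ⟨A.pow_mem ha _, ?_⟩
    rw [he, ← pow_mul, ← pow_add]
    have : k₀ - 1 - i + (i + 1) = k₀ := by omega
    rw [this]; exact Nat.find_spec hex
  have hpe : e ^ (2 ^ i) ≠ 1 := by
    rw [he, ← pow_mul, ← pow_add]
    have : k₀ - 1 - i + i = k₀ - 1 := by omega
    rw [this]
    exact Nat.find_min hex (m := k₀ - 1) (by omega)
  have hce : ⁅x, e⁆ = 1 := by
    rw [commutatorElement_def]
    have hc : Commute x a := hxa
    have : x * e = e * x := (hc.pow_right _).eq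
    rw [this]; group
  have hall := hP.comm_eq_one_of hT1 heE hpe hce
  apply hnot
  intro b hb
  have h1 := hall b hb
  rw [commutatorElement_def] at h1
  have : x * b = (x * b * x⁻¹ * b⁻¹) * (b * x) := by group
  rw [this, h1, one_mul]

include C hA hZA hx2 hxA in
/-- No layer `i ≥ 2`. -/
theorem layer_ge_two_false {i : ℕ} (hi2 : 2 ≤ i) (hin : i < C.expo A)
    (hx : ∀ a ∈ om A hA i, x * a = a * x)
    (hnot : ¬ ∀ a ∈ om A hA (i + 1), x * a = a * x) : False := by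
  have hT1 := C.mem_T1_om hA hx
  have hP := C.pairing_om hA i
  have hxi : x⁻¹ ∈ hP.T1 := hP.T1.inv_mem hT1
  have hx2i : x * x ∈ om A hA i := cent_le_om C hA hx hnot hx2 (by group)
  set w := (x * x) ^ (2 ^ (i - 1)) with hw
  have hwZ : w ∈ C.Z := by
    apply C.pow_mem_Z
    have : i - 1 + 1 = i := by omega
    rw [this]; exact hx2i.2
  -- choose `e` in the next layer with `e ^ (2^i) = w`
  obtain ⟨e, heA, he1, he2⟩ := C.exists_pow_eq hA.toAbInv hin hwZ
  have heE : e ∈ om A hA (i + 1) := ⟨heA, he1⟩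
  -- the value of `kap` on `e`
  have hcZ : ⁅x⁻¹, e⁆ ∈ C.Z := hP.comm_mem_Z hxi heE
  have hk : kap x e = ⁅x⁻¹, e⁆ * (e * e) := by
    unfold kap; rw [commutatorElement_def]; group
  have hcA : ⁅x⁻¹, e⁆ ∈ A := hZA hcZ
  have hkpow : (kap x e) ^ (2 ^ (i - 1)) = w := by
    rw [hk, hA.toAbInv.mul_pow hcA (A.mul_mem heA heA)]
    have h1 : ⁅x⁻¹, e⁆ ^ (2 ^ (i - 1)) = 1 := by
      obtain ⟨j, hj⟩ : ∃ j, i - 1 = j + 1 := ⟨i - 2, by omega⟩
      rw [hj, pow_succ', pow_mul, pow_two, C.mul_self_of_mem_Z hcZ, one_pow]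
    have h2 : (e * e) ^ (2 ^ (i - 1)) = e ^ (2 ^ i) := by
      rw [← pow_two, ← pow_mul, ← pow_succ']
      congr 2; omega
    rw [h1, h2, one_mul, he2]
  -- `y = x² kap(e)` lies in the layer `i - 1`
  set y := (x * x) * kap x e with hy
  have hyA : y ∈ A := A.mul_mem hx2 (kap_mem hA heA)
  have hypow : y ^ (2 ^ (i - 1)) = 1 := by
    rw [hy, hA.toAbInv.mul_pow hx2 (kap_mem hA heA), hkpow, ← hw, C.mul_self_of_mem_Z hwZ]
  -- `y⁻¹` is a square of an element of the layer `i`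
  have hyi : y⁻¹ ^ (2 ^ (C.expo A - 1)) = 1 := by
    rw [inv_pow]
    obtain ⟨d, hd⟩ := Nat.exists_eq_add_of_le (show i - 1 ≤ C.expo A - 1 by omega)
    rw [hd, pow_add, pow_mul, hypow, one_pow, inv_one]
  obtain ⟨b, hbA, hb⟩ := C.exists_sq_eq hA.toAbInv (A.inv_mem hyA) hyi
  have hbi : b ∈ om A hA i := by
    refine ⟨hbA, ?_⟩
    have : b ^ (2 ^ i) = (b * b) ^ (2 ^ (i - 1)) := by
      rw [← pow_two, ← pow_mul, ← pow_succ']
      congr 2; omega
    rw [this, hb, inv_pow, hypow, inv_one]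
  have hkb : kap x b = y⁻¹ := by rw [kap_of_comm (hx b hbi), hb]
  -- then `x e b` is an involution
  have hsq : (x * (e * b)) * (x * (e * b)) = 1 := by
    rw [sq_mul_eq_kap, kap_mul hA heA hbA, hkb, ← mul_assoc, ← hy, mul_inv_cancel]
  have hmem : x * (e * b) ∈ A := hZA (C.mem_Z.mpr hsq)
  apply hxA
  have : x = (x * (e * b)) * (e * b)⁻¹ := by group
  rw [this]
  exact A.mul_mem hmem (A.inv_mem (A.mul_mem heA hbA))

include C hA hZA hx2 hxA in
/-- The first layer forces exponent four. -/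
theorem layer_one_false (hn : 3 ≤ C.expo A)
    (hx : ∀ a ∈ om A hA 1, x * a = a * x)
    (hnot : ¬ ∀ a ∈ om A hA 2, x * a = a * x) : False := by
  have hT1 := C.mem_T1_om hA hx
  have hP := C.pairing_om hA 1
  -- `kap` takes values in `Z`
  have hkZ : ∀ a ∈ A, kap x a ∈ C.Z := by
    intro a ha
    have h1 := cent_le_om C hA hx hnot (kap_mem hA ha) (kap_comm hA hx2 ha)
    rw [C.mem_Z, ← pow_two]
    have := h1.2
    rw [pow_one] at this; exact this
  -- `x` inverts squares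
  have hinv : ∀ a ∈ A, x * (a * a) * x⁻¹ = (a * a)⁻¹ := by
    intro a ha
    have h1 : kap x (a * a) = 1 := by
      rw [kap_mul hA ha ha, C.mul_self_of_mem_Z (hkZ a ha)]
    unfold kap at h1
    generalize a * a = u at h1 ⊢
    have h2 : x⁻¹ * u * x = u⁻¹ := eq_inv_of_mul_eq_one_left h1
    have h3 : x * u⁻¹ * x⁻¹ = u := by rw [← h2]; group
    have h4 : x * u * x⁻¹ = (x * u⁻¹ * x⁻¹)⁻¹ := by group
    rw [h4, h3]
  obtain ⟨b, hbA, hb⟩ := C.exists_pow_ne (N := A) (by omega)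
  set n := C.expo A with hndef
  set e := b ^ (2 ^ (n - 2)) with he
  have heA : e ∈ A := A.pow_mem hbA _
  have he4 : e ^ (2 ^ 2) = 1 := by
    rw [he, ← pow_mul, ← pow_add]
    have : n - 2 + 2 = n := by omega
    rw [this]; exact C.pow_expo hbA
  have heE : e ∈ om A hA (1 + 1) := ⟨heA, he4⟩
  have he2 : e ^ (2 ^ 1) ≠ 1 := by
    rw [he, ← pow_mul, ← pow_add]
    have : n - 2 + 1 = n - 1 := by omega
    rw [this]; exact hb
  have hesq : e = (b ^ (2 ^ (n - 3))) * (b ^ (2 ^ (n - 3))) := by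
    rw [he, ← pow_add, ← two_mul, ← pow_succ']
    congr 2; omega
  -- commutator of `x` with a square `s * s`, `s ∈ A`, of order four
  have hcomm_sq : ∀ s ∈ A, (s * s) ^ (2 ^ 2) = 1 → ⁅x, s * s⁆ = (s * s) ^ (2 ^ 1) := by
    intro s hs h4
    rw [commutatorElement_def, hinv s hs, pow_one, pow_two]
    have h5 : (s * s) ^ 4 = 1 := by
      have : (2 : ℕ) ^ 2 = 4 := by norm_num
      rw [this] at h4; exact h4
    generalize s * s = u at h5 ⊢
    have : u⁻¹ * u⁻¹ = u * u * (u ^ 4)⁻¹ := by group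
    rw [this, h5, inv_one, mul_one]
  have h1 : ⁅x, e⁆ = e ^ (2 ^ 1) := by
    rw [hesq]
    apply hcomm_sq _ (A.pow_mem hbA _)
    rw [← hesq]; exact he4
  have h2 : ⁅x, ψ e⁆ = (ψ e) ^ (2 ^ 1) := by
    have hpe : ψ e = ψ (b ^ (2 ^ (n - 3))) * ψ (b ^ (2 ^ (n - 3))) := by
      rw [← map_mul, ← hesq]
    rw [hpe]
    apply hcomm_sq _ (hA.inv _ (A.pow_mem hbA _))
    rw [← hpe, ← map_pow, he4, map_one]
  have h3 := hP.comm_psi hT1 heE
  rw [h2, h1, ← map_pow] at h3
  have h4 : ψ (e ^ (2 ^ 1)) = e ^ (2 ^ 1) := by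
    apply ψ.injective; exact h3.symm
  exact he2 (C.fpf h4)

include C hA hZA hx2 hxA in
/-- The main result of this file. -/
theorem expo_le_two (hself : ∀ b : T, (∀ a ∈ A, b * a = a * b) → b ∈ A) : C.expo A ≤ 2 := by
  classical
  by_contra hcon
  have hn3 : 3 ≤ C.expo A := by omega
  -- the first layer not centralized
  have hex : ∃ j : ℕ, ¬ ∀ a ∈ om A hA j, x * a = a * x := by
    refine ⟨C.expo A, fun h => hxA (hself x fun a ha => h a ⟨ha, C.pow_expo ha⟩)⟩
  have h1 : ∀ a ∈ om A hA 1, x * a = a * x := by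
    intro a ha
    have : a ∈ C.Z := by
      rw [C.mem_Z, ← pow_two]
      have := ha.2
      rw [pow_one] at this; exact this
    exact C.Z_comm this x
  have h0 : ∀ a ∈ om A hA 0, x * a = a * x := fun a ha => h1 a (om_mono (by omega) ha)
  set j₀ := Nat.find hex with hj₀
  have hj2 : 2 ≤ j₀ := by
    by_contra hlt
    have hspec := Nat.find_spec hex
    rw [← hj₀] at hspec
    have : j₀ = 0 ∨ j₀ = 1 := by omega
    rcases this with h | h
    · rw [h] at hspec; exact hspec h0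
    · rw [h] at hspec; exact hspec h1
  have hjn : j₀ ≤ C.expo A := Nat.find_min' hex
    (fun h => hxA (hself x fun a ha => h a ⟨ha, C.pow_expo ha⟩))
  obtain ⟨i, hi⟩ : ∃ i, j₀ = i + 1 := ⟨j₀ - 1, by omega⟩
  have hPi : ∀ a ∈ om A hA i, x * a = a * x := by
    have := Nat.find_min hex (m := i) (by omega)
    exact not_not.mp this
  have hnot : ¬ ∀ a ∈ om A hA (i + 1), x * a = a * x := by
    have := Nat.find_spec hex
    rw [← hj₀, hi] at this; exact this
  by_cases hi2 : 2 ≤ i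
  · exact layer_ge_two_false C hA hZA hx2 hxA hi2 (by omega) hPi hnot
  · have hi1 : i = 1 := by omega
    subst hi1
    exact layer_one_false C hA hZA hx2 hxA hn3 hPi hnot

end layer

end Cfsg.Agent.Helper22.Aut3
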