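import Cfsg.Agent.Lib.Helper22.Aut3I

set_option autoImplicit false

/-! Frames: generators and relations for the Sylow two-subgroup of `PSU(3,4)`, and the
isomorphism of two groups carrying generating frames. -/

namespace Cfsg.Agent.Helper22.Aut3

open Subgroup

/-- The relations. Here `z₁ = a₁²`, `z₂ = a₂²`. -/
structure Frame (G : Type*) [Group G] (x₁ x₂ a₁ a₂ : G) : Prop where
  z1sq : (a₁ * a₁) * (a₁ * a₁) = 1
  z2sq : (a₂ * a₂) * (a₂ * a₂) = 1
  z1a2 : a₂ * (a₁ * a₁) * a₂⁻¹ = a₁ * a₁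
  z2a1 : a₁ * (a₂ * a₂) * a₁⁻¹ = a₂ * a₂
  z1x1 : x₁ * (a₁ * a₁) * x₁⁻¹ = a₁ * a₁
  z2x1 : x₁ * (a₂ * a₂) * x₁⁻¹ = a₂ * a₂
  z1x2 : x₂ * (a₁ * a₁) * x₂⁻¹ = a₁ * a₁
  z2x2 : x₂ * (a₂ * a₂) * x₂⁻¹ = a₂ * a₂
  aa : a₂ * a₁ * a₂⁻¹ = a₁
  x1sq : x₁ * x₁ = a₂ * a₂
  x2sq : x₂ * x₂ = (a₁ * a₁) * (a₂ * a₂)
  x1a1 : x₁ * a₁ * x₁⁻¹ = (a₁ * a₁) * a₁
  x1a2 : x₁ * a₂ * x₁⁻¹ = (a₁ * a₁) * (a₂ * a₂) * a₂
  x2a1 : x₂ * a₁ * x₂⁻¹ = (a₁ * a₁) * (a₂ * a₂) * a₁
  x2a2 : x₂ * a₂ * x₂⁻¹ = (a₂ * a₂) * a₂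
  xx : x₂ * x₁ * x₂⁻¹ = x₁

theorem Frame.prod {G H : Type*} [Group G] [Group H] {x₁ x₂ a₁ a₂ : G} {y₁ y₂ b₁ b₂ : H}
    (F : Frame G x₁ x₂ a₁ a₂) (F' : Frame H y₁ y₂ b₁ b₂) :
    Frame (G × H) (x₁, y₁) (x₂, y₂) (a₁, b₁) (a₂, b₂) where
  z1sq := Prod.ext F.z1sq F'.z1sq
  z2sq := Prod.ext F.z2sq F'.z2sq
  z1a2 := Prod.ext F.z1a2 F'.z1a2
  z2a1 := Prod.ext F.z2a1 F'.z2a1
  z1x1 := Prod.ext F.z1x1 F'.z1x1
  z2x1 := Prod.ext F.z2x1 F'.z2x1
  z1x2 := Prod.ext F.z1x2 F'.z1x2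
  z2x2 := Prod.ext F.z2x2 F'.z2x2
  aa := Prod.ext F.aa F'.aa
  x1sq := Prod.ext F.x1sq F'.x1sq
  x2sq := Prod.ext F.x2sq F'.x2sq
  x1a1 := Prod.ext F.x1a1 F'.x1a1
  x1a2 := Prod.ext F.x1a2 F'.x1a2
  x2a1 := Prod.ext F.x2a1 F'.x2a1
  x2a2 := Prod.ext F.x2a2 F'.x2a2
  xx := Prod.ext F.xx F'.xx

/-- The subgroup generated by a frame has order at most `64`. -/
theorem Frame.card_closure_le {G : Type*} [Group G] [Finite G] {x₁ x₂ a₁ a₂ : G}
    (F : Frame G x₁ x₂ a₁ a₂) : Nat.card (closure ({x₁, x₂, a₁, a₂} : Set G)) ≤ 64 := by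
  set z₁ := a₁ * a₁ with hz₁
  set z₂ := a₂ * a₂ with hz₂
  set S₁ : Set G := insert z₁ ∅ with hS₁
  set S₂ : Set G := insert z₂ S₁ with hS₂
  set S₃ : Set G := insert a₁ S₂ with hS₃
  set S₄ : Set G := insert a₂ S₃ with hS₄
  set S₅ : Set G := insert x₁ S₄ with hS₅
  set S₆ : Set G := insert x₂ S₅ with hS₆
  have m11 : z₁ ∈ S₁ := Set.mem_insert _ _
  have m12 : z₁ ∈ S₂ := Set.mem_insert_of_mem _ m11
  have m22 : z₂ ∈ S₂ := Set.mem_insert _ _
  have m13 : z₁ ∈ S₃ := Set.mem_insert_of_mem _ m12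
  have m23 : z₂ ∈ S₃ := Set.mem_insert_of_mem _ m22
  have ma13 : a₁ ∈ S₃ := Set.mem_insert _ _
  have m14 : z₁ ∈ S₄ := Set.mem_insert_of_mem _ m13
  have m24 : z₂ ∈ S₄ := Set.mem_insert_of_mem _ m23
  have ma14 : a₁ ∈ S₄ := Set.mem_insert_of_mem _ ma13
  have ma24 : a₂ ∈ S₄ := Set.mem_insert _ _
  have m15 : z₁ ∈ S₅ := Set.mem_insert_of_mem _ m14
  have m25 : z₂ ∈ S₅ := Set.mem_insert_of_mem _ m24
  have ma15 : a₁ ∈ S₅ := Set.mem_insert_of_mem _ ma14
  have ma25 : a₂ ∈ S₅ := Set.mem_insert_of_mem _ ma24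
  have mx15 : x₁ ∈ S₅ := Set.mem_insert _ _
  have c0 : Nat.card (closure (∅ : Set G)) = 1 := by
    rw [Subgroup.closure_empty]; exact Subgroup.card_bot
  have c1 : Nat.card (closure S₁) ≤ 2 * Nat.card (closure (∅ : Set G)) := by
    apply card_closure_insert_le
    · rw [F.z1sq]; exact Subgroup.one_mem _
    · intro s hs; exact absurd hs (Set.notMem_empty s)
  have c2 : Nat.card (closure S₂) ≤ 2 * Nat.card (closure S₁) := by
    apply card_closure_insert_le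
    · rw [F.z2sq]; exact Subgroup.one_mem _
    · intro s hs
      rcases hs with rfl | hs
      · have : z₂ * z₁ * z₂⁻¹ = a₂ * (a₂ * z₁ * a₂⁻¹) * a₂⁻¹ := by rw [hz₂]; group
        rw [this, F.z1a2, F.z1a2]; exact subset_closure m11
      · exact absurd hs (Set.notMem_empty s)
  have c3 : Nat.card (closure S₃) ≤ 2 * Nat.card (closure S₂) := by
    apply card_closure_insert_le
    · exact subset_closure m12
    · intro s hs
      rcases hs with rfl | rfl | hs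
      · rw [F.z2a1]; exact subset_closure m22
      · have : a₁ * z₁ * a₁⁻¹ = z₁ := by rw [hz₁]; group
        rw [this]; exact subset_closure m12
      · exact absurd hs (Set.notMem_empty s)
  have c4 : Nat.card (closure S₄) ≤ 2 * Nat.card (closure S₃) := by
    apply card_closure_insert_le
    · exact subset_closure m23
    · intro s hs
      rcases hs with rfl | rfl | rfl | hs
      · rw [F.aa]; exact subset_closure ma13
      · have : a₂ * z₂ * a₂⁻¹ = z₂ := by rw [hz₂]; group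
        rw [this]; exact subset_closure m23
      · rw [F.z1a2]; exact subset_closure m13
      · exact absurd hs (Set.notMem_empty s)
  have c5 : Nat.card (closure S₅) ≤ 2 * Nat.card (closure S₄) := by
    apply card_closure_insert_le
    · rw [F.x1sq]; exact subset_closure m24
    · intro s hs
      rcases hs with rfl | rfl | rfl | rfl | hs
      · rw [F.x1a2]
        exact (closure S₄).mul_mem ((closure S₄).mul_mem (subset_closure m14) (subset_closure m24))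
          (subset_closure ma24)
      · rw [F.x1a1]
        exact (closure S₄).mul_mem (subset_closure m14) (subset_closure ma14)
      · rw [F.z2x1]; exact subset_closure m24
      · rw [F.z1x1]; exact subset_closure m14
      · exact absurd hs (Set.notMem_empty s)
  have c6 : Nat.card (closure S₆) ≤ 2 * Nat.card (closure S₅) := by
    apply card_closure_insert_le
    · rw [F.x2sq]
      exact (closure S₅).mul_mem (subset_closure m15) (subset_closure m25)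
    · intro s hs
      rcases hs with rfl | rfl | rfl | rfl | rfl | hs
      · rw [F.xx]; exact subset_closure mx15
      · rw [F.x2a2]
        exact (closure S₅).mul_mem (subset_closure m25) (subset_closure ma25)
      · rw [F.x2a1]
        exact (closure S₅).mul_mem ((closure S₅).mul_mem (subset_closure m15) (subset_closure m25))
          (subset_closure ma15)
      · rw [F.z2x2]; exact subset_closure m25
      · rw [F.z1x2]; exact subset_closure m15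
      · exact absurd hs (Set.notMem_empty s)
  have hle : closure ({x₁, x₂, a₁, a₂} : Set G) ≤ closure S₆ := by
    apply Subgroup.closure_mono
    intro g hg
    rcases hg with rfl | rfl | rfl | rfl
    · exact Set.mem_insert_of_mem _ mx15
    · exact Set.mem_insert _ _
    · exact Set.mem_insert_of_mem _ ma15
    · exact Set.mem_insert_of_mem _ ma25
  have := Subgroup.card_le_of_le hle
  omega

/-- Two groups with generating frames are isomorphic, if one of them has order `64` and its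
central involutions are the obvious ones. -/
theorem frame_iso {G₁ G₂ : Type*} [Group G₁] [Group G₂] [Finite G₁] [Finite G₂]
    {x₁ x₂ a₁ a₂ : G₁} {y₁ y₂ b₁ b₂ : G₂}
    (F₁ : Frame G₁ x₁ x₂ a₁ a₂) (F₂ : Frame G₂ y₁ y₂ b₁ b₂)
    (gen₁ : closure ({x₁, x₂, a₁, a₂} : Set G₁) = ⊤)
    (gen₂ : closure ({y₁, y₂, b₁, b₂} : Set G₂) = ⊤)
    (hcard : Nat.card G₂ = 64) (hp : IsPGroup 2 G₂)
    (hcen : ∀ b : G₂, b ≠ 1 → (∀ g, g * b = b * g) →
      b = b₁ * b₁ ∨ b = b₂ * b₂ ∨ b = (b₁ * b₁) * (b₂ * b₂))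
    (h1 : a₁ * a₁ ≠ 1) (h2 : a₂ * a₂ ≠ 1) (h3 : (a₁ * a₁) * (a₂ * a₂) ≠ 1) :
    Nonempty (G₁ ≃* G₂) := by
  haveI : Fact (Nat.Prime 2) := ⟨Nat.prime_two⟩
  set S : Subgroup (G₁ × G₂) :=
    closure ({(x₁, y₁), (x₂, y₂), (a₁, b₁), (a₂, b₂)} : Set (G₁ × G₂)) with hS
  have hcS : Nat.card S ≤ 64 := (F₁.prod F₂).card_closure_le
  have mx1 : ((x₁, y₁) : G₁ × G₂) ∈ S := subset_closure (by simp)
  have mx2 : ((x₂, y₂) : G₁ × G₂) ∈ S := subset_closure (by simp)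
  have ma1 : ((a₁, b₁) : G₁ × G₂) ∈ S := subset_closure (by simp)
  have ma2 : ((a₂, b₂) : G₁ × G₂) ∈ S := subset_closure (by simp)
  let p₁ : S →* G₁ := (MonoidHom.fst G₁ G₂).comp S.subtype
  let p₂ : S →* G₂ := (MonoidHom.snd G₁ G₂).comp S.subtype
  have hp₁ : ∀ s : S, p₁ s = (s : G₁ × G₂).1 := fun _ => rfl
  have hp₂ : ∀ s : S, p₂ s = (s : G₁ × G₂).2 := fun _ => rfl
  have surj₁ : Function.Surjective p₁ := by
    intro g
    have hg : g ∈ closure ({x₁, x₂, a₁, a₂} : Set G₁) := by rw [gen₁]; exact mem_top g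
    induction hg using closure_induction with
    | mem x hx =>
      rcases hx with rfl | rfl | rfl | rfl
      · exact ⟨⟨_, mx1⟩, rfl⟩
      · exact ⟨⟨_, mx2⟩, rfl⟩
      · exact ⟨⟨_, ma1⟩, rfl⟩
      · exact ⟨⟨_, ma2⟩, rfl⟩
    | one => exact ⟨1, map_one _⟩
    | mul a b _ _ iha ihb =>
      obtain ⟨s, hs⟩ := iha
      obtain ⟨t, ht⟩ := ihb
      exact ⟨s * t, by rw [map_mul, hs, ht]⟩
    | inv a _ iha =>
      obtain ⟨s, hs⟩ := iha
      exact ⟨s⁻¹, by rw [map_inv, hs]⟩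
  have surj₂ : Function.Surjective p₂ := by
    intro g
    have hg : g ∈ closure ({y₁, y₂, b₁, b₂} : Set G₂) := by rw [gen₂]; exact mem_top g
    induction hg using closure_induction with
    | mem x hx =>
      rcases hx with rfl | rfl | rfl | rfl
      · exact ⟨⟨_, mx1⟩, rfl⟩
      · exact ⟨⟨_, mx2⟩, rfl⟩
      · exact ⟨⟨_, ma1⟩, rfl⟩
      · exact ⟨⟨_, ma2⟩, rfl⟩
    | one => exact ⟨1, map_one _⟩
    | mul a b _ _ iha ihb =>
      obtain ⟨s, hs⟩ := iha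
      obtain ⟨t, ht⟩ := ihb
      exact ⟨s * t, by rw [map_mul, hs, ht]⟩
    | inv a _ iha =>
      obtain ⟨s, hs⟩ := iha
      exact ⟨s⁻¹, by rw [map_inv, hs]⟩
  have bij₂ : Function.Bijective p₂ :=
    surj₂.bijective_of_nat_card_le (by rw [hcard]; exact hcS)
  let e₂ : S ≃* G₂ := MulEquiv.ofBijective p₂ bij₂
  let θ : G₂ →* G₁ := p₁.comp e₂.symm.toMonoidHom
  have hθ : ∀ s : S, θ (p₂ s) = p₁ s := by
    intro s
    show p₁ (e₂.symm (e₂ s)) = p₁ s
    rw [MulEquiv.symm_apply_apply]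
  have hθb₁ : θ b₁ = a₁ := hθ ⟨_, ma1⟩
  have hθb₂ : θ b₂ = a₂ := hθ ⟨_, ma2⟩
  have surjθ : Function.Surjective θ := by
    intro g
    obtain ⟨s, hs⟩ := surj₁ g
    exact ⟨p₂ s, by rw [hθ, hs]⟩
  have injθ : Function.Injective θ := by
    rw [← MonoidHom.ker_eq_bot_iff]
    by_contra hne
    obtain ⟨b, hbk, hb1, hbc⟩ := exists_central_of_normal hp θ.ker hne
    rw [MonoidHom.mem_ker] at hbk
    rcases hcen b hb1 hbc with rfl | rfl | rfl
    · rw [map_mul, hθb₁] at hbk; exact h1 hbk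
    · rw [map_mul, hθb₂] at hbk; exact h2 hbk
    · rw [map_mul, map_mul, map_mul, hθb₁, hθb₂] at hbk; exact h3 hbk
  exact ⟨(MulEquiv.ofBijective θ ⟨injθ, surjθ⟩).symm⟩

end Cfsg.Agent.Helper22.Aut3
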