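import Cfsg.Agent.Lib.Helper22.Aut3J
import Cfsg.Agent.Lib.Helper22.Aut3K

set_option autoImplicit false

/-! The structure of `T` over a self-centralizing invariant normal abelian subgroup of exponent
four, and the extraction of a frame. -/

namespace Cfsg.Agent.Helper22.Aut3

open Subgroup
open scoped commutatorElement

variable {T : Type*} [Group T] {ψ : MulAut T}

/-- The structural hypotheses. -/
structure Str (C : Cfg T ψ) (A : Subgroup T) : Prop where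
  nab : NAb ψ A
  hZA : C.Z ≤ A
  self : ∀ b : T, (∀ a ∈ A, b * a = a * b) → b ∈ A
  exp4 : ∀ a ∈ A, (a * a) * (a * a) = 1
  sq_surj : ∀ w ∈ C.Z, ∃ a ∈ A, a * a = w

/-- The transposition pattern of the commutator pairing with `t`. -/
def Trans (A : Subgroup T) (ψ : MulAut T) (t w : T) : Prop :=
  ∀ e ∈ A, (e * e = w → ⁅t, e⁆ = w) ∧ (e * e = ψ w → ⁅t, e⁆ = ψ (ψ w)) ∧
    (e * e = ψ (ψ w) → ⁅t, e⁆ = ψ w)

namespace Str

variable {C : Cfg T ψ} {A : Subgroup T} (S : Str C A)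

include S

theorem sq_mem_Z_of_mem {a : T} (ha : a ∈ A) : a * a ∈ C.Z := C.mem_Z.mpr (S.exp4 a ha)

theorem pairing : Pairing C A (fun e => e * e) where
  inv := S.nab.inv
  piZ := fun _ he => S.sq_mem_Z_of_mem he
  pimul := fun e he e' he' => by
    show e * e' * (e * e') = e * e * (e' * e')
    rw [mul_assoc, ← mul_assoc e' e e', S.nab.comm e' he' e he]; group
  pipsi := fun e _ => (map_mul ψ e e).symm

theorem mem_T1 (t : T) : t ∈ S.pairing.T1 := by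
  intro e he
  have he2 := S.sq_mem_Z_of_mem he
  have hf : t * e * t⁻¹ ∈ A := S.nab.normal e he t
  refine ⟨?_, fun h => ?_⟩
  · rw [C.mem_Z, commutatorElement_def]
    have h1 : t * e * t⁻¹ * e⁻¹ * (t * e * t⁻¹ * e⁻¹) =
        (t * e * t⁻¹) * (e⁻¹ * (t * e * t⁻¹)) * e⁻¹ := by group
    rw [h1, S.nab.comm _ (A.inv_mem he) _ hf]
    have h2 : (t * e * t⁻¹) * ((t * e * t⁻¹) * e⁻¹) * e⁻¹ = (t * (e * e)) * t⁻¹ * (e * e)⁻¹ := by
      group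
    rw [h2, C.Z_comm he2 t]; group
  · have : e ∈ C.Z := C.mem_Z.mpr h
    rw [commutatorElement_def, C.Z_comm this t]; group

theorem comm_mem_Z (t : T) {e : T} (he : e ∈ A) : ⁅t, e⁆ ∈ C.Z :=
  S.pairing.comm_mem_Z (S.mem_T1 t) he

theorem mul_comm_of_comm_eq_one {t a : T} (h : ⁅t, a⁆ = 1) : t * a = a * t := by
  rw [commutatorElement_def] at h
  have : t * a = (t * a * t⁻¹ * a⁻¹) * (a * t) := by group
  rw [this, h, one_mul]

theorem mem_Z_of_comm_eq_one {t e : T} (ht : t ∉ A) (he : e ∈ A) (h : ⁅t, e⁆ = 1) : e ∈ C.Z := by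
  by_contra hcon
  have hpi : (fun e : T => e * e) e ≠ 1 := fun h' => hcon (C.mem_Z.mpr h')
  have hall := S.pairing.comm_eq_one_of (S.mem_T1 t) he hpi h
  apply ht
  apply S.self
  intro a ha
  exact S.mul_comm_of_comm_eq_one (hall a ha)

theorem comm_eq_one_of_mem {t e : T} (ht : t ∈ A) (he : e ∈ A) : ⁅t, e⁆ = 1 := by
  rw [commutatorElement_def, S.nab.comm t ht e he]; group

theorem exists_not_mem_Z : ∃ a₀ ∈ A, a₀ ∉ C.Z := by
  obtain ⟨z, hz, hz1⟩ := C.exists_invol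
  obtain ⟨a, ha, haz⟩ := S.sq_surj z hz
  exact ⟨a, ha, fun h => hz1 (by rw [← haz]; exact C.mem_Z.mp h)⟩

theorem sq_mem_Z (t : T) : t * t ∈ C.Z := by
  by_cases ht : t ∈ A
  · exact S.sq_mem_Z_of_mem ht
  · obtain ⟨a₀, ha₀, ha₀Z⟩ := S.exists_not_mem_Z
    have hcZ := S.comm_mem_Z t ha₀
    have h1 : ⁅t * t, a₀⁆ = 1 := by
      rw [S.pairing.comm_mul_left (S.mem_T1 t) (S.mem_T1 t) ha₀, C.mul_self_of_mem_Z hcZ]
    have httA : t * t ∈ A := by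
      by_contra h
      exact ha₀Z (S.mem_Z_of_comm_eq_one h ha₀ h1)
    have h2 : ⁅t, t * t⁆ = 1 := by rw [commutatorElement_def]; group
    exact S.mem_Z_of_comm_eq_one ht httA h2

theorem comm_all (s t : T) : ⁅s, t⁆ ∈ C.Z := by
  have h1 : (s⁻¹ * t) * (s⁻¹ * t) = (s⁻¹ * s⁻¹) * ⁅s, t⁆ * (t * t) := by
    simp only [commutatorElement_def]; group
  have h2 : ⁅s, t⁆ = (s⁻¹ * s⁻¹)⁻¹ * ((s⁻¹ * t) * (s⁻¹ * t)) * (t * t)⁻¹ := by rw [h1]; group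
  rw [h2]
  exact C.Z.mul_mem (C.Z.mul_mem (C.Z.inv_mem (S.sq_mem_Z _)) (S.sq_mem_Z _))
    (C.Z.inv_mem (S.sq_mem_Z _))

theorem comm_mul_l (a b c : T) : ⁅a * b, c⁆ = ⁅b, c⁆ * ⁅a, c⁆ :=
  comm_mul_left_of_comm (C.Z_comm (S.comm_all b c) a)

theorem comm_mul_r (a b c : T) : ⁅a, b * c⁆ = ⁅a, b⁆ * ⁅a, c⁆ :=
  comm_mul_right_of_comm (C.Z_comm (S.comm_all a c) b)

theorem comm_symm (a b : T) : ⁅a, b⁆ = ⁅b, a⁆ := by
  rw [← commutatorElement_inv, C.inv_of_mem_Z (S.comm_all b a)]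

theorem comm_inv_l (a b : T) : ⁅a⁻¹, b⁆ = ⁅a, b⁆ := by
  rw [comm_inv_left_of_comm (C.Z_comm (S.comm_all a b) a), C.inv_of_mem_Z (S.comm_all a b)]

theorem sq_mul (a b : T) : (a * b) * (a * b) = (a * a) * (b * b) * ⁅b, a⁆ :=
  mul_sq_of_comm (C.Z_comm (S.comm_all b a) a) (C.Z_comm (S.comm_all b a) b)

theorem psi_not_mem {t : T} (ht : t ∉ A) : ψ t ∉ A := by
  intro h
  obtain ⟨a, ha, hat⟩ := C.exists_preimage A S.nab.inv h
  exact ht (ψ.injective hat ▸ ha)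

theorem exists_trans {t : T} (ht : t ∉ A) : ∃ w ∈ C.Z, w ≠ 1 ∧ Trans A ψ t w := by
  have hex : ∃ e₁ ∈ A, ⁅t, e₁⁆ ≠ 1 := by
    by_contra hcon
    apply ht
    apply S.self
    intro a ha
    apply S.mul_comm_of_comm_eq_one
    by_contra h
    exact hcon ⟨a, ha, h⟩
  obtain ⟨e₁, he₁, hne⟩ := hex
  exact S.pairing.exists_transposition (S.mem_T1 t) he₁ hne

theorem trans_psi {t w : T} (hT : Trans A ψ t w) : Trans A ψ (ψ t) (ψ w) := by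
  intro e he
  obtain ⟨e', he', rfl⟩ := C.exists_preimage A S.nab.inv he
  have key : ψ e' * ψ e' = ψ (e' * e') := (map_mul ψ e' e').symm
  have kc : ⁅ψ t, ψ e'⁆ = ψ ⁅t, e'⁆ := (map_commutatorElement ψ t e').symm
  refine ⟨fun h => ?_, fun h => ?_, fun h => ?_⟩
  · rw [key] at h
    rw [kc, (hT e' he').1 (ψ.injective h)]
  · rw [key] at h
    rw [kc, (hT e' he').2.1 (ψ.injective h)]
  · rw [key] at h
    rw [kc, (hT e' he').2.2 (ψ.injective h)]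

theorem trans_mul_mem {t w a : T} (hT : Trans A ψ t w) (ha : a ∈ A) : Trans A ψ (t * a) w := by
  intro e he
  have : ⁅t * a, e⁆ = ⁅t, e⁆ := by
    rw [S.comm_mul_l, S.comm_eq_one_of_mem ha he, one_mul]
  rw [this]
  exact hT e he

/-- An element outside `A` whose pattern is based at a given involution. -/
theorem exists_trans_eq {t₀ : T} (ht₀ : t₀ ∉ A) {z : T} (hz : z ∈ C.Z) (hz1 : z ≠ 1) :
    ∃ t, t ∉ A ∧ Trans A ψ t z := by
  obtain ⟨w, hw, hw1, hT⟩ := S.exists_trans ht₀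
  rcases C.Z_cases' hz hz1 hw with h | h | h | h
  · exact absurd h hw1
  · exact ⟨t₀, ht₀, h ▸ hT⟩
  · refine ⟨ψ (ψ t₀), S.psi_not_mem (S.psi_not_mem ht₀), ?_⟩
    have := S.trans_psi (S.trans_psi hT)
    rw [h, C.psi_cube' hz] at this
    exact this
  · refine ⟨ψ t₀, S.psi_not_mem ht₀, ?_⟩
    have := S.trans_psi hT
    rw [h, C.psi_cube' hz] at this
    exact this

theorem not_mem_Z_of_not_mem {t : T} (ht : t ∉ A) : t * t ≠ 1 :=
  fun h => ht (S.hZA (C.mem_Z.mpr h))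

/-- Arithmetic in `Z`. -/
theorem z_mul_psi_mul {z : T} (hz : z ∈ C.Z) : z * ψ z * ψ (ψ z) = 1 := by
  rw [C.psi_psi' hz]
  exact C.mul_self_of_mem_Z (C.Z.mul_mem hz (C.psi_mem_Z hz))

theorem psi_mul_psi_psi {z : T} (hz : z ∈ C.Z) : ψ z * ψ (ψ z) = z := by
  rw [← map_mul, ← C.psi_psi' hz, C.psi_cube' hz]

/-- The first outer generator. -/
theorem exists_x1 {t₀ : T} (ht₀ : t₀ ∉ A) {z a₁ : T} (hz : z ∈ C.Z) (hz1 : z ≠ 1)
    (ha₁ : a₁ ∈ A) (ha₁z : a₁ * a₁ = z) :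
    ∃ x₁, x₁ ∉ A ∧ Trans A ψ x₁ z ∧ x₁ * x₁ = ψ z := by
  obtain ⟨x, hxA, hT⟩ := S.exists_trans_eq ht₀ hz hz1
  have hpz := C.psi_mem_Z hz
  have hppz := C.psi_mem_Z hpz
  set a₂ := ψ a₁ with ha₂
  have ha₂A : a₂ ∈ A := S.nab.inv _ ha₁
  have ha₂z : a₂ * a₂ = ψ z := by rw [ha₂, ← map_mul, ha₁z]
  have hc2 : ⁅a₂, x⁆ = ψ (ψ z) := by
    rw [S.comm_symm]; exact (hT a₂ ha₂A).2.1 ha₂z
  have hsq : (x * a₂) * (x * a₂) = (x * x) * ψ z * ψ (ψ z) := by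
    rw [S.sq_mul, ha₂z, hc2]
  have hxa₂ : x * a₂ ∉ A := by
    intro h
    apply hxA
    have : x = (x * a₂) * a₂⁻¹ := by group
    rw [this]; exact A.mul_mem h (A.inv_mem ha₂A)
  rcases C.Z_cases' hz hz1 (S.sq_mem_Z x) with h | h | h | h
  · exact absurd h (S.not_mem_Z_of_not_mem hxA)
  · exfalso
    apply S.not_mem_Z_of_not_mem hxa₂
    rw [hsq, h, S.z_mul_psi_mul hz]
  · exact ⟨x, hxA, hT, h⟩
  · refine ⟨x * a₂, hxa₂, S.trans_mul_mem hT ha₂A, ?_⟩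
    rw [hsq, h, C.Z_mul_comm hppz, mul_assoc, C.mul_self_of_mem_Z hppz, mul_one]

/-- The frame. -/
theorem exists_frame {t₀ : T} (ht₀ : t₀ ∉ A) :
    ∃ x₁ x₂ a₁ a₂ : T, Frame T x₁ x₂ a₁ a₂ ∧ closure ({x₁, x₂, a₁, a₂} : Set T) = ⊤ ∧
      a₁ * a₁ ≠ 1 ∧ a₂ * a₂ ≠ 1 ∧ (a₁ * a₁) * (a₂ * a₂) ≠ 1 ∧
      ∀ b : T, b ≠ 1 → (∀ g, g * b = b * g) →
        b = a₁ * a₁ ∨ b = a₂ * a₂ ∨ b = (a₁ * a₁) * (a₂ * a₂) := by
  obtain ⟨z, hz, hz1⟩ := C.exists_invol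
  have hpz := C.psi_mem_Z hz
  have hppz := C.psi_mem_Z hpz
  have hpp : ψ (ψ z) = z * ψ z := C.psi_psi hz hz1
  obtain ⟨a₁, ha₁, ha₁z⟩ := S.sq_surj z hz
  set a₂ := ψ a₁ with ha₂
  have ha₂A : a₂ ∈ A := S.nab.inv _ ha₁
  have ha₂z : a₂ * a₂ = ψ z := by rw [ha₂, ← map_mul, ha₁z]
  obtain ⟨x₁, hx₁A, hT₁, hx₁sq⟩ := S.exists_x1 ht₀ hz hz1 ha₁ ha₁z
  -- commutators of `x₁`
  have c11 : ⁅x₁, a₁⁆ = z := (hT₁ a₁ ha₁).1 ha₁z
  have c12 : ⁅x₁, a₂⁆ = ψ (ψ z) := (hT₁ a₂ ha₂A).2.1 ha₂z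
  -- the second outer generator, first version
  set y := ψ x₁ with hy
  have hyA : y ∉ A := S.psi_not_mem hx₁A
  have hTy : Trans A ψ y (ψ z) := S.trans_psi hT₁
  have hysq : y * y = ψ (ψ z) := by rw [hy, ← map_mul, hx₁sq]
  have cy2 : ⁅y, a₂⁆ = ψ z := (hTy a₂ ha₂A).1 ha₂z
  have cy1 : ⁅y, a₁⁆ = ψ (ψ z) := by
    apply (hTy a₁ ha₁).2.2
    rw [ha₁z, C.psi_cube' hz]
  -- the commutator `c = ⁅y, x₁⁆`
  have hcZ : ⁅y, x₁⁆ ∈ C.Z := S.comm_all y x₁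
  have hta : ⁅x₁ * y, a₁⁆ = ψ z := by
    rw [S.comm_mul_l, cy1, c11, hpp, mul_assoc, C.Z_mul_comm hpz, ← mul_assoc,
      C.mul_self_of_mem_Z hz, one_mul]
  have htA : x₁ * y ∉ A := by
    intro h
    have := S.comm_eq_one_of_mem h ha₁
    rw [hta] at this
    exact C.psi_ne_one hz1 this
  have htsq : (x₁ * y) * (x₁ * y) = z * ⁅y, x₁⁆ := by
    rw [S.sq_mul, hx₁sq, hysq, S.psi_mul_psi_psi hz]
  have hne1 : ⁅y, x₁⁆ ≠ z := by
    intro h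
    apply S.not_mem_Z_of_not_mem htA
    rw [htsq, h, C.mul_self_of_mem_Z hz]
  have hta₁A : x₁ * y * a₁ ∉ A := by
    intro h
    apply htA
    have : x₁ * y = (x₁ * y * a₁) * a₁⁻¹ := by group
    rw [this]; exact A.mul_mem h (A.inv_mem ha₁)
  have hne2 : ⁅y, x₁⁆ ≠ ψ z := by
    intro h
    apply S.not_mem_Z_of_not_mem hta₁A
    rw [S.sq_mul, htsq, ha₁z, S.comm_symm a₁ (x₁ * y), hta, h]
    calc z * ψ z * z * ψ z = z * (ψ z * z) * ψ z := by group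
      _ = z * (z * ψ z) * ψ z := by rw [C.Z_mul_comm hpz]
      _ = (z * z) * (ψ z * ψ z) := by group
      _ = 1 := by rw [C.mul_self_of_mem_Z hz, C.mul_self_of_mem_Z hpz, one_mul]
  -- choose `x₂`
  have hx₂ : ∃ x₂, Trans A ψ x₂ (ψ z) ∧ x₂ * x₂ = ψ (ψ z) ∧ ⁅x₂, x₁⁆ = 1 := by
    rcases C.Z_cases' hz hz1 hcZ with h | h | h | h
    · exact ⟨y, hTy, hysq, h⟩
    · exact absurd h hne1
    · exact absurd h hne2
    · refine ⟨y * a₂, S.trans_mul_mem hTy ha₂A, ?_, ?_⟩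
      · rw [S.sq_mul, hysq, ha₂z, S.comm_symm, cy2, mul_assoc, C.mul_self_of_mem_Z hpz, mul_one]
      · rw [S.comm_mul_l, h, S.comm_symm, c12, C.mul_self_of_mem_Z hppz]
  obtain ⟨x₂, hT₂, hx₂sq, hxx⟩ := hx₂
  have c22 : ⁅x₂, a₂⁆ = ψ z := (hT₂ a₂ ha₂A).1 ha₂z
  have c21 : ⁅x₂, a₁⁆ = ψ (ψ z) := by
    apply (hT₂ a₁ ha₁).2.2
    rw [ha₁z, C.psi_cube' hz]
  have conjZ : ∀ (g : T) {w : T}, w ∈ C.Z → g * w * g⁻¹ = w := by
    intro g w hw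
    rw [C.Z_comm hw g]; group
  have hz12 : (a₁ * a₁) * (a₂ * a₂) = ψ (ψ z) := by rw [ha₁z, ha₂z, hpp]
  have hF : Frame T x₁ x₂ a₁ a₂ := by
    refine ⟨?_, ?_, ?_, ?_, ?_, ?_, ?_, ?_, ?_, ?_, ?_, ?_, ?_, ?_, ?_, ?_⟩
    · rw [ha₁z]; exact C.mul_self_of_mem_Z hz
    · rw [ha₂z]; exact C.mul_self_of_mem_Z hpz
    · rw [ha₁z]; exact conjZ _ hz
    · rw [ha₂z]; exact conjZ _ hpz
    · rw [ha₁z]; exact conjZ _ hz
    · rw [ha₂z]; exact conjZ _ hpz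
    · rw [ha₁z]; exact conjZ _ hz
    · rw [ha₂z]; exact conjZ _ hpz
    · rw [S.nab.comm a₂ ha₂A a₁ ha₁]; group
    · rw [hx₁sq, ha₂z]
    · rw [hx₂sq, hz12]
    · rw [conj_eq_comm_mul, c11, ha₁z]
    · rw [conj_eq_comm_mul, c12, hz12]
    · rw [conj_eq_comm_mul, c21, hz12]
    · rw [conj_eq_comm_mul, c22, ha₂z]
    · rw [conj_eq_comm_mul, hxx, one_mul]
  -- generation
  set H := closure ({x₁, x₂, a₁, a₂} : Set T) with hH
  have mx1 : x₁ ∈ H := subset_closure (by simp)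
  have mx2 : x₂ ∈ H := subset_closure (by simp)
  have ma1 : a₁ ∈ H := subset_closure (by simp)
  have ma2 : a₂ ∈ H := subset_closure (by simp)
  have hZH : C.Z ≤ H := by
    intro w hw
    have hzH : z ∈ H := by rw [← ha₁z]; exact H.mul_mem ma1 ma1
    have hpzH : ψ z ∈ H := by rw [← ha₂z]; exact H.mul_mem ma2 ma2
    rcases C.Z_cases hz hz1 hw with h | h | h | h
    · rw [h]; exact H.one_mem
    · rw [h]; exact hzH
    · rw [h]; exact hpzH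
    · rw [h]; exact H.mul_mem hzH hpzH
  have hAH : A ≤ H := by
    intro a ha
    have key : ∀ h ∈ A, h ∈ H → a * a = h * h → a ∈ H := by
      intro h hhA hhH heq
      have h1 : (a * h⁻¹) * (a * h⁻¹) = 1 := by
        have hc : h⁻¹ * a = a * h⁻¹ := S.nab.comm _ (A.inv_mem hhA) a ha
        calc (a * h⁻¹) * (a * h⁻¹) = a * (h⁻¹ * a) * h⁻¹ := by group
          _ = a * (a * h⁻¹) * h⁻¹ := by rw [hc]
          _ = (a * a) * (h * h)⁻¹ := by group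
          _ = 1 := by rw [heq, mul_inv_cancel]
      have h2 : a * h⁻¹ ∈ H := hZH (C.mem_Z.mpr h1)
      have : a = (a * h⁻¹) * h := by group
      rw [this]; exact H.mul_mem h2 hhH
    rcases C.Z_cases hz hz1 (S.sq_mem_Z_of_mem ha) with h | h | h | h
    · exact hZH (C.mem_Z.mpr h)
    · exact key a₁ ha₁ ma1 (by rw [h, ha₁z])
    · exact key a₂ ha₂A ma2 (by rw [h, ha₂z])
    · refine key (a₁ * a₂) (A.mul_mem ha₁ ha₂A) (H.mul_mem ma1 ma2) ?_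
      rw [h, S.pairing.pimul a₁ ha₁ a₂ ha₂A, ha₁z, ha₂z]
  have ha₁Z : a₁ ∉ C.Z := by
    intro h
    exact hz1 (by rw [← ha₁z]; exact C.mem_Z.mp h)
  have hgen : H = ⊤ := by
    rw [eq_top_iff]
    intro t _
    have key : ∀ h ∈ H, ⁅h, a₁⁆ = ⁅t, a₁⁆ → t ∈ H := by
      intro h hhH heq
      have h1 : ⁅h⁻¹ * t, a₁⁆ = 1 := by
        rw [S.comm_mul_l, S.comm_inv_l, heq, C.mul_self_of_mem_Z (S.comm_all t a₁)]
      have h2 : h⁻¹ * t ∈ A := by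
        by_contra hcon
        exact ha₁Z (S.mem_Z_of_comm_eq_one hcon ha₁ h1)
      have : t = h * (h⁻¹ * t) := by group
      rw [this]; exact H.mul_mem hhH (hAH h2)
    rcases C.Z_cases' hz hz1 (S.comm_all t a₁) with h | h | h | h
    · refine key 1 H.one_mem ?_
      rw [h]; simp [commutatorElement_def]
    · exact key x₁ mx1 (by rw [h, c11])
    · refine key (x₁ * x₂) (H.mul_mem mx1 mx2) ?_
      rw [h, S.comm_mul_l, c21, c11, hpp, mul_assoc, C.Z_mul_comm hpz, ← mul_assoc,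
        C.mul_self_of_mem_Z hz, one_mul]
    · exact key x₂ mx2 (by rw [h, c21])
  refine ⟨x₁, x₂, a₁, a₂, hF, hgen, ?_, ?_, ?_, ?_⟩
  · rw [ha₁z]; exact hz1
  · rw [ha₂z]; exact C.psi_ne_one hz1
  · rw [ha₁z, ha₂z]; exact C.mul_psi_ne_one hz hz1
  · intro b hb1 hbc
    have hbA : b ∈ A := S.self b (fun a _ => (hbc a).symm)
    have hbZ : b ∈ C.Z := by
      apply S.mem_Z_of_comm_eq_one hx₁A hbA
      rw [commutatorElement_def, hbc x₁]; group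
    rcases C.Z_cases hz hz1 hbZ with h | h | h | h
    · exact absurd h hb1
    · left; rw [h, ha₁z]
    · right; left; rw [h, ha₂z]
    · right; right; rw [h, ha₁z, ha₂z]

end Str

end Cfsg.Agent.Helper22.Aut3
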