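import Cfsg.Agent.Lib.Helper22.Aut3L
import Cfsg.Agent.Lib.Helper22.Aut3C

set_option autoImplicit false

/-! The main structure theorem in the nonabelian case. -/

namespace Cfsg.Agent.Helper22.Aut3

open Subgroup
open scoped commutatorElement

variable {T : Type*} [Group T] {ψ : MulAut T}

/-- The output of the structure theory. -/
def HasFrame (T : Type*) [Group T] : Prop :=
  ∃ x₁ x₂ a₁ a₂ : T, Frame T x₁ x₂ a₁ a₂ ∧ closure ({x₁, x₂, a₁, a₂} : Set T) = ⊤ ∧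
    a₁ * a₁ ≠ 1 ∧ a₂ * a₂ ≠ 1 ∧ (a₁ * a₁) * (a₂ * a₂) ≠ 1 ∧
    ∀ b : T, b ≠ 1 → (∀ g, g * b = b * g) →
      b = a₁ * a₁ ∨ b = a₂ * a₂ ∨ b = (a₁ * a₁) * (a₂ * a₂)

theorem Cfg.nonabelian_frame (C : Cfg T ψ) (hnab : ∃ a b : T, a * b ≠ b * a) : HasFrame T := by
  have := C.fin
  obtain ⟨u, v, huv⟩ := hnab
  have huZ : u ∉ C.Z := fun h => huv (C.Z_comm h v).symm
  obtain ⟨B, hB, hZB, b, hbB, hbZ⟩ := C.exists_nab_gt_Z huZ
  obtain ⟨A, hA, hZA, hmax⟩ := C.exists_max_nab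
  -- `A` is strictly larger than `Z`
  have hex : ∃ a ∈ A, a ∉ C.Z := by
    by_contra hcon
    have hAZ : A ≤ C.Z := by
      intro a ha
      by_contra h
      exact hcon ⟨a, ha, h⟩
    have h1 : Nat.card A ≤ Nat.card C.Z := Subgroup.card_le_of_le hAZ
    have h2 : Nat.card B ≤ Nat.card A := hmax B hB
    have h3 : C.Z = B := Subgroup.eq_of_le_of_card_ge hZB (h2.trans h1)
    exact hbZ (h3 ▸ hbB)
  obtain ⟨a, haA, haZ⟩ := hex
  have h2 : 2 ≤ C.expo A := C.two_le_expo haA (fun h => haZ (C.mem_Z.mpr h))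
  have hself := fun b hb => C.mem_of_centralizes hA hZA hmax h2 (b := b) hb
  -- `T ≠ A`
  have hTA : ∃ t : T, t ∉ A := by
    by_contra hcon
    apply huv
    apply hA.comm
    · by_contra h; exact hcon ⟨u, h⟩
    · by_contra h; exact hcon ⟨v, h⟩
  obtain ⟨t, htA⟩ := hTA
  obtain ⟨k, hk1, hk2⟩ := C.exists_pow_sq_mem htA
  have hle : C.expo A ≤ 2 := expo_le_two C hA hZA hk2 hk1 hself
  have hexp : C.expo A = 2 := le_antisymm hle h2
  have S : Str C A := by
    refine ⟨hA, hZA, hself, ?_, ?_⟩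
    · intro a ha
      have := C.pow_expo ha
      rw [hexp] at this
      have h4 : (a * a) * (a * a) = a ^ (2 ^ 2) := by
        have h5 : (2 : ℕ) ^ 2 = 2 + 2 := by norm_num
        rw [h5, pow_add, pow_two]
      rw [h4, this]
    · intro w hw
      obtain ⟨e, heA, -, he⟩ := C.exists_pow_eq hA.toAbInv (i := 1) (by omega) hw
      refine ⟨e, heA, ?_⟩
      rw [pow_one, pow_two] at he
      exact he
  exact S.exists_frame hk1

/-- Two nonabelian configurations, one of order `64`, are isomorphic. -/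
theorem iso_of_hasFrame {T P : Type*} [Group T] [Group P] [Finite T] [Finite P]
    (hT : HasFrame T) (hP : HasFrame P) (hcard : Nat.card P = 64) (hp : IsPGroup 2 P) :
    Nonempty (T ≃* P) := by
  obtain ⟨x₁, x₂, a₁, a₂, F₁, gen₁, h1, h2, h3, -⟩ := hT
  obtain ⟨y₁, y₂, b₁, b₂, F₂, gen₂, -, -, -, hcen⟩ := hP
  exact frame_iso F₁ F₂ gen₁ gen₂ hcard hp hcen h1 h2 h3

end Cfsg.Agent.Helper22.Aut3
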