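import Mathlib
import Cfsg.Agent.Lib.Helper24.CharAbelian
import Cfsg.Agent.Lib.Helper24.CharIntegral

/-!
# Automorphism orbits, part A (helper22)

* the number of automorphism orbits is at most the number of conjugacy classes;
* `p * k(G) ≤ |G|` when the derived subgroup has more than `p` elements (`p` the least prime
  divisor of `|G|`), by the degree-square sum;
* a fibre-counting lemma.
-/

set_option autoImplicit false

namespace Cfsg.Agent.Helper22.AutOrb

open Cfsg Cfsg.Agent.Helper24

universe u

theorem card_autOrbits_le_card_conjClasses {G : Type u} [Group G] [Finite G] :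
    Nat.card (MulAction.orbitRel.Quotient (MulAut G) G) ≤ Nat.card (ConjClasses G) := by
  classical
  have : Finite (ConjClasses G) := Finite.of_surjective _ ConjClasses.mk_surjective
  let f : ConjClasses G → MulAction.orbitRel.Quotient (MulAut G) G :=
    Quotient.map' (s₁ := IsConj.setoid G) (s₂ := MulAction.orbitRel (MulAut G) G) id (by
      intro a b hab
      change IsConj a b at hab
      rw [isConj_iff] at hab
      obtain ⟨c, hc⟩ := hab
      change a ∈ MulAction.orbit (MulAut G) b
      refine ⟨MulAut.conj c⁻¹, ?_⟩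
      rw [← hc]
      simp [MulAut.smul_def, mul_assoc])
  refine Nat.card_le_card_of_surjective f ?_
  intro y
  induction y using Quotient.inductionOn' with
  | h a => exact ⟨ConjClasses.mk a, rfl⟩

theorem arith_aux (p g L N : ℕ) (hp2 : 2 ≤ p) (hA : (p + 1) * L ≤ g) (hB : L + N * p ^ 2 ≤ g) :
    p * (L + N) ≤ g := by
  have hC : p * (p * (L + N)) ≤ p * g := by
    obtain ⟨r, rfl⟩ : ∃ r, p = r + 1 := ⟨p - 1, by omega⟩
    nlinarith [Nat.mul_le_mul_left r hA, hB]
  exact Nat.le_of_mul_le_mul_left hC (by omega)

theorem minFac_mul_card_conjClasses_le {G : Type u} [Group G] [Finite G]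
    (h : (Nat.card G).minFac + 1 ≤ Nat.card (commutator G)) :
    (Nat.card G).minFac * Nat.card (ConjClasses G) ≤ Nat.card G := by
  classical
  letI := Fintype.ofFinite G
  letI := irrFintype (G := G)
  have hsum := sum_charDegree_sq (G := G)
  have hk := card_irr_eq_card_conjClasses (G := G)
  have hL := card_linear_characters' (G := G)
  have hg0 : 0 < Nat.card G := Nat.card_pos
  have hg1 : Nat.card G ≠ 1 := by
    intro h1
    have : Nat.card (commutator G) ≤ Nat.card G := Subgroup.card_le_card_group _
    rw [h1] at this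
    have hp : 0 < (Nat.card G).minFac := Nat.minFac_pos _
    omega
  set p := (Nat.card G).minFac with hp
  set g := Nat.card G with hg
  have hpp : p.Prime := Nat.minFac_prime hg1
  let S1 := Finset.univ.filter (fun χ : IrrCharacter G => charDegree (χ : G → ℂ) = 1)
  let S2 := Finset.univ.filter (fun χ : IrrCharacter G => ¬ charDegree (χ : G → ℂ) = 1)
  have hLc : S1.card = (commutator G).index := by
    rw [← hL, Nat.card_eq_fintype_card, Fintype.card_subtype]
  have hLN : S1.card + S2.card = Nat.card (ConjClasses G) := by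
    rw [← hk, Nat.card_eq_fintype_card, ← Finset.card_univ]
    exact Finset.card_filter_add_card_filter_not _
  have hsplit : ∑ χ ∈ S1, charDegree (χ : G → ℂ) ^ 2 + ∑ χ ∈ S2, charDegree (χ : G → ℂ) ^ 2 = g := by
    rw [← hsum]
    exact Finset.sum_filter_add_sum_filter_not _ _ _
  have h1 : S1.card ≤ ∑ χ ∈ S1, charDegree (χ : G → ℂ) ^ 2 := by
    have : ∑ χ ∈ S1, charDegree (χ : G → ℂ) ^ 2 = ∑ χ ∈ S1, 1 := by
      refine Finset.sum_congr rfl fun χ hχ => ?_
      rw [(Finset.mem_filter.mp hχ).2]
      rfl
    rw [this]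
    simp
  have h2 : S2.card * p ^ 2 ≤ ∑ χ ∈ S2, charDegree (χ : G → ℂ) ^ 2 := by
    rw [← smul_eq_mul]
    refine Finset.card_nsmul_le_sum _ _ _ fun χ hχ => ?_
    have hne : ¬ charDegree (χ : G → ℂ) = 1 := (Finset.mem_filter.mp hχ).2
    have hdvd : charDegree (χ : G → ℂ) ∣ g := charDegree_dvd_card χ.2
    have hne0 : charDegree (χ : G → ℂ) ≠ 0 := by
      intro h0
      rw [h0, zero_dvd_iff] at hdvd
      omega
    have h2le : 2 ≤ charDegree (χ : G → ℂ) := by omega
    have : p ≤ charDegree (χ : G → ℂ) := Nat.minFac_le_of_dvd h2le hdvd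
    exact Nat.pow_le_pow_left this 2
  have hidx : (commutator G).index * Nat.card (commutator G) = g := Subgroup.index_mul_card _
  rw [← hLN]
  set L := S1.card
  set N := S2.card
  rw [← hLc] at hidx
  have hA : (p + 1) * L ≤ g := by
    calc (p + 1) * L ≤ Nat.card (commutator G) * L := Nat.mul_le_mul_right _ h
      _ = g := by rw [mul_comm]; exact hidx
  have hB : L + N * p ^ 2 ≤ g := by omega
  have hp2 : 2 ≤ p := hpp.two_le
  exact arith_aux p g L N hp2 hA hB

/-- Fibre counting: if every fibre of `f` on `S` has at least `n` elements then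
`n * |f(S)| ≤ |S|`. -/
theorem mul_card_image_le {α β : Type*} [DecidableEq α] [DecidableEq β] (S : Finset α)
    (f : α → β) (n : ℕ) (h : ∀ x ∈ S, n ≤ (S.filter (fun y => f y = f x)).card) :
    n * (S.image f).card ≤ S.card := by
  rw [Finset.card_eq_sum_card_image f S, mul_comm, ← smul_eq_mul]
  refine Finset.card_nsmul_le_sum _ _ _ fun b hb => ?_
  obtain ⟨x, hx, rfl⟩ := Finset.mem_image.mp hb
  exact h x hx

end Cfsg.Agent.Helper22.AutOrb
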