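import Mathlib

/-!
# Automorphism orbits, part B (helper22): groups with central derived subgroup of prime order

The commutator pairing `Bf` with values in `ZMod p`, conjugacy inside cosets of the derived
subgroup, and the kernel of `x ↦ Bf x y₀`.
-/

set_option autoImplicit false

namespace Cfsg.Agent.Helper22.AutOrb

universe u

open scoped commutatorElement

section Central

variable {G : Type u} [Group G]

theorem commutator_le_center_of_card_eq_minFac [Finite G]
    (h : Nat.card (commutator G) = (Nat.card G).minFac) (hne : Nat.card G ≠ 1) :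
    commutator G ≤ Subgroup.center G := by
  classical
  set p := (Nat.card G).minFac with hp
  have hpp : p.Prime := Nat.minFac_prime hne
  haveI : Fact p.Prime := ⟨hpp⟩
  haveI : IsCyclic ↥(commutator G) := isCyclic_of_prime_card h
  have hA : Nat.card (MulAut ↥(commutator G)) = p - 1 := by
    rw [IsCyclic.card_mulAut, h, Nat.totient_prime hpp]
  let f : G →* MulAut ↥(commutator G) := MulAut.conjNormal
  have h1 : Nat.card f.range ∣ Nat.card G := Subgroup.card_range_dvd f
  have h2 : Nat.card f.range ∣ p - 1 := hA ▸ Subgroup.card_subgroup_dvd_card f.range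
  have hp2 : 2 ≤ p := hpp.two_le
  have h3 : Nat.card f.range = 1 := by
    by_contra hne1
    have hpos : 0 < Nat.card f.range := Nat.card_pos
    have hle : Nat.card f.range ≤ p - 1 := Nat.le_of_dvd (by omega) h2
    have := Nat.minFac_le_of_dvd (by omega) h1
    omega
  have h4 : f.range = ⊥ := Subgroup.card_eq_one.mp h3
  intro c hc
  rw [Subgroup.mem_center_iff]
  intro g
  have h5 : f g = 1 := by
    have : f g ∈ f.range := ⟨g, rfl⟩
    rw [h4, Subgroup.mem_bot] at this
    exact this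
  have h6 : ((f g) ⟨c, hc⟩ : G) = g * c * g⁻¹ := MulAut.conjNormal_apply g ⟨c, hc⟩
  rw [h5] at h6
  have h7 : c = g * c * g⁻¹ := h6
  calc g * c = g * c * g⁻¹ * g := by group
    _ = c * g := by rw [← h7]

theorem comm_mem (x y : G) : ⁅x, y⁆ ∈ commutator G :=
  Subgroup.commutator_mem_commutator (Subgroup.mem_top x) (Subgroup.mem_top y)

theorem central_comm (hZ : commutator G ≤ Subgroup.center G) (x y g : G) :
    g * ⁅x, y⁆ = ⁅x, y⁆ * g :=
  Subgroup.mem_center_iff.mp (hZ (comm_mem x y)) g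

theorem comm_mul_left' (hZ : commutator G ≤ Subgroup.center G) (x x' y : G) :
    ⁅x * x', y⁆ = ⁅x, y⁆ * ⁅x', y⁆ := by
  rw [commutatorElement_mul_left_eq_conj_mul, central_comm hZ x' y x, mul_inv_cancel_right,
    ← central_comm hZ]

/-- `x ↦ ⁅x, y⁆` as a homomorphism into the derived subgroup. -/
def commHom (hZ : commutator G ≤ Subgroup.center G) (y : G) : G →* ↥(commutator G) where
  toFun x := ⟨⁅x, y⁆, comm_mem x y⟩
  map_one' := Subtype.ext (commutatorElement_one_left y)
  map_mul' a b := Subtype.ext (comm_mul_left' hZ a b y)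

theorem commHom_apply_coe (hZ : commutator G ≤ Subgroup.center G) (y x : G) :
    (commHom hZ y x : G) = ⁅x, y⁆ := rfl

theorem commHom_swap (hZ : commutator G ≤ Subgroup.center G) (y x : G) :
    commHom hZ y x = (commHom hZ x y)⁻¹ :=
  Subtype.ext (commutatorElement_inv y x).symm

variable {p : ℕ} [Fact p.Prime]

/-- The commutator pairing with values in `ZMod p`. -/
def Bf (ζ : ↥(commutator G) ≃* Multiplicative (ZMod p))
    (hZ : commutator G ≤ Subgroup.center G) (x y : G) : ZMod p :=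
  Multiplicative.toAdd (ζ (commHom hZ y x))

variable (ζ : ↥(commutator G) ≃* Multiplicative (ZMod p))
  (hZ : commutator G ≤ Subgroup.center G)

theorem Bf_mul_left (x x' y : G) : Bf ζ hZ (x * x') y = Bf ζ hZ x y + Bf ζ hZ x' y := by
  simp [Bf, map_mul, toAdd_mul]

theorem Bf_one_left (y : G) : Bf ζ hZ 1 y = 0 := by
  simp [Bf]

theorem Bf_inv_left (x y : G) : Bf ζ hZ x⁻¹ y = - Bf ζ hZ x y := by
  simp [Bf, map_inv, toAdd_inv]

theorem Bf_pow_left (x y : G) (n : ℕ) : Bf ζ hZ (x ^ n) y = n * Bf ζ hZ x y := by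
  simp [Bf, map_pow, toAdd_pow]

theorem Bf_swap (x y : G) : Bf ζ hZ x y = - Bf ζ hZ y x := by
  unfold Bf
  rw [commHom_swap, map_inv, toAdd_inv]

theorem Bf_mul_right (x y y' : G) : Bf ζ hZ x (y * y') = Bf ζ hZ x y + Bf ζ hZ x y' := by
  rw [Bf_swap, Bf_mul_left, Bf_swap ζ hZ x y, Bf_swap ζ hZ x y']
  ring

theorem Bf_one_right (x : G) : Bf ζ hZ x 1 = 0 := by
  rw [Bf_swap, Bf_one_left, neg_zero]

theorem Bf_inv_right (x y : G) : Bf ζ hZ x y⁻¹ = - Bf ζ hZ x y := by
  rw [Bf_swap, Bf_inv_left, Bf_swap ζ hZ x y]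

theorem Bf_pow_right (x y : G) (n : ℕ) : Bf ζ hZ x (y ^ n) = n * Bf ζ hZ x y := by
  rw [Bf_swap, Bf_pow_left, Bf_swap ζ hZ x y]
  ring

theorem Bf_eq_zero_iff (x y : G) : Bf ζ hZ x y = 0 ↔ x * y = y * x := by
  unfold Bf
  rw [← commutatorElement_eq_one_iff_mul_comm, ← commHom_apply_coe hZ y x]
  constructor
  · intro h
    have h1 : ζ (commHom hZ y x) = 1 := by
      apply Multiplicative.toAdd.injective
      rw [h]; rfl
    rw [EmbeddingLike.map_eq_one_iff] at h1
    rw [h1]; rfl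
  · intro h
    have h1 : commHom hZ y x = 1 := Subtype.ext h
    rw [h1, map_one]; rfl

theorem Bf_self (x : G) : Bf ζ hZ x x = 0 := (Bf_eq_zero_iff ζ hZ x x).mpr rfl

theorem Bf_center_left {z : G} (hz : z ∈ Subgroup.center G) (y : G) : Bf ζ hZ z y = 0 :=
  (Bf_eq_zero_iff ζ hZ z y).mpr (Subgroup.mem_center_iff.mp hz y).symm

theorem Bf_center_right {z : G} (hz : z ∈ Subgroup.center G) (y : G) : Bf ζ hZ y z = 0 :=
  (Bf_eq_zero_iff ζ hZ y z).mpr (Subgroup.mem_center_iff.mp hz y)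

theorem comm_eq_of_Bf_eq {x y c : G} (hc : c ∈ commutator G)
    (h : Bf ζ hZ x y = Multiplicative.toAdd (ζ ⟨c, hc⟩)) : ⁅x, y⁆ = c := by
  unfold Bf at h
  have h1 := ζ.injective (Multiplicative.toAdd.injective h)
  exact congrArg Subtype.val h1

theorem exists_not_comm {v : G} (hv : v ∉ Subgroup.center G) : ∃ w : G, Bf ζ hZ w v ≠ 0 := by
  rw [Subgroup.mem_center_iff] at hv
  push Not at hv
  obtain ⟨w, hw⟩ := hv
  exact ⟨w, fun h => hw ((Bf_eq_zero_iff ζ hZ w v).mp h)⟩


theorem Bf_comm_left {c : G} (hc : c ∈ commutator G) (y : G) : Bf ζ hZ c y = 0 :=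
  Bf_center_left ζ hZ (hZ hc) y

theorem Bf_comm_right {c : G} (hc : c ∈ commutator G) (y : G) : Bf ζ hZ y c = 0 :=
  Bf_center_right ζ hZ (hZ hc) y

theorem comm_mul_comm_eq_one {x y x' y' : G} (h : Bf ζ hZ x y + Bf ζ hZ x' y' = 0) :
    ⁅x, y⁆ * ⁅x', y'⁆ = 1 := by
  unfold Bf at h
  rw [← toAdd_mul, ← map_mul] at h
  have h1 : ζ (commHom hZ y x * commHom hZ y' x') = 1 := Multiplicative.toAdd.injective h
  rw [EmbeddingLike.map_eq_one_iff] at h1
  exact congrArg Subtype.val h1

/-- `x ↦ Bf x y` as a homomorphism. -/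
def BHom (y : G) : G →* Multiplicative (ZMod p) := ζ.toMonoidHom.comp (commHom hZ y)

theorem BHom_apply (y x : G) : BHom ζ hZ y x = Multiplicative.ofAdd (Bf ζ hZ x y) := rfl

theorem mem_ker_BHom (y x : G) : x ∈ (BHom ζ hZ y).ker ↔ Bf ζ hZ x y = 0 := by
  rw [MonoidHom.mem_ker, BHom_apply]
  exact ofAdd_eq_one

include ζ in
theorem card_commutator_eq : Nat.card (commutator G) = p := by
  rw [Nat.card_congr ζ.toEquiv, Nat.card_eq_fintype_card, Fintype.card_multiplicative, ZMod.card]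

theorem card_ker_BHom [Finite G] {y₀ : G} (hy₀ : y₀ ∉ Subgroup.center G) :
    p * Nat.card (BHom ζ hZ y₀).ker = Nat.card G := by
  have hpp : p.Prime := Fact.out
  have h1 : (BHom ζ hZ y₀).ker.index = Nat.card (BHom ζ hZ y₀).range := Subgroup.index_ker _
  have h2 : Nat.card (BHom ζ hZ y₀).range ∣ p := by
    have := Subgroup.card_subgroup_dvd_card (BHom ζ hZ y₀).range
    rwa [Nat.card_eq_fintype_card (α := Multiplicative (ZMod p)), Fintype.card_multiplicative,
      ZMod.card] at this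
  have h3 : Nat.card (BHom ζ hZ y₀).range ≠ 1 := by
    intro h
    rw [Subgroup.card_eq_one] at h
    obtain ⟨w, hw⟩ := exists_not_comm ζ hZ hy₀
    have : BHom ζ hZ y₀ w ∈ (BHom ζ hZ y₀).range := ⟨w, rfl⟩
    rw [h, Subgroup.mem_bot, BHom_apply, ofAdd_eq_one] at this
    exact hw this
  have h4 : Nat.card (BHom ζ hZ y₀).range = p := ((Nat.dvd_prime hpp).mp h2).resolve_left h3
  have h5 := Subgroup.index_mul_card (BHom ζ hZ y₀).ker
  rw [h1, h4] at h5
  exact h5

theorem center_le_ker_BHom (y₀ : G) : Subgroup.center G ≤ (BHom ζ hZ y₀).ker := by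
  intro z hz
  rw [mem_ker_BHom]
  exact Bf_center_left ζ hZ hz y₀

theorem mul_card_center_le [Finite G] (hp : p = (Nat.card G).minFac) {y₀ : G}
    (hy₀ : y₀ ∉ Subgroup.center G) :
    p * Nat.card (Subgroup.center G) ≤ Nat.card (BHom ζ hZ y₀).ker := by
  have hle := center_le_ker_BHom ζ hZ y₀
  have hdvd : Nat.card (Subgroup.center G) ∣ Nat.card (BHom ζ hZ y₀).ker :=
    Subgroup.card_dvd_of_le hle
  obtain ⟨r, hr⟩ := hdvd
  have hpos : 0 < Nat.card (BHom ζ hZ y₀).ker := Nat.card_pos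
  have hzpos : 0 < Nat.card (Subgroup.center G) := Nat.card_pos
  have hr1 : r ≠ 1 := by
    intro h1
    rw [h1, mul_one] at hr
    have heq : Subgroup.center G = (BHom ζ hZ y₀).ker :=
      Subgroup.eq_of_le_of_card_ge hle hr.le
    apply hy₀
    rw [heq, mem_ker_BHom]
    exact Bf_self ζ hZ y₀
  have hr0 : r ≠ 0 := by
    intro h0
    rw [h0, mul_zero] at hr
    omega
  have hrg : r ∣ Nat.card G := by
    have h1 : r ∣ Nat.card (BHom ζ hZ y₀).ker := ⟨_, by rw [hr, mul_comm]⟩
    exact h1.trans (Subgroup.card_subgroup_dvd_card _)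
  have hpr : p ≤ r := by
    rw [hp]
    exact Nat.minFac_le_of_dvd (by omega) hrg
  rw [hr, mul_comm]
  exact Nat.mul_le_mul_left _ hpr

include ζ hZ in
/-- For a non-central `v`, every element of the coset `v G'` is conjugate to `v`. -/
theorem exists_conj_eq_mul {v : G} (hv : v ∉ Subgroup.center G) {c : G}
    (hc : c ∈ commutator G) : ∃ g : G, g * v * g⁻¹ = v * c := by
  haveI : NeZero p := ⟨(Fact.out : p.Prime).ne_zero⟩
  obtain ⟨w, hw⟩ := exists_not_comm ζ hZ hv
  let t : ZMod p := Multiplicative.toAdd (ζ ⟨c, hc⟩) / Bf ζ hZ w v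
  refine ⟨w ^ t.val, ?_⟩
  have h1 : Bf ζ hZ (w ^ t.val) v = Multiplicative.toAdd (ζ ⟨c, hc⟩) := by
    rw [Bf_pow_left, ZMod.natCast_zmod_val]
    exact div_mul_cancel₀ _ hw
  have h2 := comm_eq_of_Bf_eq ζ hZ hc h1
  rw [commutatorElement_def] at h2
  have h3 : v * c = c * v := Subgroup.mem_center_iff.mp (hZ hc) v
  rw [h3, ← h2]
  group

end Central

end Cfsg.Agent.Helper22.AutOrb
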