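import Mathlib
import Cfsg.Agent.Lib.Helper22.AutOrbA
import Cfsg.Agent.Lib.Helper22.AutOrbB

/-!
# Automorphism orbits, part C (helper22): the counting step

If the derived subgroup is central of order `p` (least prime divisor of `|G|`), `y₀` is non-central
and every `x` not commuting with `y₀` has `p ^ 2` distinct automorphic images not commuting with
`y₀`, then `Aut G` has at most `|G| / p` orbits.
-/

set_option autoImplicit false

namespace Cfsg.Agent.Helper22.AutOrb

universe u

open scoped commutatorElement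

theorem arith_final (p ω a₁ a₂ a₃ z m g b₂ b₃ : ℕ) (hp : 2 ≤ p) (h0 : ω ≤ a₁ + a₂ + a₃)
    (h1 : a₁ ≤ z) (h2 : p * a₂ ≤ b₂) (h2' : b₂ + z = m) (h3 : p * p * a₃ ≤ b₃)
    (h3' : m + b₃ = g) (hg : p * m = g) (hz : p * z ≤ m) : p * ω ≤ g := by
  obtain ⟨r, rfl⟩ : ∃ r, p = r + 2 := ⟨p - 2, by omega⟩
  subst h2'
  have hb3 : b₃ = (r + 1) * (b₂ + z) := by
    have : (r + 2) * (b₂ + z) = (b₂ + z) + b₃ := by rw [hg, h3']
    nlinarith
  subst hb3
  rw [← hg]
  apply Nat.mul_le_mul_left
  have hz' : (r + 1) * z ≤ b₂ := by nlinarith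
  have key : (r + 2) * (r + 2) * (a₂ + a₃) ≤ (r + 2) * (r + 2) * b₂ := by
    have e1 : (r + 2) * (r + 2) * (a₂ + a₃) =
        (r + 2) * ((r + 2) * a₂) + (r + 2) * (r + 2) * a₃ := by ring
    rw [e1]
    have e2 : (r + 2) * ((r + 2) * a₂) ≤ (r + 2) * b₂ := Nat.mul_le_mul_left _ h2
    have e3 : (r + 1) * (b₂ + z) ≤ (r + 1) * ((r + 2) * b₂) := by
      apply Nat.mul_le_mul_left
      nlinarith
    nlinarith
  have : a₂ + a₃ ≤ b₂ := Nat.le_of_mul_le_mul_left key (by positivity)
  omega

variable {G : Type u} [Group G] [Finite G] {p : ℕ} [Fact p.Prime]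
  (ζ : ↥(commutator G) ≃* Multiplicative (ZMod p))
  (hZ : commutator G ≤ Subgroup.center G)

theorem card_orbits_le_of_family (hp : p = (Nat.card G).minFac) {y₀ : G}
    (hy₀ : y₀ ∉ Subgroup.center G)
    (hK : ∀ x : G, ¬ Bf ζ hZ x y₀ = 0 → ∃ f : ZMod p × ↥(commutator G) → G,
      Function.Injective f ∧ ∀ i, (∃ ψ : MulAut G, ψ x = f i) ∧ ¬ Bf ζ hZ (f i) y₀ = 0) :
    p * Nat.card (MulAction.orbitRel.Quotient (MulAut G) G) ≤ Nat.card G := by
  classical
  letI := Fintype.ofFinite G
  letI : Fintype (MulAction.orbitRel.Quotient (MulAut G) G) := Fintype.ofFinite _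
  letI : Fintype ↥(commutator G) := Fintype.ofFinite _
  haveI : NeZero p := ⟨(Fact.out : p.Prime).ne_zero⟩
  have hpp : p.Prime := Fact.out
  have hcardC : Fintype.card ↥(commutator G) = p := by
    rw [← Nat.card_eq_fintype_card]; exact card_commutator_eq ζ
  let q : G → MulAction.orbitRel.Quotient (MulAut G) G := Quotient.mk''
  have hq : ∀ x y : G, (∃ ψ : MulAut G, ψ x = y) → q y = q x := by
    rintro x y ⟨ψ, h⟩
    apply Quotient.sound'
    exact ⟨ψ, h⟩
  have hΩ : Nat.card (MulAction.orbitRel.Quotient (MulAut G) G) = (Finset.univ.image q).card := by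
    rw [Finset.image_univ_of_surjective Quotient.mk''_surjective, Finset.card_univ,
      Nat.card_eq_fintype_card]
  let X₁ : Finset G := Finset.univ.filter (fun x => x ∈ Subgroup.center G)
  let Xm : Finset G := Finset.univ.filter (fun x => Bf ζ hZ x y₀ = 0)
  let X₃ : Finset G := Finset.univ.filter (fun x => ¬ Bf ζ hZ x y₀ = 0)
  let X₂ : Finset G := Xm \ X₁
  have hX1m : X₁ ⊆ Xm := by
    intro x hx
    simp only [X₁, Xm, Finset.mem_filter, Finset.mem_univ, true_and] at hx ⊢
    exact Bf_center_left ζ hZ hx y₀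
  have hz : X₁.card = Nat.card (Subgroup.center G) := by
    rw [Nat.card_eq_fintype_card, Fintype.card_subtype]
  have hm : Xm.card = Nat.card (BHom ζ hZ y₀).ker := by
    rw [Nat.card_eq_fintype_card, Fintype.card_subtype]
    congr 1
    apply Finset.filter_congr
    intro x _
    exact (mem_ker_BHom ζ hZ y₀ x).symm
  have h2' : X₂.card + X₁.card = Xm.card := Finset.card_sdiff_add_card_eq_card hX1m
  have h3' : Xm.card + X₃.card = Nat.card G := by
    rw [Nat.card_eq_fintype_card, ← Finset.card_univ]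
    exact Finset.card_filter_add_card_filter_not _
  have hg : p * Xm.card = Nat.card G := by rw [hm]; exact card_ker_BHom ζ hZ hy₀
  have hzm : p * X₁.card ≤ Xm.card := by rw [hz, hm]; exact mul_card_center_le ζ hZ hp hy₀
  have h0 : (Finset.univ.image q).card ≤ (X₁.image q).card + (X₂.image q).card +
      (X₃.image q).card := by
    have hsub : Finset.univ.image q ⊆ X₁.image q ∪ X₂.image q ∪ X₃.image q := by
      intro b hb
      obtain ⟨x, -, rfl⟩ := Finset.mem_image.mp hb
      simp only [Finset.mem_union, Finset.mem_image]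
      by_cases h1 : x ∈ Subgroup.center G
      · exact Or.inl (Or.inl ⟨x, by simp [X₁, h1], rfl⟩)
      · by_cases h2 : Bf ζ hZ x y₀ = 0
        · exact Or.inl (Or.inr ⟨x, by simp [X₂, Xm, X₁, h1, h2], rfl⟩)
        · exact Or.inr ⟨x, by simp [X₃, h2], rfl⟩
    calc (Finset.univ.image q).card ≤ (X₁.image q ∪ X₂.image q ∪ X₃.image q).card :=
          Finset.card_le_card hsub
      _ ≤ (X₁.image q ∪ X₂.image q).card + (X₃.image q).card := Finset.card_union_le _ _
      _ ≤ (X₁.image q).card + (X₂.image q).card + (X₃.image q).card :=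
          Nat.add_le_add_right (Finset.card_union_le _ _) _
  have h1 : (X₁.image q).card ≤ X₁.card := Finset.card_image_le
  have h2 : p * (X₂.image q).card ≤ X₂.card := by
    apply mul_card_image_le
    intro x hx
    have hx' : Bf ζ hZ x y₀ = 0 ∧ x ∉ Subgroup.center G := by
      simpa [X₂, Xm, X₁] using hx
    let e : ↥(commutator G) → G := fun c => x * c
    have hinj : Function.Injective e := by
      intro c c' h
      exact Subtype.ext (mul_left_cancel h)
    have hsub : Finset.univ.image e ⊆ X₂.filter (fun y => q y = q x) := by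
      intro y hy
      obtain ⟨c, -, rfl⟩ := Finset.mem_image.mp hy
      have hcz : (c : G) ∈ Subgroup.center G := hZ c.2
      have hmem : x * (c : G) ∈ X₂ := by
        have h1 : Bf ζ hZ (x * c) y₀ = 0 := by
          rw [Bf_mul_left, hx'.1, Bf_comm_left ζ hZ c.2, add_zero]
        have h2 : x * (c : G) ∉ Subgroup.center G := by
          intro h
          apply hx'.2
          have := Subgroup.mul_mem _ h (Subgroup.inv_mem _ hcz)
          rwa [mul_inv_cancel_right] at this
        simp [X₂, Xm, X₁, h1, h2]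
      rw [Finset.mem_filter]
      refine ⟨hmem, hq x _ ?_⟩
      obtain ⟨g, hg⟩ := exists_conj_eq_mul ζ hZ hx'.2 c.2
      exact ⟨MulAut.conj g, by rw [MulAut.conj_apply]; exact hg⟩
    calc p = (Finset.univ.image e).card := by
          rw [Finset.card_image_of_injective _ hinj, Finset.card_univ, hcardC]
      _ ≤ _ := Finset.card_le_card hsub
  have h3 : p * p * (X₃.image q).card ≤ X₃.card := by
    apply mul_card_image_le
    intro x hx
    have hx' : ¬ Bf ζ hZ x y₀ = 0 := by simpa [X₃] using hx
    obtain ⟨f, hinj, hf⟩ := hK x hx'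
    have hsub : Finset.univ.image f ⊆ X₃.filter (fun y => q y = q x) := by
      intro y hy
      obtain ⟨i, -, rfl⟩ := Finset.mem_image.mp hy
      rw [Finset.mem_filter]
      refine ⟨by simp [X₃, (hf i).2], hq x _ (hf i).1⟩
    calc p * p = (Finset.univ.image f).card := by
          rw [Finset.card_image_of_injective _ hinj, Finset.card_univ, Fintype.card_prod,
            ZMod.card, hcardC]
      _ ≤ _ := Finset.card_le_card hsub
  rw [hΩ]
  exact arith_final p _ _ _ _ _ _ _ _ _ hpp.two_le h0 h1 h2 h2' h3 h3' hg hzm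

end Cfsg.Agent.Helper22.AutOrb
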