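import Mathlib
import Cfsg.Agent.Lib.Helper22.AutOrbB

/-!
# Automorphism orbits, part D (helper22): explicit automorphisms of class-two groups
with derived subgroup of prime order
-/

set_option autoImplicit false

namespace Cfsg.Agent.Helper22.AutOrb

universe u

open scoped commutatorElement

section Zpw

variable {G : Type u} [Group G] {p : ℕ}

/-- `u ^ b` for `b : ZMod p`. -/
def zpw (u : G) (b : ZMod p) : G := u ^ b.val

theorem zpw_zero (u : G) : zpw u (0 : ZMod p) = 1 := by
  unfold zpw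
  rw [ZMod.val_zero, pow_zero]

theorem zpw_add [NeZero p] {u : G} (hu : u ^ p = 1) (b c : ZMod p) :
    zpw u (b + c) = zpw u b * zpw u c := by
  unfold zpw
  rw [ZMod.val_add, ← pow_add, ← pow_eq_pow_mod _ hu]

theorem zpw_mul [NeZero p] {u : G} (hu : u ^ p = 1) (b c : ZMod p) :
    zpw u (b * c) = (zpw u b) ^ c.val := by
  unfold zpw
  rw [ZMod.val_mul, ← pow_mul, ← pow_eq_pow_mod _ hu]

theorem zpw_one [Fact p.Prime] (u : G) : zpw u (1 : ZMod p) = u := by
  unfold zpw
  haveI : Fact (1 < p) := ⟨(Fact.out : p.Prime).one_lt⟩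
  rw [ZMod.val_one, pow_one]

theorem zpw_comm_zpw (u : G) (b c : ZMod p) : zpw u b * zpw u c = zpw u c * zpw u b :=
  (Commute.refl u).pow_pow _ _

theorem zpw_mem {u : G} {H : Subgroup G} (hu : u ∈ H) (b : ZMod p) : zpw u b ∈ H :=
  Subgroup.pow_mem H hu _

theorem eq_zero_of_zpw_mem [Fact p.Prime] {u : G} (hu : u ^ p = 1) {H : Subgroup G} (huH : u ∉ H)
    {b : ZMod p} (h : zpw u b ∈ H) : b = 0 := by
  haveI : NeZero p := ⟨(Fact.out : p.Prime).ne_zero⟩
  by_contra hb
  apply huH
  have h1 : zpw u (b * b⁻¹) = u := by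
    rw [mul_inv_cancel₀ hb, zpw_one]
  rw [← h1, zpw_mul hu]
  exact Subgroup.pow_mem H h _

end Zpw

section Families

variable {G : Type u} [Group G] [Finite G] {p : ℕ} [Fact p.Prime]
  (ζ : ↥(commutator G) ≃* Multiplicative (ZMod p))
  (hZ : commutator G ≤ Subgroup.center G)

theorem Bf_zpw_left (u y : G) (b : ZMod p) : Bf ζ hZ (zpw u b) y = b * Bf ζ hZ u y := by
  haveI : NeZero p := ⟨(Fact.out : p.Prime).ne_zero⟩
  unfold zpw
  rw [Bf_pow_left, ZMod.natCast_zmod_val]

theorem Bf_zpw_right (u y : G) (b : ZMod p) : Bf ζ hZ y (zpw u b) = b * Bf ζ hZ y u := by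
  haveI : NeZero p := ⟨(Fact.out : p.Prime).ne_zero⟩
  unfold zpw
  rw [Bf_pow_right, ZMod.natCast_zmod_val]

include ζ hZ in
/-- Multiplying an automorphic image by an element of the derived subgroup. -/
theorem exists_aut_mul_comm (ψ : MulAut G) (x : G) (hv : ψ x ∉ Subgroup.center G) {c : G}
    (hc : c ∈ commutator G) : ∃ ψ' : MulAut G, ψ' x = ψ x * c := by
  obtain ⟨g, hg⟩ := exists_conj_eq_mul ζ hZ hv hc
  refine ⟨MulAut.conj g * ψ, ?_⟩
  rw [MulAut.mul_apply, MulAut.conj_apply]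
  exact hg

/-- An injective endomorphism of a finite group is an automorphism. -/
theorem exists_mulAut_of_injective (φ : G →* G) (h : ∀ g, φ g = 1 → g = 1) :
    ∃ ψ : MulAut G, ∀ g, ψ g = φ g := by
  have hinj : Function.Injective φ := (injective_iff_map_eq_one φ).mpr h
  exact ⟨MulEquiv.ofBijective φ ⟨hinj, Finite.surjective_of_injective hinj⟩, fun g => rfl⟩

/-! ### Case C: a central element of order `p` outside the derived subgroup -/

theorem exists_aut_C {u : G} (hu : u ∈ Subgroup.center G) (hup : u ^ p = 1) (y₀ : G)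
    (s : ZMod p) : ∃ ψ : MulAut G, ∀ g, ψ g = g * zpw u (s * Bf ζ hZ g y₀) := by
  haveI : NeZero p := ⟨(Fact.out : p.Prime).ne_zero⟩
  let φ : G →* G :=
    { toFun := fun g => g * zpw u (s * Bf ζ hZ g y₀)
      map_one' := by
        change 1 * zpw u (s * Bf ζ hZ 1 y₀) = 1
        rw [Bf_one_left, mul_zero, zpw_zero, mul_one]
      map_mul' := by
        intro g h
        change g * h * zpw u (s * Bf ζ hZ (g * h) y₀) =
          g * zpw u (s * Bf ζ hZ g y₀) * (h * zpw u (s * Bf ζ hZ h y₀))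
        rw [Bf_mul_left, mul_add, zpw_add hup]
        have hS : h * zpw u (s * Bf ζ hZ g y₀) = zpw u (s * Bf ζ hZ g y₀) * h :=
          Subgroup.mem_center_iff.mp (zpw_mem hu _) h
        calc g * h * (zpw u (s * Bf ζ hZ g y₀) * zpw u (s * Bf ζ hZ h y₀))
            = g * (h * zpw u (s * Bf ζ hZ g y₀)) * zpw u (s * Bf ζ hZ h y₀) := by
              simp only [mul_assoc]
          _ = g * zpw u (s * Bf ζ hZ g y₀) * (h * zpw u (s * Bf ζ hZ h y₀)) := by
              rw [hS]; simp only [mul_assoc] }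
  apply exists_mulAut_of_injective φ
  intro g hg
  change g * zpw u (s * Bf ζ hZ g y₀) = 1 at hg
  have h1 : g = (zpw u (s * Bf ζ hZ g y₀))⁻¹ := eq_inv_of_mul_eq_one_left hg
  have h2 : g ∈ Subgroup.center G := by
    rw [h1]; exact Subgroup.inv_mem _ (zpw_mem hu _)
  have h3 : Bf ζ hZ g y₀ = 0 := Bf_center_left ζ hZ h2 y₀
  rw [h3, mul_zero, zpw_zero, mul_one] at hg
  exact hg

theorem family_C {u : G} (hu : u ∈ Subgroup.center G) (hup : u ^ p = 1)
    (hun : u ∉ commutator G) (y₀ : G) (x : G) (hx : ¬ Bf ζ hZ x y₀ = 0) :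
    ∃ f : ZMod p × ↥(commutator G) → G, Function.Injective f ∧
      ∀ i, (∃ ψ : MulAut G, ψ x = f i) ∧ ¬ Bf ζ hZ (f i) y₀ = 0 := by
  haveI : NeZero p := ⟨(Fact.out : p.Prime).ne_zero⟩
  refine ⟨fun i => x * zpw u i.1 * (i.2 : G), ?_, ?_⟩
  · rintro ⟨t, c⟩ ⟨t', c'⟩ h
    change x * zpw u t * (c : G) = x * zpw u t' * (c' : G) at h
    rw [mul_assoc, mul_assoc] at h
    have h1 : zpw u t * (c : G) = zpw u t' * (c' : G) := mul_left_cancel h
    have h2 : zpw u (t - t') * zpw u t' = zpw u t := by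
      rw [← zpw_add hup, sub_add_cancel]
    have h3 : zpw u (t - t') = (c' : G) * (c : G)⁻¹ := by
      have : zpw u (t - t') * zpw u t' * (c : G) = zpw u t' * (c' : G) := by rw [h2, h1]
      have hcomm : zpw u (t - t') * zpw u t' = zpw u t' * zpw u (t - t') := zpw_comm_zpw u _ _
      rw [hcomm, mul_assoc] at this
      have h4 := mul_left_cancel this
      rw [← h4]; group
    have h5 : zpw u (t - t') ∈ commutator G := by
      rw [h3]
      exact Subgroup.mul_mem _ c'.2 (Subgroup.inv_mem _ c.2)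
    have h6 : t - t' = 0 := eq_zero_of_zpw_mem hup hun h5
    have h7 : t = t' := sub_eq_zero.mp h6
    subst h7
    have h8 : (c : G) = c' := mul_left_cancel h1
    rw [Subtype.ext h8]
  · rintro ⟨t, c⟩
    have hBv : Bf ζ hZ (x * zpw u t) y₀ = Bf ζ hZ x y₀ := by
      rw [Bf_mul_left, Bf_center_left ζ hZ (zpw_mem hu t), add_zero]
    constructor
    · obtain ⟨ψ, hψ⟩ := exists_aut_C ζ hZ hu hup y₀ (t / Bf ζ hZ x y₀)
      have h1 : ψ x = x * zpw u t := by
        rw [hψ, div_mul_cancel₀ _ hx]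
      have hv : ψ x ∉ Subgroup.center G := by
        intro h
        apply hx
        rw [← hBv, ← h1]
        exact Bf_center_left ζ hZ h y₀
      obtain ⟨ψ', hψ'⟩ := exists_aut_mul_comm ζ hZ ψ x hv c.2
      exact ⟨ψ', by rw [hψ', h1]⟩
    · change ¬ Bf ζ hZ (x * zpw u t * (c : G)) y₀ = 0
      rw [Bf_mul_left, hBv, Bf_comm_left ζ hZ c.2, add_zero]
      exact hx

/-! ### Case O: `p` odd, a non-central element of order `p` -/

omit [Finite G] in
theorem twist_mul_aux {S R g h c : G} (hSR : S * R = R * S) (h1 : g * R = c⁻¹ * R * g)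
    (h2 : S * h = c * h * S) (hc : ∀ k : G, k * c = c * k) :
    (S * R) * (g * h) * (S * R) = (S * g * S) * (R * h * R) := by
  symm
  calc (S * g * S) * (R * h * R) = S * g * (S * R) * h * R := by simp only [mul_assoc]
    _ = S * g * (R * S) * h * R := by rw [hSR]
    _ = S * (g * R) * (S * h) * R := by simp only [mul_assoc]
    _ = S * (c⁻¹ * R * g) * (c * h * S) * R := by rw [h1, h2]
    _ = S * (c⁻¹ * ((R * g) * c) * h * S) * R := by simp only [mul_assoc]
    _ = S * (c⁻¹ * (c * (R * g)) * h * S) * R := by rw [hc (R * g)]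
    _ = (S * R) * (g * h) * (S * R) := by
        simp only [mul_assoc, inv_mul_cancel_left]

theorem exists_aut_O {u : G} (hup : u ^ p = 1) (s : ZMod p) :
    ∃ ψ : MulAut G, ∀ g, ψ g = zpw u (s * Bf ζ hZ g u) * g * zpw u (s * Bf ζ hZ g u) := by
  haveI : NeZero p := ⟨(Fact.out : p.Prime).ne_zero⟩
  let φ : G →* G :=
    { toFun := fun g => zpw u (s * Bf ζ hZ g u) * g * zpw u (s * Bf ζ hZ g u)
      map_one' := by
        change zpw u (s * Bf ζ hZ 1 u) * 1 * zpw u (s * Bf ζ hZ 1 u) = 1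
        rw [Bf_one_left, mul_zero, zpw_zero, mul_one, mul_one]
      map_mul' := by
        intro g h
        change zpw u (s * Bf ζ hZ (g * h) u) * (g * h) * zpw u (s * Bf ζ hZ (g * h) u) =
          zpw u (s * Bf ζ hZ g u) * g * zpw u (s * Bf ζ hZ g u) *
            (zpw u (s * Bf ζ hZ h u) * h * zpw u (s * Bf ζ hZ h u))
        rw [Bf_mul_left, mul_add, zpw_add hup]
        set S := zpw u (s * Bf ζ hZ g u) with hS
        set R := zpw u (s * Bf ζ hZ h u) with hR
        have hSR : S * R = R * S := zpw_comm_zpw u _ _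
        have hsum : Bf ζ hZ g R + Bf ζ hZ S h = 0 := by
          rw [hR, hS, Bf_zpw_right, Bf_zpw_left, Bf_swap ζ hZ u h]
          ring
        have hprod : ⁅g, R⁆ * ⁅S, h⁆ = 1 := comm_mul_comm_eq_one ζ hZ hsum
        have hinv : ⁅g, R⁆ = ⁅S, h⁆⁻¹ := eq_inv_of_mul_eq_one_left hprod
        have h1 : g * R = ⁅S, h⁆⁻¹ * R * g := by
          rw [← hinv, commutatorElement_def]; group
        have h2 : S * h = ⁅S, h⁆ * h * S := by
          rw [commutatorElement_def]; group
        exact twist_mul_aux hSR h1 h2 (central_comm hZ S h) }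
  apply exists_mulAut_of_injective φ
  intro g hg
  change zpw u (s * Bf ζ hZ g u) * g * zpw u (s * Bf ζ hZ g u) = 1 at hg
  set S := zpw u (s * Bf ζ hZ g u) with hS
  have h1 : g = S⁻¹ * S⁻¹ := by
    have : S * g = S⁻¹ := eq_inv_of_mul_eq_one_left hg
    calc g = S⁻¹ * (S * g) := by group
      _ = S⁻¹ * S⁻¹ := by rw [this]
  have hSu : Bf ζ hZ S u = 0 := by
    rw [hS, Bf_zpw_left, Bf_self, mul_zero]
  have h3 : Bf ζ hZ g u = 0 := by
    rw [h1, Bf_mul_left, Bf_inv_left, hSu, neg_zero, add_zero]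
  have h4 : S = 1 := by rw [hS, h3, mul_zero, zpw_zero]
  rw [h1, h4]; group

theorem family_O {u : G} (hup : u ^ p = 1) (hp2 : p ≠ 2) (x : G) (hx : ¬ Bf ζ hZ x u = 0) :
    ∃ f : ZMod p × ↥(commutator G) → G, Function.Injective f ∧
      ∀ i, (∃ ψ : MulAut G, ψ x = f i) ∧ ¬ Bf ζ hZ (f i) u = 0 := by
  haveI : NeZero p := ⟨(Fact.out : p.Prime).ne_zero⟩
  have h2ne : (2 : ZMod p) ≠ 0 := by
    intro h
    have h' : ((2 : ℕ) : ZMod p) = 0 := by exact_mod_cast h
    rw [ZMod.natCast_eq_zero_iff] at h'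
    have hpp : p.Prime := Fact.out
    exact hp2 ((Nat.prime_dvd_prime_iff_eq hpp Nat.prime_two).mp h')
  have hux : Bf ζ hZ u x ≠ 0 := by
    rw [Bf_swap]; exact neg_ne_zero.mpr hx
  refine ⟨fun i => zpw u i.1 * x * zpw u i.1 * (i.2 : G), ?_, ?_⟩
  · rintro ⟨t, c⟩ ⟨t', c'⟩ h
    change zpw u t * x * zpw u t * (c : G) = zpw u t' * x * zpw u t' * (c' : G) at h
    have hB : ∀ (r : ZMod p) (d : ↥(commutator G)),
        Bf ζ hZ (zpw u r * x * zpw u r * (d : G)) x = 2 * (r * Bf ζ hZ u x) := by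
      intro r d
      rw [Bf_mul_left, Bf_mul_left, Bf_mul_left, Bf_self, Bf_comm_left ζ hZ d.2, Bf_zpw_left]
      ring
    have h1 := congrArg (fun y => Bf ζ hZ y x) h
    simp only [hB] at h1
    have h2 : t = t' := by
      have := mul_left_cancel₀ h2ne h1
      exact mul_right_cancel₀ hux this
    subst h2
    have h3 : (c : G) = c' := mul_left_cancel h
    rw [Subtype.ext h3]
  · rintro ⟨t, c⟩
    have hBv : Bf ζ hZ (zpw u t * x * zpw u t) u = Bf ζ hZ x u := by
      rw [Bf_mul_left, Bf_mul_left, Bf_zpw_left, Bf_self, mul_zero, zero_add, add_zero]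
    constructor
    · obtain ⟨ψ, hψ⟩ := exists_aut_O ζ hZ hup (t / Bf ζ hZ x u)
      have h1 : ψ x = zpw u t * x * zpw u t := by
        rw [hψ, div_mul_cancel₀ _ hx]
      have hv : ψ x ∉ Subgroup.center G := by
        intro h
        apply hx
        rw [← hBv, ← h1]
        exact Bf_center_left ζ hZ h u
      obtain ⟨ψ', hψ'⟩ := exists_aut_mul_comm ζ hZ ψ x hv c.2
      exact ⟨ψ', by rw [hψ', h1]⟩
    · change ¬ Bf ζ hZ (zpw u t * x * zpw u t * (c : G)) u = 0
      rw [Bf_mul_left, hBv, Bf_comm_left ζ hZ c.2, add_zero]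
      exact hx

end Families

section FamW

/-! ### Case W: `p = 2`, a non-central element whose square generates the derived subgroup -/

variable {G : Type u} [Group G] [Finite G]
  (ζ : ↥(commutator G) ≃* Multiplicative (ZMod 2))
  (hZ : commutator G ≤ Subgroup.center G)

theorem zmod2_cases (b : ZMod 2) : b = 0 ∨ b = 1 := by
  revert b; decide

theorem exists_aut_W {u : G} (huu : u * u ∈ commutator G) (huu1 : u * u ≠ 1) :
    ∃ ψ : MulAut G, ∀ g, ψ g = g * zpw u (Bf ζ hZ g u) := by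
  have hlog : Multiplicative.toAdd (ζ ⟨u * u, huu⟩) = 1 := by
    rcases zmod2_cases (Multiplicative.toAdd (ζ ⟨u * u, huu⟩)) with h | h
    · exfalso
      have h1 : ζ ⟨u * u, huu⟩ = 1 := Multiplicative.toAdd.injective h
      rw [EmbeddingLike.map_eq_one_iff] at h1
      exact huu1 (congrArg Subtype.val h1)
    · exact h
  let φ : G →* G :=
    { toFun := fun g => g * zpw u (Bf ζ hZ g u)
      map_one' := by
        change 1 * zpw u (Bf ζ hZ 1 u) = 1
        rw [Bf_one_left, zpw_zero, mul_one]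
      map_mul' := by
        intro g h
        change g * h * zpw u (Bf ζ hZ (g * h) u) =
          g * zpw u (Bf ζ hZ g u) * (h * zpw u (Bf ζ hZ h u))
        rw [Bf_mul_left]
        rcases zmod2_cases (Bf ζ hZ g u) with ha | ha <;>
          rcases zmod2_cases (Bf ζ hZ h u) with hb | hb
        · rw [ha, hb, add_zero, zpw_zero]; simp
        · rw [ha, hb, zero_add, zpw_zero, zpw_one]; simp [mul_assoc]
        · rw [ha, hb, add_zero, zpw_zero, zpw_one]
          have hcomm : h * u = u * h := (Bf_eq_zero_iff ζ hZ h u).mp hb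
          rw [mul_one, mul_assoc, hcomm, mul_assoc]
        · rw [ha, hb]
          have h11 : (1 + 1 : ZMod 2) = 0 := by decide
          rw [h11, zpw_zero, zpw_one, mul_one]
          have hBu : Bf ζ hZ u h = Multiplicative.toAdd (ζ ⟨u * u, huu⟩) := by
            rw [hlog, Bf_swap, hb]; decide
          have hcomm := comm_eq_of_Bf_eq ζ hZ huu hBu
          rw [commutatorElement_def] at hcomm
          have h1 : h * u⁻¹ * h⁻¹ = u := by
            have : u * (h * u⁻¹ * h⁻¹) = u * u := by rw [← hcomm]; group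
            exact mul_left_cancel this
          have h2 : u * h * u = h := by
            calc u * h * u = (h * u⁻¹ * h⁻¹) * h * u := by rw [h1]
              _ = h := by group
          calc g * h = g * (u * h * u) := by rw [h2]
            _ = g * u * (h * u) := by simp only [mul_assoc] }
  apply exists_mulAut_of_injective φ
  intro g hg
  change g * zpw u (Bf ζ hZ g u) = 1 at hg
  have h1 : g = (zpw u (Bf ζ hZ g u))⁻¹ := eq_inv_of_mul_eq_one_left hg
  have h3 : Bf ζ hZ g u = 0 := by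
    rw [h1, Bf_inv_left, Bf_zpw_left, Bf_self, mul_zero, neg_zero]
  rw [h3, zpw_zero, mul_one] at hg
  exact hg

theorem family_W {u : G} (hun : u ∉ Subgroup.center G) (huu : u * u ∈ commutator G)
    (huu1 : u * u ≠ 1) (x : G) (hx : ¬ Bf ζ hZ x u = 0) :
    ∃ f : ZMod 2 × ↥(commutator G) → G, Function.Injective f ∧
      ∀ i, (∃ ψ : MulAut G, ψ x = f i) ∧ ¬ Bf ζ hZ (f i) u = 0 := by
  have hx1 : Bf ζ hZ x u = 1 := (zmod2_cases _).resolve_left hx
  have hnot : ∀ c c' : ↥(commutator G), (c : G) ≠ u * (c' : G) := by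
    intro c c' h
    apply hun
    have : u = (c : G) * (c' : G)⁻¹ := by rw [h]; group
    rw [this]
    exact hZ (Subgroup.mul_mem _ c.2 (Subgroup.inv_mem _ c'.2))
  refine ⟨fun i => x * zpw u i.1 * (i.2 : G), ?_, ?_⟩
  · rintro ⟨t, c⟩ ⟨t', c'⟩ h
    change x * zpw u t * (c : G) = x * zpw u t' * (c' : G) at h
    rw [mul_assoc, mul_assoc] at h
    have h1 : zpw u t * (c : G) = zpw u t' * (c' : G) := mul_left_cancel h
    rcases zmod2_cases t with ht | ht <;> rcases zmod2_cases t' with ht' | ht'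
    · subst ht; subst ht'
      rw [Subtype.ext (mul_left_cancel h1)]
    · subst ht; subst ht'
      rw [zpw_zero, zpw_one, one_mul] at h1
      exact absurd h1 (hnot c c')
    · subst ht; subst ht'
      rw [zpw_zero, zpw_one, one_mul] at h1
      exact absurd h1.symm (hnot c' c)
    · subst ht; subst ht'
      rw [Subtype.ext (mul_left_cancel h1)]
  · rintro ⟨t, c⟩
    have hBv : Bf ζ hZ (x * zpw u t) u = Bf ζ hZ x u := by
      rw [Bf_mul_left, Bf_zpw_left, Bf_self, mul_zero, add_zero]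
    constructor
    · have hex : ∃ ψ : MulAut G, ψ x = x * zpw u t := by
        rcases zmod2_cases t with ht | ht
        · subst ht
          exact ⟨1, by rw [zpw_zero, mul_one]; rfl⟩
        · subst ht
          obtain ⟨ψ, hψ⟩ := exists_aut_W ζ hZ huu huu1
          exact ⟨ψ, by rw [hψ, hx1]⟩
      obtain ⟨ψ, h1⟩ := hex
      have hv : ψ x ∉ Subgroup.center G := by
        intro h
        apply hx
        rw [← hBv, ← h1]
        exact Bf_center_left ζ hZ h u
      obtain ⟨ψ', hψ'⟩ := exists_aut_mul_comm ζ hZ ψ x hv c.2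
      exact ⟨ψ', by rw [hψ', h1]⟩
    · change ¬ Bf ζ hZ (x * zpw u t * (c : G)) u = 0
      rw [Bf_mul_left, hBv, Bf_comm_left ζ hZ c.2, add_zero]
      exact hx

end FamW

end Cfsg.Agent.Helper22.AutOrb
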