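import Mathlib
import Cfsg.Agent.Lib.Helper22.AutOrbB

/-!
# Automorphism orbits, part E (helper22): existence of the twisting element
-/

set_option autoImplicit false

namespace Cfsg.Agent.Helper22.AutOrb

universe u

open scoped commutatorElement

section PowFormula

variable {G : Type u} [Group G]

/-- In a group of class two, `(x y)^n = x^n y^n [y,x]^(n choose 2)`. -/
theorem mul_pow_class_two (hZ : commutator G ≤ Subgroup.center G) (x y : G) (n : ℕ) :
    (x * y) ^ n = x ^ n * y ^ n * ⁅y, x⁆ ^ (n.choose 2) := by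
  have hc : ∀ (m : ℕ) (k : G), k * ⁅y, x⁆ ^ m = ⁅y, x⁆ ^ m * k := by
    intro m k
    exact Subgroup.mem_center_iff.mp (Subgroup.pow_mem _ (hZ (comm_mem y x)) m) k
  induction n with
  | zero => simp
  | succ n ih =>
    have h1 : ⁅y ^ n, x⁆ = ⁅y, x⁆ ^ n := by
      have := map_pow (commHom hZ x) y n
      exact congrArg Subtype.val this
    have h2 : y ^ n * x = ⁅y, x⁆ ^ n * x * y ^ n := by
      rw [← h1, commutatorElement_def]; group
    have h3 : (n + 1).choose 2 = n + n.choose 2 := by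
      rw [Nat.choose_succ_succ' n 1, Nat.choose_one_right]
    rw [h3]
    calc (x * y) ^ (n + 1) = (x * y) ^ n * (x * y) := pow_succ _ _
      _ = x ^ n * y ^ n * ⁅y, x⁆ ^ n.choose 2 * (x * y) := by rw [ih]
      _ = x ^ n * (y ^ n * (⁅y, x⁆ ^ n.choose 2 * x)) * y := by simp only [mul_assoc]
      _ = x ^ n * (y ^ n * (x * ⁅y, x⁆ ^ n.choose 2)) * y := by rw [hc]
      _ = x ^ n * ((y ^ n * x) * ⁅y, x⁆ ^ n.choose 2) * y := by simp only [mul_assoc]
      _ = x ^ n * ((⁅y, x⁆ ^ n * x * y ^ n) * ⁅y, x⁆ ^ n.choose 2) * y := by rw [h2]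
      _ = x ^ n * (⁅y, x⁆ ^ n * (x * (y ^ n * ⁅y, x⁆ ^ n.choose 2))) * y := by
          simp only [mul_assoc]
      _ = x ^ n * ((x * (y ^ n * ⁅y, x⁆ ^ n.choose 2)) * ⁅y, x⁆ ^ n) * y := by rw [← hc]
      _ = x ^ n * x * (y ^ n * (⁅y, x⁆ ^ n.choose 2 * (⁅y, x⁆ ^ n * y))) := by
          simp only [mul_assoc]
      _ = x ^ n * x * (y ^ n * (⁅y, x⁆ ^ n.choose 2 * (y * ⁅y, x⁆ ^ n))) := by rw [hc n y]
      _ = x ^ n * x * (y ^ n * ((⁅y, x⁆ ^ n.choose 2 * y) * ⁅y, x⁆ ^ n)) := by
          simp only [mul_assoc]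
      _ = x ^ n * x * (y ^ n * ((y * ⁅y, x⁆ ^ n.choose 2) * ⁅y, x⁆ ^ n)) := by rw [hc _ y]
      _ = x ^ (n + 1) * y ^ (n + 1) * ⁅y, x⁆ ^ (n + n.choose 2) := by
          rw [pow_succ x, pow_succ y, pow_add ⁅y, x⁆,
            (Commute.pow_pow (Commute.refl ⁅y, x⁆) n (n.choose 2)).eq]
          simp only [mul_assoc]

end PowFormula

section Existence

variable {G : Type u} [Group G] [Finite G] {p : ℕ} [Fact p.Prime]
  (ζ : ↥(commutator G) ≃* Multiplicative (ZMod p))
  (hZ : commutator G ≤ Subgroup.center G)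

include ζ in
theorem pow_p_eq_one_of_mem_commutator {c : G} (hc : c ∈ commutator G) : c ^ p = 1 := by
  have h1 : (⟨c, hc⟩ : ↥(commutator G)) ^ Nat.card ↥(commutator G) = 1 := pow_card_eq_one'
  rw [card_commutator_eq ζ] at h1
  exact congrArg Subtype.val h1

include ζ hZ in
theorem pow_p_mem_center (x : G) : x ^ p ∈ Subgroup.center G := by
  rw [Subgroup.mem_center_iff]
  intro k
  symm
  rw [← Bf_eq_zero_iff ζ hZ, Bf_pow_left, ZMod.natCast_self, zero_mul]

include ζ hZ in
/-- For odd `p`, if every element of order dividing `p` in the center lies in the derived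
subgroup, there is a non-central element of order dividing `p`. -/
theorem exists_noncentral_pow_p (hp : p = (Nat.card G).minFac) (hp2 : p ≠ 2) {y₀ : G}
    (hy₀ : y₀ ∉ Subgroup.center G)
    (hC : ∀ w ∈ Subgroup.center G, w ^ p = 1 → w ∈ commutator G) :
    ∃ u : G, u ∉ Subgroup.center G ∧ u ^ p = 1 := by
  have hpp : p.Prime := Fact.out
  have hp3 : 2 < p := lt_of_le_of_ne hpp.two_le (Ne.symm hp2)
  have hchoose : p ∣ p.choose 2 := hpp.dvd_choose_self (by norm_num) hp3
  let π : G →* G :=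
    { toFun := fun x => x ^ p
      map_one' := one_pow p
      map_mul' := by
        intro x y
        change (x * y) ^ p = x ^ p * y ^ p
        rw [mul_pow_class_two hZ]
        obtain ⟨k, hk⟩ := hchoose
        rw [hk, pow_mul, pow_p_eq_one_of_mem_commutator ζ (comm_mem y x), one_pow, mul_one] }
  by_contra hcon
  push Not at hcon
  have hker : π.ker ≤ commutator G := by
    intro w hw
    have hw1 : w ^ p = 1 := hw
    have hwc : w ∈ Subgroup.center G := by
      by_contra hwc
      exact hcon w hwc hw1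
    exact hC w hwc hw1
  have hrange : π.range ≤ Subgroup.center G := by
    rintro _ ⟨x, rfl⟩
    exact pow_p_mem_center ζ hZ x
  have h1 : Nat.card π.ker ≤ p := by
    rw [← card_commutator_eq ζ]
    exact Subgroup.card_le_of_le hker
  have h2 : Nat.card π.range ≤ Nat.card (Subgroup.center G) := Subgroup.card_le_of_le hrange
  have h3 : Nat.card π.range * Nat.card π.ker = Nat.card G := by
    rw [← Subgroup.index_ker]
    exact Subgroup.index_mul_card _
  have h4 := card_ker_BHom ζ hZ hy₀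
  have h5 := mul_card_center_le ζ hZ hp hy₀
  have hzpos : 0 < Nat.card (Subgroup.center G) := Nat.card_pos
  have h6 : p * (p * Nat.card (Subgroup.center G)) ≤ Nat.card (Subgroup.center G) * p := by
    calc p * (p * Nat.card (Subgroup.center G)) ≤ p * Nat.card (BHom ζ hZ y₀).ker :=
          Nat.mul_le_mul_left _ h5
      _ = Nat.card G := h4
      _ = Nat.card π.range * Nat.card π.ker := h3.symm
      _ ≤ Nat.card (Subgroup.center G) * p := Nat.mul_le_mul h2 h1
  have h7 : p * Nat.card (Subgroup.center G) ≤ Nat.card (Subgroup.center G) := by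
    have : p * (p * Nat.card (Subgroup.center G)) ≤ p * Nat.card (Subgroup.center G) := by
      rw [mul_comm (Nat.card (Subgroup.center G)) p] at h6
      exact h6
    exact Nat.le_of_mul_le_mul_left this hpp.pos
  have h8 : 2 * Nat.card (Subgroup.center G) ≤ p * Nat.card (Subgroup.center G) :=
    Nat.mul_le_mul_right _ hpp.two_le
  omega

end Existence

section ExistenceTwo

variable {G : Type u} [Group G] [Finite G]
  (ζ : ↥(commutator G) ≃* Multiplicative (ZMod 2))
  (hZ : commutator G ≤ Subgroup.center G)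

include ζ hZ in
/-- For `p = 2`, if every central involution lies in the derived subgroup, there is a non-central
element whose square is the non-trivial element of the derived subgroup. -/
theorem exists_sq_generator {x y : G} (hxy : x * y ≠ y * x)
    (hC : ∀ w ∈ Subgroup.center G, w ^ 2 = 1 → w ∈ commutator G) :
    ∃ u : G, u ∉ Subgroup.center G ∧ u * u ∈ commutator G ∧ u * u ≠ 1 := by
  classical
  set z₀ := ⁅y, x⁆ with hz₀
  have hz₀mem : z₀ ∈ commutator G := comm_mem y x
  have hz₀c : z₀ ∈ Subgroup.center G := hZ hz₀mem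
  have hz₀ne : z₀ ≠ 1 := by
    intro h
    rw [hz₀, commutatorElement_eq_one_iff_mul_comm] at h
    exact hxy h.symm
  have hz₀sq : z₀ ^ 2 = 1 := pow_p_eq_one_of_mem_commutator ζ hz₀mem
  have hsqc : ∀ g : G, g ^ 2 ∈ Subgroup.center G := fun g => pow_p_mem_center ζ hZ g
  have hxysq : (x * y) ^ 2 = x ^ 2 * y ^ 2 * z₀ := by
    rw [mul_pow_class_two hZ, Nat.choose_self, pow_one]
  let σ : ↥(Subgroup.center G) →* ↥(Subgroup.center G) :=
    { toFun := fun w => w ^ 2
      map_one' := one_pow 2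
      map_mul' := fun a b => by
        apply Subtype.ext
        change ((a : G) * (b : G)) ^ 2 = (a : G) ^ 2 * (b : G) ^ 2
        have hcomm : Commute (a : G) (b : G) := (Subgroup.mem_center_iff.mp a.2 (b : G)).symm
        exact hcomm.mul_pow 2 }
  have hσ : ∀ W : ↥(Subgroup.center G), ((σ W : ↥(Subgroup.center G)) : G) = (W : G) ^ 2 := by
    intro W; rfl
  have hkercard : Nat.card σ.ker = 2 := by
    rw [← card_commutator_eq ζ]
    apply Nat.card_congr
    exact
      { toFun := fun w => ⟨((w : ↥(Subgroup.center G)) : G), hC _ (w : ↥(Subgroup.center G)).2 (by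
          have h1 : σ (w : ↥(Subgroup.center G)) = 1 := w.2
          have h2 := congrArg Subtype.val h1
          rw [hσ] at h2
          exact h2)⟩
        invFun := fun c => ⟨⟨(c : G), hZ c.2⟩, by
          rw [MonoidHom.mem_ker]
          apply Subtype.ext
          rw [hσ]
          exact pow_p_eq_one_of_mem_commutator ζ c.2⟩
        left_inv := fun w => by
          apply Subtype.ext
          apply Subtype.ext
          rfl
        right_inv := fun c => by
          apply Subtype.ext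
          rfl }
  have hindex : σ.range.index = 2 := by
    have h1 : σ.ker.index * Nat.card σ.ker = Nat.card ↥(Subgroup.center G) :=
      Subgroup.index_mul_card _
    have h2 : σ.range.index * Nat.card σ.range = Nat.card ↥(Subgroup.center G) :=
      Subgroup.index_mul_card _
    rw [Subgroup.index_ker, hkercard] at h1
    have hpos : 0 < Nat.card σ.range := Nat.card_pos
    have h3 : Nat.card σ.range * 2 = Nat.card σ.range * σ.range.index := by
      rw [h1, mul_comm, h2]
    exact (Nat.eq_of_mul_eq_mul_left hpos h3).symm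
  have hmul : ∀ a b : ↥(Subgroup.center G), a * b ∈ σ.range ↔ (a ∈ σ.range ↔ b ∈ σ.range) :=
    fun a b => Subgroup.mul_mem_iff_of_index_two hindex
  have hxc : x ∉ Subgroup.center G := by
    intro h
    exact hxy (Subgroup.mem_center_iff.mp h y).symm
  have hyc : y ∉ Subgroup.center G := by
    intro h
    exact hxy (Subgroup.mem_center_iff.mp h x)
  have hxyc : x * y ∉ Subgroup.center G := by
    intro h
    have h1 := Subgroup.mem_center_iff.mp h y
    apply hxy
    have h2 : y * x * y = x * y * y := by rw [← h1, mul_assoc]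
    exact (mul_right_cancel h2).symm
  have key : ∃ v : G, v ∉ Subgroup.center G ∧
      ((⟨v ^ 2, hsqc v⟩ : ↥(Subgroup.center G)) * ⟨z₀, hz₀c⟩) ∈ σ.range := by
    by_cases h1 : ((⟨x ^ 2, hsqc x⟩ : ↥(Subgroup.center G)) * ⟨z₀, hz₀c⟩) ∈ σ.range
    · exact ⟨x, hxc, h1⟩
    by_cases h2 : ((⟨y ^ 2, hsqc y⟩ : ↥(Subgroup.center G)) * ⟨z₀, hz₀c⟩) ∈ σ.range
    · exact ⟨y, hyc, h2⟩
    refine ⟨x * y, hxyc, ?_⟩
    have h3 : ((⟨(x * y) ^ 2, hsqc (x * y)⟩ : ↥(Subgroup.center G)) * ⟨z₀, hz₀c⟩) =
        (⟨x ^ 2, hsqc x⟩ : ↥(Subgroup.center G)) * ⟨y ^ 2, hsqc y⟩ := by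
      apply Subtype.ext
      change (x * y) ^ 2 * z₀ = x ^ 2 * y ^ 2
      rw [hxysq, mul_assoc, ← pow_two, hz₀sq, mul_one]
    rw [h3, hmul]
    rw [hmul] at h1 h2
    tauto
  obtain ⟨v, hvc, W, hW⟩ := key
  have hW' : (W : G) ^ 2 = v ^ 2 * z₀ := by
    have := congrArg Subtype.val hW
    rw [hσ] at this
    exact this
  have hwc : ∀ k : G, k * (W : G)⁻¹ = (W : G)⁻¹ * k :=
    fun k => Subgroup.mem_center_iff.mp (Subgroup.inv_mem _ W.2) k
  have hz₀inv : ∀ k : G, k * z₀⁻¹ = z₀⁻¹ * k :=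
    fun k => Subgroup.mem_center_iff.mp (Subgroup.inv_mem _ hz₀c) k
  have huu : v * (W : G)⁻¹ * (v * (W : G)⁻¹) = z₀⁻¹ := by
    calc v * (W : G)⁻¹ * (v * (W : G)⁻¹) = v * ((W : G)⁻¹ * v) * (W : G)⁻¹ := by
          simp only [mul_assoc]
      _ = v * (v * (W : G)⁻¹) * (W : G)⁻¹ := by rw [← hwc v]
      _ = v ^ 2 * ((W : G) ^ 2)⁻¹ := by
          rw [pow_two, pow_two, mul_inv_rev]; simp only [mul_assoc]
      _ = v ^ 2 * (z₀⁻¹ * (v ^ 2)⁻¹) := by rw [hW', mul_inv_rev]
      _ = v ^ 2 * ((v ^ 2)⁻¹ * z₀⁻¹) := by rw [hz₀inv]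
      _ = z₀⁻¹ := by rw [mul_inv_cancel_left]
  refine ⟨v * (W : G)⁻¹, ?_, ?_, ?_⟩
  · intro h
    apply hvc
    have := Subgroup.mul_mem _ h W.2
    rwa [inv_mul_cancel_right] at this
  · rw [huu]
    exact Subgroup.inv_mem _ hz₀mem
  · rw [huu]
    exact inv_ne_one.mpr hz₀ne

end ExistenceTwo

end Cfsg.Agent.Helper22.AutOrb
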