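import Mathlib
import Cfsg.Prelude.Def_Blocks
import Cfsg.Agent.Lib.Helper24.CharLinear
import Cfsg.Agent.Lib.Helper24.CharComplete
import Cfsg.Agent.Lib.Helper18.GaloisConj
import Cfsg.Agent.Lib.Helper16.ITODefs
import Cfsg.Agent.Lib.Helper23.B2Defs
import Cfsg.Agent.Lib.Helper23.B2SCH
import Cfsg.Agent.Lib.Helper18.B2PARS

/-!
# S4705, auxiliary lemmas for the pieces SYM and SING (helper22)
-/

set_option autoImplicit false
set_option linter.unusedSectionVars false
set_option linter.unusedVariables false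
set_option linter.style.haveILetI false

namespace Cfsg.Agent.Helper23.B2

open scoped ComplexConjugate
open Cfsg Cfsg.Agent.Helper24 Cfsg.Agent.Helper16.ITO

universe u

variable {G : Type u} [Group G] [Fintype G]

namespace SYM

/-- `sym2 ζ` is a class function -/
theorem sym2_isClassFunction {ζ : G → ℂ} (hζ : IsClassFunction G ζ) :
    IsClassFunction G (sym2 ζ) := by
  intro g h
  have e : h * g * h⁻¹ * (h * g * h⁻¹) = h * (g * g) * h⁻¹ := by group
  simp only [sym2]
  rw [e, hζ g h, hζ (g * g) h]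

/-- expansion of a class function in the orthonormal basis of the Galois conjugates -/
theorem expansion_gal [Fintype (IrrCharacter G)] {r : ℕ} (hr : Nat.Coprime (Nat.card G) r) {Θ : G → ℂ}
    (hΘ : IsClassFunction G Θ) (x : G) :
    Θ x = ∑ χ : IrrCharacter G, classInner Θ (gal χ hr : G → ℂ) * (gal χ hr : G → ℂ) x := by
  classical
  have e0 := classFunction_expansion hΘ
  have e' : Θ = ∑ χ : IrrCharacter G, classInner Θ (χ : G → ℂ) • (χ : G → ℂ) := by
    convert e0 using 2
  have e := congrFun e' x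
  simp only [Finset.sum_apply, Pi.smul_apply, smul_eq_mul] at e
  have hb : Function.Bijective (fun χ : IrrCharacter G => gal χ hr) :=
    Finite.injective_iff_bijective.1 (PARS.gal_injective hr)
  rw [Function.Bijective.sum_comp hb
    (fun η : IrrCharacter G => classInner Θ (η : G → ℂ) * (η : G → ℂ) x)]
  exact e

variable {p : ℕ} [Fact p.Prime] {P : Sylow p G} {ζ : IrrCharacter G}

/-- the central character of `sym2 ζ` -/
theorem sym2_central (z : G) (hz : z ∈ Subgroup.center G) (g : G) :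
    sym2 (ζ : G → ℂ) (g * z) * (ζ : G → ℂ) 1 ^ 2 = (ζ : G → ℂ) z ^ 2 * sym2 (ζ : G → ℂ) g := by
  have h1 := (central_mul ζ hz g).1
  have hzz : z * z ∈ Subgroup.center G := mul_mem hz hz
  have h2 := (central_mul ζ hzz (g * g)).1
  have h3 := (central_mul ζ hz z).1
  have e : g * z * (g * z) = g * g * (z * z) := by
    have := Subgroup.mem_center_iff.1 hz g
    calc g * z * (g * z) = g * (z * g) * z := by group
      _ = g * (g * z) * z := by rw [← this]
      _ = g * g * (z * z) := by group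
  simp only [sym2]
  rw [e]
  linear_combination ((ζ : G → ℂ) (g * z) * (ζ : G → ℂ) 1 + (ζ : G → ℂ) z * (ζ : G → ℂ) g) / 2 * h1 +
    (ζ : G → ℂ) 1 / 2 * h2 + (ζ : G → ℂ) (g * g) / 2 * h3

/-- `lam2 ζ` is a class function -/
theorem lam2_isClassFunction' {ζ : G → ℂ} (hζ : IsClassFunction G ζ) :
    IsClassFunction G (lam2 ζ) := by
  intro g h
  have e : h * g * h⁻¹ * (h * g * h⁻¹) = h * (g * g) * h⁻¹ := by group
  simp only [lam2]
  rw [e, hζ g h, hζ (g * g) h]

/-- the central character of `lam2 ζ` -/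
theorem lam2_central (z : G) (hz : z ∈ Subgroup.center G) (g : G) :
    lam2 (ζ : G → ℂ) (g * z) * (ζ : G → ℂ) 1 ^ 2 = (ζ : G → ℂ) z ^ 2 * lam2 (ζ : G → ℂ) g := by
  have h1 := (central_mul ζ hz g).1
  have hzz : z * z ∈ Subgroup.center G := mul_mem hz hz
  have h2 := (central_mul ζ hzz (g * g)).1
  have h3 := (central_mul ζ hz z).1
  have e : g * z * (g * z) = g * g * (z * z) := by
    have := Subgroup.mem_center_iff.1 hz g
    calc g * z * (g * z) = g * (z * g) * z := by group
      _ = g * (g * z) * z := by rw [← this]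
      _ = g * g * (z * z) := by group
  simp only [lam2]
  rw [e]
  linear_combination ((ζ : G → ℂ) (g * z) * (ζ : G → ℂ) 1 + (ζ : G → ℂ) z * (ζ : G → ℂ) g) / 2 * h1 -
    (ζ : G → ℂ) 1 / 2 * h2 - (ζ : G → ℂ) (g * g) / 2 * h3

/-- a non-central `2`-element exists -/
theorem exists_two_element (D : BData p P ζ) :
    ∃ x : G, (∃ i : ℕ, orderOf x = 2 ^ i) ∧ x ∉ Subgroup.center G := by
  classical
  set C := Subgroup.centralizer ((P : Subgroup G) : Set G) with hC
  set N := Subgroup.normalizer ((P : Subgroup G) : Set G) with hN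
  -- an element of `N ∖ C`
  have hex : ∃ n ∈ N, n ∉ C := by
    by_contra hcon
    push Not at hcon
    have : C.relIndex N = 1 := Subgroup.relIndex_eq_one.2 (fun n hn => hcon n hn)
    rw [D.relIndex] at this
    omega
  obtain ⟨n, hnN, hnC⟩ := hex
  -- `n² ∈ C`
  have hsq : n ^ 2 ∈ C := by
    have h2 : (C.subgroupOf N).index = 2 := D.relIndex
    have := Subgroup.sq_mem_of_index_two h2 (⟨n, hnN⟩ : ↥N)
    rw [Subgroup.mem_subgroupOf] at this
    simpa using this
  have hpos : orderOf n ≠ 0 := (orderOf_pos n).ne'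
  obtain ⟨i, m, hm, ho⟩ := Nat.exists_eq_two_pow_mul_odd hpos
  have hm0 : m ≠ 0 := by
    rintro rfl
    simp at hm
  refine ⟨n ^ m, ⟨i, ?_⟩, ?_⟩
  · rw [orderOf_pow_of_dvd hm0 ⟨2 ^ i, by rw [ho]; ring⟩, ho, Nat.mul_div_cancel _ (Nat.pos_of_ne_zero hm0)]
  · intro hcen
    apply hnC
    have h1 : n ^ m ∈ C := Subgroup.center_le_centralizer _ hcen
    obtain ⟨k, rfl⟩ := hm
    have h2 : (n ^ 2) ^ k ∈ C := pow_mem hsq k
    have e : n = ((n ^ 2) ^ k)⁻¹ * n ^ (2 * k + 1) := by
      rw [← pow_mul, pow_succ, ← mul_assoc, inv_mul_cancel, one_mul]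
    rw [e]
    exact mul_mem (inv_mem h2) h1

end SYM

end Cfsg.Agent.Helper23.B2
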