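import Mathlib
import Cfsg.Prelude.Def_Blocks
import Cfsg.Agent.Lib.Helper24.CharLinear
import Cfsg.Agent.Lib.Helper24.CharComplete
import Cfsg.Agent.Lib.Helper24.CharAbelian
import Cfsg.Agent.Lib.Helper24.CharOrtho
import Cfsg.Agent.Lib.Helper16.ITODefs
import Cfsg.Agent.Lib.Helper23.B2Defs
import Cfsg.Agent.Lib.Helper23.B2SCH
import Cfsg.Agent.Lib.Helper12.BRE2
import Cfsg.Agent.Lib.Helper2.TLDGT2
import Cfsg.Agent.Lib.Helper22.B2Aux

/-!
# S4705, PIECE SING (helper22): the two sums over the `p`-singular elements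

TI formula (Helper12 `BRE.ti_sum_formula`, `BRE.sum_centralizer_eq`): for a class function `F` vanishing on the `p`-regular
elements, `|N| ∑_g F g = |G| ∑_{a ∈ P} ∑_{k ∈ K} F (a k)`, `K` the `p`-regular elements of `C_G(P) = P Z(G)`, `K ⊆ Z(G)`.
-/

set_option autoImplicit false
set_option linter.unusedSectionVars false
set_option linter.unusedVariables false
set_option linter.style.haveILetI false

namespace Cfsg.Agent.Helper23.B2

open scoped ComplexConjugate
open Cfsg Cfsg.Agent.Helper24 Cfsg.Agent.Helper16.ITO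

universe u

variable {G : Type u} [Group G] [Fintype G]
variable {p : ℕ} [Fact p.Prime] {P : Sylow p G} {ζ : IrrCharacter G}

namespace SING

/-- `P ∩ Z(G) = 1` -/
theorem eq_one_of_mem_center (h : Core p P ζ) {a : G} (ha : a ∈ (P : Subgroup G))
    (hz : a ∈ Subgroup.center G) : a = 1 := by
  by_contra hne
  apply h.nn
  have hgen : ∀ b ∈ (P : Subgroup G), b ∈ Subgroup.center G := by
    intro b hb
    have hne' : (⟨a, ha⟩ : ↥(P : Subgroup G)) ≠ 1 := fun e => hne (congrArg Subtype.val e)
    have := mem_zpowers_of_prime_card (G := ↥(P : Subgroup G)) h.cardP hne' (g' := ⟨b, hb⟩)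
    obtain ⟨i, hi⟩ := Subgroup.mem_zpowers_iff.1 this
    have hb' : b = a ^ i := by
      have := congrArg Subtype.val hi
      simpa using this.symm
    rw [hb']
    exact zpow_mem hz i
  constructor
  intro b hb g
  have := Subgroup.mem_center_iff.1 (hgen b hb) g
  have e : g * b * g⁻¹ = b := by rw [this]; group
  rw [e]; exact hb

/-- a `p`-regular element of `C_G(P)` is central -/
theorem regular_central (h : Core p P ζ) (D : BData p P ζ) {k : G}
    (hk : k ∈ Subgroup.centralizer ((P : Subgroup G) : Set G)) (hreg : ¬ p ∣ orderOf k) :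
    k ∈ Subgroup.center G := by
  obtain ⟨a, ha, z, hz, rfl⟩ := D.cent k hk
  have hcomm : Commute a z := Subgroup.mem_center_iff.1 hz a
  -- `a ^ n = 1` with `n` the order of `a z`
  have h1 : (a * z) ^ orderOf (a * z) = 1 := pow_orderOf_eq_one _
  rw [hcomm.mul_pow] at h1
  have h2 : a ^ orderOf (a * z) = (z ^ orderOf (a * z))⁻¹ := eq_inv_of_mul_eq_one_left h1
  have h3 : a ^ orderOf (a * z) = 1 := by
    apply eq_one_of_mem_center h (pow_mem ha _)
    rw [h2]
    exact inv_mem (pow_mem hz _)
  have ha1 : a = 1 := by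
    by_contra hne
    apply hreg
    have hord : orderOf a = p := by
      have hne' : (⟨a, ha⟩ : ↥(P : Subgroup G)) ≠ 1 := fun e => hne (congrArg Subtype.val e)
      have h4 : orderOf (⟨a, ha⟩ : ↥(P : Subgroup G)) = p := by
        have hd : orderOf (⟨a, ha⟩ : ↥(P : Subgroup G)) ∣ p := by
          have hd0 := orderOf_dvd_natCard (⟨a, ha⟩ : ↥(P : Subgroup G))
          rw [h.cardP] at hd0
          exact hd0
        rcases (Nat.dvd_prime (Fact.out : p.Prime)).1 hd with h5 | h5
        · exact absurd (orderOf_eq_one_iff.1 h5) hne'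
        · exact h5
      rw [← h4]
      exact (Subgroup.orderOf_mk a ha).symm
    rw [← hord]
    exact orderOf_dvd_of_pow_eq_one h3
  rw [ha1, one_mul]
  exact hz

/-- `∑_{a ∈ P} ψ a = 0` for a nonprincipal irreducible character and `ψ 1 = 1` -/
theorem sum_psi (h : Core p P ζ) (D : BData p P ζ) [Fintype ↥(P : Subgroup G)] :
    ∑ a : ↥(P : Subgroup G), (D.ψ : ↥(P : Subgroup G) → ℂ) a = 0 ∧
      (D.ψ : ↥(P : Subgroup G) → ℂ) 1 = 1 := by
  classical
  constructor
  · have h1 := irr_orthogonality D.ψ.2 (principalChar ↥(P : Subgroup G)).2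
    rw [if_neg (fun e => D.ψ_ne (Subtype.ext e))] at h1
    unfold classInner at h1
    have hcard : (Nat.card ↥(P : Subgroup G) : ℂ)⁻¹ ≠ 0 := by
      rw [h.cardP]
      have : (p : ℂ) ≠ 0 := by exact_mod_cast (Fact.out : p.Prime).ne_zero
      exact inv_ne_zero this
    have h2 := (mul_eq_zero.1 h1).resolve_left hcard
    have h3 : ∑ g : ↥(P : Subgroup G), (D.ψ : ↥(P : Subgroup G) → ℂ) g *
        conj (((principalChar ↥(P : Subgroup G) : IrrCharacter ↥(P : Subgroup G)) :
          ↥(P : Subgroup G) → ℂ) g) = ∑ a : ↥(P : Subgroup G), (D.ψ : ↥(P : Subgroup G) → ℂ) a := by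
      refine Finset.sum_congr rfl fun g _ => ?_
      have : ((principalChar ↥(P : Subgroup G) : IrrCharacter ↥(P : Subgroup G)) :
          ↥(P : Subgroup G) → ℂ) g = 1 := rfl
      rw [this, map_one, mul_one]
    rw [← h3]
    convert h2
  · have hcomm : ∀ a b : ↥(P : Subgroup G), a * b = b * a := by
      intro a b
      haveI : IsCyclic ↥(P : Subgroup G) := isCyclic_of_prime_card h.cardP
      exact (IsCyclic.commGroup (α := ↥(P : Subgroup G))).mul_comm a b
    letI : Fintype (IrrCharacter ↥(P : Subgroup G)) := irrFintype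
    have hd := charDegree_eq_one_of_comm hcomm D.ψ.2
    rw [irr_one_eq_charDegree D.ψ.2, hd]
    simp

open Classical in
/-- squaring permutes `P ∖ 1` -/
theorem sum_sq_eq (h : Core p P ζ) [Fintype ↥(P : Subgroup G)] (f : G → ℂ) :
    ∑ a : ↥(P : Subgroup G), (if (a : G) = 1 then 0 else f ((a : G) * (a : G))) =
      ∑ a : ↥(P : Subgroup G), (if (a : G) = 1 then 0 else f (a : G)) := by
  classical
  have hcop : (Nat.card ↥(P : Subgroup G)).Coprime 2 := by
    rw [h.cardP]
    have hp5 := h.hp
    rw [Nat.coprime_comm, Nat.coprime_primes Nat.prime_two (Fact.out : p.Prime)]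
    omega
  let e : ↥(P : Subgroup G) ≃ ↥(P : Subgroup G) := powCoprime hcop
  have he : ∀ a : ↥(P : Subgroup G), e a = a ^ 2 := fun a => rfl
  rw [← Equiv.sum_comp e (fun a : ↥(P : Subgroup G) => if (a : G) = 1 then 0 else f (a : G))]
  refine Finset.sum_congr rfl fun a _ => ?_
  have h1 : ((e a : ↥(P : Subgroup G)) : G) = (a : G) * (a : G) := by
    rw [he]; simp [pow_two]
  have h2 : ((a : G) * (a : G) = 1) ↔ ((a : G) = 1) := by
    constructor
    · intro h3
      have h4 : e a = e 1 := by
        apply Subtype.ext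
        rw [h1, h3, he]; simp
      have := e.injective h4
      rw [this]; rfl
    · intro h3; rw [h3, one_mul]
  rw [h1]
  by_cases h3 : (a : G) = 1
  · rw [if_pos h3, if_pos (h2.2 h3)]
  · rw [if_neg h3, if_neg (fun h4 => h3 (h2.1 h4))]

open Classical in
/-- `∑_{a ∈ P ∖ 1} ζ a = 2` -/
theorem sum_zeta (h : Core p P ζ) (D : BData p P ζ) [Fintype ↥(P : Subgroup G)] :
    ∑ a : ↥(P : Subgroup G), (if (a : G) = 1 then 0 else (ζ : G → ℂ) (a : G)) = 2 := by
  classical
  obtain ⟨h0, h1⟩ := sum_psi h D
  have e1 : ∀ a : ↥(P : Subgroup G), (if (a : G) = 1 then (0 : ℂ) else (ζ : G → ℂ) (a : G)) =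
      -(((D.ψ : ↥(P : Subgroup G) → ℂ) a + conj ((D.ψ : ↥(P : Subgroup G) → ℂ) a)) -
        (if a = 1 then 2 else 0)) := by
    intro a
    by_cases ha : a = 1
    · subst ha
      have hc : ((1 : ↥(P : Subgroup G)) : G) = 1 := rfl
      rw [if_pos hc, if_pos rfl, h1, map_one]; ring
    · have ha' : (a : G) ≠ 1 := fun e => ha (Subtype.ext e)
      rw [if_neg ha', if_neg ha, D.valP a ha]; ring
  rw [Finset.sum_congr rfl (fun a _ => e1 a), Finset.sum_neg_distrib, Finset.sum_sub_distrib,
    Finset.sum_add_distrib, ← map_sum, h0, map_zero, Finset.sum_ite_eq' Finset.univ (1 : ↥(P : Subgroup G))]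
  simp

end SING

/-- PIECE SING. -/
theorem sum_singular (h : Core p P ζ) (D : BData p P ζ) :
    (∑ g : G, if p ∣ orderOf g then (‖(ζ : G → ℂ) g‖ ^ 2 : ℂ) else 0) =
        (Nat.card G : ℂ) * ((p : ℂ) - 2) / p ∧
    (∑ g : G, if p ∣ orderOf g then sym2 (ζ : G → ℂ) g * conj (lam2 (ζ : G → ℂ) g) else 0) =
        (Nat.card G : ℂ) * ((p : ℂ) - 3) / (2 * p) := by
  classical
  have hp : p.Prime := Fact.out
  have hp5 := h.hp
  have hP : Nat.card P = p := h.cardP
  haveI : Fintype (Subgroup.centralizer ((P : Subgroup G) : Set G)) := Fintype.ofFinite _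
  haveI : Fintype ↥(P : Subgroup G) := Fintype.ofFinite _
  obtain ⟨K, n₀, hK1, hK2, -⟩ := Cfsg.Agent.Helper5.TLD.exists_pcore' p P hP
  haveI : Fintype K := Fintype.ofFinite _
  have hcζ := isClassFunction_of_isIrrCharacter ζ.2
  have hKZ : ∀ k : K, (k : G) ∈ Subgroup.center G := fun k =>
    SING.regular_central h D ((hK1 (k : G)).1 k.2).1 ((hK1 (k : G)).1 k.2).2
  have hKreg : ∀ k : K, ¬ p ∣ orderOf (k : G) := fun k => ((hK1 (k : G)).1 k.2).2
  have hζ1 : (ζ : G → ℂ) 1 ≠ 0 := by
    rw [h.deg]
    have : (p : ℂ) ≠ 2 := by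
      intro e
      have : p = 2 := by exact_mod_cast e
      omega
    exact sub_ne_zero.2 this
  -- `p ∣ orderOf (a k)` for `a ∈ P ∖ 1`
  have hsing : ∀ (a : ↥(P : Subgroup G)) (k : K), (a : G) ≠ 1 → p ∣ orderOf ((a : G) * (k : G)) := by
    intro a k ha
    by_contra hreg
    have hmem : (a : G) * (k : G) ∈ Subgroup.centralizer ((P : Subgroup G) : Set G) := by
      rw [Subgroup.mem_centralizer_iff]
      intro b hb
      have hkc := Subgroup.mem_center_iff.1 (hKZ k)
      have hab : b * (a : G) = (a : G) * b := by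
        haveI : IsCyclic ↥(P : Subgroup G) := isCyclic_of_prime_card h.cardP
        have := (IsCyclic.commGroup (α := ↥(P : Subgroup G))).mul_comm ⟨b, hb⟩ a
        exact congrArg Subtype.val this
      calc b * ((a : G) * (k : G)) = (b * (a : G)) * (k : G) := by group
        _ = ((a : G) * b) * (k : G) := by rw [hab]
        _ = (a : G) * (b * (k : G)) := by group
        _ = (a : G) * ((k : G) * b) := by rw [hkc b]
        _ = (a : G) * (k : G) * b := by group
    have hcen := SING.regular_central h D hmem hreg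
    have ha' : (a : G) ∈ Subgroup.center G := by
      have : (a : G) = (a : G) * (k : G) * (k : G)⁻¹ := by group
      rw [this]
      exact mul_mem hcen (inv_mem (hKZ k))
    exact ha (SING.eq_one_of_mem_center h a.2 ha')
  -- the scalars
  have hw : ∀ k : K, ∃ w : ℂ, w * conj w = 1 ∧ ∀ g : G,
      (ζ : G → ℂ) (g * (k : G)) = w * (ζ : G → ℂ) g ∧
      sym2 (ζ : G → ℂ) (g * (k : G)) = w ^ 2 * sym2 (ζ : G → ℂ) g ∧
      lam2 (ζ : G → ℂ) (g * (k : G)) = w ^ 2 * lam2 (ζ : G → ℂ) g := by
    intro k
    have hz := hKZ k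
    have hn := (central_mul ζ hz 1).2
    refine ⟨(ζ : G → ℂ) (k : G) / (ζ : G → ℂ) 1, ?_, fun g => ⟨?_, ?_, ?_⟩⟩
    · rw [map_div₀, div_mul_div_comm, Complex.mul_conj, Complex.mul_conj,
        Complex.normSq_eq_norm_sq, Complex.normSq_eq_norm_sq, hn]
      have : ((‖(ζ : G → ℂ) 1‖ ^ 2 : ℝ) : ℂ) ≠ 0 := by
        have : ‖(ζ : G → ℂ) 1‖ ≠ 0 := norm_ne_zero_iff.2 hζ1
        exact_mod_cast pow_ne_zero 2 this
      exact div_self this
    · have := (central_mul ζ hz g).1
      field_simp
      linear_combination this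
    · have := SYM.sym2_central (ζ := ζ) (k : G) hz g
      field_simp
      linear_combination this
    · have := SYM.lam2_central (ζ := ζ) (k : G) hz g
      field_simp
      linear_combination this
  choose w hw1 hw2 using hw
  -- cardinalities
  have hcardC : (Nat.card (Subgroup.centralizer ((P : Subgroup G) : Set G)) : ℂ) =
      (p : ℂ) * (Nat.card K : ℂ) := by
    have := Cfsg.Agent.Helper12.BRE.sum_centralizer_eq p P hP K hK1 hK2 (fun _ => (1 : ℂ))
    simp only [Finset.sum_const, Finset.card_univ, nsmul_eq_mul, mul_one] at this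
    rw [Nat.card_eq_fintype_card, Nat.card_eq_fintype_card (α := K), this]
    rw [← Nat.card_eq_fintype_card (α := ↥(P : Subgroup G)), h.cardP]
  have hcardN : (Nat.card (Subgroup.normalizer ((P : Subgroup G) : Set G)) : ℂ) =
      2 * ((p : ℂ) * (Nat.card K : ℂ)) := by
    rw [← hcardC]
    have hle : Subgroup.centralizer ((P : Subgroup G) : Set G) ≤
        Subgroup.normalizer ((P : Subgroup G) : Set G) := Subgroup.centralizer_le_normalizer _
    have h1 := Subgroup.relIndex_mul_index hle
    rw [D.relIndex] at h1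
    have h2 := Subgroup.card_mul_index (Subgroup.centralizer ((P : Subgroup G) : Set G))
    have h3 := Subgroup.card_mul_index (Subgroup.normalizer ((P : Subgroup G) : Set G))
    have hpos : 0 < (Subgroup.normalizer ((P : Subgroup G) : Set G)).index :=
      Nat.pos_of_ne_zero (Subgroup.index_ne_zero_of_finite)
    have h4 : Nat.card (Subgroup.normalizer ((P : Subgroup G) : Set G)) =
        2 * Nat.card (Subgroup.centralizer ((P : Subgroup G) : Set G)) := by
      apply Nat.eq_of_mul_eq_mul_right hpos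
      rw [h3, ← h2, ← h1]; ring
    rw [h4]; push_cast; ring
  have hKpos : (Nat.card K : ℂ) ≠ 0 := by exact_mod_cast (Nat.card_pos (α := K)).ne'
  have hpne : (p : ℂ) ≠ 0 := by exact_mod_cast hp.ne_zero
  -- general evaluation
  have key : ∀ (F : G → ℂ) (f : G → ℂ), IsClassFunction G F → (∀ g, ¬ p ∣ orderOf g → F g = 0) →
      (∀ (a : ↥(P : Subgroup G)) (k : K), (a : G) ≠ 1 → F ((a : G) * (k : G)) = f (a : G)) →
      ∀ S : ℂ, ∑ a : ↥(P : Subgroup G), (if (a : G) = 1 then 0 else f (a : G)) = S →
      ∑ g : G, F g = (Nat.card G : ℂ) * S / (2 * p) := by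
    intro F f hF hreg hval S hS
    have hti := Cfsg.Agent.Helper12.BRE.ti_sum_formula p P hP F hF hreg
    rw [Cfsg.Agent.Helper12.BRE.sum_centralizer_eq p P hP K hK1 hK2 F] at hti
    have hin : ∑ a : ↥(P : Subgroup G), ∑ k : K, F ((a : G) * (k : G)) =
        (Nat.card K : ℂ) * S := by
      rw [← hS, Finset.mul_sum]
      refine Finset.sum_congr rfl fun a _ => ?_
      by_cases ha : (a : G) = 1
      · rw [if_pos ha, mul_zero]
        refine Finset.sum_eq_zero fun k _ => ?_
        rw [ha, one_mul]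
        exact hreg _ (hKreg k)
      · rw [if_neg ha, Finset.sum_congr rfl (fun k _ => hval a k ha), Finset.sum_const,
          Finset.card_univ, nsmul_eq_mul, Nat.card_eq_fintype_card]
    rw [hin, hcardN] at hti
    have h5 : (Nat.card K : ℂ) * ((∑ g : G, F g) * (2 * (p : ℂ)) - (Nat.card G : ℂ) * S) = 0 := by
      linear_combination hti
    have h6 := (mul_eq_zero.1 h5).resolve_left hKpos
    have h2p : (2 * (p : ℂ)) ≠ 0 := mul_ne_zero two_ne_zero hpne
    rw [eq_div_iff h2p]
    linear_combination h6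
  constructor
  · -- first sum
    have h1 := key (fun g => if p ∣ orderOf g then (‖(ζ : G → ℂ) g‖ ^ 2 : ℂ) else 0)
      (fun a => 2 - (ζ : G → ℂ) (a * a)) ?_ ?_ ?_ (2 * (p : ℂ) - 4) ?_
    · rw [h1]; field_simp; ring
    · intro g x
      simp only
      have ho : orderOf (x * g * x⁻¹) = orderOf g := (MulAut.conj x).orderOf_eq g
      rw [ho, hcζ g x]
    · intro g hg
      simp only [if_neg hg]
    · intro a k ha
      simp only [if_pos (hsing a k ha)]
      have e1 := (hw2 k (a : G)).1
      have hreal : conj ((ζ : G → ℂ) (a : G)) = (ζ : G → ℂ) (a : G) := by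
        have ha' : a ≠ 1 := fun e => ha (congrArg Subtype.val e)
        rw [D.valP a ha', map_neg, map_add, Complex.conj_conj]; ring
      have e2 : ((‖(ζ : G → ℂ) ((a : G) * (k : G))‖ ^ 2 : ℝ) : ℂ) =
          (ζ : G → ℂ) ((a : G) * (k : G)) * conj ((ζ : G → ℂ) ((a : G) * (k : G))) := by
        rw [Complex.mul_conj, Complex.normSq_eq_norm_sq]
      push_cast at e2
      rw [e2, e1, map_mul, hreal, ← D.sq_rel ζ D.mem (a : G) a.2 ha]
      linear_combination ((ζ : G → ℂ) (a : G)) ^ 2 * hw1 k
    · have hsq := SING.sum_sq_eq h (fun x => (ζ : G → ℂ) x)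
      have hz := SING.sum_zeta h D
      have e : ∀ a : ↥(P : Subgroup G),
          (if (a : G) = 1 then (0 : ℂ) else 2 - (ζ : G → ℂ) ((a : G) * (a : G))) =
          (if (a : G) = 1 then 0 else 2) -
            (if (a : G) = 1 then 0 else (ζ : G → ℂ) ((a : G) * (a : G))) := by
        intro a; split_ifs <;> ring
      rw [Finset.sum_congr rfl (fun a _ => e a), Finset.sum_sub_distrib, hsq, hz]
      have hcnt : ∑ a : ↥(P : Subgroup G), (if (a : G) = 1 then (0 : ℂ) else 2) =
          2 * ((p : ℂ) - 1) := by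
        have e' : ∀ a : ↥(P : Subgroup G), (if (a : G) = 1 then (0 : ℂ) else 2) =
            2 - (if a = 1 then 2 else 0) := by
          intro a
          by_cases ha : a = 1
          · subst ha; simp
          · have : (a : G) ≠ 1 := fun e => ha (Subtype.ext e)
            rw [if_neg this, if_neg ha]; ring
        rw [Finset.sum_congr rfl (fun a _ => e' a), Finset.sum_sub_distrib, Finset.sum_const,
          Finset.card_univ, Finset.sum_ite_eq' Finset.univ (1 : ↥(P : Subgroup G)),
          ← Nat.card_eq_fintype_card, h.cardP]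
        simp; ring
      rw [hcnt]; ring
  · -- second sum
    have h1 := key (fun g => if p ∣ orderOf g then
        sym2 (ζ : G → ℂ) g * conj (lam2 (ζ : G → ℂ) g) else 0)
      (fun a => 1 - (ζ : G → ℂ) (a * a)) ?_ ?_ ?_ ((p : ℂ) - 3) ?_
    · rw [h1]
    · intro g x
      simp only
      have ho : orderOf (x * g * x⁻¹) = orderOf g := (MulAut.conj x).orderOf_eq g
      rw [ho, SYM.sym2_isClassFunction hcζ g x, SYM.lam2_isClassFunction' hcζ g x]
    · intro g hg
      simp only [if_neg hg]
    · intro a k ha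
      simp only [if_pos (hsing a k ha)]
      have ha' : a ≠ 1 := fun e => ha (congrArg Subtype.val e)
      have haa : (a : G) * (a : G) ≠ 1 := by
        intro e
        have hd : orderOf (a : G) ∣ 2 := orderOf_dvd_of_pow_eq_one (by rw [pow_two]; exact e)
        have hd' : orderOf (a : G) ∣ p := by
          have hd0 := orderOf_dvd_natCard a
          rw [h.cardP] at hd0
          rwa [Subgroup.orderOf_coe]
        have : orderOf (a : G) ∣ Nat.gcd 2 p := Nat.dvd_gcd hd hd'
        have hg : Nat.gcd 2 p = 1 := by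
          rw [← Nat.coprime_iff_gcd_eq_one, Nat.coprime_primes Nat.prime_two hp]; omega
        rw [hg, Nat.dvd_one, orderOf_eq_one_iff] at this
        exact ha this
      have hreal2 : conj ((ζ : G → ℂ) ((a : G) * (a : G))) = (ζ : G → ℂ) ((a : G) * (a : G)) := by
        have hm : (a * a : ↥(P : Subgroup G)) ≠ 1 := fun e => haa (by
          have := congrArg Subtype.val e; simpa using this)
        have := D.valP (a * a) hm
        simp only [Subgroup.coe_mul] at this
        rw [this, map_neg, map_add, Complex.conj_conj]; ring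
      rw [(hw2 k (a : G)).2.1, (hw2 k (a : G)).2.2, map_mul, map_pow]
      have hs : sym2 (ζ : G → ℂ) (a : G) = 1 := by
        simp only [sym2]; rw [D.sq_rel ζ D.mem (a : G) a.2 ha]; ring
      have hl : lam2 (ζ : G → ℂ) (a : G) = 1 - (ζ : G → ℂ) ((a : G) * (a : G)) := by
        simp only [lam2]; rw [D.sq_rel ζ D.mem (a : G) a.2 ha]; ring
      rw [hs, hl, map_sub, map_one, hreal2]
      linear_combination (1 - (ζ : G → ℂ) ((a : G) * (a : G))) * (w k * conj (w k) + 1) * hw1 k
    · have hsq := SING.sum_sq_eq h (fun x => (ζ : G → ℂ) x)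
      have hz := SING.sum_zeta h D
      have e : ∀ a : ↥(P : Subgroup G),
          (if (a : G) = 1 then (0 : ℂ) else 1 - (ζ : G → ℂ) ((a : G) * (a : G))) =
          (if (a : G) = 1 then 0 else 1) -
            (if (a : G) = 1 then 0 else (ζ : G → ℂ) ((a : G) * (a : G))) := by
        intro a; split_ifs <;> ring
      rw [Finset.sum_congr rfl (fun a _ => e a), Finset.sum_sub_distrib, hsq, hz]
      have hcnt : ∑ a : ↥(P : Subgroup G), (if (a : G) = 1 then (0 : ℂ) else 1) =
          (p : ℂ) - 1 := by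
        have e' : ∀ a : ↥(P : Subgroup G), (if (a : G) = 1 then (0 : ℂ) else 1) =
            1 - (if a = 1 then 1 else 0) := by
          intro a
          by_cases ha : a = 1
          · subst ha; simp
          · have : (a : G) ≠ 1 := fun e => ha (Subtype.ext e)
            rw [if_neg this, if_neg ha]; ring
        rw [Finset.sum_congr rfl (fun a _ => e' a), Finset.sum_sub_distrib, Finset.sum_const,
          Finset.card_univ, Finset.sum_ite_eq' Finset.univ (1 : ↥(P : Subgroup G)),
          ← Nat.card_eq_fintype_card, h.cardP]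
        simp
      rw [hcnt]; ring

end Cfsg.Agent.Helper23.B2
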