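import Mathlib
import Cfsg.Prelude.Def_Blocks
import Cfsg.Agent.Lib.Helper24.CharLinear
import Cfsg.Agent.Lib.Helper24.CharComplete
import Cfsg.Agent.Lib.Helper18.GaloisConj
import Cfsg.Agent.Lib.Helper16.ITODefs
import Cfsg.Agent.Lib.Helper23.B2Defs
import Cfsg.Agent.Lib.Helper23.B2SCH
import Cfsg.Agent.Lib.Helper23.B2SYM2NAT
import Cfsg.Agent.Lib.Helper18.B2PARS
import Cfsg.Agent.Lib.Helper22.B2Aux
import Cfsg.Agent.Lib.Helper24.B2OVER

/-!
# S4705, PIECE SYM (helper22): no member of `Y` is a constituent of `Sym²ζ` (twisted by `r`)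
-/

set_option autoImplicit false
set_option linter.unusedSectionVars false
set_option linter.unusedVariables false
set_option linter.style.haveILetI false

namespace Cfsg.Agent.Helper23.B2

open scoped ComplexConjugate
open Cfsg Cfsg.Agent.Helper24 Cfsg.Agent.Helper16.ITO

universe u

variable {G : Type u} [Group G] [Fintype G]



variable {p : ℕ} [Fact p.Prime] {P : Sylow p G} {ζ : IrrCharacter G}

/-- PIECE SYM. -/
theorem sym_support (h : Core p P ζ) (D : BData p P ζ) {r : ℕ} (hr : IsR p P r)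
    (htwo : ∀ x : G, (∃ i : ℕ, orderOf x = 2 ^ i) →
      x * x ∈ Subgroup.center G ∧ (x ∉ Subgroup.center G → (ζ : G → ℂ) x = -1)) :
    ∀ χ ∈ D.Y, classInner (sym2 (ζ : G → ℂ)) (gal χ hr.cop : G → ℂ) = 0 := by
  classical
  letI : Fintype (IrrCharacter G) := irrFintype
  have hp5 := h.hp
  have hζc : IsCharacter G (ζ : G → ℂ) := isCharacter_of_isIrrCharacter ζ.2
  have hnat : ∀ χ : IrrCharacter G, ∃ s : ℕ,
      classInner (sym2 (ζ : G → ℂ)) (gal χ hr.cop : G → ℂ) = (s : ℂ) :=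
    fun χ => sym2_inner_nat hζc (gal χ hr.cop).2
  choose s hs using hnat
  have hcf : IsClassFunction G (sym2 (ζ : G → ℂ)) :=
    SYM.sym2_isClassFunction (isClassFunction_of_isIrrCharacter ζ.2)
  -- expansion
  have hexp : ∀ x : G, sym2 (ζ : G → ℂ) x =
      ∑ χ : IrrCharacter G, (s χ : ℂ) * (χ : G → ℂ) (x ^ r) := by
    intro x
    rw [SYM.expansion_gal hr.cop hcf x]
    exact Finset.sum_congr rfl fun χ _ => by rw [hs χ]; rfl
  have hsplit : ∀ x : G, ∑ χ : IrrCharacter G, (s χ : ℂ) * (χ : G → ℂ) (x ^ r) =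
      ∑ χ ∈ D.Y, (s χ : ℂ) * (χ : G → ℂ) (x ^ r) +
        ∑ χ ∈ D.Yᶜ, (s χ : ℂ) * (χ : G → ℂ) (x ^ r) := by
    intro x
    rw [← Finset.sum_add_sum_compl D.Y]
  -- the constants of the characters outside `Y`
  have hconst : ∀ χ : IrrCharacter G, ∃ c : ℂ, χ ∈ D.Yᶜ → ∀ a ∈ (P : Subgroup G), a ≠ 1 →
      (s χ : ℂ) * (χ : G → ℂ) a = c := by
    intro χ
    by_cases hs0 : s χ = 0
    · exact ⟨0, fun _ a _ _ => by rw [hs0]; simp⟩
    · by_cases hY : χ ∈ D.Y
      · exact ⟨0, fun hc => absurd hY (Finset.mem_compl.1 hc)⟩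
      · have hne : classInner (sym2 (ζ : G → ℂ)) (gal χ hr.cop : G → ℂ) ≠ 0 := by
          rw [hs χ]; exact_mod_cast hs0
        have hov : Over (ζ : G → ℂ) (χ : G → ℂ) :=
          over_of_constituent h hr (fun z hz g => SYM.sym2_central z hz g) χ hne
        obtain ⟨c, hc⟩ := D.valD χ hov hY
        exact ⟨(s χ : ℂ) * c, fun _ a ha ha1 => by rw [hc a ha ha1]⟩
  choose cst hcst using hconst
  set K : ℂ := ∑ χ ∈ D.Yᶜ, cst χ with hK
  have hrest : ∀ a ∈ (P : Subgroup G), a ≠ 1 →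
      ∑ χ ∈ D.Yᶜ, (s χ : ℂ) * (χ : G → ℂ) (a ^ r) = K := by
    intro a ha ha1
    rw [hr.onP a ha]
    exact Finset.sum_congr rfl fun χ hχ => hcst χ hχ a ha ha1
  -- the value of `sym2 ζ` on `P ∖ 1`
  have hval : ∀ a ∈ (P : Subgroup G), a ≠ 1 → sym2 (ζ : G → ℂ) a = 1 := by
    intro a ha ha1
    simp only [sym2]
    rw [D.sq_rel ζ D.mem a ha ha1]
    ring
  -- `indep`
  have hind : ∀ η ∈ D.Y, (s η : ℂ) = 1 - K := by
    apply D.indep (fun η => (s η : ℂ)) (1 - K)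
    intro a ha ha1
    have h1 := hexp a
    rw [hsplit a, hrest a ha ha1, hval a ha ha1, hr.onP a ha] at h1
    linear_combination -h1
  have hsη : ∀ η ∈ D.Y, s η = s ζ := by
    intro η hη
    have h1 := hind η hη
    have h2 := hind ζ D.mem
    have : (s η : ℂ) = (s ζ : ℂ) := by rw [h1, h2]
    exact_mod_cast this
  -- degrees
  have hdeg : ∀ χ : IrrCharacter G, (χ : G → ℂ) 1 = (charDegree (χ : G → ℂ) : ℂ) :=
    fun χ => irr_one_eq_charDegree χ.2
  have hreg1 : ¬ p ∣ orderOf (1 : G) := by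
    rw [orderOf_one]
    intro hd
    have := Nat.le_of_dvd one_pos hd
    omega
  have hdegY : ∀ η ∈ D.Y, charDegree (η : G → ℂ) = p - 2 := by
    intro η hη
    have h1 : (η : G → ℂ) 1 = (p : ℂ) - 2 := by rw [D.regY η hη 1 hreg1, h.deg]
    rw [hdeg η] at h1
    have h2 : ((charDegree (η : G → ℂ) : ℕ) : ℂ) = ((p - 2 : ℕ) : ℂ) := by
      rw [h1, Nat.cast_sub (by omega)]; norm_num
    exact_mod_cast h2
  have hone : sym2 (ζ : G → ℂ) 1 = ((p : ℂ) - 2) * ((p : ℂ) - 1) / 2 := by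
    simp only [sym2, mul_one]
    rw [h.deg]; ring
  have hT : 2 * ∑ χ : IrrCharacter G, s χ * charDegree (χ : G → ℂ) = (p - 2) * (p - 1) := by
    have h1 := hexp 1
    rw [hone, one_pow] at h1
    have h2 : ((2 * ∑ χ : IrrCharacter G, s χ * charDegree (χ : G → ℂ) : ℕ) : ℂ) =
        (((p - 2) * (p - 1) : ℕ) : ℂ) := by
      push_cast
      rw [Nat.cast_sub (by omega), Nat.cast_sub (by omega)]
      have h3 : ∑ χ : IrrCharacter G, (s χ : ℂ) * (charDegree (χ : G → ℂ) : ℂ) =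
          ∑ χ : IrrCharacter G, (s χ : ℂ) * (χ : G → ℂ) 1 :=
        Finset.sum_congr rfl fun χ _ => by rw [hdeg χ]
      rw [h3, ← h1]; push_cast; ring
    exact_mod_cast h2
  have hTsplit : ∑ χ : IrrCharacter G, s χ * charDegree (χ : G → ℂ) =
      D.Y.card * s ζ * (p - 2) + ∑ χ ∈ D.Yᶜ, s χ * charDegree (χ : G → ℂ) := by
    rw [← Finset.sum_add_sum_compl D.Y]
    congr 1
    rw [Finset.sum_congr rfl (fun χ hχ => by rw [hsη χ hχ, hdegY χ hχ] :
      ∀ χ ∈ D.Y, s χ * charDegree (χ : G → ℂ) = s ζ * (p - 2))]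
    rw [Finset.sum_const, smul_eq_mul]; ring
  have hcard := D.cardY
  -- `s ζ ≤ 1`
  have hle : s ζ ≤ 1 := by
    by_contra hgt
    push Not at hgt
    have h1 : (p - 2) * (p - 1) ≥ 2 * (D.Y.card * s ζ * (p - 2)) := by
      rw [← hT, hTsplit]; omega
    have h2 : 2 * (D.Y.card * s ζ * (p - 2)) = (p - 1) * (p - 2) * s ζ := by
      rw [← hcard]; ring
    have h3 : (p - 1) * (p - 2) * 2 ≤ (p - 1) * (p - 2) * s ζ := Nat.mul_le_mul_left _ hgt
    have h4 : 0 < (p - 1) * (p - 2) := Nat.mul_pos (by omega) (by omega)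
    have h5 : (p - 2) * (p - 1) = (p - 1) * (p - 2) := Nat.mul_comm _ _
    omega
  -- `s ζ ≠ 1`
  have hne1 : s ζ ≠ 1 := by
    intro h1
    have hrest0 : ∑ χ ∈ D.Yᶜ, s χ * charDegree (χ : G → ℂ) = 0 := by
      have h2 := hT
      rw [hTsplit, h1] at h2
      have h3 : 2 * (D.Y.card * 1 * (p - 2)) = (p - 2) * (p - 1) := by
        calc 2 * (D.Y.card * 1 * (p - 2)) = (2 * D.Y.card) * (p - 2) := by ring
          _ = (p - 1) * (p - 2) := by rw [hcard]
          _ = _ := Nat.mul_comm _ _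
      omega
    have hs0 : ∀ χ ∈ D.Yᶜ, s χ = 0 := by
      intro χ hχ
      have := (Finset.sum_eq_zero_iff.1 hrest0) χ hχ
      rcases Nat.mul_eq_zero.1 this with h | h
      · exact h
      · exact absurd h (charDegree_pos χ.2).ne'
    obtain ⟨x, hx2, hxc⟩ := SYM.exists_two_element D
    obtain ⟨hxx, hxv⟩ := htwo x hx2
    have hxval := hxv hxc
    obtain ⟨i, hi⟩ := hx2
    -- `x` is `p`-regular
    have hxreg : ¬ p ∣ orderOf x := by
      rw [hi]
      intro hd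
      have h2 := (Nat.Prime.dvd_of_dvd_pow (Fact.out : p.Prime) hd)
      have := Nat.le_of_dvd (by norm_num) h2
      omega
    -- `ζ (x * x) = p - 2`
    have hxx2 : (ζ : G → ℂ) (x * x) = (p : ℂ) - 2 := by
      rw [← h.deg]
      apply h.two (x * x) hxx
      have hd : orderOf (x * x) ∣ 2 ^ i := by
        rw [← hi, ← pow_two]
        exact orderOf_pow_dvd 2
      obtain ⟨j, -, hj⟩ := (Nat.dvd_prime_pow Nat.prime_two).1 hd
      exact ⟨j, hj⟩
    have h2 := hexp x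
    rw [hsplit x] at h2
    have h3 : ∑ χ ∈ D.Yᶜ, (s χ : ℂ) * (χ : G → ℂ) (x ^ r) = 0 :=
      Finset.sum_eq_zero fun χ hχ => by rw [hs0 χ hχ]; simp
    have h4 : ∑ χ ∈ D.Y, (s χ : ℂ) * (χ : G → ℂ) (x ^ r) = (D.Y.card : ℂ) * (-1) := by
      rw [hr.onTwo x ⟨i, hi⟩]
      rw [Finset.sum_congr rfl (fun χ hχ => by rw [hsη χ hχ, h1, D.regY χ hχ x hxreg, hxval]; simp :
        ∀ χ ∈ D.Y, (s χ : ℂ) * (χ : G → ℂ) x = -1)]
      rw [Finset.sum_const, nsmul_eq_mul]
    rw [h3, h4, add_zero] at h2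
    simp only [sym2] at h2
    rw [hxval, hxx2] at h2
    have h5 : ((2 * D.Y.card : ℕ) : ℂ) = (p : ℂ) - 1 := by
      rw [hcard, Nat.cast_sub (by omega)]; norm_num
    push_cast at h5
    have h6 : (p : ℂ) = 1 := by linear_combination h2 - (1 / 2 : ℂ) * h5
    have h7 : (p : ℕ) = 1 := by exact_mod_cast h6
    omega
  have hz : s ζ = 0 := by omega
  intro χ hχ
  rw [hs χ, hsη χ hχ, hz]
  simp

end Cfsg.Agent.Helper23.B2
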