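import Mathlib
import Cfsg.Agent.Lib.Helper22.BG127B
import Cfsg.Agent.Lib.Helper7.BG121a
import Cfsg.Agent.S1412
import Cfsg.Agent.S1453

/-!
# A lemma for Bender-Glauberman 11.5 (helper22): centralizers of maximal `E_{p²}` in `p`-subgroups

If `A` is an elementary abelian subgroup of order `p ^ 2` of a minimal simple group of odd order
which is contained in no larger elementary abelian subgroup, then every `p`-subgroup `Pg ≥ A`
with `A ≤ Z(Pg)` is abelian.
-/

set_option autoImplicit false

namespace Cfsg.Agent.Helper22.BG11Y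

open Cfsg Subgroup
open Cfsg.Agent.Helper22.BG13 Cfsg.Agent.Helper22.BG127
open Cfsg.Agent.Helper15 (IsSylowIn exists_isSylowIn_ge)

/-- **the narrow case**: if `E` is a maximal elementary abelian subgroup of order `p ^ 2` of the
`p`-group `R` (`p` odd) not contained in a subgroup `Tc` of index `p`, then `C_R(E)` is abelian -/
theorem comm_of_index {R : Type*} [Group R] [Finite R] {p : ℕ} [Fact p.Prime] (hodd : Odd p)
    (hR : IsPGroup p R) {Tc E : Subgroup R} (hidx : Tc.index = p)
    (hEe : IsElementaryAbelian p E) (hEc : Nat.card ↥E = p ^ 2)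
    (hEmax : ∀ B : Subgroup R, IsElementaryAbelian p B → E ≤ B → B = E) (hETc : ¬ E ≤ Tc) :
    ∀ x ∈ centralizer (E : Set R), ∀ y ∈ centralizer (E : Set R), x * y = y * x := by
  have hpp : p.Prime := Fact.out
  have hcommE : ∀ a ∈ E, ∀ b ∈ E, a * b = b * a :=
    fun a ha b hb => Cfsg.Agent.Helper7.isElementaryAbelian_comm hEe ha hb
  have hmaxE : ∀ u : R, u ∈ centralizer (E : Set R) → u ^ p = 1 → u ∈ E := by
    intro u huC hup
    by_contra huE
    obtain ⟨h1, h2⟩ := elemAb_sup_zpowers hEe huC hup huE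
    have := hEmax _ h1 le_sup_left
    rw [this] at h2
    exact lt_irrefl _ h2
  obtain ⟨n, hn⟩ := hR.exists_card_eq
  have hn0 : n ≠ 0 := by
    rintro rfl
    rw [pow_zero] at hn
    have h1 : Nat.card ↥E ∣ Nat.card R := Subgroup.card_subgroup_dvd_card E
    rw [hn, hEc] at h1
    have := Nat.le_of_dvd Nat.one_pos h1
    have := hpp.one_lt
    nlinarith
  have hTcn : Tc.Normal := by
    apply Subgroup.normal_of_index_eq_minFac_card
    rw [hidx, hn, Nat.Prime.pow_minFac hpp hn0]
  obtain ⟨a, haE, haT⟩ := SetLike.not_le_iff_exists.mp hETc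
  have htop : Tc ⊔ zpowers a = ⊤ := by
    have h1 : (Tc ⊔ zpowers a).index ∣ p := hidx ▸ Subgroup.index_dvd_of_le le_sup_left
    rcases (Nat.dvd_prime hpp).mp h1 with h | h
    · exact Subgroup.index_eq_one.mp h
    · exfalso
      have h2 := Subgroup.index_mul_card (Tc ⊔ zpowers a)
      have h3 := Subgroup.index_mul_card Tc
      rw [h, ← h3, hidx] at h2
      have h4 : Nat.card ↥(Tc ⊔ zpowers a : Subgroup R) = Nat.card ↥Tc :=
        Nat.eq_of_mul_eq_mul_left hpp.pos h2
      have h5 : Tc = Tc ⊔ zpowers a := Subgroup.eq_of_le_of_card_ge le_sup_left h4.le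
      apply haT
      rw [h5]
      exact (le_sup_right : zpowers a ≤ Tc ⊔ zpowers a) (Subgroup.mem_zpowers a)
  have hzN : zpowers a ≤ normalizer (Tc : Set R) := by
    rw [Subgroup.normalizer_eq_top_iff.mpr hTcn]; exact le_top
  -- the decomposition of the elements of `C_R(E)`
  have hdec : ∀ x ∈ centralizer (E : Set R), ∃ c ∈ Tc ⊓ centralizer (E : Set R), ∃ b ∈ E,
      x = c * b := by
    intro x hxE
    have hxtop : x ∈ Tc ⊔ zpowers a := by rw [htop]; trivial
    obtain ⟨c, hc, b, hb, hxcb⟩ := exists_mul_of_mem_sup hzN hxtop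
    have hbE : b ∈ E := (Subgroup.zpowers_le.mpr haE) hb
    refine ⟨c, ⟨hc, ?_⟩, b, hbE, hxcb⟩
    have hc' : c = x * b⁻¹ := by rw [hxcb]; group
    rw [hc']
    exact (centralizer (E : Set R)).mul_mem hxE ((centralizer (E : Set R)).inv_mem
      (Subgroup.mem_centralizer_iff.mpr fun e he => hcommE e he b hbE))
  -- `Tc ∩ C_R(E)` is cyclic
  set D : Subgroup R := Tc ⊓ centralizer (E : Set R) with hD
  have hIc : Nat.card ↥(E ⊓ Tc : Subgroup R) ≤ p := by
    have h1 : Nat.card ↥(E ⊓ Tc : Subgroup R) ∣ p ^ 2 := hEc ▸ Subgroup.card_dvd_of_le inf_le_left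
    obtain ⟨i, hi2, hi⟩ := (Nat.dvd_prime_pow hpp).mp h1
    have hi2' : i ≠ 2 := by
      rintro rfl
      have h2 : E ⊓ Tc = E := Subgroup.eq_of_le_of_card_ge inf_le_left (by rw [hi, hEc])
      exact hETc (h2 ▸ inf_le_right)
    rw [hi]
    calc p ^ i ≤ p ^ 1 := Nat.pow_le_pow_right hpp.pos (by omega)
      _ = p := pow_one p
  have hDr : PRankLE p 1 ↥D := by
    intro B _ hBp
    have h1 : B.map D.subtype ≤ E ⊓ Tc := by
      rintro _ ⟨u, hu, rfl⟩
      have hup : (u : R) ^ p = 1 := by
        have := hBp u hu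
        exact congrArg Subtype.val this
      exact ⟨hmaxE _ u.2.2 hup, u.2.1⟩
    have h2 : Nat.card ↥(B.map D.subtype) = Nat.card ↥B :=
      Subgroup.card_map_of_injective D.subtype_injective
    rw [pow_one, ← h2]
    exact (Subgroup.card_le_of_le h1).trans hIc
  have hDcyc : IsCyclic ↥D :=
    Cfsg.Agent.Helper7.BG12.isCyclic_of_pRankLE_one hodd (hR.to_subgroup D) hDr
  have hDcomm : ∀ c ∈ D, ∀ c' ∈ D, c * c' = c' * c := by
    intro c hc c' hc'
    have hcm : IsMulCommutative ↥D := IsCyclic.isMulCommutative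
    have h1 := hcm.is_comm.comm (⟨c, hc⟩ : ↥D) ⟨c', hc'⟩
    exact congrArg Subtype.val h1
  intro x hx y hy
  obtain ⟨c, hc, b, hb, rfl⟩ := hdec x hx
  obtain ⟨c', hc', b', hb', rfl⟩ := hdec y hy
  have h1 : b * c' = c' * b := Subgroup.mem_centralizer_iff.mp hc'.2 b hb
  have h2 : b' * c = c * b' := Subgroup.mem_centralizer_iff.mp hc.2 b' hb'
  have h3 : c * c' = c' * c := hDcomm c hc c' hc'
  have h4 : b * b' = b' * b := hcommE b hb b' hb'
  calc c * b * (c' * b') = c * (b * c') * b' := by group
    _ = c * (c' * b) * b' := by rw [h1]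
    _ = (c * c') * (b * b') := by group
    _ = (c' * c) * (b' * b) := by rw [h3, h4]
    _ = c' * (c * b') * b := by group
    _ = c' * (b' * c) * b := by rw [h2]
    _ = c' * b' * (c * b) := by group

variable {G : Type*} [Group G] [Finite G]

/-- **Lemma Y**: a `p`-subgroup `Pg` with `A ≤ Z(Pg)`, `A` a maximal elementary abelian subgroup
of order `p ^ 2` of `G`, is abelian -/
theorem comm_of_le_centralizer (hG : IsMinSimpleOddOrder G) {p : ℕ} [Fact p.Prime]
    {A Pg : Subgroup G} (hAe : IsElementaryAbelian p A) (hAc : Nat.card ↥A = p ^ 2)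
    (hAmax : ∀ B : Subgroup G, IsElementaryAbelian p B → A ≤ B → B = A)
    (hPg : IsPGroup p ↥Pg) (hAPg : A ≤ Pg) (hcent : A ≤ centralizer (Pg : Set G)) :
    ∀ x ∈ Pg, ∀ y ∈ Pg, x * y = y * x := by
  have hpp : p.Prime := Fact.out
  have hcommA : ∀ a ∈ A, ∀ b ∈ A, a * b = b * a :=
    fun a ha b hb => Cfsg.Agent.Helper7.isElementaryAbelian_comm hAe ha hb
  have hp2 : p ≠ 2 := by
    rintro rfl
    have h1 : 2 ∣ Nat.card G := by
      have h2 : Nat.card ↥A ∣ Nat.card G := Subgroup.card_subgroup_dvd_card A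
      rw [hAc] at h2
      exact (dvd_pow_self 2 (by norm_num)).trans h2
    have h3 := hG.1
    rw [Nat.odd_iff] at h3
    omega
  have hodd : Odd p := hpp.odd_of_ne_two hp2
  obtain ⟨S, hPgS, hS⟩ := exists_isSylowIn_ge hPg (le_top : Pg ≤ ⊤)
  have hAS : A ≤ S := hAPg.trans hPgS
  have hPgC : ∀ x ∈ Pg, x ∈ centralizer (A : Set G) := by
    intro x hx
    apply Subgroup.mem_centralizer_iff.mpr
    intro a ha
    exact (Subgroup.mem_centralizer_iff.mp (hcent ha) x hx).symm
  suffices hsuff : ∀ x ∈ S, x ∈ centralizer (A : Set G) → ∀ y ∈ S, y ∈ centralizer (A : Set G) →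
      x * y = y * x from
    fun x hx y hy => hsuff x (hPgS hx) (hPgC x hx) y (hPgS hy) (hPgC y hy)
  by_cases hr : PRankLE p 2 ↥S
  · rcases Cfsg.Agent.S1412.result hG p hS.sylowOfTop hr with
      hc | ⟨P₁, P₂, hsup, hcomm, hna₁, hc₁, hexp, hcyc, hcl⟩
    · intro x hx _ y hy _
      have h1 := hc.is_comm.comm (⟨x, hx⟩ : ↥S) ⟨y, hy⟩
      exact congrArg Subtype.val h1
    · have hsup' : P₁ ⊔ P₂ = S := hsup
      have D := extraData_of_card_cube hna₁ hc₁ hexp
      have hN : P₂ ≤ normalizer (P₁ : Set G) := by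
        intro b hb
        apply Subgroup.centralizer_le_normalizer (P₁ : Set G)
        apply Subgroup.mem_centralizer_iff.mpr
        intro a ha
        exact hcomm a ha b hb
      have hdec : ∀ y ∈ S, ∃ a ∈ P₁, ∃ b ∈ P₂, y = a * b := by
        intro y hy
        rw [← hsup'] at hy
        exact exists_mul_of_mem_sup hN hy
      have hP₂c : ∀ u ∈ P₂, ∀ v ∈ P₂, u * v = v * u := by
        intro u hu v hv
        have hcm : IsMulCommutative ↥P₂ := IsCyclic.isMulCommutative
        have h1 := hcm.is_comm.comm (⟨u, hu⟩ : ↥P₂) ⟨v, hv⟩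
        exact congrArg Subtype.val h1
      -- `A ≤ P₁`
      have hAP₁ : A ≤ P₁ := by
        intro a ha
        obtain ⟨a₁, ha₁, b, hb, rfl⟩ := hdec a (hAS ha)
        have h1 : (a₁ * b) ^ p = b ^ p := by
          rw [(show Commute a₁ b from hcomm a₁ ha₁ b hb).mul_pow, D.pow a₁ ha₁, one_mul]
        have h2 : b ^ p = 1 := by rw [← h1]; exact hAe.2 _ ha
        have h3 : b ∈ P₁ ⊓ centralizer (P₁ : Set G) := by
          rw [← hcl]
          exact Subgroup.subset_closure ⟨hb, h2⟩
        exact P₁.mul_mem ha₁ h3.1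
      -- `C_{P₁}(A) = A`
      have hD' : P₁ ⊓ centralizer (A : Set G) = A := by
        symm
        have hle : A ≤ P₁ ⊓ centralizer (A : Set G) := by
          intro a ha
          refine ⟨hAP₁ ha, ?_⟩
          apply Subgroup.mem_centralizer_iff.mpr
          intro b hb
          exact hcommA b hb a ha
        apply Subgroup.eq_of_le_of_card_ge hle
        have h1 : Nat.card ↥(P₁ ⊓ centralizer (A : Set G) : Subgroup G) ∣ p ^ 3 :=
          D.card ▸ Subgroup.card_dvd_of_le inf_le_left
        obtain ⟨i, hi3, hi⟩ := (Nat.dvd_prime_pow hpp).mp h1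
        have hi3' : i ≠ 3 := by
          rintro rfl
          have h2 : P₁ ⊓ centralizer (A : Set G) = P₁ :=
            Subgroup.eq_of_le_of_card_ge inf_le_left (by rw [hi, D.card])
          -- then `A` is central in `P₁`
          have h3 : A ≤ P₁ ⊓ centralizer (P₁ : Set G) := by
            intro a ha
            refine ⟨hAP₁ ha, ?_⟩
            apply Subgroup.mem_centralizer_iff.mpr
            intro g hg
            have hg' : g ∈ P₁ ⊓ centralizer (A : Set G) := by rw [h2]; exact hg
            exact (Subgroup.mem_centralizer_iff.mp hg'.2 a ha).symm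
          have h4 := Subgroup.card_le_of_le h3
          rw [hAc, D.cardZ] at h4
          have := hpp.one_lt
          nlinarith
        rw [hi, hAc]
        exact Nat.pow_le_pow_right hpp.pos (by omega)
      intro x hx hxA y hy hyA
      obtain ⟨a, ha, b, hb, rfl⟩ := hdec x hx
      obtain ⟨a', ha', b', hb', rfl⟩ := hdec y hy
      have hbA : ∀ b ∈ P₂, b ∈ centralizer (A : Set G) := by
        intro b hb
        apply Subgroup.mem_centralizer_iff.mpr
        intro u hu
        exact hcomm u (hAP₁ hu) b hb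
      have haA : a ∈ A := by
        rw [← hD']
        refine ⟨ha, ?_⟩
        have : a = a * b * b⁻¹ := by group
        rw [this]
        exact (centralizer (A : Set G)).mul_mem hxA ((centralizer (A : Set G)).inv_mem (hbA b hb))
      have ha'A : a' ∈ A := by
        rw [← hD']
        refine ⟨ha', ?_⟩
        have : a' = a' * b' * b'⁻¹ := by group
        rw [this]
        exact (centralizer (A : Set G)).mul_mem hyA
          ((centralizer (A : Set G)).inv_mem (hbA b' hb'))
      have h1 : a' * b = b * a' := hcomm a' ha' b hb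
      have h2 : a * b' = b' * a := hcomm a ha b' hb'
      have h3 : a * a' = a' * a := hcommA a haA a' ha'A
      have h4 : b * b' = b' * b := hP₂c b hb b' hb'
      calc a * b * (a' * b') = a * (b * a') * b' := by group
        _ = a * (a' * b) * b' := by rw [h1]
        _ = (a * a') * (b * b') := by group
        _ = (a' * a) * (b' * b) := by rw [h3, h4]
        _ = a' * (a * b') * b := by group
        _ = a' * (b' * a) * b := by rw [h2]
        _ = a' * b' * (a * b) := by group
  · -- the narrow case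
    set E : Subgroup ↥S := A.subgroupOf S with hE
    have hEe : IsElementaryAbelian p E := by
      constructor
      · refine ⟨⟨fun a b => Subtype.ext (Subtype.ext ?_)⟩⟩
        exact hcommA _ (Subgroup.mem_subgroupOf.mp a.2) _ (Subgroup.mem_subgroupOf.mp b.2)
      · intro a ha
        apply Subtype.ext
        exact hAe.2 a (Subgroup.mem_subgroupOf.mp ha)
    have hEc : Nat.card ↥E = p ^ 2 := by
      rw [← hAc]
      exact Nat.card_congr (Subgroup.subgroupOfEquivOfLe hAS).toEquiv
    have hEmax : ∀ B : Subgroup ↥S, IsElementaryAbelian p B → E ≤ B → B = E := by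
      intro B hBe hEB
      have hBe' : IsElementaryAbelian p (B.map S.subtype) := by
        constructor
        · refine ⟨⟨fun a b => Subtype.ext ?_⟩⟩
          obtain ⟨u, hu, hua⟩ := a.2
          obtain ⟨v, hv, hvb⟩ := b.2
          have h1 := Cfsg.Agent.Helper7.isElementaryAbelian_comm hBe hu hv
          show (a : G) * b = b * a
          rw [← hua, ← hvb]
          exact congrArg Subtype.val h1
        · rintro _ ⟨u, hu, rfl⟩
          have := hBe.2 u hu
          exact congrArg Subtype.val this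
      have hAB : A ≤ B.map S.subtype := by
        intro a ha
        exact ⟨⟨a, hAS ha⟩, hEB (Subgroup.mem_subgroupOf.mpr ha), rfl⟩
      have h1 := hAmax _ hBe' hAB
      ext b
      constructor
      · intro hb
        apply Subgroup.mem_subgroupOf.mpr
        rw [← h1]
        exact ⟨b, hb, rfl⟩
      · intro hb
        exact hEB hb
    obtain ⟨hETc, -, -, -, hidx⟩ :=
      Cfsg.Agent.S1453.result p hp2 hS.isPGroup hr E hEe hEc hEmax
    have key := comm_of_index hodd hS.isPGroup hidx hEe hEc hEmax hETc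
    intro x hx hxA y hy hyA
    have hmem : ∀ x (hx : x ∈ S), x ∈ centralizer (A : Set G) →
        (⟨x, hx⟩ : ↥S) ∈ centralizer (E : Set ↥S) := by
      intro x hx hxA
      apply Subgroup.mem_centralizer_iff.mpr
      intro e he
      apply Subtype.ext
      exact Subgroup.mem_centralizer_iff.mp hxA e (Subgroup.mem_subgroupOf.mp he)
    have := key ⟨x, hx⟩ (hmem x hx hxA) ⟨y, hy⟩ (hmem y hy hyA)
    exact congrArg Subtype.val this

end Cfsg.Agent.Helper22.BG11Y
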