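import Mathlib
import Cfsg.Agent.Lib.Helper22.BG127E
import Cfsg.Agent.S1453

/-!
# Bender-Glauberman Corollary 12.7, part F (helper22): `p`-th powers and the rank one case
-/

set_option autoImplicit false

namespace Cfsg.Agent.Helper22.BG127

open Cfsg Subgroup
open Cfsg.Agent.Helper22.BG13
open Cfsg.Agent.Helper14.BGTrans Cfsg.Agent.Helper14.BGUniq
open Cfsg.Agent.Helper10 (IsPiNum)
open Cfsg.Agent.Helper15 (IsSylowIn exists_isSylowIn_ge)

universe u

variable {G : Type u} [Group G] [Finite G]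

/-- **the `p`-th powers of order at most `p` in `C_T(A)` are central in `T`** -/
theorem pow_central (hG : IsMinSimpleOddOrder G) (h1408 : Hyp1408 G) (h1412 : Hyp1412 G)
    {M : Subgroup G} (hM : IsCoatom M) {p : ℕ} [Fact p.Prime] (hp : p ∈ tau2 M)
    {A : Subgroup G} (hAM : A ≤ M) (hAe : IsElementaryAbelian p A) (hAc : Nat.card ↥A = p ^ 2)
    {T : Subgroup G} (hT : IsSylowIn p T ⊤) (hAT : A ≤ T) (hTna : ¬ IsMulCommutative ↥T) :
    ∀ x ∈ T, x ∈ centralizer (A : Set G) → (x ^ p) ^ p = 1 → ∀ y ∈ T, y * x ^ p = x ^ p * y := by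
  have hpp : p.Prime := Fact.out
  intro x hxT hxA hxp
  by_cases hr : PRankLE p 2 ↥T
  · rcases h1412 p hT.sylowOfTop hr with hc | ⟨P₁, P₂, hsup, hcomm, -, -, hexp, hcyc, hcl⟩
    · exact absurd hc hTna
    · exact pow_central_of_central_product (T := T) hsup hcomm hexp hcyc hcl hxT hxp
  · -- the narrow case
    have hp2 : p ≠ 2 := by
      rintro rfl
      have h1 : 2 ∣ Nat.card G := by
        have h2 : Nat.card ↥A ∣ Nat.card G := Subgroup.card_subgroup_dvd_card A
        rw [hAc] at h2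
        exact (dvd_pow_self 2 (by norm_num)).trans h2
      have h3 := hG.1
      rw [Nat.odd_iff] at h3
      omega
    have hmax := (h1408 M hM p hp.2.1 hp.2.2.1 hp.2.2.2).2 A hAM hAe hAc
    set E : Subgroup ↥T := A.subgroupOf T with hE
    have hEe : IsElementaryAbelian p E := by
      constructor
      · refine ⟨⟨fun a b => Subtype.ext (Subtype.ext ?_)⟩⟩
        exact Cfsg.Agent.Helper7.isElementaryAbelian_comm hAe
          (Subgroup.mem_subgroupOf.mp a.2) (Subgroup.mem_subgroupOf.mp b.2)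
      · intro a ha
        apply Subtype.ext
        exact hAe.2 a (Subgroup.mem_subgroupOf.mp ha)
    have hEc : Nat.card ↥E = p ^ 2 := by
      rw [← hAc]
      exact Nat.card_congr (Subgroup.subgroupOfEquivOfLe hAT).toEquiv
    have hEmax : ∀ B : Subgroup ↥T, IsElementaryAbelian p B → E ≤ B → B = E := by
      intro B hBe hEB
      have hBe' : IsElementaryAbelian p (B.map T.subtype) :=
        Cfsg.Agent.Helper21.BG143.IsElementaryAbelian_map T.subtype hBe
      have hAB : A ≤ B.map T.subtype := by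
        intro a ha
        exact ⟨⟨a, hAT ha⟩, hEB (Subgroup.mem_subgroupOf.mpr ha), rfl⟩
      have h1 := hmax _ hBe' hAB
      ext b
      constructor
      · intro hb
        apply Subgroup.mem_subgroupOf.mpr
        rw [← h1]
        exact ⟨b, hb, rfl⟩
      · intro hb
        exact hEB hb
    obtain ⟨hETc, -, -, -, hidx⟩ :=
      Cfsg.Agent.S1453.result p hp2 hT.isPGroup hr E hEe hEc hEmax
    have hxE : (⟨x, hxT⟩ : ↥T) ∈ centralizer (E : Set ↥T) := by
      apply Subgroup.mem_centralizer_iff.mpr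
      intro e he
      apply Subtype.ext
      exact Subgroup.mem_centralizer_iff.mp hxA e (Subgroup.mem_subgroupOf.mp he)
    have hxp' : ((⟨x, hxT⟩ : ↥T) ^ p) ^ p = 1 := by
      apply Subtype.ext
      exact hxp
    have h2 := pow_mem_center_of_index hT.isPGroup hidx (Subgroup.center_le_centralizer _)
      hEe hEc hEmax hETc hxE hxp'
    intro y hy
    have h3 := Subgroup.mem_center_iff.mp h2 ⟨y, hy⟩
    exact congrArg Subtype.val h3

/-- **the rank one case**: a prime `r` with a nontrivial normal `r`-subgroup of `M` and `M` of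
`r`-rank one lies in `σ(M)` -/
theorem mem_sigma_of_rank_one (hG : IsMinSimpleOddOrder G) {M : Subgroup G} (hM : IsCoatom M)
    {r : ℕ} [Fact r.Prime] (hr1 : PRankLE r 1 ↥M) {R : Subgroup G} (hRr : IsPGroup r ↥R)
    (hR1 : R ≠ ⊥) (hRM : R ≤ M) (hMR : M ≤ normalizer (R : Set G)) : r ∈ sigma M := by
  have hrr : r.Prime := Fact.out
  obtain ⟨Q, hRQ, hQ⟩ := exists_isSylowIn_ge hRr hRM
  obtain ⟨z, hzR, hz1, hzr, -⟩ := exists_central_of_isPGroup hRr hR1
  have hQ1 : Q ≠ ⊥ := fun h => hR1 (le_bot_iff.mp (h ▸ hRQ))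
  obtain ⟨z', hz'Q, hz'1, hz'r, hz'c⟩ := exists_central_of_isPGroup hQ.isPGroup hQ1
  have hz'o : orderOf z' = r := orderOf_eq_prime hz'r hz'1
  have hXc' : Nat.card ↥(zpowers z') = r := by rw [Nat.card_zpowers, hz'o]
  -- elements of order dividing `r` of `Q` lie in `⟨z'⟩`
  have hU' : ∀ y ∈ Q, y ^ r = 1 → y ∈ zpowers z' := by
    intro y hyQ hyr
    by_contra hyX
    have hyC : y ∈ centralizer ((zpowers z' : Subgroup G) : Set G) := by
      rw [Cfsg.Agent.Helper22.centralizer_zpowers_eq]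
      exact Subgroup.mem_centralizer_singleton_iff.mpr (hz'c y hyQ)
    obtain ⟨hBe, hBc⟩ := card_sup_zpowers_eq_sq hXc' hyC hyr hyX
    have hBM : zpowers z' ⊔ zpowers y ≤ M := by
      apply sup_le
      · rw [Subgroup.zpowers_le]; exact hQ.le hz'Q
      · rw [Subgroup.zpowers_le]; exact hQ.le hyQ
    exact Cfsg.Agent.Helper21.BG143.not_pRankLE_one_of_elemAb_sq hrr hBM hBe hBc hr1
  have hXeq : zpowers z' = zpowers z :=
    eq_zpowers_of_mem_of_ne_one hrr hXc' (hU' z (hRQ hzR) hzr) hz1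
  set X := zpowers z with hX
  have hU : ∀ y ∈ Q, y ^ r = 1 → y ∈ X := fun y hy hyr => hXeq ▸ hU' y hy hyr
  have hXR : X ≤ R := by rw [hX, Subgroup.zpowers_le]; exact hzR
  have hXr : ∀ w ∈ X, w ^ r = 1 := by
    intro w hw
    rw [← hXeq] at hw
    obtain ⟨n, rfl⟩ := Subgroup.mem_zpowers_iff.mp hw
    rw [← zpow_natCast, ← zpow_mul, mul_comm, zpow_mul, zpow_natCast, hz'r, one_zpow]
  have hconjr : ∀ (g w : G), w ^ r = 1 → (g * w * g⁻¹) ^ r = 1 := by
    intro g w hw
    rw [conj_pow, hw]; group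
  have hNQ : normalizer (Q : Set G) ≤ normalizer (X : Set G) := by
    apply le_normalizer_of_forall_conj_mem
    intro g hg w hw
    apply hU
    · exact (Subgroup.mem_normalizer_iff.mp hg w).mp (hRQ (hXR hw))
    · exact hconjr g w (hXr w hw)
  have hMX : M ≤ normalizer (X : Set G) := by
    apply le_normalizer_of_forall_conj_mem
    intro g hg w hw
    apply hU
    · exact hRQ ((Subgroup.mem_normalizer_iff.mp (hMR hg) w).mp (hXR hw))
    · exact hconjr g w (hXr w hw)
  have hX1 : X ≠ ⊥ := fun h => hz1 (Subgroup.zpowers_eq_bot.mp h)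
  have hX2 : X ≠ ⊤ := by
    intro h
    apply hM.1
    rw [eq_top_iff, ← h]
    exact hXR.trans hRM
  have hNX : normalizer (X : Set G) = M := by
    by_contra hne
    have hlt : M < normalizer (X : Set G) := lt_of_le_of_ne hMX (Ne.symm hne)
    exact normalizer_ne_top_of_simple hG hX1 hX2 (hM.2 _ hlt)
  refine ⟨hrr, ?_, hQ.toSylow, ?_⟩
  · exact (dvd_card_of_isPGroup_ne_bot hRr hR1).trans (Subgroup.card_dvd_of_le hRM)
  · rw [hQ.map_toSylow]
    exact hNQ.trans hNX.le

end Cfsg.Agent.Helper22.BG127
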