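import Mathlib
import Cfsg.Agent.Lib.Helper22.BG127F
import Cfsg.Agent.Lib.Helper7.Fitting2

/-!
# Bender-Glauberman Corollary 12.7, part G (helper22): the Fitting subgroup, and the corollary
-/

set_option autoImplicit false

namespace Cfsg.Agent.Helper22.BG127

open Cfsg Subgroup
open Cfsg.Agent.Helper22.BG13
open Cfsg.Agent.Helper14.BGTrans Cfsg.Agent.Helper14.BGUniq
open Cfsg.Agent.Helper10 (IsPiNum)
open Cfsg.Agent.Helper15 (IsSylowIn exists_isSylowIn_ge)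

universe u

variable {G : Type u} [Group G] [Finite G]

omit [Finite G] in
/-- the normalizer of a subgroup normalizes its centralizer -/
theorem normalizer_le_normalizer_centralizer (K : Subgroup G) :
    normalizer (K : Set G) ≤ normalizer ((centralizer (K : Set G) : Subgroup G) : Set G) := by
  apply le_normalizer_of_forall_conj_mem
  intro g hg x hx
  apply Subgroup.mem_centralizer_iff.mpr
  intro s hs
  have hs' : g⁻¹ * s * g⁻¹⁻¹ ∈ K :=
    (Subgroup.mem_normalizer_iff.mp ((normalizer (K : Set G)).inv_mem hg) s).mp hs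
  have h1 := Subgroup.mem_centralizer_iff.mp hx _ hs'
  calc s * (g * x * g⁻¹) = g * ((g⁻¹ * s * g⁻¹⁻¹) * x) * g⁻¹ := by group
    _ = g * (x * (g⁻¹ * s * g⁻¹⁻¹)) * g⁻¹ := by rw [h1]
    _ = g * x * g⁻¹ * s := by group

/-- **BG 12.7(b), second part**: `F(M) = M_σ × A₀` -/
theorem fitting_eq (hG : IsMinSimpleOddOrder G) (h1350 : Hyp1350 G) (h1405 : Hyp1405 G)
    (h1417 : Hyp1417 G)
    {M : Subgroup G} (hM : IsCoatom M) {E : Subgroup G} (hE : IsComplIn E (sigmaCore M) M)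
    {p : ℕ} [Fact p.Prime] (hp : p ∈ tau2 M) {A : Subgroup G}
    (hAE : A ≤ E) (hAe : IsElementaryAbelian p A) (hAc : Nat.card ↥A = p ^ 2)
    (htau2 : tau2 M = {p}) (hEA : E ≤ normalizer (A : Set G))
    {S₀ T : Subgroup G} {t : G} (hS₀ : IsSylowIn p S₀ M) (hAS₀ : A ≤ S₀)
    (hΩ : ∀ x ∈ S₀, x ^ p = 1 ↔ x ∈ A) (hcomm : ∀ x ∈ S₀, ∀ y ∈ S₀, x * y = y * x)
    (hS₀T : S₀ ≤ T) (htT : t ∈ T)
    (hA₀t : ∀ y ∈ A ⊓ centralizer (sigmaCore M : Set G), t * y = y * t → y = 1)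
    (hK : ∀ x ∈ T, x ∈ centralizer (A : Set G) → (x ^ p) ^ p = 1 →
      ∀ y ∈ T, y * x ^ p = x ^ p * y) :
    fittingOf M = sigmaCore M ⊔ (A ⊓ centralizer (sigmaCore M : Set G)) := by
  have hpp : p.Prime := Fact.out
  have hAM : A ≤ M := hAE.trans hE.1
  obtain ⟨hnil, -, -, -, -, -⟩ := h1417 M hM p hp A ⟨hAM, hAe, hAc⟩
  set σ := sigmaCore M with hσ
  set A₀ := A ⊓ centralizer (σ : Set G) with hA₀
  have hMσ : M ≤ normalizer (σ : Set G) := le_normalizer_sigmaCore M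
  have hσM : σ ≤ M := sigmaCore_le M
  have hA₀M : A₀ ≤ M := inf_le_left.trans hAM
  -- `A₀` is normal in `M`
  have hEA₀ : E ≤ normalizer (A₀ : Set G) := by
    refine le_trans ?_ (Subgroup.inf_normalizer_le_normalizer_inf)
    exact le_inf hEA ((hE.1.trans hMσ).trans (normalizer_le_normalizer_centralizer σ))
  have hσA₀ : σ ≤ normalizer (A₀ : Set G) := by
    intro s hs
    apply Subgroup.centralizer_le_normalizer (A₀ : Set G)
    apply Subgroup.mem_centralizer_iff.mpr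
    intro a ha
    exact (Subgroup.mem_centralizer_iff.mp ha.2 s hs).symm
  have hMA₀ : M ≤ normalizer (A₀ : Set G) := by
    intro m hm
    obtain ⟨e, he, s, hs, rfl⟩ := hE.2.2.2 m hm
    exact (normalizer (A₀ : Set G)).mul_mem (hEA₀ he) (hσA₀ hs)
  apply le_antisymm
  swap
  · -- `M_σ × A₀ ≤ F(M)`
    apply sup_le
    · have h1 : Group.IsNilpotent ↥(piCore (sigma M) ↥M) :=
        (Group.isNilpotent_congr
          ((piCore (sigma M) ↥M).equivMapOfInjective M.subtype M.subtype_injective)).mpr hnil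
      exact Subgroup.map_mono (Cfsg.Agent.Helper7.le_fittingSubgroup _ h1)
    · have hn : (A₀.subgroupOf M).Normal :=
        (Subgroup.normal_subgroupOf_iff_le_normalizer hA₀M).mpr hMA₀
      have hA₀p : IsPGroup p ↥(A₀.subgroupOf M) :=
        ((IsPGroup.of_card hAc).to_le (inf_le_left : A₀ ≤ A)).comap_subtype
      have h1 : Group.IsNilpotent ↥(A₀.subgroupOf M) := hA₀p.isNilpotent
      have h2 := Subgroup.map_mono (f := M.subtype)
        (Cfsg.Agent.Helper7.le_fittingSubgroup (A₀.subgroupOf M) h1)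
      rwa [Subgroup.map_subgroupOf_eq_of_le hA₀M] at h2
  -- `F(M) ≤ M_σ × A₀`
  have hFnil : Group.IsNilpotent ↥(fittingOf M) :=
    Cfsg.Agent.Helper7.isNilpotent_map_subtype _ Cfsg.Agent.Helper7.fittingSubgroup_isNilpotent
  have hFM : fittingOf M ≤ M := Subgroup.map_subtype_le _
  have hMF : M ≤ normalizer ((fittingOf M : Subgroup G) : Set G) := by
    have : (Cfsg.fittingSubgroup ↥M).Normal := Cfsg.Agent.Helper7.fittingSubgroup_normal'
    exact le_normalizer_map_subtype M _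
  apply le_of_forall_sylow_le
  intro r _ R hR
  have hrr : r.Prime := Fact.out
  have hRM : R ≤ M := hR.le.trans hFM
  have hMR : M ≤ normalizer (R : Set G) := le_normalizer_sylow_of_nilpotent_normal hMF hFnil hR
  by_cases hR1 : R = ⊥
  · rw [hR1]; exact bot_le
  by_cases hrσ : r ∈ sigma M
  · exact (le_sigmaCore_of_isPiNum h1350 hM hRM (isPiNum_of_isPGroup hrσ hR.isPGroup)).trans
      le_sup_left
  -- `R` centralizes `M_σ`
  have hRσ0 : R ⊓ σ = ⊥ := by
    by_contra hne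
    have h1 : r ∣ Nat.card ↥(R ⊓ σ : Subgroup G) :=
      dvd_card_of_isPGroup_ne_bot (hR.isPGroup.to_le inf_le_left) hne
    exact hrσ (isPiNum_card_sigmaCore M r hrr (h1.trans (Subgroup.card_dvd_of_le inf_le_right)))
  have hRσ : ∀ x ∈ R, ∀ s ∈ σ, s * x = x * s := by
    intro x hx s hs
    have h1 : x * s * x⁻¹ * s⁻¹ ∈ σ :=
      σ.mul_mem ((Subgroup.mem_normalizer_iff.mp (hMσ (hRM hx)) s).mp hs) (σ.inv_mem hs)
    have h2 : x * s * x⁻¹ * s⁻¹ ∈ R := by
      have h3 : s * x⁻¹ * s⁻¹ ∈ R :=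
        (Subgroup.mem_normalizer_iff.mp (hMR (hσM hs)) x⁻¹).mp (R.inv_mem hx)
      have h4 : x * s * x⁻¹ * s⁻¹ = x * (s * x⁻¹ * s⁻¹) := by group
      rw [h4]; exact R.mul_mem hx h3
    have h5 : x * s * x⁻¹ * s⁻¹ = 1 := by
      have : x * s * x⁻¹ * s⁻¹ ∈ R ⊓ σ := ⟨h2, h1⟩
      rw [hRσ0] at this
      exact Subgroup.mem_bot.mp this
    calc s * x = (x * s * x⁻¹ * s⁻¹)⁻¹ * (x * s) := by group
      _ = x * s := by rw [h5, inv_one, one_mul]
  have hrdM : r ∣ Nat.card ↥M :=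
    (dvd_card_of_isPGroup_ne_bot hR.isPGroup hR1).trans (Subgroup.card_dvd_of_le hRM)
  have hr2 : PRankLE r 2 ↥M :=
    Cfsg.Agent.Helper21.BG143.pRankLE_two_of_not_mem_sigma h1405 hM hrr hrdM hrσ
  by_cases hr1 : PRankLE r 1 ↥M
  · exact absurd (mem_sigma_of_rank_one hG hM hr1 hR.isPGroup hR1 hRM hMR) hrσ
  have hrτ : r ∈ tau2 M := ⟨hrr, hrσ, hr2, hr1⟩
  rw [htau2, Set.mem_singleton_iff] at hrτ
  subst hrτ
  -- `R ≤ S₀`
  have hRS₀ : R ≤ S₀ := by
    have h1 : IsPGroup r ↥(R ⊔ S₀ : Subgroup G) :=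
      IsPGroup.to_sup_of_normal_left' hR.isPGroup hS₀.isPGroup (hS₀.le.trans hMR)
    have h2 := hS₀.eq_of_le h1 le_sup_right (sup_le hRM hS₀.le)
    rw [← h2]; exact le_sup_left
  have hS₀A : ∀ x ∈ S₀, x ∈ centralizer (A : Set G) := by
    intro x hx
    apply Subgroup.mem_centralizer_iff.mpr
    intro a ha
    exact hcomm a (hAS₀ ha) x hx
  -- `R` has exponent `r`
  have hexp : ∀ x ∈ R, x ^ r = 1 := by
    intro x hx
    by_contra hxr
    obtain ⟨k, hk⟩ := (IsPGroup.iff_orderOf.mp hR.isPGroup) ⟨x, hx⟩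
    rw [Subgroup.orderOf_mk] at hk
    have hk2 : 2 ≤ k := by
      by_contra hlt
      push Not at hlt
      apply hxr
      have h1 : orderOf x ∣ r := by
        rw [hk]
        calc r ^ k ∣ r ^ 1 := pow_dvd_pow r (by omega)
          _ = r := pow_one r
      exact orderOf_dvd_iff_pow_eq_one.mp h1
    set y := x ^ (r ^ (k - 2)) with hy
    have hyR : y ∈ R := R.pow_mem hx _
    have hyp : y ^ r = x ^ (r ^ (k - 1)) := by
      rw [hy, ← pow_mul, ← pow_succ]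
      congr 2
      omega
    have hypp : (y ^ r) ^ r = 1 := by
      rw [hyp, ← pow_mul, ← pow_succ, show k - 1 + 1 = k by omega, ← hk]
      exact pow_orderOf_eq_one x
    have hyp1 : y ^ r ≠ 1 := by
      rw [hyp]
      intro h
      have h1 : orderOf x ∣ r ^ (k - 1) := orderOf_dvd_of_pow_eq_one h
      rw [hk] at h1
      have h2 := (Nat.pow_dvd_pow_iff_le_right hrr.one_lt).mp h1
      omega
    have hyS₀ : y ∈ S₀ := hRS₀ hyR
    have h1 := hK y (hS₀T hyS₀) (hS₀A y hyS₀) hypp t htT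
    have hyA : y ^ r ∈ A := (hΩ _ (S₀.pow_mem hyS₀ r)).mp hypp
    have hyC : y ^ r ∈ centralizer (σ : Set G) := by
      apply Subgroup.mem_centralizer_iff.mpr
      intro s hs
      exact hRσ _ (R.pow_mem hyR r) s hs
    exact hyp1 (hA₀t _ ⟨hyA, hyC⟩ h1)
  intro x hx
  apply (le_sup_right : A₀ ≤ σ ⊔ A₀)
  refine ⟨(hΩ x (hRS₀ hx)).mp (hexp x hx), ?_⟩
  apply Subgroup.mem_centralizer_iff.mpr
  intro s hs
  exact hRσ x hx s hs

/-- **BG Corollary 12.7** (the statement of S1419) from the earlier results -/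
theorem theorem_12_7 (hG : IsMinSimpleOddOrder G) (h1403 : Hyp1403 G) (h1350 : Hyp1350 G)
    (h1405 : Hyp1405 G) (h1408 : Hyp1408 G) (h1412 : Hyp1412 G) (h1414 : Hyp1414 G)
    (h1416 : Hyp1416 G) (h1417 : Hyp1417 G) (h1418 : Hyp1418 G)
    (M : Subgroup G) (hM : IsCoatom M) (E : Subgroup G) (hE : IsComplIn E (sigmaCore M) M)
    (p : ℕ) [Fact p.Prime] (hp : p ∈ tau2 M)
    (hS : ∀ S : Sylow p G, ¬ IsMulCommutative ↥(S : Subgroup G)) (A : Subgroup G)
    (hA : A ≤ E ∧ IsElementaryAbelian p A ∧ Nat.card ↥A = p ^ 2) :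
    tau2 M = {p} ∧
      (Nat.card ↥(A ⊓ centralizer (sigmaCore M : Set G) : Subgroup G) = p ∧
        fittingOf M = sigmaCore M ⊔ (A ⊓ centralizer (sigmaCore M : Set G))) ∧
      ∀ X : Subgroup G, X ≤ E → Nat.card ↥X = p →
        X ≠ A ⊓ centralizer (sigmaCore M : Set G) →
        sigmaCore M ⊓ centralizer (X : Set G) = ⊥ ∧ ¬ centralizer (X : Set G) ≤ M := by
  obtain ⟨hAE, hAe, hAc⟩ := hA
  have hAM : A ≤ M := hAE.trans hE.1
  have hCAM : centralizer (A : Set G) ≤ M := (h1416 M hM p A ⟨hAM, hAe, hAc⟩).1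
  have hEA : E ≤ normalizer (A : Set G) := (h1418 M hM E hE p hp A ⟨hAE, hAe, hAc⟩).1.1
  obtain ⟨S₀, T, t, z, hS₀, hAS₀, hΩ, hcomm, hT, hS₀T, hTM, hTna, htT, htM, htA, -, -, -⟩ :=
    exists_setup h1416 h1417 hM hp hS hAM hAe hAc
  have htp : IsPGroup p ↥(zpowers t) := hT.isPGroup.to_le (Subgroup.zpowers_le.mpr htT)
  have ha := tau2_eq hG h1403 h1350 h1405 h1408 h1414 h1416 h1417 h1418 hM hE hp hS hAE hAe hAc
  obtain ⟨hb1, hb2, hc⟩ := partBC hG h1405 h1417 h1418 hM hE hp hAE hAe hAc hCAM htp htM htA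
  have hK := pow_central hG h1408 h1412 hM hp hAM hAe hAc hT (hAS₀.trans hS₀T) hTna
  have hF := fitting_eq hG h1350 h1405 h1417 hM hE hp hAE hAe hAc ha hEA hS₀ hAS₀ hΩ hcomm
    hS₀T htT hb2 hK
  exact ⟨ha, ⟨hb1, hF⟩, hc⟩

end Cfsg.Agent.Helper22.BG127
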