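import Mathlib
import Cfsg.Agent.Lib.Helper22.BG127G
import Cfsg.Agent.Lib.Helper22.Burnside
import Cfsg.Agent.S1443

/-!
# Bender-Glauberman Theorem 12.12 (S1421), the case of a nonabelian Sylow subgroup, part A
(helper22): general lemmas

* subgroups with the same prime power element orders have the same exponent;
* the subgroup of `n`-th powers of a commutative subgroup;
* Burnside's normal `p`-complement theorem inside a subgroup;
* an abelian Sylow `p`-subgroup `S₀` (`p` odd) of a group `D` centralizing `Ω₁(S₀)` is central in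
  its normalizer.
-/

set_option autoImplicit false

namespace Cfsg.Agent.Helper22.BG1221

open Cfsg Subgroup
open Cfsg.Agent.Helper22.BG13 Cfsg.Agent.Helper22.BG127
open Cfsg.Agent.Helper15 (IsSylowIn exists_isSylowIn_ge)

section generic

variable {G : Type*} [Group G]

/-- subgroups with the same prime power element orders have the same exponent -/
theorem exponent_eq_of_prime_pow [Finite G] {H₀ H : Subgroup G} (hle : H₀ ≤ H)
    (h : ∀ x ∈ H, ∀ q k : ℕ, q.Prime → orderOf x = q ^ k → ∃ y ∈ H₀, orderOf y = q ^ k) :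
    Monoid.exponent ↥H₀ = Monoid.exponent ↥H := by
  apply Nat.dvd_antisymm
  · exact Monoid.exponent_dvd_of_monoidHom (Subgroup.inclusion hle)
      (Subgroup.inclusion_injective hle)
  · apply Monoid.exponent_dvd_of_forall_pow_eq_one
    intro x
    rw [← orderOf_dvd_iff_pow_eq_one, Nat.dvd_iff_prime_pow_dvd_dvd]
    intro q k hq hqk
    have hpos : orderOf x ≠ 0 := (orderOf_pos x).ne'
    have h1 : orderOf (x ^ (orderOf x / q ^ k)) = q ^ k := orderOf_pow_orderOf_div hpos hqk
    obtain ⟨y, hy, hyo⟩ := h ((x ^ (orderOf x / q ^ k) : ↥H) : G)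
      (x ^ (orderOf x / q ^ k)).2 q k hq (by rw [Subgroup.orderOf_coe, h1])
    have h2 := Monoid.order_dvd_exponent (⟨y, hy⟩ : ↥H₀)
    rwa [Subgroup.orderOf_mk, hyo] at h2

/-- an element fixing no point commutes with no point: passing to a power -/
theorem inf_centralizer_eq_bot_of_pow {σ : Subgroup G} {e : G} (n : ℕ)
    (h : σ ⊓ centralizer ({e ^ n} : Set G) = ⊥) : σ ⊓ centralizer ({e} : Set G) = ⊥ := by
  rw [eq_bot_iff, ← h]
  apply inf_le_inf_left
  intro x hx
  rw [Subgroup.mem_centralizer_singleton_iff] at hx ⊢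
  exact ((show Commute x e from hx).pow_right n).eq

/-- an element two coprime powers of which lie in a subgroup lies in the subgroup -/
theorem mem_of_pow_mem_of_coprime (H : Subgroup G) {c : G} {a b : ℕ} (hab : a.Coprime b)
    (ha : c ^ a ∈ H) (hb : c ^ b ∈ H) : c ∈ H := by
  have h0 : ((Nat.gcd a b : ℕ) : ℤ) = 1 := by rw [hab.gcd_eq_one, Nat.cast_one]
  rw [Nat.gcd_eq_gcd_ab] at h0
  have h2 : c = (c ^ a) ^ (Nat.gcdA a b) * (c ^ b) ^ (Nat.gcdB a b) := by
    rw [← zpow_natCast, ← zpow_natCast, ← zpow_mul, ← zpow_mul, ← zpow_add, h0, zpow_one]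
  rw [h2]
  exact H.mul_mem (H.zpow_mem ha _) (H.zpow_mem hb _)

/-- the `n`-th powers of a commutative subgroup -/
def powSub (S : Subgroup G) (hS : ∀ x ∈ S, ∀ y ∈ S, x * y = y * x) (n : ℕ) : Subgroup G where
  carrier := {x | ∃ s ∈ S, s ^ n = x}
  one_mem' := ⟨1, S.one_mem, one_pow n⟩
  mul_mem' := by
    rintro _ _ ⟨s, hs, rfl⟩ ⟨s', hs', rfl⟩
    exact ⟨s * s', S.mul_mem hs hs', (show Commute s s' from hS s hs s' hs').mul_pow n⟩
  inv_mem' := by
    rintro _ ⟨s, hs, rfl⟩
    exact ⟨s⁻¹, S.inv_mem hs, inv_pow s n⟩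

theorem mem_powSub {S : Subgroup G} {hS : ∀ x ∈ S, ∀ y ∈ S, x * y = y * x} {n : ℕ} {x : G} :
    x ∈ powSub S hS n ↔ ∃ s ∈ S, s ^ n = x := Iff.rfl

theorem powSub_le (S : Subgroup G) (hS : ∀ x ∈ S, ∀ y ∈ S, x * y = y * x) (n : ℕ) :
    powSub S hS n ≤ S := by
  rintro _ ⟨s, hs, rfl⟩
  exact S.pow_mem hs n

/-- a subgroup normalizing two subgroups normalizes their join -/
theorem le_normalizer_sup {T X Y : Subgroup G} (hX : T ≤ normalizer (X : Set G))
    (hY : T ≤ normalizer (Y : Set G)) : T ≤ normalizer ((X ⊔ Y : Subgroup G) : Set G) := by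
  intro t ht
  apply Cfsg.Agent.Helper15.mem_normalizer_of_map_conj_eq
  rw [Subgroup.map_sup, Cfsg.Agent.Helper15.map_conj_eq_of_mem_normalizer (hX ht),
    Cfsg.Agent.Helper15.map_conj_eq_of_mem_normalizer (hY ht)]

variable [Finite G] {p : ℕ} [Fact p.Prime]

/-- **Burnside's theorem inside a subgroup**: a Sylow subgroup `S₀` of `D` central in its
normalizer in `D` has a normal complement in `D`, which is normalized by everything that
normalizes `D` -/
theorem exists_pcomplement {D S₀ L : Subgroup G} (hS₀ : IsSylowIn p S₀ D)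
    (hNC : ∀ c ∈ D, c ∈ normalizer (S₀ : Set G) → c ∈ centralizer (S₀ : Set G))
    (hLD : L ≤ normalizer (D : Set G)) :
    ∃ W : Subgroup G, W ≤ D ∧ L ≤ normalizer (W : Set G) ∧ (Nat.card ↥W).Coprime p ∧
      (∀ x ∈ D, (orderOf x).Coprime p → x ∈ W) ∧ ∀ c ∈ D, ∃ w ∈ W, ∃ s ∈ S₀, c = w * s := by
  have hpp : p.Prime := Fact.out
  set P : Sylow p ↥D := hS₀.toSylow with hP
  have hPcoe : (P : Subgroup ↥D) = S₀.subgroupOf D := hS₀.coe_toSylow
  have hP' : normalizer ((P : Subgroup ↥D) : Set ↥D) ≤ centralizer ((P : Subgroup ↥D) : Set ↥D) := by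
    intro c hc
    rw [hPcoe] at hc ⊢
    have hc' := Subgroup.mem_normalizer_iff.mp hc
    have hcN : (c : G) ∈ normalizer (S₀ : Set G) := by
      rw [Subgroup.mem_normalizer_iff]
      intro s
      constructor
      · intro hs
        have h1 := (hc' ⟨s, hS₀.le hs⟩).mp (Subgroup.mem_subgroupOf.mpr hs)
        exact Subgroup.mem_subgroupOf.mp h1
      · intro hs
        have hsD : s ∈ D := by
          have h2 : s = (c : G)⁻¹ * ((c : G) * s * (c : G)⁻¹) * (c : G) := by group
          rw [h2]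
          exact D.mul_mem (D.mul_mem (D.inv_mem c.2) (hS₀.le hs)) c.2
        have h1 := (hc' ⟨s, hsD⟩).mpr (Subgroup.mem_subgroupOf.mpr hs)
        exact Subgroup.mem_subgroupOf.mp h1
    have hcC := hNC c c.2 hcN
    apply Subgroup.mem_centralizer_iff.mpr
    intro s hs
    apply Subtype.ext
    exact Subgroup.mem_centralizer_iff.mp hcC (s : G) (Subgroup.mem_subgroupOf.mp hs)
  set φ := MonoidHom.transferSylow P hP' with hφ
  have hcompl : IsComplement' φ.ker (P : Subgroup ↥D) :=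
    MonoidHom.ker_transferSylow_isComplement' P hP'
  have hNp : (Nat.card ↥φ.ker).Coprime p := by
    have h1 : (P : Subgroup ↥D).index = Nat.card ↥φ.ker := hcompl.index_eq_card
    have h2 : ¬ p ∣ Nat.card ↥φ.ker := h1 ▸ P.not_dvd_index
    exact ((Nat.Prime.coprime_iff_not_dvd hpp).mpr h2).symm
  have hmemN : ∀ x : ↥D, (orderOf x).Coprime p → x ∈ φ.ker := by
    intro x hx
    rw [MonoidHom.mem_ker]
    obtain ⟨k, hk⟩ := (IsPGroup.iff_orderOf.mp P.isPGroup') (φ x)
    have h1 : orderOf (φ x) ∣ orderOf x := orderOf_map_dvd φ x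
    have h2 : (p ^ k).Coprime (orderOf x) := Nat.Coprime.pow_left k hx.symm
    rw [hk] at h1
    have h3 : p ^ k = 1 := Nat.Coprime.eq_one_of_dvd h2 h1
    rw [h3] at hk
    exact orderOf_eq_one_iff.mp hk
  have hmem : ∀ x : G, x ∈ φ.ker.map D.subtype ↔ x ∈ D ∧ (orderOf x).Coprime p := by
    intro x
    constructor
    · rintro ⟨n, hn, rfl⟩
      refine ⟨n.2, ?_⟩
      have h1 : orderOf (D.subtype n) = orderOf n := Subgroup.orderOf_coe n
      have h2 : orderOf n ∣ Nat.card ↥φ.ker := by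
        have := orderOf_dvd_natCard (⟨n, hn⟩ : ↥φ.ker)
        rwa [Subgroup.orderOf_mk] at this
      rw [h1]
      exact Nat.Coprime.coprime_dvd_left h2 hNp
    · rintro ⟨hxD, hxp⟩
      refine ⟨⟨x, hxD⟩, hmemN _ ?_, rfl⟩
      rwa [Subgroup.orderOf_mk]
  refine ⟨φ.ker.map D.subtype, Subgroup.map_subtype_le _, ?_, ?_, ?_, ?_⟩
  · intro l hl
    rw [Subgroup.mem_normalizer_iff]
    intro w
    rw [hmem, hmem]
    have hord : orderOf (l * w * l⁻¹) = orderOf w := by
      have := (MulAut.conj l).orderOf_eq w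
      rwa [MulAut.conj_apply] at this
    rw [hord]
    have hD := Subgroup.mem_normalizer_iff.mp (hLD hl) w
    constructor
    · rintro ⟨h1, h2⟩
      exact ⟨hD.mp h1, h2⟩
    · rintro ⟨h1, h2⟩
      exact ⟨hD.mpr h1, h2⟩
  · rw [Subgroup.card_map_of_injective D.subtype_injective]; exact hNp
  · intro x hxD hxp
    exact (hmem x).mpr ⟨hxD, hxp⟩
  · intro c hc
    obtain ⟨⟨n, s⟩, hns, -⟩ := (Subgroup.isComplement_iff_existsUnique.mp hcompl) ⟨c, hc⟩
    refine ⟨(n : ↥D), ⟨n, n.2, rfl⟩, ((s : ↥D) : G), ?_, ?_⟩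
    · have h1 : (s : ↥D) ∈ S₀.subgroupOf D := by
        rw [← hPcoe]; exact s.2
      exact Subgroup.mem_subgroupOf.mp h1
    · have := congrArg Subtype.val hns
      exact this.symm

/-- **an abelian Sylow `p`-subgroup `S₀` of `D` is central in its normalizer in `D`**, when `p` is
odd and `D` centralizes the subgroup `A` of elements of order at most `p` of `S₀` -/
theorem mem_centralizer_of_mem_normalizer_sylow (hp2 : p ≠ 2) {D S₀ A : Subgroup G}
    (hS₀ : IsSylowIn p S₀ D) (hab : ∀ x ∈ S₀, ∀ y ∈ S₀, x * y = y * x) (hAS₀ : A ≤ S₀)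
    (hAe : IsElementaryAbelian p A) (hΩ : ∀ x ∈ S₀, x ^ p = 1 → x ∈ A)
    (hDA : D ≤ centralizer (A : Set G)) :
    ∀ c ∈ D, c ∈ normalizer (S₀ : Set G) → c ∈ centralizer (S₀ : Set G) := by
  have hpp : p.Prime := Fact.out
  intro c hcD hcN
  have hn0 : orderOf c ≠ 0 := (orderOf_pos c).ne'
  obtain ⟨k, m, hm, hn⟩ := Nat.exists_eq_pow_mul_and_not_dvd hn0 p hpp.ne_one
  have hcop : (p ^ k).Coprime m :=
    Nat.Coprime.pow_left k ((Nat.Prime.coprime_iff_not_dvd hpp).mpr hm)
  apply mem_of_pow_mem_of_coprime (centralizer (S₀ : Set G)) hcop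
  · -- the `p'`-part
    set y := c ^ p ^ k with hy
    have hyD : y ∈ D := D.pow_mem hcD _
    have hyN : y ∈ normalizer (S₀ : Set G) := (normalizer (S₀ : Set G)).pow_mem hcN _
    have hym : y ^ m = 1 := by
      rw [hy, ← pow_mul, ← hn]; exact pow_orderOf_eq_one c
    have hcard : (Nat.card ↥(zpowers y)).Coprime p := by
      rw [Nat.card_zpowers]
      have h1 : orderOf y ∣ m := orderOf_dvd_of_pow_eq_one hym
      exact Nat.Coprime.coprime_dvd_left h1 ((Nat.Prime.coprime_iff_not_dvd hpp).mpr hm).symm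
    have hres := Cfsg.Agent.S1443.result p hp2 S₀ A (zpowers y) hS₀.isPGroup hAS₀ hAe
      (Subgroup.zpowers_le.mpr hyN) hcard (by
        intro x hx hxo
        rw [Subgroup.zpowers_le, Subgroup.mem_centralizer_singleton_iff]
        have hxA : x ∈ A := hΩ x hx.1 (by rw [← hxo]; exact pow_orderOf_eq_one x)
        exact (Subgroup.mem_centralizer_iff.mp (hDA hyD) x hxA).symm)
    exact hres (Subgroup.mem_zpowers y)
  · -- the `p`-part
    set y := c ^ m with hy
    have hyD : y ∈ D := D.pow_mem hcD _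
    have hyN : y ∈ normalizer (S₀ : Set G) := (normalizer (S₀ : Set G)).pow_mem hcN _
    have hyp : y ^ p ^ k = 1 := by
      rw [hy, ← pow_mul, mul_comm, ← hn]; exact pow_orderOf_eq_one c
    have hyP : IsPGroup p ↥(zpowers y) := by
      apply IsPGroup.of_card (n := (orderOf y).factorization p)
      rw [Nat.card_zpowers]
      have h1 : orderOf y ∣ p ^ k := orderOf_dvd_of_pow_eq_one hyp
      obtain ⟨i, -, hi⟩ := (Nat.dvd_prime_pow hpp).mp h1
      rw [hi, hpp.factorization_pow]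
      simp
    have h1 : IsPGroup p ↥(S₀ ⊔ zpowers y : Subgroup G) :=
      IsPGroup.to_sup_of_normal_left' hS₀.isPGroup hyP (Subgroup.zpowers_le.mpr hyN)
    have h2 := hS₀.eq_of_le h1 le_sup_left (sup_le hS₀.le (Subgroup.zpowers_le.mpr hyD))
    have hyS₀ : y ∈ S₀ := by
      rw [← h2]
      exact (le_sup_right : zpowers y ≤ S₀ ⊔ zpowers y) (Subgroup.mem_zpowers y)
    apply Subgroup.mem_centralizer_iff.mpr
    intro s hs
    exact hab s hs y hyS₀

end generic

end Cfsg.Agent.Helper22.BG1221
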