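import Mathlib
import Cfsg.Agent.Lib.Helper22.BG1221A
import Cfsg.Agent.Lib.Helper18.BG13P1
import Cfsg.Agent.Lib.Helper15.AmbMaschke
import Cfsg.Agent.Lib.Helper20.BG12B

/-!
# Bender-Glauberman Theorem 12.12 (S1421), the case of a nonabelian Sylow subgroup, part B
(helper22): the abstract configuration

`E` acts on `σ`; `S₀` is an abelian Sylow `p`-subgroup of `E` with `Ω₁(S₀) = A`; `A₀ ≤ A` has order
`p` and is normal in `E`; `T ≥ S₀` is a `p`-group in which the `p`-th powers of order at most `p` of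
elements of `C_T(A)` are central, and `t ∈ T` centralizes no nonidentity element of `A₀`.
-/

set_option autoImplicit false

namespace Cfsg.Agent.Helper22.BG1221

open Cfsg Subgroup
open scoped commutatorElement
open Cfsg.Agent.Helper22.BG13 Cfsg.Agent.Helper22.BG127
open Cfsg.Agent.Helper15 (IsSylowIn exists_isSylowIn_ge)

variable {G : Type*} [Group G] [Finite G] {p : ℕ} [Fact p.Prime]

/-- the elements of `S₀` commuting with a nonidentity element of `σ` lie in `A₀` -/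
theorem mem_A0_of_commute {σ A A0 S₀ T : Subgroup G} {t : G} (hS₀p : IsPGroup p ↥S₀)
    (hΩ : ∀ x ∈ S₀, x ^ p = 1 ↔ x ∈ A) (hcomm : ∀ x ∈ S₀, ∀ y ∈ S₀, x * y = y * x)
    (hAS₀ : A ≤ S₀) (hS₀T : S₀ ≤ T) (htT : t ∈ T)
    (hA₀t : ∀ y ∈ A0, t * y = y * t → y = 1)
    (hK : ∀ x ∈ T, x ∈ centralizer (A : Set G) → (x ^ p) ^ p = 1 →
      ∀ y ∈ T, y * x ^ p = x ^ p * y)
    (hreg : ∀ X : Subgroup G, X ≤ S₀ → Nat.card ↥X = p → X ≠ A0 →
      σ ⊓ centralizer (X : Set G) = ⊥) :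
    ∀ d ∈ S₀, ∀ x ∈ σ, x ≠ 1 → d * x = x * d → d ∈ A0 := by
  have hpp : p.Prime := Fact.out
  intro d hd x hx hx1 hdx
  by_cases hd1 : d = 1
  · rw [hd1]; exact A0.one_mem
  obtain ⟨k, hk⟩ := (IsPGroup.iff_orderOf.mp hS₀p) ⟨d, hd⟩
  rw [Subgroup.orderOf_mk] at hk
  have hk0 : k ≠ 0 := by
    rintro rfl
    rw [pow_zero] at hk
    exact hd1 (orderOf_eq_one_iff.mp hk)
  set y := d ^ (p ^ (k - 1)) with hy
  have hyS₀ : y ∈ S₀ := S₀.pow_mem hd _
  have hyp : y ^ p = 1 := by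
    rw [hy, ← pow_mul, ← pow_succ, show k - 1 + 1 = k by omega, ← hk]
    exact pow_orderOf_eq_one d
  have hy1 : y ≠ 1 := by
    intro h
    have h1 : orderOf d ∣ p ^ (k - 1) := orderOf_dvd_of_pow_eq_one h
    rw [hk] at h1
    have h2 := (Nat.pow_dvd_pow_iff_le_right hpp.one_lt).mp h1
    omega
  have hyA : y ∈ A := (hΩ y hyS₀).mp hyp
  have hyo : orderOf y = p := orderOf_eq_prime hyp hy1
  have hYc : Nat.card ↥(zpowers y) = p := by rw [Nat.card_zpowers, hyo]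
  by_cases hY : zpowers y = A0
  · have hyA0 : y ∈ A0 := by rw [← hY]; exact Subgroup.mem_zpowers y
    by_cases hk1 : k = 1
    · have : y = d := by rw [hy, hk1]; simp
      rw [← this]; exact hyA0
    · exfalso
      have hk2 : 2 ≤ k := by omega
      set w := d ^ (p ^ (k - 2)) with hw
      have hwS₀ : w ∈ S₀ := S₀.pow_mem hd _
      have hwp : w ^ p = y := by
        rw [hw, hy, ← pow_mul, ← pow_succ]
        congr 2
        omega
      have hwA : w ∈ centralizer (A : Set G) := by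
        apply Subgroup.mem_centralizer_iff.mpr
        intro a ha
        exact hcomm a (hAS₀ ha) w hwS₀
      have h1 := hK w (hS₀T hwS₀) hwA (by rw [hwp]; exact hyp) t htT
      rw [hwp] at h1
      exact hy1 (hA₀t y hyA0 h1)
  · exfalso
    have h1 := hreg (zpowers y) (Subgroup.zpowers_le.mpr hyS₀) hYc hY
    have h2 : x ∈ σ ⊓ centralizer ((zpowers y : Subgroup G) : Set G) := by
      refine Subgroup.mem_inf.mpr ⟨hx, ?_⟩
      rw [Cfsg.Agent.Helper22.centralizer_zpowers_eq, Subgroup.mem_centralizer_singleton_iff]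
      exact ((show Commute x d from hdx.symm).pow_right _).eq
    rw [h1] at h2
    exact hx1 (Subgroup.mem_bot.mp h2)

/-- **part (a)**: `C_E(x) ≤ A₀` for the nonidentity elements `x` of `σ` -/
theorem inf_centralizer_le_A0 {σ E A0 S₀ : Subgroup G} (hS₀E : IsSylowIn p S₀ E)
    (hEA0 : E ≤ normalizer (A0 : Set G)) (hEσ : E ≤ normalizer (σ : Set G))
    (hprime : ∀ e ∈ E, ∀ ℓ : ℕ, ℓ.Prime → ℓ ≠ p → orderOf e = ℓ →
      σ ⊓ centralizer ({e} : Set G) = ⊥)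
    (hkey : ∀ d ∈ S₀, ∀ x ∈ σ, x ≠ 1 → d * x = x * d → d ∈ A0) :
    ∀ x ∈ σ, x ≠ 1 → E ⊓ centralizer ({x} : Set G) ≤ A0 := by
  have hpp : p.Prime := Fact.out
  intro x hx hx1 d hd
  obtain ⟨hdE, hdx⟩ := hd
  have hdx' : d * x = x * d := Subgroup.mem_centralizer_singleton_iff.mp hdx
  have hn0 : orderOf d ≠ 0 := (orderOf_pos d).ne'
  -- the order of `d` is a power of `p`
  have hord : orderOf d = p ^ (orderOf d).primeFactorsList.length := by
    apply Nat.eq_prime_pow_of_unique_prime_dvd hn0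
    intro ℓ hℓ hℓd
    by_contra hℓp
    have h1 : orderOf (d ^ (orderOf d / ℓ)) = ℓ := orderOf_pow_orderOf_div hn0 hℓd
    have h2 := hprime _ (E.pow_mem hdE (orderOf d / ℓ)) ℓ hℓ hℓp h1
    have h3 : x ∈ σ ⊓ centralizer ({d ^ (orderOf d / ℓ)} : Set G) := by
      refine Subgroup.mem_inf.mpr ⟨hx, ?_⟩
      rw [Subgroup.mem_centralizer_singleton_iff]
      exact ((show Commute x d from hdx'.symm).pow_right _).eq
    rw [h2] at h3
    exact hx1 (Subgroup.mem_bot.mp h3)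
  have hdp : IsPGroup p ↥(zpowers d) := by
    apply IsPGroup.of_card (n := (orderOf d).primeFactorsList.length)
    rw [Nat.card_zpowers]
    exact hord
  obtain ⟨S', hdS', hS'⟩ := exists_isSylowIn_ge hdp (Subgroup.zpowers_le.mpr hdE)
  obtain ⟨g, hgE, hg⟩ := hS'.exists_conj hS₀E
  have hd' : g * d * g⁻¹ ∈ S₀ := by
    rw [← hg]
    exact ⟨d, hdS' (Subgroup.mem_zpowers d), rfl⟩
  have hx' : g * x * g⁻¹ ∈ σ := (Subgroup.mem_normalizer_iff.mp (hEσ hgE) x).mp hx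
  have hx'1 : g * x * g⁻¹ ≠ 1 := by
    intro h
    apply hx1
    have h2 : x = g⁻¹ * (g * x * g⁻¹) * g := by group
    rw [h2, h]; group
  have hcomm' : g * d * g⁻¹ * (g * x * g⁻¹) = g * x * g⁻¹ * (g * d * g⁻¹) := by
    calc g * d * g⁻¹ * (g * x * g⁻¹) = g * (d * x) * g⁻¹ := by group
      _ = g * (x * d) * g⁻¹ := by rw [hdx']
      _ = g * x * g⁻¹ * (g * d * g⁻¹) := by group
  have h1 := hkey _ hd' _ hx' hx'1 hcomm'
  have h2 := (Subgroup.mem_normalizer_iff.mp (hEA0 (E.inv_mem hgE)) _).mp h1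
  have h3 : g⁻¹ * (g * d * g⁻¹) * g⁻¹⁻¹ = d := by group
  rwa [h3] at h2

/-- **a complement of `A₀` in `E`**, containing a complement `W` of `A₀` in `S₀` -/
theorem exists_compl_A0 (hp2 : p ≠ 2) {E A A0 S₀ T : Subgroup G} {t : G}
    (hsolv : Group.IsSolvable ↥E) (hS₀E : IsSylowIn p S₀ E) (hAS₀ : A ≤ S₀)
    (hAe : IsElementaryAbelian p A) (hAc : Nat.card ↥A = p ^ 2)
    (hΩ : ∀ x ∈ S₀, x ^ p = 1 ↔ x ∈ A) (hcomm : ∀ x ∈ S₀, ∀ y ∈ S₀, x * y = y * x)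
    (hA0A : A0 ≤ A) (hA0c : Nat.card ↥A0 = p)
    (hEA : E ≤ normalizer (A : Set G)) (hEA0 : E ≤ normalizer (A0 : Set G))
    (hS₀T : S₀ ≤ T) (htT : t ∈ T)
    (hA₀t : ∀ y ∈ A0, t * y = y * t → y = 1)
    (hK : ∀ x ∈ T, x ∈ centralizer (A : Set G) → (x ^ p) ^ p = 1 →
      ∀ y ∈ T, y * x ^ p = x ^ p * y) :
    ∃ E₀ W : Subgroup G, E₀ ≤ E ∧ A0 ⊓ E₀ = ⊥ ∧ (∀ e ∈ E, ∃ a ∈ A0, ∃ e₀ ∈ E₀, e = a * e₀) ∧
      W ≤ E₀ ∧ W ≤ S₀ ∧ (∀ s ∈ S₀, ∃ a ∈ A0, ∃ w ∈ W, s = a * w) ∧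
      ∃ w₀ ∈ W, orderOf w₀ = p := by
  have hpp : p.Prime := Fact.out
  have hS₀E' : S₀ ≤ E := hS₀E.le
  have hA0S₀ : A0 ≤ S₀ := hA0A.trans hAS₀
  -- `p`-th powers in `A₀` are trivial
  have hpow : ∀ s ∈ S₀, s ^ p ∈ A0 → s ^ p = 1 := by
    intro s hs hsA0
    have hsA : s ∈ centralizer (A : Set G) := by
      apply Subgroup.mem_centralizer_iff.mpr
      intro a ha
      exact hcomm a (hAS₀ ha) s hs
    have h1 : (s ^ p) ^ p = 1 := hAe.2 _ (hA0A hsA0)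
    have h2 := hK s (hS₀T hs) hsA h1 t htT
    exact hA₀t _ hsA0 h2
  -- the centralizer of `A` in `E`
  set C : Subgroup G := E ⊓ centralizer (A : Set G) with hC
  have hCE : C ≤ E := inf_le_left
  have hS₀C : S₀ ≤ C := by
    intro s hs
    refine ⟨hS₀E' hs, ?_⟩
    apply Subgroup.mem_centralizer_iff.mpr
    intro a ha
    exact hcomm a (hAS₀ ha) s hs
  have hEC : E ≤ normalizer (C : Set G) := by
    refine le_trans ?_ (Subgroup.inf_normalizer_le_normalizer_inf)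
    exact le_inf le_normalizer (hEA.trans (normalizer_le_normalizer_centralizer A))
  have hS₀Csyl : IsSylowIn p S₀ C := hS₀E.of_le hS₀C hCE
  have hNC := mem_centralizer_of_mem_normalizer_sylow hp2 hS₀Csyl hcomm hAS₀ hAe
    (fun x hx h => (hΩ x hx).mp h) (inf_le_right : C ≤ centralizer (A : Set G))
  obtain ⟨Kc, hKcC, hEKc, hKcp, -, hfacC⟩ := exists_pcomplement hS₀Csyl hNC hEC
  -- the Frattini argument
  have hfr := frattini_factor hCE hEC hS₀Csyl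
  set N : Subgroup G := E ⊓ normalizer (S₀ : Set G) with hN
  have hS₀N : S₀ ≤ N := le_inf hS₀E' le_normalizer
  have hNE : N ≤ E := inf_le_left
  have hS₀Nsyl : IsSylowIn p S₀ N := hS₀E.of_le hS₀N hNE
  -- a complement `J` of `S₀` in `N`
  have hsolvN : Group.IsSolvable ↥N := by
    have := hsolv
    exact Group.isSolvable_of_isSolvable_injective (Subgroup.inclusion_injective hNE)
  have hcopN : (Nat.card ↥S₀).Coprime (S₀.relIndex N) := by
    obtain ⟨k, hk⟩ := hS₀E.isPGroup.exists_card_eq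
    rw [hk]
    apply Nat.Coprime.pow_left
    rw [Nat.Prime.coprime_iff_not_dvd hpp]
    exact hS₀Nsyl.not_dvd_relIndex
  obtain ⟨J, hJ, -⟩ := Cfsg.Agent.Helper18.BG13P.exists_isComplIn_ge hsolvN hS₀N hcopN
    (bot_le : (⊥ : Subgroup G) ≤ N) (by rw [Subgroup.card_bot]; exact Nat.coprime_one_left _)
  have hJp : (Nat.card ↥J).Coprime p := by
    have h1 := Cfsg.Agent.Helper20.BG12.relIndex_eq_card_of_isComplIn hJ
    have h2 : ¬ p ∣ Nat.card ↥J := h1 ▸ hS₀Nsyl.not_dvd_relIndex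
    exact ((Nat.Prime.coprime_iff_not_dvd hpp).mpr h2).symm
  obtain ⟨hJN, -, -, hfacN⟩ := hJ
  have hJE : J ≤ E := hJN.trans hNE
  have hJS₀n : J ≤ normalizer (S₀ : Set G) := hJN.trans inf_le_right
  -- the `p`-th powers
  set Dp := powSub S₀ hcomm p with hDp
  have hDpS₀ : Dp ≤ S₀ := powSub_le S₀ hcomm p
  have hJDp : J ≤ normalizer (Dp : Set G) := by
    apply le_normalizer_of_forall_conj_mem
    rintro j hj _ ⟨s, hs, rfl⟩
    refine ⟨j * s * j⁻¹, (Subgroup.mem_normalizer_iff.mp (hJS₀n hj) s).mp hs, ?_⟩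
    rw [conj_pow]
  have hS₀cent : ∀ X : Subgroup G, X ≤ S₀ → S₀ ≤ normalizer (X : Set G) := by
    intro X hX s hs
    apply Subgroup.centralizer_le_normalizer (X : Set G)
    apply Subgroup.mem_centralizer_iff.mpr
    intro x hx
    exact hcomm x (hX hx) s hs
  obtain ⟨W, hDpW, hWS₀, hJW, hinfW, hsupW⟩ :=
    Cfsg.Agent.Helper15.AmbMaschke.amb_maschke (r := p) (T := J) (D := Dp) (M := A0 ⊔ Dp)
      (Y := S₀) le_sup_right (sup_le hA0S₀ hDpS₀) hJDp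
      (le_normalizer_sup (hJE.trans hEA0) hJDp) hJS₀n (hS₀cent Dp hDpS₀)
      (by
        rw [Subgroup.commutator_le]
        intro a ha b hb
        have : ⁅a, b⁆ = 1 := by
          rw [commutatorElement_def, hcomm a ha b hb]; group
        rw [this]; exact Dp.one_mem)
      (fun y hy => ⟨y, hy, rfl⟩) hJp
  have hA0W : A0 ⊓ W = ⊥ := by
    rw [eq_bot_iff]
    rintro x ⟨hxA0, hxW⟩
    have h1 : x ∈ (A0 ⊔ Dp) ⊓ W := ⟨(le_sup_left : A0 ≤ A0 ⊔ Dp) hxA0, hxW⟩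
    rw [hinfW] at h1
    obtain ⟨s, hs, rfl⟩ := h1
    rw [Subgroup.mem_bot]
    exact hpow s hs hxA0
  have hfacS : ∀ s ∈ S₀, ∃ a ∈ A0, ∃ w ∈ W, s = a * w := by
    intro s hs
    have h2 : S₀ ≤ A0 ⊔ W := by
      rw [← hsupW]
      exact sup_le (sup_le le_sup_left (hDpW.trans le_sup_right)) le_sup_right
    exact exists_mul_of_mem_sup (hWS₀.trans (hS₀cent A0 hA0S₀)) (h2 hs)
  -- the complement
  set E₀ : Subgroup G := Kc ⊔ (W ⊔ J) with hE₀
  have hWE : W ≤ E := hWS₀.trans hS₀E'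
  have hKcE : Kc ≤ E := hKcC.trans hCE
  have hE₀E : E₀ ≤ E := sup_le hKcE (sup_le hWE hJE)
  have hWE₀ : W ≤ E₀ := le_sup_left.trans le_sup_right
  have hJE₀ : J ≤ E₀ := le_sup_right.trans le_sup_right
  have hKcE₀ : Kc ≤ E₀ := le_sup_left
  have hcardE₀ : Nat.card ↥E₀ ∣ Nat.card ↥Kc * (Nat.card ↥W * Nat.card ↥J) := by
    have h1 : Nat.card ↥(W ⊔ J : Subgroup G) ∣ Nat.card ↥W * Nat.card ↥J :=
      Cfsg.Agent.Helper7.card_sup_dvd_mul_of_le_normalizer hJW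
    have h2 : Nat.card ↥(Kc ⊔ (W ⊔ J) : Subgroup G) ∣
        Nat.card ↥Kc * Nat.card ↥(W ⊔ J : Subgroup G) :=
      Cfsg.Agent.Helper7.card_sup_dvd_mul_of_le_normalizer ((sup_le hWE hJE).trans hEKc)
    exact h2.trans (Nat.mul_dvd_mul_left _ h1)
  have hcS₀ : Nat.card ↥S₀ = p * Nat.card ↥W := by
    have h1 : IsComplIn A0 W S₀ := ⟨hA0S₀, hWS₀, hA0W, hfacS⟩
    rw [← Cfsg.Agent.Helper20.BG12.card_mul_of_isComplIn h1, hA0c]
  have hF1 : A0 ⊓ E₀ = ⊥ := by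
    rw [eq_bot_iff]
    rintro x ⟨hxA0, hxE₀⟩
    rw [Subgroup.mem_bot]
    by_contra hx1
    have hA0z : A0 = zpowers x := eq_zpowers_of_mem_of_ne_one hpp hA0c hxA0 hx1
    have hA0E₀ : A0 ≤ E₀ := by rw [hA0z, Subgroup.zpowers_le]; exact hxE₀
    have hS₀E₀ : S₀ ≤ E₀ := by
      intro s hs
      obtain ⟨a, ha, w, hw, rfl⟩ := hfacS s hs
      exact E₀.mul_mem (hA0E₀ ha) (hWE₀ hw)
    have h1 : Nat.card ↥S₀ ∣ Nat.card ↥E₀ := Subgroup.card_dvd_of_le hS₀E₀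
    have h2 := h1.trans hcardE₀
    rw [hcS₀] at h2
    have h3 : p * Nat.card ↥W ∣ (Nat.card ↥Kc * Nat.card ↥J) * Nat.card ↥W := by
      have : Nat.card ↥Kc * (Nat.card ↥W * Nat.card ↥J)
          = (Nat.card ↥Kc * Nat.card ↥J) * Nat.card ↥W := by ring
      rwa [this] at h2
    have h4 : p ∣ Nat.card ↥Kc * Nat.card ↥J := Nat.dvd_of_mul_dvd_mul_right Nat.card_pos h3
    rcases (Nat.Prime.dvd_mul hpp).mp h4 with h5 | h5
    · exact (Nat.Prime.coprime_iff_not_dvd hpp).mp hKcp.symm h5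
    · exact (Nat.Prime.coprime_iff_not_dvd hpp).mp hJp.symm h5
  have hF2 : ∀ e ∈ E, ∃ a ∈ A0, ∃ e₀ ∈ E₀, e = a * e₀ := by
    intro e he
    obtain ⟨c, hc, n, hn, rfl⟩ := hfr e he
    obtain ⟨w, hw, s, hs, rfl⟩ := hfacC c hc
    have hsn : s * n ∈ N := N.mul_mem (hS₀N hs) hn
    obtain ⟨j, hj, s', hs', hjs⟩ := hfacN (s * n) hsn
    obtain ⟨a, ha, v, hv, rfl⟩ := hfacS s' hs'
    have hwjE : w * j ∈ E := E.mul_mem (hKcE hw) (hJE hj)
    refine ⟨(w * j) * a * (w * j)⁻¹, (Subgroup.mem_normalizer_iff.mp (hEA0 hwjE) a).mp ha,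
      w * (j * v), E₀.mul_mem (hKcE₀ hw) (E₀.mul_mem (hJE₀ hj) (hWE₀ hv)), ?_⟩
    calc w * s * n = w * (s * n) := by group
      _ = w * (j * (a * v)) := by rw [hjs]
      _ = (w * j) * a * (w * j)⁻¹ * (w * (j * v)) := by group
  -- an element of order `p` of `W`
  have hw₀ : ∃ w₀ ∈ W, orderOf w₀ = p := by
    have h1 : Nat.card ↥A ∣ Nat.card ↥S₀ := Subgroup.card_dvd_of_le hAS₀
    rw [hAc, hcS₀, sq] at h1
    have h2 : p ∣ Nat.card ↥W := Nat.dvd_of_mul_dvd_mul_left hpp.pos h1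
    obtain ⟨w₀, hw₀⟩ := exists_prime_orderOf_dvd_card' (G := ↥W) p h2
    exact ⟨(w₀ : G), w₀.2, by rw [Subgroup.orderOf_coe, hw₀]⟩
  exact ⟨E₀, W, hE₀E, hF1, hF2, hWE₀, hWS₀, hfacS, hw₀⟩

end Cfsg.Agent.Helper22.BG1221
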