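import Mathlib
import Cfsg.Agent.Lib.Helper22.BG1221B

/-!
# Bender-Glauberman Theorem 12.12 (S1421), the case of a nonabelian Sylow subgroup, part C
(helper22): the conclusion of S1421 when some `p ∈ τ₂(M)` has nonabelian Sylow `p`-subgroups
-/

set_option autoImplicit false

namespace Cfsg.Agent.Helper22.BG1221

open Cfsg Subgroup
open Cfsg.Agent.Helper22.BG13 Cfsg.Agent.Helper22.BG127
open Cfsg.Agent.Helper15 (IsSylowIn exists_isSylowIn_ge isSylowIn_of_not_dvd_relIndex)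

universe u

variable {G : Type u} [Group G] [Finite G]

/-- **the set-up of BG 12.7 over a prescribed Sylow subgroup `S₀` of `M`** -/
theorem setup_of_sylow (h1417 : Hyp1417 G)
    {M : Subgroup G} (hM : IsCoatom M) {p : ℕ} [Fact p.Prime] (hp : p ∈ tau2 M)
    (hS : ∀ S : Sylow p G, ¬ IsMulCommutative ↥(S : Subgroup G)) {A : Subgroup G}
    (hAM : A ≤ M) (hAe : IsElementaryAbelian p A) (hAc : Nat.card ↥A = p ^ 2)
    {S₀ : Subgroup G} (hS₀ : IsSylowIn p S₀ M) (hAS₀ : A ≤ S₀) :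
    (∀ x ∈ S₀, x ^ p = 1 ↔ x ∈ A) ∧ (∀ x ∈ S₀, ∀ y ∈ S₀, x * y = y * x) ∧
      ∃ (T : Subgroup G) (t : G), IsSylowIn p T ⊤ ∧ S₀ ≤ T ∧ ¬ IsMulCommutative ↥T ∧
        t ∈ T ∧ t ∉ M ∧ t ∈ normalizer (A : Set G) := by
  have hpp : p.Prime := Fact.out
  obtain ⟨-, hsyl, -, -, -, -⟩ := h1417 M hM p hp A ⟨hAM, hAe, hAc⟩
  obtain ⟨hcomm₀, himp⟩ := hsyl hS₀.toSylow
  rw [hS₀.map_toSylow] at himp
  obtain ⟨hΩ, -⟩ := himp hAS₀
  have hcomm : ∀ x ∈ S₀, ∀ y ∈ S₀, x * y = y * x := by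
    intro x hx y hy
    have hx' : (⟨x, hS₀.le hx⟩ : ↥M) ∈ (hS₀.toSylow : Subgroup ↥M) := by
      rw [hS₀.coe_toSylow]; exact Subgroup.mem_subgroupOf.mpr hx
    have hy' : (⟨y, hS₀.le hy⟩ : ↥M) ∈ (hS₀.toSylow : Subgroup ↥M) := by
      rw [hS₀.coe_toSylow]; exact Subgroup.mem_subgroupOf.mpr hy
    have h1 := hcomm₀.is_comm.comm (⟨⟨x, hS₀.le hx⟩, hx'⟩ : ↥(hS₀.toSylow : Subgroup ↥M))
      ⟨⟨y, hS₀.le hy⟩, hy'⟩
    have h2 := congrArg (fun w : ↥(hS₀.toSylow : Subgroup ↥M) => ((w : ↥M) : G)) h1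
    exact h2
  refine ⟨hΩ, hcomm, ?_⟩
  obtain ⟨T, hS₀T, hT⟩ := exists_isSylowIn_ge hS₀.isPGroup (le_top : S₀ ≤ ⊤)
  have hTna : ¬ IsMulCommutative ↥T := hS hT.sylowOfTop
  have hTM : ∀ x ∈ T, x ∈ M → x ∈ S₀ := by
    intro x hxT hxM
    have h1 : T ⊓ M = S₀ :=
      hS₀.eq_of_le (hT.isPGroup.to_le inf_le_left) (le_inf hS₀T hS₀.le) inf_le_right
    rw [← h1]; exact ⟨hxT, hxM⟩
  have hne : S₀ ≠ T := by
    intro h
    apply hTna
    refine ⟨⟨fun a b => Subtype.ext ?_⟩⟩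
    exact hcomm a.1 (h ▸ a.2) b.1 (h ▸ b.2)
  obtain ⟨t, htT, htS₀, htn, -⟩ :=
    Cfsg.Agent.Helper16.exists_normalizing_not_mem T S₀ hT.isPGroup hS₀T hne
  have htM : t ∉ M := fun h => htS₀ (hTM t htT h)
  have htA : t ∈ normalizer (A : Set G) := by
    have : zpowers t ≤ normalizer (A : Set G) := by
      apply le_normalizer_of_forall_conj_mem
      intro e he a ha
      obtain ⟨n, rfl⟩ := Subgroup.mem_zpowers_iff.mp he
      have hn : ∀ m : ℕ, ∀ a ∈ A, t ^ m * a * (t ^ m)⁻¹ ∈ A := by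
        intro m
        induction m with
        | zero => intro a ha; simpa using ha
        | succ m ih =>
          intro a ha
          have h1 := ih a ha
          have h2 : t ^ (m + 1) * a * (t ^ (m + 1))⁻¹ = t * (t ^ m * a * (t ^ m)⁻¹) * t⁻¹ := by
            rw [pow_succ']; group
          rw [h2]
          have h3 : t * (t ^ m * a * (t ^ m)⁻¹) * t⁻¹ ∈ S₀ := htn _ (hAS₀ h1)
          apply (hΩ _ h3).mp
          have h4 : (t * (t ^ m * a * (t ^ m)⁻¹) * t⁻¹) ^ p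
              = t * (t ^ m * a * (t ^ m)⁻¹) ^ p * t⁻¹ := by
            rw [conj_pow]
          rw [h4, hAe.2 _ h1]; group
      have hfin : ∃ m : ℕ, t ^ n = t ^ m := by
        have h1 : t ^ n ∈ zpowers t := Subgroup.zpow_mem_zpowers t n
        obtain ⟨m, hm⟩ := mem_powers_iff_mem_zpowers.mpr h1
        exact ⟨m, hm.symm⟩
      obtain ⟨m, hm⟩ := hfin
      rw [hm]
      exact hn m a ha
    exact this (Subgroup.mem_zpowers t)
  exact ⟨T, t, hT, hS₀T, hTna, htT, htM, htA⟩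

/-- **S1421 (BG 12.12), the case where some `p ∈ τ₂(M)` has nonabelian Sylow `p`-subgroups** -/
theorem caseA (hG : IsMinSimpleOddOrder G) (h1403 : Hyp1403 G) (h1350 : Hyp1350 G)
    (h1405 : Hyp1405 G) (h1408 : Hyp1408 G) (h1412 : Hyp1412 G) (h1414 : Hyp1414 G)
    (h1416 : Hyp1416 G) (h1417 : Hyp1417 G) (h1418 : Hyp1418 G)
    {M : Subgroup G} (hM : IsCoatom M) {E : Subgroup G} (hE : IsComplIn E (sigmaCore M) M)
    (h : ∀ e ∈ E, e ≠ 1 → (∀ p : ℕ, p.Prime → p ∣ orderOf e → p ∈ tau1 M ∪ tau3 M) →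
      sigmaCore M ⊓ centralizer ({e} : Set G) = ⊥)
    {p : ℕ} [Fact p.Prime] (hp : p ∈ tau2 M)
    (hS : ∀ S : Sylow p G, ¬ IsMulCommutative ↥(S : Subgroup G)) :
    (∃ A₀ : Subgroup G, A₀ ≤ E ∧ E ≤ normalizer (A₀ : Set G) ∧ IsMulCommutative A₀ ∧
        ∀ x ∈ sigmaCore M, x ≠ 1 → E ⊓ centralizer ({x} : Set G) ≤ A₀) ∧
      ∃ E₀ : Subgroup G, E₀ ≤ E ∧ Monoid.exponent E₀ = Monoid.exponent E ∧
        ∀ e ∈ E₀, e ≠ 1 → sigmaCore M ⊓ centralizer ({e} : Set G) = ⊥ := by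
  have hpp : p.Prime := Fact.out
  have hEM : E ≤ M := hE.1
  obtain ⟨A, hAE, hAe, hAc⟩ :=
    Cfsg.Agent.Helper21.BG143.exists_elemAb_sq_le_compl hG h1350 hM hE hp
  have hAM : A ≤ M := hAE.trans hEM
  have hAp : IsPGroup p ↥A := IsPGroup.of_card hAc
  have hCAM : centralizer (A : Set G) ≤ M := (h1416 M hM p A ⟨hAM, hAe, hAc⟩).1
  obtain ⟨⟨hEA, -⟩, -, -⟩ := h1418 M hM E hE p hp A ⟨hAE, hAe, hAc⟩
  have hp2 : p ≠ 2 := by
    intro h2
    have h1 : 2 ∣ Nat.card G := by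
      have h3 : Nat.card ↥A ∣ Nat.card G := Subgroup.card_subgroup_dvd_card A
      rw [hAc, h2] at h3
      exact (dvd_pow_self 2 (by norm_num)).trans h3
    have h3 := hG.1
    rw [Nat.odd_iff] at h3
    omega
  -- a Sylow subgroup of `E` over `A`
  obtain ⟨S₀, hAS₀, hS₀E⟩ := exists_isSylowIn_ge hAp hAE
  have hσp : ¬ p ∣ Nat.card ↥(sigmaCore M) :=
    fun hd => hp.2.1 (isPiNum_card_sigmaCore M p hpp hd)
  have hS₀M : IsSylowIn p S₀ M := by
    apply isSylowIn_of_not_dvd_relIndex hS₀E.isPGroup (hS₀E.le.trans hEM)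
    rw [← Subgroup.relIndex_mul_relIndex S₀ E M hS₀E.le hEM]
    intro hd
    rcases (Nat.Prime.dvd_mul hpp).mp hd with hd | hd
    · exact hS₀E.not_dvd_relIndex hd
    · have h1 := Cfsg.Agent.Helper20.BG12.card_mul_of_isComplIn hE
      have h2 := Cfsg.Agent.Helper21.BG143.card_mul_relIndex' hEM
      have h3 : E.relIndex M = Nat.card ↥(sigmaCore M) :=
        Nat.eq_of_mul_eq_mul_left Nat.card_pos (h2.trans h1.symm)
      rw [h3] at hd
      exact hσp hd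
  obtain ⟨hΩ, hcomm, T, t, hT, hS₀T, hTna, htT, htM, htA⟩ :=
    setup_of_sylow h1417 hM hp hS hAM hAe hAc hS₀M hAS₀
  have htp : IsPGroup p ↥(zpowers t) := hT.isPGroup.to_le (Subgroup.zpowers_le.mpr htT)
  have htau := tau2_eq hG h1403 h1350 h1405 h1408 h1414 h1416 h1417 h1418 hM hE hp hS hAE hAe hAc
  obtain ⟨hb1, hb2, hc⟩ := partBC hG h1405 h1417 h1418 hM hE hp hAE hAe hAc hCAM htp htM htA
  have hK := pow_central hG h1408 h1412 hM hp hAM hAe hAc hT (hAS₀.trans hS₀T) hTna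
  set σ := sigmaCore M with hσ
  set A0 := A ⊓ centralizer (σ : Set G) with hA0
  have hA0A : A0 ≤ A := inf_le_left
  have hMσ : M ≤ normalizer (σ : Set G) := le_normalizer_sigmaCore M
  have hEσ : E ≤ normalizer (σ : Set G) := hEM.trans hMσ
  have hEA0 : E ≤ normalizer (A0 : Set G) := by
    refine le_trans ?_ (Subgroup.inf_normalizer_le_normalizer_inf)
    exact le_inf hEA (hEσ.trans (normalizer_le_normalizer_centralizer σ))
  -- elements of prime order other than `p`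
  have hprime : ∀ e ∈ E, ∀ ℓ : ℕ, ℓ.Prime → ℓ ≠ p → orderOf e = ℓ →
      σ ⊓ centralizer ({e} : Set G) = ⊥ := by
    intro e he ℓ hℓ hℓp heo
    have he1 : e ≠ 1 := by
      rintro rfl
      rw [orderOf_one] at heo
      exact hℓ.one_lt.ne heo
    apply h e he he1
    intro q hq hqd
    rw [heo] at hqd
    have hqℓ : q = ℓ := (Nat.prime_dvd_prime_iff_eq hq hℓ).mp hqd
    rw [hqℓ]
    have hdE : ℓ ∣ Nat.card ↥E := by
      have := orderOf_dvd_natCard (⟨e, he⟩ : ↥E)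
      rwa [Subgroup.orderOf_mk, heo] at this
    have hℓσ : ℓ ∉ sigma M :=
      Cfsg.Agent.Helper20.BG12.not_mem_sigma_of_dvd_card_compl (h1350 M hM).1 hE hℓ hdE
    have hℓM : ℓ ∣ Nat.card ↥M := hdE.trans (Subgroup.card_dvd_of_le hEM)
    have hr2 := Cfsg.Agent.Helper21.BG143.pRankLE_two_of_not_mem_sigma h1405 hM hℓ hℓM hℓσ
    by_cases hr1 : PRankLE ℓ 1 ↥M
    · by_cases hc' : ℓ ∣ Nat.card ↥⁅M, M⁆
      · exact Or.inr ⟨hℓ, hℓσ, hc', hr1⟩
      · exact Or.inl ⟨hℓ, hℓσ, hℓM, hc', hr1⟩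
    · exfalso
      have h1 : ℓ ∈ tau2 M := ⟨hℓ, hℓσ, hr2, hr1⟩
      rw [htau, Set.mem_singleton_iff] at h1
      exact hℓp h1
  have hreg : ∀ X : Subgroup G, X ≤ S₀ → Nat.card ↥X = p → X ≠ A0 →
      σ ⊓ centralizer (X : Set G) = ⊥ :=
    fun X hX hXc hXne => (hc X (hX.trans hS₀E.le) hXc hXne).1
  have hkey := mem_A0_of_commute hS₀E.isPGroup hΩ hcomm hAS₀ hS₀T htT hb2 hK hreg
  have hparta := inf_centralizer_le_A0 hS₀E hEA0 hEσ hprime hkey
  have hsolvE : Group.IsSolvable ↥E := by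
    have := hG.2.2.2 M hM.1
    exact Group.isSolvable_of_isSolvable_injective (Subgroup.inclusion_injective hEM)
  obtain ⟨E₀, W, hE₀E, hF1, hF2, hWE₀, hWS₀, hfacS, w₀, hw₀W, hw₀o⟩ :=
    exists_compl_A0 hp2 hsolvE hS₀E hAS₀ hAe hAc hΩ hcomm hA0A hb1 hEA hEA0 hS₀T htT hb2 hK
  refine ⟨⟨A0, hA0A.trans hAE, hEA0, ?_, hparta⟩, E₀, hE₀E, ?_, ?_⟩
  · exact ⟨⟨fun a b => Subtype.ext
      (Cfsg.Agent.Helper7.isElementaryAbelian_comm hAe (hA0A a.2) (hA0A b.2))⟩⟩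
  · -- the exponent
    apply exponent_eq_of_prime_pow hE₀E
    intro x hxE q k hq hxo
    by_cases hqp : q = p
    · rw [hqp] at hxo ⊢
      rcases k with _ | k
      · exact ⟨1, E₀.one_mem, by rw [orderOf_one, pow_zero]⟩
      rcases k with _ | k
      · exact ⟨w₀, hWE₀ hw₀W, by rw [hw₀o]; simp⟩
      have hxp : IsPGroup p ↥(zpowers x) :=
        IsPGroup.of_card (n := k + 1 + 1) (by rw [Nat.card_zpowers, hxo])
      obtain ⟨S', hxS', hS'⟩ := exists_isSylowIn_ge hxp (Subgroup.zpowers_le.mpr hxE)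
      obtain ⟨g, hgE, hg⟩ := hS'.exists_conj hS₀E
      have hx' : g * x * g⁻¹ ∈ S₀ := by
        rw [← hg]; exact ⟨x, hxS' (Subgroup.mem_zpowers x), rfl⟩
      have hx'o : orderOf (g * x * g⁻¹) = p ^ (k + 1 + 1) := by
        have := (MulAut.conj g).orderOf_eq x
        rw [MulAut.conj_apply] at this
        rw [this, hxo]
      obtain ⟨a, ha, w, hw, hxaw⟩ := hfacS _ hx'
      have hap : a ^ p = 1 := hAe.2 a (hA0A ha)
      have hcaw : Commute a w := hcomm a ((hA0A.trans hAS₀) ha) w (hWS₀ hw)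
      have hapow : ∀ m : ℕ, m ≠ 0 → a ^ (p ^ m) = 1 := by
        intro m hm
        obtain ⟨c, hc⟩ := dvd_pow_self p hm
        rw [hc, pow_mul, hap, one_pow]
      have hwpow : ∀ m : ℕ, m ≠ 0 → w ^ (p ^ m) = (g * x * g⁻¹) ^ (p ^ m) := by
        intro m hm
        rw [hxaw, hcaw.mul_pow, hapow m hm, one_mul]
      refine ⟨w, hWE₀ hw, ?_⟩
      apply orderOf_eq_prime_pow
      · rw [hwpow (k + 1) (by omega)]
        intro h0
        have h1 : orderOf (g * x * g⁻¹) ∣ p ^ (k + 1) := orderOf_dvd_of_pow_eq_one h0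
        rw [hx'o] at h1
        have h2 := (Nat.pow_dvd_pow_iff_le_right hpp.one_lt).mp h1
        omega
      · rw [hwpow (k + 1 + 1) (by omega), ← hx'o]
        exact pow_orderOf_eq_one _
    · obtain ⟨a, ha, e₀, he₀, hxae⟩ := hF2 x hxE
      have he₀E : e₀ ∈ E := hE₀E he₀
      have hpowx : ∀ n : ℕ, ∃ a' ∈ A0, x ^ n = a' * e₀ ^ n := by
        intro n
        induction n with
        | zero => exact ⟨1, A0.one_mem, by simp⟩
        | succ n ih =>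
          obtain ⟨a', ha', h1⟩ := ih
          refine ⟨a' * (e₀ ^ n * a * (e₀ ^ n)⁻¹), A0.mul_mem ha'
            ((Subgroup.mem_normalizer_iff.mp (hEA0 (E.pow_mem he₀E n)) a).mp ha), ?_⟩
          calc x ^ (n + 1) = x ^ n * x := pow_succ x n
            _ = a' * e₀ ^ n * (a * e₀) := by rw [h1, ← hxae]
            _ = a' * (e₀ ^ n * a * (e₀ ^ n)⁻¹) * e₀ ^ (n + 1) := by rw [pow_succ]; group
      obtain ⟨a', ha', h1⟩ := hpowx (orderOf e₀)
      rw [pow_orderOf_eq_one, mul_one] at h1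
      have h2 : x ^ (orderOf e₀ * p) = 1 := by
        rw [pow_mul, h1]; exact hAe.2 a' (hA0A ha')
      have h3 : q ^ k ∣ orderOf e₀ * p := by
        rw [← hxo]; exact orderOf_dvd_of_pow_eq_one h2
      have hcop : (q ^ k).Coprime p :=
        Nat.Coprime.pow_left k ((Nat.coprime_primes hq hpp).mpr hqp)
      have h4 : q ^ k ∣ orderOf e₀ := hcop.dvd_of_dvd_mul_right h3
      have hn0 : orderOf e₀ ≠ 0 := (orderOf_pos e₀).ne'
      exact ⟨e₀ ^ (orderOf e₀ / q ^ k), E₀.pow_mem he₀ _, orderOf_pow_orderOf_div hn0 h4⟩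
  · -- regularity
    intro e he he1
    have ho1 : orderOf e ≠ 1 := fun h' => he1 (orderOf_eq_one_iff.mp h')
    obtain ⟨ℓ, hℓ, hℓd⟩ := Nat.exists_prime_and_dvd ho1
    have hn0 : orderOf e ≠ 0 := (orderOf_pos e).ne'
    have heo : orderOf (e ^ (orderOf e / ℓ)) = ℓ := orderOf_pow_orderOf_div hn0 hℓd
    apply inf_centralizer_eq_bot_of_pow (orderOf e / ℓ)
    have he'E₀ : e ^ (orderOf e / ℓ) ∈ E₀ := E₀.pow_mem he _
    by_cases hℓp : ℓ = p
    · have hXc : Nat.card ↥(zpowers (e ^ (orderOf e / ℓ))) = p := by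
        rw [Nat.card_zpowers, heo, hℓp]
      have hXE : zpowers (e ^ (orderOf e / ℓ)) ≤ E := Subgroup.zpowers_le.mpr (hE₀E he'E₀)
      have hXne : zpowers (e ^ (orderOf e / ℓ)) ≠ A0 := by
        intro hX
        have h1 : e ^ (orderOf e / ℓ) ∈ A0 ⊓ E₀ :=
          ⟨by rw [← hX]; exact Subgroup.mem_zpowers _, he'E₀⟩
        rw [hF1] at h1
        have h2 : e ^ (orderOf e / ℓ) = 1 := Subgroup.mem_bot.mp h1
        rw [h2, orderOf_one] at heo
        exact hℓ.one_lt.ne heo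
      have h3 := (hc _ hXE hXc hXne).1
      rwa [Cfsg.Agent.Helper22.centralizer_zpowers_eq] at h3
    · exact hprime _ (hE₀E he'E₀) ℓ hℓ hℓp heo

end Cfsg.Agent.Helper22.BG1221
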