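import Mathlib
import Cfsg.Agent.Lib.Helper3.BSWArithDefs

/-!
# S3282 piece KILL2 (helper22 for helper3): the exotic shape 2 is impossible
-/

set_option autoImplicit false
set_option linter.unusedSectionVars false

namespace Cfsg.Agent.Helper3.BSW

variable {ι J : Type*} [Fintype ι] [Fintype J] [DecidableEq ι] [DecidableEq J]

namespace KILL2

theorem sum_ind (X : ι) (F : ι → ℚ) : ∑ i, ((ind X i : ℤ) : ℚ) * F i = F X := by
  simp [ind, Finset.sum_ite_eq']

theorem ind_self (X : ι) : ind X X = 1 := by simp [ind]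

theorem ind_ne {X i : ι} (h : i ≠ X) : ind X i = 0 := by simp [ind, h]

end KILL2

variable {k g : ℕ} {o : ι} {inv : J → J} {j0 : J} {sgn : J → ℤ} {b : J → ι → ℤ} {deg a1 : ι → ℤ}

open KILL2 in
/-- PIECE KILL2. -/
theorem kill_two (H : ArithHyp k g o inv j0 sgn b deg a1) {P : ι} {S : J → ι} {Z : ι} {j1 j2 : J}
    {ε : ℤ} (hε : ε = 1 ∨ ε = -1) (hS : ShapeE2 o inv j0 b deg P S Z j1 j2 ε) : False := by
  have h1 := hS.j1ne
  have h2 := hS.j2ne
  -- distinctness in `J`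
  have hi1 : inv j1 ≠ j1 := fun h => h1 ((H.inv_fix j1).1 h)
  have hi2 : inv j2 ≠ j2 := fun h => h2 ((H.inv_fix j2).1 h)
  have hinv0 : inv j0 = j0 := (H.inv_fix j0).2 rfl
  have hi10 : inv j1 ≠ j0 := by
    intro h
    apply h1
    have := H.inv_inv j1
    rw [h, hinv0] at this
    exact this.symm
  have hi20 : inv j2 ≠ j0 := by
    intro h
    apply h2
    have := H.inv_inv j2
    rw [h, hinv0] at this
    exact this.symm
  have h21 : j2 ≠ j1 := hS.j12
  have h2i1 : j2 ≠ inv j1 := hS.j12'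
  have hi2_1 : inv j2 ≠ j1 := by
    intro h
    apply h2i1
    rw [← h, H.inv_inv]
  have hi2_i1 : inv j2 ≠ inv j1 := by
    intro h
    apply h21
    have := congrArg inv h
    rwa [H.inv_inv, H.inv_inv] at this
  -- the universe of `J`
  have huniv : (Finset.univ : Finset J) = {j0, j1, inv j1, j2, inv j2} := by
    ext j
    simp only [Finset.mem_univ, Finset.mem_insert, Finset.mem_singleton, true_iff]
    by_cases hj : j = j0
    · exact Or.inl hj
    · exact Or.inr (hS.all j hj)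
  have hsum : ∀ f : J → ℤ, ∑ j, f j = f j0 + (f j1 + (f (inv j1) + (f j2 + f (inv j2)))) := by
    intro f
    rw [huniv, Finset.sum_insert, Finset.sum_insert, Finset.sum_insert, Finset.sum_insert,
      Finset.sum_singleton]
    · simp only [Finset.mem_singleton]; exact fun h => hi2 h.symm
    · simp only [Finset.mem_insert, Finset.mem_singleton, not_or]
      exact ⟨fun h => h2i1 h.symm, fun h => hi2_i1 h.symm⟩
    · simp only [Finset.mem_insert, Finset.mem_singleton, not_or]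
      exact ⟨fun h => hi1 h.symm, fun h => h21 h.symm, fun h => hi2_1 h.symm⟩
    · simp only [Finset.mem_insert, Finset.mem_singleton, not_or]
      exact ⟨fun h => h1 h.symm, fun h => hi10 h.symm, fun h => h2 h.symm, fun h => hi20 h.symm⟩
  -- the signs
  have hs := H.sgn_sum
  rw [hsum, H.sgn_inv, H.sgn_inv] at hs
  -- the values of `b` at `S j1`, `S j2`
  have hS1o : S j1 ≠ o := hS.So j1 h1
  have hS2o : S j2 ≠ o := hS.So j2 h2
  have hS1P : S j1 ≠ P := hS.SP j1 h1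
  have hS2P : S j2 ≠ P := hS.SP j2 h2
  have hS12 : S j1 ≠ S j2 := hS.S12
  have hS1Z : S j1 ≠ Z := hS.ZS j1 h1
  have hS2Z : S j2 ≠ Z := hS.ZS j2 h2
  have b01 : b j0 (S j1) = -ε := by
    rw [hS.bj0, ind_ne hS1o, ind_self, ind_ne hS12, ind_ne hS1Z]; ring
  have b02 : b j0 (S j2) = -ε := by
    rw [hS.bj0, ind_ne hS2o, ind_ne hS12.symm, ind_self, ind_ne hS2Z]; ring
  have b11 : b j1 (S j1) = -ε := by
    rw [hS.bj j1 h1, ind_ne hS1o, ind_ne hS1P, ind_self]; ring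
  have b12 : b j1 (S j2) = 0 := by
    rw [hS.bj j1 h1, ind_ne hS2o, ind_ne hS2P, ind_ne hS12.symm]; ring
  have b21 : b j2 (S j1) = 0 := by
    rw [hS.bj j2 h2, ind_ne hS1o, ind_ne hS1P, ind_ne hS12]; ring
  have b22 : b j2 (S j2) = -ε := by
    rw [hS.bj j2 h2, ind_ne hS2o, ind_ne hS2P, ind_self]; ring
  have t1 : tau sgn b (S j1) = ε * (sgn j0 + 2 * sgn j1) := by
    unfold tau
    rw [hsum, H.b_inv, H.b_inv, H.sgn_inv, H.sgn_inv, b01, b11, b21]; ring
  have t2 : tau sgn b (S j2) = ε * (sgn j0 + 2 * sgn j2) := by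
    unfold tau
    rw [hsum, H.b_inv, H.b_inv, H.sgn_inv, H.sgn_inv, b02, b12, b22]; ring
  -- the two equations
  have key : ∀ j, j ≠ j0 → (∑ i, (b j i : ℚ) * (tau sgn b i : ℚ) ^ 2 / (deg i : ℚ)) =
      (tau sgn b o : ℚ) ^ 2 / (deg o : ℚ) + (ε : ℚ) * ((tau sgn b P : ℚ) ^ 2 / (deg P : ℚ)) -
        (ε : ℚ) * ((tau sgn b (S j) : ℚ) ^ 2 / (deg (S j) : ℚ)) := by
    intro j hj
    have : ∀ i, (b j i : ℚ) * (tau sgn b i : ℚ) ^ 2 / (deg i : ℚ) =
        ((ind o i : ℤ) : ℚ) * ((tau sgn b i : ℚ) ^ 2 / (deg i : ℚ)) +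
          (ε : ℚ) * (((ind P i : ℤ) : ℚ) * ((tau sgn b i : ℚ) ^ 2 / (deg i : ℚ))) -
          (ε : ℚ) * (((ind (S j) i : ℤ) : ℚ) * ((tau sgn b i : ℚ) ^ 2 / (deg i : ℚ))) := by
      intro i
      rw [hS.bj j hj i]
      push_cast
      ring
    rw [Finset.sum_congr rfl (fun i _ => this i), Finset.sum_sub_distrib, Finset.sum_add_distrib,
      ← Finset.mul_sum, ← Finset.mul_sum, sum_ind, sum_ind, sum_ind]
  have e1 := H.eq j1
  have e2 := H.eq j2
  rw [key j1 h1] at e1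
  rw [key j2 h2] at e2
  have hd1 : deg (S j1) = deg P + ε := hS.degS j1 h1
  have hd2 : deg (S j2) = deg P + ε := hS.degS j2 h2
  have hpos : (0 : ℚ) < ((deg P + ε : ℤ) : ℚ) := by
    have := H.deg_pos (S j1)
    rw [hd1] at this
    exact_mod_cast this
  rw [hd1] at e1
  rw [hd2] at e2
  have hε0 : (ε : ℚ) ≠ 0 := by
    rcases hε with h | h <;> rw [h] <;> norm_num
  have hsq : (tau sgn b (S j1) : ℚ) ^ 2 = (tau sgn b (S j2) : ℚ) ^ 2 := by
    have h3 : (ε : ℚ) * ((tau sgn b (S j1) : ℚ) ^ 2 / ((deg P + ε : ℤ) : ℚ)) =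
        (ε : ℚ) * ((tau sgn b (S j2) : ℚ) ^ 2 / ((deg P + ε : ℤ) : ℚ)) := by
      linarith
    have h4 := mul_left_cancel₀ hε0 h3
    field_simp at h4
    exact h4
  have hsqZ : (tau sgn b (S j1)) ^ 2 = (tau sgn b (S j2)) ^ 2 := by exact_mod_cast hsq
  rw [t1, t2] at hsqZ
  have hε2 : ε ^ 2 = 1 := by rcases hε with h | h <;> rw [h] <;> norm_num
  have hsqZ' : (sgn j0 + 2 * sgn j1) ^ 2 = (sgn j0 + 2 * sgn j2) ^ 2 := by
    have e : ∀ x : ℤ, (ε * x) ^ 2 = x ^ 2 := by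
      intro x; rw [mul_pow, hε2, one_mul]
    rwa [e, e] at hsqZ
  rcases H.sgn_sq j0 with a0 | a0 <;> rcases H.sgn_sq j1 with a1' | a1' <;>
    rcases H.sgn_sq j2 with a2 | a2 <;> rw [a0, a1', a2] at hs hsqZ' <;> omega

end Cfsg.Agent.Helper3.BSW
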