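import Mathlib
import Cfsg.Agent.Lib.Helper3.BcgloBasic

set_option autoImplicit false

/-!
Piece FR2 of the saturation criterion: if every automorphism of `P` in the system extends to `U`, and
the automorphisms of `U` induced by `N_S(P)` form a Sylow subgroup of the stabilizer of `P`, then `P` is
fully automized.
-/

namespace Cfsg.Agent.Helper22.BcgloFR2

open Cfsg Cfsg.FusionSystem Cfsg.Agent.Helper25 Cfsg.Agent.Helper3.Bcglo

variable {Ω : Type*} [Group Ω] {S : Subgroup Ω}

theorem stab_maps {F : FusionSystem S} {P U : Subgroup Ω} (hPU : P ≤ U) :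
    ∀ α ∈ stabAut F hPU, ∀ x : U, (x : Ω) ∈ P → ((α x : U) : Ω) ∈ P := by
  intro α hα
  exact (mem_KP.mp hα.2).1

/-- conjugation by an element normalizing `U`, as an automorphism of `U` -/
theorem exists_conjAut {U : Subgroup Ω} {g : Ω} (hg : g ∈ Subgroup.normalizer (U : Set Ω)) :
    ∃ α : MulAut U, ∀ x : U, ((α x : U) : Ω) = g * (x : Ω) * g⁻¹ := by
  have h1 : ∀ x : U, g * (x : Ω) * g⁻¹ ∈ U := fun x =>
    (Subgroup.mem_normalizer_iff.mp hg x).mp x.2
  have h2 : ∀ x : U, g⁻¹ * (x : Ω) * g ∈ U := fun x => by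
    have := (Subgroup.mem_normalizer_iff.mp (Subgroup.inv_mem _ hg) x).mp x.2
    simpa using this
  refine ⟨{ toFun := fun x => ⟨g * (x : Ω) * g⁻¹, h1 x⟩
            invFun := fun x => ⟨g⁻¹ * (x : Ω) * g, h2 x⟩
            left_inv := fun x => Subtype.ext (by simp [mul_assoc])
            right_inv := fun x => Subtype.ext (by simp [mul_assoc])
            map_mul' := fun x y => Subtype.ext (by simp [mul_assoc]) }, fun x => rfl⟩

theorem isFullyAutomized_of_ext [Finite S] {p : ℕ} [Fact p.Prime] {F : FusionSystem S}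
    {P : Subgroup Ω} (hS : IsPGroup p S) (hP : P ≤ S) {U : Subgroup Ω} (hPU : P ≤ U)
    (hUN : U ≤ normalizerIn S P)
    (hwc : ∀ ψ ∈ F.Hom U, (∀ x : P, ψ (Subgroup.inclusion hPU x) ∈ P) → ψ.range = U)
    (hsyl : IsSylowIn p (autInducedBy (normalizerIn S P) U) (stabAut F hPU))
    (hext : F.autGroup P ≤ extSub F hPU) : F.IsFullyAutomized p P := by
  have hUS : U ≤ S := hUN.trans normalizerIn_le
  have : Finite U := Finite.of_injective (Subgroup.inclusion hUS) (Subgroup.inclusion_injective hUS)
  have : Finite (MulAut U) :=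
    Finite.of_injective (fun α : MulAut U => (α : U → U)) (fun a b h => by
      ext x; exact congrArg Subtype.val (congrFun h x))
  set B := stabAut F hPU with hB
  have hBmaps := stab_maps (F := F) hPU
  set res := resHom hPU B hBmaps with hres
  obtain ⟨T, hT⟩ := (isSylowIn_iff_exists_sylow hsyl.1).mp hsyl
  have h1 : IsSylowIn p (T : Subgroup B) ⊤ := isSylowIn_top_of_sylow T
  have h2 := IsSylowIn.map_hom res h1
  -- the image of the whole stabilizer is the automorphism group of `P`
  have e2 : (⊤ : Subgroup B).map res = F.autGroup P := by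
    apply le_antisymm
    · rintro _ ⟨α, -, rfl⟩
      rw [mem_autGroup_iff F hP]
      have hα : U.subtype.comp (α.1 : MulAut U).toMonoidHom ∈ F.Hom U :=
        (mem_autGroup_iff F hUS α.1).mp α.2.1
      have hr := restrict_mem F hPU hα
      have : P.subtype.comp (res α).toMonoidHom =
          (U.subtype.comp (α.1 : MulAut U).toMonoidHom).comp (Subgroup.inclusion hPU) := by
        ext x
        rfl
      rw [this]
      exact hr
    · intro γ hγ
      obtain ⟨β, hβ, hβγ⟩ := (mem_extSub F hPU γ).mp (hext hγ)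
      have hβinv : ∀ y : P, β⁻¹ (Subgroup.inclusion hPU y) = Subgroup.inclusion hPU (γ⁻¹ y) := by
        intro y
        have := hβγ (γ⁻¹ y)
        rw [MulAut.apply_inv_self] at this
        rw [← this, MulAut.inv_apply_self]
      have hβB : β ∈ B := by
        refine ⟨hβ, ?_⟩
        show β ∈ KP (⊤ : Subgroup (MulAut P)) P U hPU
        rw [mem_KP]
        refine ⟨fun x hx => ?_, fun x hx => ?_, γ, Subgroup.mem_top _, fun x => ?_⟩
        · have : x = Subgroup.inclusion hPU ⟨x, hx⟩ := Subtype.ext rfl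
          rw [this, hβγ]
          exact (γ ⟨x, hx⟩).2
        · have : x = Subgroup.inclusion hPU ⟨x, hx⟩ := Subtype.ext rfl
          rw [this, hβinv]
          exact (γ⁻¹ ⟨x, hx⟩).2
        · rw [hβγ]
          rfl
      refine ⟨⟨β, hβB⟩, Subgroup.mem_top _, ?_⟩
      ext x
      rw [hres, resHom_apply_coe]
      show (((β (Subgroup.inclusion hPU x) : U)) : Ω) = _
      rw [hβγ]
      rfl
  -- the image of the induced automorphisms of `U` is the group of induced automorphisms of `P`
  have e1 : (T : Subgroup B).map res = autInducedBy S P := by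
    rw [hT]
    apply le_antisymm
    · rintro _ ⟨α, hα, rfl⟩
      have hα' : (α : MulAut U) ∈ autInducedBy (normalizerIn S P) U := Subgroup.mem_subgroupOf.mp hα
      obtain ⟨g, hg, hgα⟩ := (mem_autInducedBy_iff _).mp hα'
      rw [mem_autInducedBy_iff]
      refine ⟨g, hg.1, fun x => ?_⟩
      rw [hres, resHom_apply_coe, hgα]
      rfl
    · intro δ hδ
      obtain ⟨g, hgS, hgδ⟩ := (mem_autInducedBy_iff δ).mp hδ
      -- `g` normalizes `P`
      have hgP : ∀ y ∈ P, g * y * g⁻¹ ∈ P := fun y hy => by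
        have := hgδ ⟨y, hy⟩
        rw [← this]
        exact (δ ⟨y, hy⟩).2
      have hgP' : ∀ y ∈ P, g⁻¹ * y * g ∈ P := fun y hy => by
        have := hgδ (δ⁻¹ ⟨y, hy⟩)
        rw [MulAut.apply_inv_self] at this
        have e : g⁻¹ * y * g = ((δ⁻¹ ⟨y, hy⟩ : P) : Ω) := by
          have h3 : (y : Ω) = g * ((δ⁻¹ ⟨y, hy⟩ : P) : Ω) * g⁻¹ := this
          generalize ((δ⁻¹ ⟨y, hy⟩ : P) : Ω) = w at h3
          rw [h3]
          group
        rw [e]
        exact (δ⁻¹ ⟨y, hy⟩).2
      have hgN : g ∈ normalizerIn S P := ⟨hgS, mem_normalizer_of_forall hgP hgP'⟩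
      -- elements of `N_S(P)` normalize `U`
      have hnormU : ∀ k ∈ normalizerIn S P, ∀ y ∈ U, k * y * k⁻¹ ∈ U := by
        intro k hk y hy
        have hc : conjHom U k ∈ F.Hom U := F.conj_mem hUS hk.1
        have hr := hwc (conjHom U k) hc (fun x => by
          rw [conjHom_apply]
          exact (Subgroup.mem_normalizer_iff.mp hk.2 _).mp x.2)
        rw [← hr]
        exact ⟨⟨y, hy⟩, rfl⟩
      have hgU : g ∈ Subgroup.normalizer (U : Set Ω) := by
        apply mem_normalizer_of_forall (hnormU g hgN)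
        intro y hy
        have := hnormU g⁻¹ ((normalizerIn S P).inv_mem hgN) y hy
        simpa using this
      obtain ⟨α, hα⟩ := exists_conjAut hgU
      have hαN : α ∈ autInducedBy (normalizerIn S P) U :=
        (mem_autInducedBy_iff α).mpr ⟨g, hgN, hα⟩
      have hαB : α ∈ B := hsyl.1 hαN
      refine ⟨⟨α, hαB⟩, Subgroup.mem_subgroupOf.mpr hαN, ?_⟩
      ext x
      rw [hres, resHom_apply_coe]
      show ((α (Subgroup.inclusion hPU x) : U) : Ω) = _
      rw [hα, hgδ]
      rfl
  rw [e1, e2] at h2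
  exact (isFullyAutomized_iff F p hP).mpr h2

end Cfsg.Agent.Helper22.BcgloFR2
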