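import Mathlib
import Cfsg.Agent.Lib.Helper3.BcgloBasic
import Cfsg.Agent.Lib.Helper22.BcgloFR2

set_option autoImplicit false

/-!
Piece FR1 of the saturation criterion: the automorphisms of `U` induced by `N_S(P)` form a Sylow
subgroup of the stabilizer of `P` in the automorphism group of `U`, and `U` is receptive.
-/

namespace Cfsg.Agent.Helper22.BcgloFR1

open Cfsg Cfsg.FusionSystem Cfsg.Agent.Helper25 Cfsg.Agent.Helper3.Bcglo
open Cfsg.Agent.Helper22.BcgloFR2

variable {Ω : Type*} [Group Ω] {S : Subgroup Ω}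

theorem induced_mono {K L Q : Subgroup Ω} (hKL : K ≤ L) : autInducedBy K Q ≤ autInducedBy L Q := by
  intro β hβ
  obtain ⟨g, hg, hgβ⟩ := (mem_autInducedBy_iff β).mp hβ
  exact (mem_autInducedBy_iff β).mpr ⟨g, hKL hg, hgβ⟩

theorem sylow_stabAut [Finite S] {p : ℕ} [Fact p.Prime] {F : FusionSystem S} {P : Subgroup Ω}
    (h : Ctx F p P) (hA : GoalA F P) {U : Subgroup Ω} (hPU : P ≤ U) (hne : P ≠ U)
    (hUN : U ≤ normalizerIn S P)
    (hwc : ∀ ψ ∈ F.Hom U, (∀ x : P, ψ (Subgroup.inclusion hPU x) ∈ P) → ψ.range = U) :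
    IsSylowIn p (autInducedBy (normalizerIn S P) U) (stabAut F hPU) ∧ F.IsReceptive U := by
  have hS := h.hS
  have hUS : U ≤ S := hUN.trans normalizerIn_le
  have hPS : P ≤ S := h.hP
  have : Finite U := Finite.of_injective (Subgroup.inclusion hUS) (Subgroup.inclusion_injective hUS)
  have : Finite P := Finite.of_injective (Subgroup.inclusion hPU) (Subgroup.inclusion_injective hPU)
  have : Finite (MulAut U) :=
    Finite.of_injective (fun α : MulAut U => (α : U → U)) (fun a b hab => by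
      ext x; exact congrArg Subtype.val (congrFun hab x))
  have hcard : Nat.card P < Nat.card U := by
    rcases lt_or_eq_of_le (Subgroup.card_le_of_le hPU) with hlt | heq
    · exact hlt
    · exact absurd (Subgroup.eq_of_le_of_card_ge hPU heq.ge) hne
  have hgood : Good F p U := h.hbig U hUS hcard
  set B := stabAut F hPU with hB
  have hBle : B ≤ F.autGroup U := inf_le_left
  obtain ⟨b, hb, hbfc, hbsyl⟩ := exists_kgood p hS F hgood hUS hBle
  have hbS : ∀ x : U, b x ∈ S := (F.le_of_mem hb).2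
  have hbinj : Function.Injective b := F.injective_of_mem hb
  -- the image of `P`
  set P₁ : Subgroup Ω := (P.subgroupOf U).map b with hP₁
  have hmemP₁ : ∀ x : U, (x : Ω) ∈ P → b x ∈ P₁ := fun x hx =>
    ⟨x, Subgroup.mem_subgroupOf.mpr hx, rfl⟩
  have hconj : F.IsConj P P₁ := by
    refine ⟨b.comp (Subgroup.inclusion hPU), restrict_mem F hPU hb, ?_⟩
    ext y
    constructor
    · rintro ⟨x, rfl⟩
      exact hmemP₁ _ x.2
    · rintro ⟨x, hx, rfl⟩
      exact ⟨⟨x, Subgroup.mem_subgroupOf.mp hx⟩, rfl⟩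
  obtain ⟨σ₁, hσ₁, hσ₁N, hσ₁P⟩ := hA P₁ hconj
  have hσ₁inj : Function.Injective σ₁ := F.injective_of_mem hσ₁
  -- `b(U)` normalizes `P₁`
  have hbN : ∀ u : U, b u ∈ normalizerIn S P₁ := by
    intro u
    refine ⟨hbS u, ?_⟩
    have key : ∀ v : U, ∀ y ∈ P₁, b v * y * (b v)⁻¹ ∈ P₁ := by
      rintro v _ ⟨x, hx, rfl⟩
      rw [← map_inv, ← map_mul, ← map_mul]
      apply hmemP₁
      have hv : (v : Ω) ∈ normalizerIn S P := hUN v.2
      exact (Subgroup.mem_normalizer_iff.mp hv.2 _).mp (Subgroup.mem_subgroupOf.mp hx)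
    apply mem_normalizer_of_forall (key u)
    intro y hy
    have := key u⁻¹ y hy
    simpa using this
  -- the composite map
  set ψ : U →* Ω := σ₁.comp (b.codRestrict (normalizerIn S P₁) hbN) with hψdef
  have hψ : ψ ∈ F.Hom U := F.comp_mem hb hσ₁ hbN
  have hψapply : ∀ u : U, ψ u = σ₁ ⟨b u, hbN u⟩ := fun u => rfl
  have hψinj : Function.Injective ψ := F.injective_of_mem hψ
  have hσ₁mem : ∀ (y : Ω) (hy : y ∈ normalizerIn S P₁), y ∈ P₁ → σ₁ ⟨y, hy⟩ ∈ P := by
    intro y hy hyP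
    rw [← hσ₁P]
    exact ⟨⟨y, hy⟩, Subgroup.mem_subgroupOf.mpr hyP, rfl⟩
  have hψP : ∀ x : U, (x : Ω) ∈ P → ψ x ∈ P := by
    intro x hx
    rw [hψapply]
    exact hσ₁mem _ _ (hmemP₁ x hx)
  have hψrange : ψ.range = U := hwc ψ hψ (fun x => hψP _ x.2)
  have hψU : ∀ x : U, ψ x ∈ U := fun x => by
    have h1 : ψ x ∈ ψ.range := ⟨x, rfl⟩
    rw [hψrange] at h1
    exact h1
  -- the automorphism `β₀` of `U`
  set f : U →* U := ψ.codRestrict U hψU with hf
  have hfinj : Function.Injective f := by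
    intro x y hxy
    apply hψinj
    exact congrArg Subtype.val hxy
  have hfbij : Function.Bijective f := ⟨hfinj, Finite.injective_iff_surjective.mp hfinj⟩
  set β₀ : MulAut U := MulEquiv.ofBijective f hfbij with hβ₀
  have hβ₀apply : ∀ x : U, ((β₀ x : U) : Ω) = ψ x := fun x => rfl
  -- restriction to `P`
  set r : P →* P := (ψ.comp (Subgroup.inclusion hPU)).codRestrict P (fun x => hψP _ x.2) with hr
  have hrinj : Function.Injective r := by
    intro x y hxy
    have h1 : ψ (Subgroup.inclusion hPU x) = ψ (Subgroup.inclusion hPU y) :=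
      congrArg Subtype.val hxy
    exact Subgroup.inclusion_injective hPU (hψinj h1)
  have hrbij : Function.Bijective r := ⟨hrinj, Finite.injective_iff_surjective.mp hrinj⟩
  have hβ₀B : β₀ ∈ B := by
    refine ⟨?_, ?_⟩
    · show β₀ ∈ F.autGroup U
      rw [mem_autGroup_iff F hUS]
      have : U.subtype.comp β₀.toMonoidHom = ψ := by
        ext x; rfl
      rw [this]
      exact hψ
    · show β₀ ∈ KP (⊤ : Subgroup (MulAut P)) P U hPU
      rw [mem_KP]
      refine ⟨fun x hx => ?_, fun x hx => ?_, MulEquiv.ofBijective r hrbij,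
        Subgroup.mem_top _, fun x => rfl⟩
      · rw [hβ₀apply]
        exact hψP x hx
      · obtain ⟨y, hy⟩ := hrbij.2 ⟨x, hx⟩
        have e : β₀ (Subgroup.inclusion hPU y) = x := by
          apply Subtype.ext
          rw [hβ₀apply]
          exact congrArg Subtype.val hy
        rw [← e, MulAut.inv_apply_self]
        exact y.2
  -- conjugates of the good Sylow subgroup land in the induced automorphisms
  have hconjle : Cfsg.conjBy (TK S B b) β₀ ≤ autInducedBy (normalizerIn S P) U := by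
    intro α hα
    rw [mem_conjBy] at hα
    obtain ⟨hκB, g, hgS, hgκ⟩ := hα
    set κ := β₀⁻¹ * α * β₀ with hκ
    have hκKP := mem_KP.mp hκB.2
    -- `g` normalizes `P₁`
    have hgP₁ : ∀ y ∈ P₁, g * y * g⁻¹ ∈ P₁ := by
      rintro _ ⟨x, hx, rfl⟩
      rw [hgκ]
      exact hmemP₁ _ (hκKP.1 x (Subgroup.mem_subgroupOf.mp hx))
    have hgP₁' : ∀ y ∈ P₁, g⁻¹ * y * g ∈ P₁ := by
      rintro _ ⟨x, hx, rfl⟩
      have h1 := hgκ (κ⁻¹ x)
      rw [MulAut.apply_inv_self] at h1
      have h2 : g⁻¹ * b x * g = b (κ⁻¹ x) := by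
        rw [← h1]; group
      rw [h2]
      exact hmemP₁ _ (hκKP.2.1 x (Subgroup.mem_subgroupOf.mp hx))
    have hgN : g ∈ normalizerIn S P₁ := ⟨hgS, mem_normalizer_of_forall hgP₁ hgP₁'⟩
    rw [mem_autInducedBy_iff]
    refine ⟨σ₁ ⟨g, hgN⟩, hσ₁N _, fun x => ?_⟩
    -- `α = β₀ κ β₀⁻¹`
    have hα' : α = β₀ * κ * β₀⁻¹ := by
      rw [hκ]; group
    set y := β₀⁻¹ x with hy
    have hxy : x = β₀ y := by rw [hy, MulAut.apply_inv_self]
    have e1 : ((α x : U) : Ω) = ψ (κ y) := by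
      rw [hα']
      show ((β₀ (κ (β₀⁻¹ x)) : U) : Ω) = ψ (κ y)
      rw [hβ₀apply]
    have e2 : ((x : U) : Ω) = ψ y := by
      rw [hxy, hβ₀apply]
    rw [e1, e2, hψapply, hψapply]
    have e3 : (⟨b (κ y), hbN (κ y)⟩ : ↥(normalizerIn S P₁)) =
        ⟨g, hgN⟩ * ⟨b y, hbN y⟩ * ⟨g, hgN⟩⁻¹ := Subtype.ext (hgκ y).symm
    rw [e3, map_mul, map_mul, map_inv]
  -- the induced automorphisms lie in the stabilizer
  have hAB : autInducedBy (normalizerIn S P) U ≤ B := by
    intro α hα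
    obtain ⟨k, hk, hkα⟩ := (mem_autInducedBy_iff α).mp hα
    refine ⟨autInducedBy_le_autGroup F hUS (induced_mono normalizerIn_le hα), ?_⟩
    show α ∈ KP (⊤ : Subgroup (MulAut P)) P U hPU
    rw [mem_KP]
    obtain ⟨κ, hκ⟩ := exists_conjAut hk.2
    refine ⟨fun x hx => ?_, fun x hx => ?_, κ, Subgroup.mem_top _, fun x => ?_⟩
    · rw [hkα]
      exact (Subgroup.mem_normalizer_iff.mp hk.2 _).mp hx
    · have h1 := hkα (α⁻¹ x)
      rw [MulAut.apply_inv_self] at h1
      have h2 : ((α⁻¹ x : U) : Ω) = k⁻¹ * (x : Ω) * k := by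
        rw [h1]; group
      rw [h2]
      have := (Subgroup.mem_normalizer_iff.mp (Subgroup.inv_mem _ hk.2) _).mp hx
      simpa using this
    · rw [hkα, hκ]
      rfl
  have hAp : IsPGroup p (autInducedBy (normalizerIn S P) U) :=
    (isPGroup_autInducedBy hS U).to_le (induced_mono normalizerIn_le)
  have hsyl' : IsSylowIn p (Cfsg.conjBy (TK S B b) β₀) B := by
    have := hbsyl.conj β₀
    rwa [conjBy_of_mem hβ₀B] at this
  have heq : autInducedBy (normalizerIn S P) U = Cfsg.conjBy (TK S B b) β₀ :=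
    hsyl'.2.2 _ hAB hAp hconjle
  refine ⟨heq ▸ hsyl', ?_⟩
  -- receptivity
  have hconjU : F.IsConj U b.range := ⟨b, hb, rfl⟩
  have hcentle : Nat.card (centralizerIn S b.range) ≤ Nat.card (centralizerIn S U) := by
    have hcN : ∀ c : centralizerIn S b.range, (c : Ω) ∈ normalizerIn S P₁ := by
      intro c
      have hc := mem_centralizerIn.mp c.2
      refine ⟨hc.1, ?_⟩
      have key : ∀ d : Ω, (∀ x ∈ b.range, x * d = d * x) → ∀ y ∈ P₁, d * y * d⁻¹ ∈ P₁ := by
        rintro d hd _ ⟨x, hx, rfl⟩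
        have := hd (b x) ⟨x, rfl⟩
        have e : d * b x * d⁻¹ = b x := by rw [← this]; group
        rw [e]
        exact hmemP₁ x (Subgroup.mem_subgroupOf.mp hx)
      apply mem_normalizer_of_forall (key c hc.2)
      have hk := key (c : Ω)⁻¹ ?_
      · intro y hy
        have := hk y hy
        simpa using this
      intro x hx
      have := hc.2 x hx
      calc x * (c : Ω)⁻¹ = (c : Ω)⁻¹ * ((c : Ω) * x) * (c : Ω)⁻¹ := by group
        _ = (c : Ω)⁻¹ * (x * (c : Ω)) * (c : Ω)⁻¹ := by rw [this]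
        _ = (c : Ω)⁻¹ * x := by group
    have hcimg : ∀ c : centralizerIn S b.range, σ₁ ⟨c, hcN c⟩ ∈ centralizerIn S U := by
      intro c
      have hc := mem_centralizerIn.mp c.2
      rw [mem_centralizerIn]
      refine ⟨(hσ₁N _).1, fun x hx => ?_⟩
      rw [← hψrange] at hx
      obtain ⟨u, rfl⟩ := hx
      rw [hψapply, ← map_mul, ← map_mul]
      congr 1
      apply Subtype.ext
      exact hc.2 (b u) ⟨u, rfl⟩
    have : Finite (centralizerIn S U) := finite_of_le_finite centralizerIn_le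
    apply Nat.card_le_card_of_injective
      (fun c : centralizerIn S b.range => (⟨σ₁ ⟨c, hcN c⟩, hcimg c⟩ : centralizerIn S U))
    intro c d hcd
    have h1 : σ₁ ⟨c, hcN c⟩ = σ₁ ⟨d, hcN d⟩ := congrArg Subtype.val hcd
    have h2 := hσ₁inj h1
    have h3 : (c : Ω) = (d : Ω) := congrArg (fun z : ↥(normalizerIn S P₁) => (z : Ω)) h2
    exact Subtype.ext h3
  have hfc : F.IsFullyCentralized U := by
    refine ⟨hUS, fun Q hQ => ?_⟩
    have h1 : F.IsConj b.range Q := isConj_trans F (isConj_symm F hconjU) hQ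
    exact (hbfc.2 Q h1).trans hcentle
  exact isReceptive_of_good p hS F hgood hfc

end Cfsg.Agent.Helper22.BcgloFR1
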