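import Mathlib

set_option autoImplicit false

namespace Cfsg.Agent.Helper22

open scoped Pointwise

/-- If the pointwise stabilizer of `s` acts primitively on the complement of `s`, then any
subset `B` of the complement whose translates under the pointwise stabilizer are equal to or
disjoint from `B` is a subsingleton or the whole complement. -/
theorem subsingleton_or_eq_compl_of_block {G X : Type*} [Group G] [MulAction G X] (s : Set X)
    (hp : MulAction.IsPreprimitive (fixingSubgroup G s) (SubMulAction.ofFixingSubgroup G s))
    (B : Set X) (hBs : B ⊆ sᶜ)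
    (hB : ∀ g ∈ fixingSubgroup G s, g • B = B ∨ Disjoint (g • B) B) :
    B.Subsingleton ∨ B = sᶜ := by
  set B' : Set (SubMulAction.ofFixingSubgroup G s) := Subtype.val ⁻¹' B with hB'
  have hsmul : ∀ g : fixingSubgroup G s, g • B' = Subtype.val ⁻¹' ((g : G) • B) := by
    intro g
    ext y
    rw [Set.mem_smul_set_iff_inv_smul_mem, Set.mem_preimage, Set.mem_preimage,
      Set.mem_smul_set_iff_inv_smul_mem]
    rfl
  have hblock : MulAction.IsBlock (fixingSubgroup G s) B' := by
    rw [MulAction.isBlock_iff_smul_eq_or_disjoint]
    intro g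
    rcases hB g g.2 with h | h
    · left
      rw [hsmul, h]
    · right
      rw [hsmul]
      exact Disjoint.preimage _ h
  rcases hp.isTrivialBlock_of_isBlock hblock with h | h
  · left
    intro x hx y hy
    have hx' : (⟨x, hBs hx⟩ : SubMulAction.ofFixingSubgroup G s) ∈ B' := hx
    have hy' : (⟨y, hBs hy⟩ : SubMulAction.ofFixingSubgroup G s) ∈ B' := hy
    exact congrArg Subtype.val (h hx' hy')
  · right
    apply Set.Subset.antisymm hBs
    intro x hx
    have : (⟨x, hx⟩ : SubMulAction.ofFixingSubgroup G s) ∈ B' := by
      rw [h]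
      trivial
    exact this

/-- Regular action of a subgroup: elements are determined by the image of one point. -/
theorem eq_of_smul_eq_of_stabilizer_eq_bot {G X : Type*} [Group G] [MulAction G X]
    (N : Subgroup G) (a : X) (hreg : MulAction.stabilizer N a = ⊥) {u v : G} (hu : u ∈ N)
    (hv : v ∈ N) (h : u • a = v • a) : u = v := by
  have h1 : (⟨v⁻¹ * u, N.mul_mem (N.inv_mem hv) hu⟩ : N) ∈ MulAction.stabilizer N a := by
    rw [MulAction.mem_stabilizer_iff]
    show (v⁻¹ * u) • a = a
    rw [mul_smul, h, ← mul_smul, inv_mul_cancel, one_smul]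
  rw [hreg, Subgroup.mem_bot] at h1
  have h2 : v⁻¹ * u = 1 := congrArg Subtype.val h1
  have := congrArg (fun x => v * x) h2
  simpa using this

/-- A regular subgroup is in bijection with the set acted upon. -/
theorem card_eq_of_regular {G X : Type*} [Group G] [MulAction G X]
    (N : Subgroup G) (a : X) [ht : MulAction.IsPretransitive N X]
    (hreg : MulAction.stabilizer N a = ⊥) : Nat.card N = Nat.card X := by
  apply Nat.card_congr
  refine Equiv.ofBijective (fun n : N => n • a) ⟨?_, ?_⟩
  · intro n m h
    apply Subtype.ext
    exact eq_of_smul_eq_of_stabilizer_eq_bot N a hreg n.2 m.2 h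
  · intro x
    exact ht.exists_smul_eq a x

end Cfsg.Agent.Helper22
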