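import Mathlib
import Cfsg.Agent.Lib.Helper26.CG3Defs
import Cfsg.Agent.Lib.Helper26.CG3Tbl
import Cfsg.Agent.Lib.Helper2.CG3T0A
import Cfsg.Agent.Lib.Helper2.CG3T0B

/-!
S3412 piece **CG3-T3**: `code_s4`, `code_u6` (the orders of `C(t0) ∩ C(g)` read off the table).
-/

set_option autoImplicit false
set_option linter.unusedVariables false

namespace Cfsg.Agent.Helper26.CG3

theorem t3_LT_nodup : LT.Nodup := by decide +kernel

theorem t3_LT_valid : ∀ n ∈ LT, n < 19683 ∧ cdet n = 1 := by decide +kernel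

/-- the table facts behind `code_s4` and `code_u6` -/
theorem t3_table : ∀ n ∈ LT, n ≠ I0 →
    ((look n).length = 48 → n ≠ T0 → (LT.filter (fun k => decide (k ∈ look n))).length = 4) ∧
    ((look n).length = 54 → (LT.filter (fun k => decide (k ∈ look n))).length = 6) := by
  decide +kernel

/-- the common part: for `g ∈ C(t0)`, `g ≠ e0`, the number of common neighbours is read off the table -/
theorem t3_card (g : Code) (hg : Rc t0 g) (hne : g.1 ≠ I0) :
    Nat.card {h : Code // Rc t0 h ∧ Rc g h} = (LT.filter (fun k => decide (k ∈ look g.1))).length := by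
  have hgL : g.1 ∈ LT := (Rc_t0_iff g).1 hg
  rw [← card_code_mem LT t3_LT_nodup t3_LT_valid (fun k => k ∈ look g.1)]
  apply Nat.card_congr
  apply Equiv.subtypeEquivRight
  intro h
  rw [Rc_t0_iff h, Rc_iff_look g h (Or.inl hgL) hne]

theorem t3_ne_I0 (g : Code) (hc : cR Rc g ≠ 5616) : g.1 ≠ I0 := by
  intro h
  apply hc
  have : g = e0 := Subtype.ext h
  rw [this, cR_e0]

/-- T3 -/
theorem code_s4 : ∀ g : Code, Rc t0 g → g ≠ t0 → cR Rc g = 48 → Nat.card {h : Code // Rc t0 h ∧ Rc g h} = 4 := by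
  intro g hg hgt hc
  have hne : g.1 ≠ I0 := t3_ne_I0 g (by rw [hc]; norm_num)
  have hgL : g.1 ∈ LT := (Rc_t0_iff g).1 hg
  rw [t3_card g hg hne]
  have hlen : (look g.1).length = 48 := by rw [← cR_look g (Or.inl hgL) hne, hc]
  have hT : g.1 ≠ T0 := fun h => hgt (Subtype.ext h)
  exact (t3_table g.1 hgL hne).1 hlen hT

/-- T3 -/
theorem code_u6 : ∀ g : Code, Rc t0 g → cR Rc g = 54 → Nat.card {h : Code // Rc t0 h ∧ Rc g h} = 6 := by
  intro g hg hc
  have hne : g.1 ≠ I0 := t3_ne_I0 g (by rw [hc]; norm_num)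
  have hgL : g.1 ∈ LT := (Rc_t0_iff g).1 hg
  rw [t3_card g hg hne]
  have hlen : (look g.1).length = 54 := by rw [← cR_look g (Or.inl hgL) hne, hc]
  exact (t3_table g.1 hgL hne).2 hlen

end Cfsg.Agent.Helper26.CG3
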