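import Mathlib
import Cfsg.Agent.Lib.Helper26.CG3Defs
import Cfsg.Agent.Lib.Helper26.CG3Tbl
import Cfsg.Agent.Lib.Helper2.CG3T0A
import Cfsg.Agent.Lib.Helper2.CG3T0B

/-!
S3412 piece **CG3-T4**: `code_scen`, `code_ucen` (the centre of `C(g)` read off the table).
-/

set_option autoImplicit false
set_option linter.unusedVariables false

namespace Cfsg.Agent.Helper26.CG3

/-- the table facts behind `code_scen` and `code_ucen` -/
theorem t4_table : ∀ n ∈ LT, n ≠ I0 →
    ((look n).length = 48 → ∀ y ∈ look n, (∀ h ∈ look n, cb y h = true) → y = I0 ∨ y = n) ∧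
    ((look n).length = 54 →
      ((look n).filter (fun y => decide (∀ h ∈ look n, cb y h = true))).length = 3) := by
  decide +kernel

/-- the members of a centralizer list are codes -/
theorem t4_valid (n : ℕ) (hn : n ∈ LT ∨ n = X0) (h1 : n ≠ I0) :
    ∀ h ∈ look n, h < 19683 ∧ cdet h = 1 := by
  intro h hh
  rw [← look_ok n hn h1, List.mem_filter, List.mem_range] at hh
  refine ⟨hh.1, ?_⟩
  have h2 := hh.2
  unfold commB at h2
  rw [Bool.and_eq_true] at h2
  exact beq_iff_eq.1 h2.1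

theorem t4_nodup (n : ℕ) (hn : n ∈ LT ∨ n = X0) (h1 : n ≠ I0) : (look n).Nodup := by
  rw [← look_ok n hn h1]
  exact List.Nodup.filter _ List.nodup_range

theorem t4_ne_I0 (g : Code) (hc : cR Rc g ≠ 5616) : g.1 ≠ I0 := by
  intro h
  apply hc
  have : g = e0 := Subtype.ext h
  rw [this, cR_e0]

/-- centrality in terms of the table -/
theorem t4_central_iff (g y : Code) (hgL : g.1 ∈ LT) (hne : g.1 ≠ I0) :
    (∀ h : Code, Rc g h → Rc y h) ↔ ∀ h ∈ look g.1, cb y.1 h = true := by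
  constructor
  · intro hall h hh
    obtain ⟨h1, h2⟩ := t4_valid g.1 (Or.inl hgL) hne h hh
    exact hall ⟨h, h1, h2⟩ ((Rc_iff_look g ⟨h, h1, h2⟩ (Or.inl hgL) hne).2 hh)
  · intro hall h hh
    exact hall h.1 ((Rc_iff_look g h (Or.inl hgL) hne).1 hh)

/-- T4 -/
theorem code_scen : ∀ g : Code, Rc t0 g → cR Rc g = 48 → ∀ y : Code, Rc g y →
    (∀ h : Code, Rc g h → Rc y h) → y = e0 ∨ y = g := by
  intro g hg hc y hy hall
  have hne : g.1 ≠ I0 := t4_ne_I0 g (by rw [hc]; norm_num)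
  have hgL : g.1 ∈ LT := (Rc_t0_iff g).1 hg
  have hlen : (look g.1).length = 48 := by rw [← cR_look g (Or.inl hgL) hne, hc]
  have hyL : y.1 ∈ look g.1 := (Rc_iff_look g y (Or.inl hgL) hne).1 hy
  rcases (t4_table g.1 hgL hne).1 hlen y.1 hyL ((t4_central_iff g y hgL hne).1 hall) with h | h
  · left
    exact Subtype.ext h
  · right
    exact Subtype.ext h

/-- T4 -/
theorem code_ucen : ∀ g : Code, Rc t0 g → cR Rc g = 54 →
    Nat.card {y : Code // Rc g y ∧ ∀ h : Code, Rc g h → Rc y h} = 3 := by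
  intro g hg hc
  have hne : g.1 ≠ I0 := t4_ne_I0 g (by rw [hc]; norm_num)
  have hgL : g.1 ∈ LT := (Rc_t0_iff g).1 hg
  have hlen : (look g.1).length = 54 := by rw [← cR_look g (Or.inl hgL) hne, hc]
  have h1 : Nat.card {y : Code // Rc g y ∧ ∀ h : Code, Rc g h → Rc y h} =
      Nat.card {y : Code // y.1 ∈ look g.1 ∧ ∀ h ∈ look g.1, cb y.1 h = true} := by
    apply Nat.card_congr
    apply Equiv.subtypeEquivRight
    intro y
    rw [Rc_iff_look g y (Or.inl hgL) hne, t4_central_iff g y hgL hne]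
  rw [h1, card_code_mem (look g.1) (t4_nodup g.1 (Or.inl hgL) hne) (t4_valid g.1 (Or.inl hgL) hne)
    (fun n => ∀ h ∈ look g.1, cb n h = true)]
  exact (t4_table g.1 hgL hne).2 hlen

end Cfsg.Agent.Helper26.CG3
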