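import Mathlib

/-!
# Camina pairs: coset orders, the centralizer count (helper22)
-/

set_option autoImplicit false

namespace Cfsg.Agent.Helper22.Camina

variable {G : Type*} [Group G]

/-- `(G, N)` is a Camina pair: `g * n` is conjugate to `g` for all `g ∉ N`, `n ∈ N`. -/
def Cam (N : Subgroup G) : Prop :=
  ∀ g : G, g ∉ N → ∀ n ∈ N, ∃ x : G, x * g * x⁻¹ = g * n

/-- every element outside `N` which is an `r`-element modulo `N` is an `r`-element. -/
def RC (N : Subgroup G) (r : ℕ) : Prop :=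
  ∀ x : G, x ∉ N → ∀ k : ℕ, x ^ r ^ k ∈ N → ∃ m : ℕ, x ^ r ^ m = 1

/-- the group `Q` contains two commuting elements of order `r` generating different subgroups. -/
def CC (r : ℕ) (Q : Type*) [Group Q] : Prop :=
  ∃ a b : Q, orderOf a = r ∧ orderOf b = r ∧ a * b = b * a ∧ b ∉ Subgroup.zpowers a

theorem CC.of_equiv {r : ℕ} {Q Q' : Type*} [Group Q] [Group Q'] (e : Q ≃* Q') (h : CC r Q) :
    CC r Q' := by
  obtain ⟨a, b, ha, hb, hab, hba⟩ := h
  refine ⟨e a, e b, ?_, ?_, ?_, ?_⟩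
  · rw [← ha]; exact MulEquiv.orderOf_eq e a
  · rw [← hb]; exact MulEquiv.orderOf_eq e b
  · rw [← map_mul, ← map_mul, hab]
  · intro hmem
    apply hba
    obtain ⟨k, hk⟩ := Subgroup.mem_zpowers_iff.mp hmem
    rw [← map_zpow] at hk
    exact Subgroup.mem_zpowers_iff.mpr ⟨k, e.injective hk⟩

theorem rc_of_cam [Finite G] (N : Subgroup G) [N.Normal] (hcam : Cam N) {r : ℕ} (hr : r.Prime) :
    RC N r := by
  intro g hg k hk
  have ho : orderOf g ≠ 0 := (orderOf_pos g).ne'
  have hq : orderOf (QuotientGroup.mk' N g) ∣ r ^ k := by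
    apply orderOf_dvd_of_pow_eq_one
    rw [← map_pow]
    exact (QuotientGroup.eq_one_iff _).2 hk
  have key : ∀ {q : ℕ}, q.Prime → q ∣ orderOf g → q = r := by
    intro q hqp hqd
    by_contra hne
    have hcop : q.Coprime (orderOf (QuotientGroup.mk' N g)) := by
      apply Nat.Coprime.coprime_dvd_right hq
      exact Nat.Coprime.pow_right _ ((Nat.coprime_primes hqp hr).mpr hne)
    obtain ⟨u, hu⟩ := exists_pow_eq_self_of_coprime hcop
    have hn : g⁻¹ * g ^ (q * u) ∈ N := by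
      rw [← QuotientGroup.eq_one_iff]
      have h1 : ((g⁻¹ * g ^ (q * u) : G) : G ⧸ N) =
          (QuotientGroup.mk' N g)⁻¹ * ((QuotientGroup.mk' N g) ^ q) ^ u := by
        rw [← pow_mul]
        simp
      rw [h1, hu]
      exact inv_mul_cancel _
    obtain ⟨x, hx⟩ := hcam g hg _ hn
    rw [mul_inv_cancel_left] at hx
    have h2 : orderOf (g ^ (q * u)) = orderOf g := by
      rw [← hx]
      have := (MulAut.conj x).orderOf_eq g
      rwa [MulAut.conj_apply] at this
    have h3 : (g ^ (q * u)) ^ (orderOf g / q) = 1 := by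
      rw [← pow_mul]
      have : q * u * (orderOf g / q) = orderOf g * u := by
        obtain ⟨c, hc⟩ := hqd
        rw [hc, Nat.mul_div_cancel_left _ hqp.pos]
        ring
      rw [this, pow_mul, pow_orderOf_eq_one, one_pow]
    have h4 : orderOf g ∣ orderOf g / q := by
      have h4' : orderOf (g ^ (q * u)) ∣ orderOf g / q := orderOf_dvd_of_pow_eq_one h3
      rwa [h2] at h4'
    have h5 : orderOf g / q < orderOf g := Nat.div_lt_self (orderOf_pos g) hqp.one_lt
    have h6 : 0 < orderOf g / q := Nat.div_pos (Nat.le_of_dvd (orderOf_pos g) hqd) hqp.pos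
    exact absurd (Nat.le_of_dvd h6 h4) (not_le.2 h5)
  refine ⟨(orderOf g).primeFactorsList.length, ?_⟩
  rw [← Nat.eq_prime_pow_of_unique_prime_dvd ho key]
  exact pow_orderOf_eq_one g

theorem rc_cent {N : Subgroup G} {r : ℕ} (hRC : RC N r) {x y : G} (hx : x ∉ N) {k : ℕ}
    (hk : x ^ r ^ k ∈ N) (hy : y ∈ N) (hxy : y * x = x * y) : ∃ m : ℕ, y ^ r ^ m = 1 := by
  have hc : Commute x y := hxy.symm
  have hxy1 : x * y ∉ N := by
    intro h
    apply hx
    have := N.mul_mem h (N.inv_mem hy)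
    rwa [mul_inv_cancel_right] at this
  have hxy2 : (x * y) ^ r ^ k ∈ N := by
    rw [hc.mul_pow]
    exact N.mul_mem hk (N.pow_mem hy _)
  obtain ⟨a, ha⟩ := hRC x hx k hk
  obtain ⟨b, hb⟩ := hRC (x * y) hxy1 k hxy2
  refine ⟨a + b, ?_⟩
  have h1 : (x * y) ^ r ^ (a + b) = 1 := by
    rw [pow_add, mul_comm, pow_mul, hb, one_pow]
  have h2 : x ^ r ^ (a + b) = 1 := by
    rw [pow_add, pow_mul, ha, one_pow]
  rw [hc.mul_pow, h2, one_mul] at h1
  exact h1

/-- an element of `r`-power order and of order prime to `r` is trivial. -/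
theorem eq_one_of_pow_of_pow {r s : ℕ} (hr : r.Prime) (hs : s.Prime) (hrs : r ≠ s) {y : G} {a b : ℕ}
    (h1 : y ^ r ^ a = 1) (h2 : y ^ s ^ b = 1) : y = 1 := by
  have h3 : orderOf y ∣ r ^ a := orderOf_dvd_of_pow_eq_one h1
  have h4 : orderOf y ∣ s ^ b := orderOf_dvd_of_pow_eq_one h2
  have hcop : (r ^ a).Coprime (s ^ b) :=
    Nat.Coprime.pow _ _ ((Nat.coprime_primes hr hs).mpr hrs)
  exact orderOf_eq_one_iff.mp (Nat.eq_one_of_dvd_coprimes hcop h3 h4)

end Cfsg.Agent.Helper22.Camina
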