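import Mathlib
import Cfsg.Agent.Lib.Helper22.Camina1
import Cfsg.Agent.Lib.Helper20.ConjUnion

/-!
# Camina pairs: the centralizer count and elementary abelian sections of `G ⧸ N` (helper22)
-/

set_option autoImplicit false

namespace Cfsg.Agent.Helper22.Camina

variable {G : Type*} [Group G]

/-- the preimage of the centralizer of `g N` in `G ⧸ N`. -/
def ct (N : Subgroup G) [N.Normal] (g : G) : Subgroup G :=
  (Subgroup.centralizer {QuotientGroup.mk' N g}).comap (QuotientGroup.mk' N)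

theorem mem_ct (N : Subgroup G) [N.Normal] (g x : G) :
    x ∈ ct N g ↔ g⁻¹ * (x * g * x⁻¹) ∈ N := by
  unfold ct
  rw [Subgroup.mem_comap, Subgroup.mem_centralizer_singleton_iff, ← QuotientGroup.eq]
  have h1 : ((x * g * x⁻¹ : G) : G ⧸ N) =
      QuotientGroup.mk' N x * QuotientGroup.mk' N g * (QuotientGroup.mk' N x)⁻¹ := by simp
  rw [h1]
  constructor
  · intro h
    rw [h]
    simp
  · intro h
    have h2 : (QuotientGroup.mk' N g) = ((g : G) : G ⧸ N) := rfl
    rw [h2] at h ⊢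
    have h3 : (QuotientGroup.mk' N) x * (g : G ⧸ N) =
        ((QuotientGroup.mk' N) x * (g : G ⧸ N) * ((QuotientGroup.mk' N) x)⁻¹) *
          (QuotientGroup.mk' N) x := by group
    rw [h3, ← h]

theorem le_ct (N : Subgroup G) [N.Normal] (g : G) : N ≤ ct N g := by
  intro x hx
  rw [mem_ct]
  have h1 : g⁻¹ * (x * g * x⁻¹) = (g⁻¹ * x * g) * x⁻¹ := by group
  rw [h1]
  have h2 : g⁻¹ * x * g ∈ N := by
    have := Subgroup.Normal.conj_mem (inferInstance : N.Normal) x hx g⁻¹
    simpa using this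
  exact N.mul_mem h2 (N.inv_mem hx)

theorem centralizer_le_ct (N : Subgroup G) [N.Normal] (g : G) :
    Subgroup.centralizer ({g} : Set G) ≤ ct N g := by
  intro x hx
  rw [Subgroup.mem_centralizer_singleton_iff] at hx
  rw [mem_ct]
  have h1 : g⁻¹ * (x * g * x⁻¹) = 1 := by
    rw [hx]; group
  rw [h1]
  exact N.one_mem

theorem card_ct [Finite G] (N : Subgroup G) [N.Normal] (hcam : Cam N) {g : G} (hg : g ∉ N) :
    Nat.card (ct N g) = Nat.card (Subgroup.centralizer ({g} : Set G)) * Nat.card N := by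
  classical
  choose X hX using (fun n : N => hcam g hg n n.2)
  have hconj : ∀ (c : Subgroup.centralizer ({g} : Set G)) (n : N),
      (X n * c) * g * (X n * c)⁻¹ = g * n := by
    intro c n
    have hc : (c : G) * g = g * c := Subgroup.mem_centralizer_singleton_iff.mp c.2
    have h1 : (X n * c) * g * (X n * c)⁻¹ = X n * ((c : G) * g * (c : G)⁻¹) * (X n)⁻¹ := by group
    rw [h1, hc, mul_inv_cancel_right, hX]
  have hmem : ∀ (c : Subgroup.centralizer ({g} : Set G)) (n : N), X n * c ∈ ct N g := by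
    intro c n
    rw [mem_ct, hconj, inv_mul_cancel_left]
    exact n.2
  rw [← Nat.card_prod]
  symm
  refine Nat.card_congr (Equiv.ofBijective
    (fun p : Subgroup.centralizer ({g} : Set G) × N => (⟨X p.2 * p.1, hmem p.1 p.2⟩ : ct N g))
    ⟨?_, ?_⟩)
  · rintro ⟨c, n⟩ ⟨c', n'⟩ h
    have h0 : X n * (c : G) = X n' * (c' : G) := congrArg Subtype.val h
    have h1 : g * (n : G) = g * (n' : G) := by
      rw [← hconj c n, ← hconj c' n', h0]
    have h2 : n = n' := Subtype.ext (mul_left_cancel h1)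
    subst h2
    have h3 : c = c' := Subtype.ext (mul_left_cancel h0)
    rw [h3]
  · rintro ⟨x, hx⟩
    rw [mem_ct] at hx
    set n : N := ⟨g⁻¹ * (x * g * x⁻¹), hx⟩ with hn
    have hc : (X n)⁻¹ * x ∈ Subgroup.centralizer ({g} : Set G) := by
      rw [Subgroup.mem_centralizer_singleton_iff]
      have h1 : x * g * x⁻¹ = X n * g * (X n)⁻¹ := by
        rw [hX n, hn]
        simp
      have h2 : (X n)⁻¹ * x * g = (X n)⁻¹ * (x * g * x⁻¹) * x := by group
      rw [h2, h1]
      group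
    refine ⟨(⟨(X n)⁻¹ * x, hc⟩, n), ?_⟩
    apply Subtype.ext
    simp

/-- a Sylow `r`-subgroup is transitive on the cosets of a subgroup of `r`-power index. -/
theorem sylow_trans {C : Type*} [Group C] [Finite C] (H : Subgroup C) {r : ℕ} [hr : Fact r.Prime]
    {d : ℕ} (hidx : H.index = r ^ d) (T : Sylow r C) (c : C) :
    ∃ t ∈ (T : Subgroup C), t⁻¹ * c ∈ H := by
  classical
  obtain ⟨ω₀, hω₀⟩ : ∃ ω₀ : C ⧸ H, ω₀ = ((1 : C) : C ⧸ H) := ⟨_, rfl⟩
  have hsm : ∀ t : (T : Subgroup C), t • ω₀ = (((t : C) : C) : C ⧸ H) := by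
    intro t
    rw [hω₀]
    have h0 : t • ((1 : C) : C ⧸ H) = (((t : C) * 1 : C) : C ⧸ H) := rfl
    rw [h0, mul_one]
  have h1 : Nat.card (MulAction.orbit (T : Subgroup C) ω₀) *
      Nat.card (MulAction.stabilizer (T : Subgroup C) ω₀) = Nat.card (T : Subgroup C) := by
    rw [Nat.card_congr (MulAction.orbitEquivQuotientStabilizer (T : Subgroup C) ω₀)]
    exact (Subgroup.card_eq_card_quotient_mul_card_subgroup _).symm
  -- the stabilizer is an `r`-group embedded in `H`
  have hstabp : IsPGroup r (MulAction.stabilizer (T : Subgroup C) ω₀) := T.isPGroup'.to_subgroup _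
  obtain ⟨e, he⟩ := IsPGroup.iff_card.mp hstabp
  have hle : (MulAction.stabilizer (T : Subgroup C) ω₀).map (T : Subgroup C).subtype ≤ H := by
    rintro x ⟨t, ht, rfl⟩
    have h2 : t • ω₀ = ω₀ := MulAction.mem_stabilizer_iff.mp ht
    rw [hsm, hω₀, QuotientGroup.eq] at h2
    have h3 := H.inv_mem h2
    simpa using h3
  have hdvd : r ^ e ∣ Nat.card H := by
    rw [← he, ← Subgroup.card_map_of_injective (T : Subgroup C).subtype_injective]
    exact Subgroup.card_dvd_of_le hle
  have hC : Nat.card C = r ^ d * Nat.card H := by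
    rw [← hidx, Subgroup.index_mul_card]
  have hT : Nat.card (T : Subgroup C) = r ^ (Nat.card C).factorization r := T.card_eq_multiplicity
  have hde : d + e ≤ (Nat.card C).factorization r := by
    rw [← Nat.Prime.pow_dvd_iff_le_factorization hr.out Nat.card_pos.ne', hC, pow_add]
    exact Nat.mul_dvd_mul_left _ hdvd
  have horb : r ^ d ≤ Nat.card (MulAction.orbit (T : Subgroup C) ω₀) := by
    rw [he, hT] at h1
    have h4 : (Nat.card C).factorization r = ((Nat.card C).factorization r - e) + e := by omega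
    rw [h4, pow_add] at h1
    have h5 : Nat.card (MulAction.orbit (T : Subgroup C) ω₀) =
        r ^ ((Nat.card C).factorization r - e) :=
      Nat.eq_of_mul_eq_mul_right (pow_pos hr.out.pos e) h1
    rw [h5]
    exact Nat.pow_le_pow_right hr.out.pos (by omega)
  have huniv : MulAction.orbit (T : Subgroup C) ω₀ = Set.univ := by
    rw [Set.eq_univ_iff_ncard, ← Nat.card_coe_set_eq]
    apply le_antisymm
    · rw [Nat.card_coe_set_eq]; exact Set.ncard_le_card _
    · rw [← Subgroup.index_eq_card, hidx]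
      exact horb
  have hc : ((c : C) : C ⧸ H) ∈ MulAction.orbit (T : Subgroup C) ω₀ := by
    rw [huniv]; trivial
  obtain ⟨t, ht⟩ := hc
  have ht' : t • ω₀ = ((c : C) : C ⧸ H) := ht
  rw [hsm, QuotientGroup.eq] at ht'
  exact ⟨t, t.2, ht'⟩

/-- a subgroup of `r`-power index `> 1` misses, together with all its conjugates, some
`r`-element. -/
theorem exists_fpf {C : Type*} [Group C] [Finite C] (H : Subgroup C) {r : ℕ} [hr : Fact r.Prime]
    {d : ℕ} (hd : d ≠ 0) (hidx : H.index = r ^ d) :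
    ∃ t : C, (∃ k : ℕ, t ^ r ^ k = 1) ∧ ∀ c : C, c⁻¹ * t * c ∉ H := by
  obtain ⟨T⟩ : Nonempty (Sylow r C) := inferInstance
  have htrans := sylow_trans H hidx T
  have hne : H.subgroupOf (T : Subgroup C) ≠ ⊤ := by
    intro htop
    have hTH : (T : Subgroup C) ≤ H := Subgroup.subgroupOf_eq_top.mp htop
    have hH : H = ⊤ := by
      rw [Subgroup.eq_top_iff']
      intro c
      obtain ⟨t, ht, hc⟩ := htrans c
      have := H.mul_mem (hTH ht) hc
      rwa [mul_inv_cancel_left] at this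
    rw [hH, Subgroup.index_top] at hidx
    exact absurd hidx.symm (Nat.one_lt_pow hd hr.out.one_lt).ne'
  have h1 := mt (Cfsg.Agent.Helper20.eq_top_of_forall_conj_mem (H.subgroupOf (T : Subgroup C))) hne
  push Not at h1
  obtain ⟨t, ht⟩ := h1
  refine ⟨(t : C), ?_, ?_⟩
  · obtain ⟨k, hk⟩ := T.isPGroup' t
    refine ⟨k, ?_⟩
    have := congrArg Subtype.val hk
    simpa using this
  · intro c hc
    obtain ⟨u, hu, huc⟩ := htrans c
    apply ht ⟨u, hu⟩
    rw [Subgroup.mem_subgroupOf]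
    have h2 : (((⟨u, hu⟩ : (T : Subgroup C))⁻¹ * t * ⟨u, hu⟩ : (T : Subgroup C)) : C) =
        (u⁻¹ * c) * (c⁻¹ * (t : C) * c) * (u⁻¹ * c)⁻¹ := by
      simp only [Subgroup.coe_mul, Subgroup.coe_inv]
      group
    rw [h2]
    exact H.mul_mem (H.mul_mem huc hc) (H.inv_mem huc)

/-- **Step 1**: if `g ∉ N` has order `r` modulo `N` and centralizes a nontrivial element of `N`,
then `G ⧸ N` contains an elementary abelian subgroup of order `r ^ 2`. -/
theorem cc_of_bad [Finite G] (N : Subgroup G) [N.Normal] (hcam : Cam N) {r : ℕ}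
    [hr : Fact r.Prime] {g x : G} (hg : g ∉ N) (hgr : g ^ r ∈ N) (hx : x ∈ N) (hx1 : x ≠ 1)
    (hxg : x * g = g * x) : CC r (G ⧸ N) := by
  have hRC := rc_of_cam N hcam hr.out
  obtain ⟨Ct, hCt⟩ : ∃ Ct : Subgroup G, Ct = ct N g := ⟨_, rfl⟩
  obtain ⟨Cg, hCg⟩ : ∃ Cg : Subgroup G, Cg = Subgroup.centralizer ({g} : Set G) := ⟨_, rfl⟩
  obtain ⟨H, hH⟩ : ∃ H : Subgroup G, H = Cg ⊔ N := ⟨_, rfl⟩
  have hNCt : N ≤ Ct := hCt ▸ le_ct N g
  have hCgCt : Cg ≤ Ct := by rw [hCt, hCg]; exact centralizer_le_ct N g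
  have hNH : N ≤ H := hH ▸ le_sup_right
  have hCgH : Cg ≤ H := hH ▸ le_sup_left
  have hHCt : H ≤ Ct := hH ▸ sup_le hCgCt hNCt
  -- the `r`-group `N ⊓ Cg`
  have hP : IsPGroup r (N ⊓ Cg : Subgroup G) := by
    intro y
    have hy1 : (y : G) ∈ N := (Subgroup.mem_inf.mp y.2).1
    have hy2 : (y : G) ∈ Cg := (Subgroup.mem_inf.mp y.2).2
    have hy3 : (y : G) ∈ Subgroup.centralizer ({g} : Set G) := by rw [← hCg]; exact hy2
    rw [Subgroup.mem_centralizer_singleton_iff] at hy3
    obtain ⟨m, hm⟩ := rc_cent hRC hg (k := 1) (by rwa [pow_one]) hy1 hy3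
    exact ⟨m, Subtype.ext (by simpa using hm)⟩
  obtain ⟨d, hd⟩ := IsPGroup.iff_card.mp hP
  have hd0 : d ≠ 0 := by
    rintro rfl
    rw [pow_zero, Subgroup.card_eq_one] at hd
    have h1 : x ∈ (N ⊓ Cg : Subgroup G) := by
      rw [Subgroup.mem_inf, hCg, Subgroup.mem_centralizer_singleton_iff]
      exact ⟨hx, hxg⟩
    rw [hd, Subgroup.mem_bot] at h1
    exact hx1 h1
  -- the index of `H` in `Ct`
  have hidx : H.relIndex Ct = r ^ d := by
    have h1 : N.relIndex H * H.relIndex Ct = N.relIndex Ct :=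
      Subgroup.relIndex_mul_relIndex N H Ct hNH hHCt
    have h2 : Nat.card N * N.relIndex Ct = Nat.card Ct := by
      rw [← Subgroup.relIndex_bot_left, ← Subgroup.relIndex_bot_left]
      exact Subgroup.relIndex_mul_relIndex ⊥ N Ct bot_le hNCt
    have h3 : Nat.card Ct = Nat.card Cg * Nat.card N := by
      rw [hCt, hCg]; exact card_ct N hcam hg
    have h4 : N.relIndex Ct = Nat.card Cg := by
      have : Nat.card N * N.relIndex Ct = Nat.card N * Nat.card Cg := by
        rw [h2, h3, mul_comm]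
      exact Nat.eq_of_mul_eq_mul_left Nat.card_pos this
    have h5 : N.relIndex H = N.relIndex Cg := by
      rw [hH]; exact Subgroup.relIndex_sup_right Cg N
    have h6 : Nat.card (N ⊓ Cg : Subgroup G) * N.relIndex Cg = Nat.card Cg := by
      rw [← Subgroup.inf_relIndex_right, ← Subgroup.relIndex_bot_left, ← Subgroup.relIndex_bot_left]
      exact Subgroup.relIndex_mul_relIndex ⊥ (N ⊓ Cg) Cg bot_le inf_le_right
    have h7 : N.relIndex Cg ≠ 0 := by
      intro h0
      rw [h0, mul_zero] at h6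
      exact Nat.card_pos.ne' h6.symm
    have h8 : N.relIndex Cg * H.relIndex Ct = N.relIndex Cg * Nat.card (N ⊓ Cg : Subgroup G) := by
      rw [← h5, h1, h4, ← h6, h5, mul_comm]
    rw [← hd]
    exact Nat.eq_of_mul_eq_mul_left (Nat.pos_of_ne_zero h7) h8
  -- an `r`-element of `Ct` in no conjugate of `H`
  obtain ⟨t, ⟨k, hk⟩, ht⟩ := exists_fpf (H.subgroupOf Ct) hd0 hidx
  obtain ⟨a, ha⟩ : ∃ a : G ⧸ N, a = QuotientGroup.mk' N g := ⟨_, rfl⟩
  obtain ⟨tb, htb⟩ : ∃ tb : G ⧸ N, tb = QuotientGroup.mk' N (t : G) := ⟨_, rfl⟩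
  have ha1 : a ≠ 1 := by
    intro h
    rw [ha, QuotientGroup.mk'_apply, QuotientGroup.eq_one_iff] at h
    exact hg h
  have har : a ^ r = 1 := by
    rw [ha, ← map_pow, QuotientGroup.mk'_apply, QuotientGroup.eq_one_iff]
    exact hgr
  have hao : orderOf a = r := orderOf_eq_prime har ha1
  have htk : tb ^ r ^ k = 1 := by
    rw [htb, ← map_pow]
    have : (t : G) ^ r ^ k = 1 := by
      have := congrArg Subtype.val hk
      simpa using this
    rw [this, map_one]
  have htb1 : tb ≠ 1 := by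
    intro h
    rw [htb, QuotientGroup.mk'_apply, QuotientGroup.eq_one_iff] at h
    apply ht 1
    rw [Subgroup.mem_subgroupOf]
    simpa using hNH h
  have hcomm : tb * a = a * tb := by
    have h1 : (t : G) ∈ ct N g := hCt ▸ t.2
    unfold ct at h1
    rw [Subgroup.mem_comap, Subgroup.mem_centralizer_singleton_iff] at h1
    rw [htb, ha]
    exact h1
  -- `a` is not a power of `tb`
  have hnot : a ∉ Subgroup.zpowers tb := by
    intro hmem
    obtain ⟨j, hj⟩ := Subgroup.mem_zpowers_iff.mp hmem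
    have h1 : g⁻¹ * (t : G) ^ j ∈ N := by
      rw [← QuotientGroup.eq]
      have : (((t : G) ^ j : G) : G ⧸ N) = tb ^ j := by
        rw [htb]; simp
      rw [this, hj, ha]
      rfl
    obtain ⟨y, hy⟩ := hcam g hg _ h1
    rw [mul_inv_cancel_left] at hy
    have hyCt : y ∈ Ct := by
      rw [hCt, mem_ct, hy]
      exact h1
    apply ht ⟨y, hyCt⟩
    rw [Subgroup.mem_subgroupOf]
    apply hCgH
    rw [hCg, Subgroup.mem_centralizer_singleton_iff]
    have h2 : (t : G) * (y * g * y⁻¹) = (y * g * y⁻¹) * (t : G) := by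
      rw [hy]
      exact ((Commute.refl (t : G)).zpow_right j).eq
    have h3 : ((⟨y, hyCt⟩ : Ct)⁻¹ * t * ⟨y, hyCt⟩ : Ct) = (y⁻¹ * (t : G) * y : G) := by
      simp
    rw [h3]
    have h4 : y⁻¹ * (t : G) * y * g = y⁻¹ * ((t : G) * (y * g * y⁻¹)) * y := by group
    rw [h4, h2]
    group
  -- the order of `tb`
  have hto : orderOf tb ∣ r ^ k := orderOf_dvd_of_pow_eq_one htk
  obtain ⟨m, -, hm⟩ := (Nat.dvd_prime_pow hr.out).mp hto
  have hm0 : m ≠ 0 := by
    rintro rfl
    rw [pow_zero, orderOf_eq_one_iff] at hm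
    exact htb1 hm
  obtain ⟨i, rfl⟩ : ∃ i, m = i + 1 := ⟨m - 1, by omega⟩
  obtain ⟨b, hb⟩ : ∃ b : G ⧸ N, b = tb ^ r ^ i := ⟨_, rfl⟩
  have hbr : b ^ r = 1 := by
    rw [hb, ← pow_mul, ← pow_succ, ← hm, pow_orderOf_eq_one]
  have hb1 : b ≠ 1 := by
    intro h
    rw [hb] at h
    have h1 : orderOf tb ∣ r ^ i := orderOf_dvd_of_pow_eq_one h
    rw [hm] at h1
    have h2 := Nat.le_of_dvd (pow_pos hr.out.pos i) h1
    have h3 : r ^ i < r ^ (i + 1) := Nat.pow_lt_pow_right hr.out.one_lt (Nat.lt_succ_self i)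
    omega
  have hbo : orderOf b = r := orderOf_eq_prime hbr hb1
  refine ⟨a, b, hao, hbo, ?_, ?_⟩
  · rw [hb]
    have : Commute a tb := hcomm.symm
    exact (this.pow_right _).eq
  · intro hmem
    apply hnot
    have h1 : Subgroup.zpowers b ≤ Subgroup.zpowers a := Subgroup.zpowers_le.mpr hmem
    have h2 : Subgroup.zpowers b = Subgroup.zpowers a := by
      apply Subgroup.eq_of_le_of_card_ge h1
      rw [Nat.card_zpowers, Nat.card_zpowers, hao, hbo]
    have h3 : a ∈ Subgroup.zpowers b := h2 ▸ Subgroup.mem_zpowers a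
    have h4 : Subgroup.zpowers b ≤ Subgroup.zpowers tb := by
      rw [Subgroup.zpowers_le, hb]
      exact Subgroup.pow_mem _ (Subgroup.mem_zpowers tb) _
    exact h4 h3
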