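import Mathlib
import Cfsg.Agent.Lib.Helper22.Camina1
import Cfsg.Agent.Lib.Helper1.FpfAction

/-!
# Camina pairs: no elementary abelian group of order `r ^ 2` acts Frobeniusly (helper22)
-/

set_option autoImplicit false

namespace Cfsg.Agent.Helper22.Camina

/-- `V` a nontrivial normal `r'`-subgroup of `X` such that the elements outside `V` which are
`r`-elements modulo `V` are `r`-elements: then `X ⧸ V` has no elementary abelian subgroup of
order `r ^ 2`. -/
theorem lemC {X : Type*} [Group X] [Finite X] (V : Subgroup X) [V.Normal] (hV : V ≠ ⊥) {r : ℕ}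
    [hr : Fact r.Prime] (hVr : ∀ y ∈ V, ∀ m : ℕ, y ^ r ^ m = 1 → y = 1) (hRC : RC V r)
    (hCC : CC r (X ⧸ V)) : False := by
  obtain ⟨a, b, ha, hb, hab, hba⟩ := hCC
  have ha1 : a ≠ 1 := by
    intro h
    rw [h, orderOf_one] at ha
    exact hr.out.one_lt.ne ha
  have hb1 : b ≠ 1 := by
    intro h
    rw [h, orderOf_one] at hb
    exact hr.out.one_lt.ne hb
  have hZa : IsPGroup r (Subgroup.zpowers a) :=
    IsPGroup.of_card (n := 1) (by rw [pow_one, Nat.card_zpowers, ha])
  have hZb : IsPGroup r (Subgroup.zpowers b) :=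
    IsPGroup.of_card (n := 1) (by rw [pow_one, Nat.card_zpowers, hb])
  have hnorm : Subgroup.zpowers a ≤ Subgroup.normalizer (Subgroup.zpowers b : Set (X ⧸ V)) := by
    refine le_trans ?_ (Subgroup.centralizer_le_normalizer _)
    rw [Subgroup.zpowers_le, Subgroup.mem_centralizer_iff]
    intro h hh
    obtain ⟨j, rfl⟩ := Subgroup.mem_zpowers_iff.mp hh
    have : Commute b a := hab.symm
    exact (this.zpow_left j).eq
  have hE : IsPGroup r (Subgroup.zpowers a ⊔ Subgroup.zpowers b : Subgroup (X ⧸ V)) :=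
    IsPGroup.to_sup_of_normal_right' hZa hZb hnorm
  obtain ⟨Q, hQ⟩ := hE.exists_le_sylow
  obtain ⟨P, hP⟩ := Sylow.mapSurjective_surjective (QuotientGroup.mk'_surjective V) r Q
  have hQP : (Q : Subgroup (X ⧸ V)) = (P : Subgroup X).map (QuotientGroup.mk' V) := by
    rw [← hP]; rfl
  have haQ : a ∈ (Q : Subgroup (X ⧸ V)) := hQ (le_sup_left (a := Subgroup.zpowers a)
    (Subgroup.mem_zpowers a))
  have hbQ : b ∈ (Q : Subgroup (X ⧸ V)) := hQ (le_sup_right (b := Subgroup.zpowers b)
    (Subgroup.mem_zpowers b))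
  rw [hQP] at haQ hbQ
  obtain ⟨z, hzP, hza⟩ := haQ
  obtain ⟨w, hwP, hwb⟩ := hbQ
  -- injectivity on `P`
  have hinj : ∀ p ∈ (P : Subgroup X), p ∈ V → p = 1 := by
    intro p hp hpV
    obtain ⟨k, hk⟩ := P.isPGroup' ⟨p, hp⟩
    exact hVr p hpV k (by simpa using congrArg Subtype.val hk)
  have hinj' : ∀ p ∈ (P : Subgroup X), QuotientGroup.mk' V p = 1 → p = 1 := by
    intro p hp h
    rw [QuotientGroup.mk'_apply, QuotientGroup.eq_one_iff] at h
    exact hinj p hp h
  have hz : orderOf z = r := by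
    apply orderOf_eq_prime
    · apply hinj' _ (Subgroup.pow_mem _ hzP _)
      rw [map_pow, hza, ← ha, pow_orderOf_eq_one]
    · intro h
      rw [h, map_one] at hza
      exact ha1 hza.symm
  have hw : orderOf w = r := by
    apply orderOf_eq_prime
    · apply hinj' _ (Subgroup.pow_mem _ hwP _)
      rw [map_pow, hwb, ← hb, pow_orderOf_eq_one]
    · intro h
      rw [h, map_one] at hwb
      exact hb1 hwb.symm
  have hzw : z * w = w * z := by
    have h1 : z * w * (w * z)⁻¹ = 1 := by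
      apply hinj' _ (Subgroup.mul_mem _ (Subgroup.mul_mem _ hzP hwP)
        (Subgroup.inv_mem _ (Subgroup.mul_mem _ hwP hzP)))
      rw [map_mul, map_inv, map_mul, map_mul, hza, hwb, hab]
      exact mul_inv_cancel _
    exact mul_inv_eq_one.mp h1
  have hfpf : ∀ h ∈ (P : Subgroup X), h ≠ 1 → V ⊓ Subgroup.centralizer {h} = ⊥ := by
    intro h hhP hh1
    rw [eq_bot_iff]
    intro y hy
    rw [Subgroup.mem_inf, Subgroup.mem_centralizer_singleton_iff] at hy
    rw [Subgroup.mem_bot]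
    have hhV : h ∉ V := fun hhV => hh1 (hinj h hhP hhV)
    obtain ⟨k, hk⟩ := P.isPGroup' ⟨h, hhP⟩
    have hk' : h ^ r ^ k = 1 := by simpa using congrArg Subtype.val hk
    obtain ⟨m, hm⟩ := rc_cent hRC hhV (k := k) (by rw [hk']; exact V.one_mem) hy.1 hy.2
    exact hVr y hy.1 m hm
  have hfin := Cfsg.Agent.Helper1.mem_zpowers_of_fpf_of_commute (K := V) (H := (P : Subgroup X))
    (by rw [Subgroup.normalizer_eq_top]; exact le_top) hV hfpf hzP hwP hz hw hzw
  apply hba
  obtain ⟨j, hj⟩ := Subgroup.mem_zpowers_iff.mp hfin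
  rw [← hwb, ← hj, map_zpow, hza]
  exact Subgroup.zpow_mem_zpowers a j

/-- **Lemma A**: a normal subgroup `R ≤ N` of `G` containing all `r`-elements of `N` modulo `R`
is all of `N` as soon as `G ⧸ N` has an elementary abelian subgroup of order `r ^ 2`. -/
theorem lemA {G : Type*} [Group G] [Finite G] (N R : Subgroup G) [N.Normal] [R.Normal]
    (hle : R ≤ N) {r : ℕ} [hr : Fact r.Prime]
    (hsyl : ∀ y ∈ N, ∀ m : ℕ, y ^ r ^ m ∈ R → y ∈ R) (hRC : RC N r) (hCC : CC r (G ⧸ N)) :
    N ≤ R := by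
  by_contra hnot
  haveI : (N.map (QuotientGroup.mk' R)).Normal :=
    Subgroup.Normal.map inferInstance _ (QuotientGroup.mk'_surjective R)
  apply lemC (N.map (QuotientGroup.mk' R)) ?_ ?_ ?_ ?_ (r := r)
  · intro hbot
    apply hnot
    intro n hn
    have h1 : QuotientGroup.mk' R n ∈ N.map (QuotientGroup.mk' R) := Subgroup.mem_map_of_mem _ hn
    rw [hbot, Subgroup.mem_bot, QuotientGroup.mk'_apply, QuotientGroup.eq_one_iff] at h1
    exact h1
  · rintro y ⟨n, hn, rfl⟩ m hm
    rw [← map_pow, QuotientGroup.mk'_apply, QuotientGroup.eq_one_iff] at hm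
    rw [QuotientGroup.mk'_apply, QuotientGroup.eq_one_iff]
    exact hsyl n hn m hm
  · intro x hx k hk
    obtain ⟨x₀, rfl⟩ := QuotientGroup.mk'_surjective R x
    have hx₀ : x₀ ∉ N := fun h => hx (Subgroup.mem_map_of_mem _ h)
    have hk₀ : x₀ ^ r ^ k ∈ N := by
      rw [← map_pow] at hk
      obtain ⟨n, hn, hnk⟩ := hk
      have h1 : n⁻¹ * x₀ ^ r ^ k ∈ R := by
        rw [← QuotientGroup.eq]
        exact hnk
      have h2 := N.mul_mem hn (hle h1)
      rwa [mul_inv_cancel_left] at h2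
    obtain ⟨m, hm⟩ := hRC x₀ hx₀ k hk₀
    exact ⟨m, by rw [← map_pow, hm, map_one]⟩
  · exact hCC.of_equiv (QuotientGroup.quotientQuotientEquivQuotient R N hle).symm

end Cfsg.Agent.Helper22.Camina
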