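import Mathlib
import Cfsg.Prelude.Def_Characters
import Cfsg.Prelude.Def_Blocks

/-!
# S0679 piece EVENPART (helper22 for helper27)

`G ≤ Perm α` transitive of degree 11, not solvable, not inside the alternating group: the even part
`G ⊓ A` is transitive, not solvable, of index 2.
-/

set_option autoImplicit false
set_option linter.unusedSectionVars false
set_option linter.unusedVariables false

namespace Cfsg.Agent.Helper27.D11

open Cfsg Equiv MulAction

universe u

variable {α : Type u} [Fintype α] [DecidableEq α]

namespace EVENPART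

/-- The sign character restricted to a permutation group. -/
noncomputable def sg (G : Subgroup (Perm α)) : G →* ℤˣ := Perm.sign.comp G.subtype

theorem mem_ker_sg (G : Subgroup (Perm α)) (g : G) :
    g ∈ (sg G).ker ↔ (g : Perm α) ∈ G ⊓ alternatingGroup α := by
  rw [MonoidHom.mem_ker, Subgroup.mem_inf, Equiv.Perm.mem_alternatingGroup]
  simp [sg]

/-- The kernel of the restricted sign is the even part. -/
noncomputable def kerEquiv (G : Subgroup (Perm α)) : (sg G).ker ≃* ↥(G ⊓ alternatingGroup α) where
  toFun x := ⟨(x.1 : Perm α), (mem_ker_sg G x.1).1 x.2⟩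
  invFun y := ⟨⟨(y : Perm α), y.2.1⟩, (mem_ker_sg G _).2 y.2⟩
  left_inv x := by ext; rfl
  right_inv y := by ext; rfl
  map_mul' x y := by ext; rfl

theorem sg_surjective (G : Subgroup (Perm α)) (hodd : ¬ G ≤ alternatingGroup α) :
    Function.Surjective (sg G) := by
  obtain ⟨g, hg, hgA⟩ := SetLike.not_le_iff_exists.1 hodd
  rw [Equiv.Perm.mem_alternatingGroup] at hgA
  have hg' : Perm.sign g = -1 := (Int.units_eq_one_or _).resolve_left hgA
  intro u
  rcases Int.units_eq_one_or u with rfl | rfl
  · exact ⟨1, map_one _⟩
  · exact ⟨⟨g, hg⟩, by simpa [sg] using hg'⟩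

theorem card_eq (G : Subgroup (Perm α)) (hodd : ¬ G ≤ alternatingGroup α) :
    Nat.card G = 2 * Nat.card ↥(G ⊓ alternatingGroup α) := by
  have h1 : (sg G).ker.index = 2 := by
    rw [Subgroup.index_ker, MonoidHom.range_eq_top.2 (sg_surjective G hodd)]
    simp [Nat.card_eq_fintype_card]
  have h2 := (sg G).ker.card_mul_index
  rw [h1, Nat.card_congr (kerEquiv G).toEquiv] at h2
  omega

end EVENPART

open EVENPART in
/-- PIECE EVENPART. -/
theorem even_part (hα : Fintype.card α = 11) (G : Subgroup (Perm α)) [IsPretransitive G α]
    (hG : ¬ Group.IsSolvable G) (hodd : ¬ G ≤ alternatingGroup α) :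
    IsPretransitive ↥(G ⊓ alternatingGroup α) α ∧ ¬ Group.IsSolvable ↥(G ⊓ alternatingGroup α) ∧
      Nat.card G = 2 * Nat.card ↥(G ⊓ alternatingGroup α) := by
  refine ⟨?_, ?_, card_eq G hodd⟩
  · -- transitivity: the kernel is a nontrivial normal subgroup of the primitive group `G`
    have hprime : Nat.Prime (Nat.card α) := by
      rw [Nat.card_eq_fintype_card, hα]; norm_num
    have hprim : IsPreprimitive G α := IsPreprimitive.of_prime_card hprime
    have hfix : fixedPoints (sg G).ker α ≠ Set.univ := by
      intro hfix
      apply hG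
      -- the kernel is trivial, so `G` embeds into `ℤˣ`
      have hinj : Function.Injective (sg G) := by
        rw [← MonoidHom.ker_eq_bot_iff, Subgroup.eq_bot_iff_forall]
        intro x hx
        ext a
        have ha : a ∈ fixedPoints (sg G).ker α := by rw [hfix]; exact Set.mem_univ a
        have := ha ⟨x, hx⟩
        exact this
      exact Group.isSolvable_of_isSolvable_injective (f := sg G) hinj
    have htr : IsPretransitive (sg G).ker α :=
      IsQuasiPreprimitive.isPretransitive_of_normal hfix
    refine ⟨fun a b => ?_⟩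
    obtain ⟨n, hn⟩ := htr.exists_smul_eq a b
    exact ⟨kerEquiv G n, hn⟩
  · intro hsol
    apply hG
    have : Group.IsSolvable (sg G).ker :=
      Group.isSolvable_of_isSolvable_injective (f := (kerEquiv G).toMonoidHom) (kerEquiv G).injective
    exact Group.isSolvable_of_ker_le_range (sg G).ker.subtype (sg G) (by simp)

end Cfsg.Agent.Helper27.D11
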