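import Mathlib
import Cfsg.Agent.Lib.Helper29.DedCheck

set_option autoImplicit false

/-! Deduction logs with tails: as `DedCheck`, but every relator `r` holds only up to a central
element `τ (rid r)` of order at most two, and every table entry carries a tail mask. -/

namespace Cfsg.Agent.Helper29.DedCheck

/-- a table with tails: `m` tail bits, `vcols` the packed tail masks of the columns -/
structure VT where
  D : Tab
  m : ℕ
  vcols : List ℕ

namespace VT

variable (V : VT)

/-- the tail mask of the entry of column `c` at node `i` -/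
def vget (c i : ℕ) : ℕ :=
  Nat.land (Nat.shiftRight (V.vcols.getD c 0) (V.m * i)) (2 ^ V.m - 1)

/-- walk along a word from its right end using known entries only, collecting tails -/
def walkV (K : ℕ) : List ℕ → ℕ → Option (ℕ × ℕ)
  | [], i => some (i, 0)
  | y :: t, i =>
    match walkV K t i with
    | none => none
    | some p =>
      if V.D.kn K y p.1 then some (V.D.tget y p.1, Nat.xor p.2 (V.vget y p.1)) else none

/-- walk along a word from its right end in the full table, collecting tails -/
def walkF : List ℕ → ℕ → ℕ × ℕ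
  | [], i => (i, 0)
  | y :: t, i => (V.D.tget y (walkF t i).1, Nat.xor (walkF t i).2 (V.vget y (walkF t i).1))

/-- check of one step `(c, i, j)`: `j = 0` uses the inverse entry, `j = r + 1` the relator `r`;
the relators are pairs (index of the tail, word) -/
def stepOK (rels : List (ℕ × List ℕ)) (K : ℕ) (s : ℕ × ℕ × ℕ) : Bool :=
  let c := s.1
  let i := s.2.1
  let j := s.2.2
  let v := V.D.tget c i
  decide (c < V.D.k) && decide (i < V.D.n) && decide (v < V.D.n) &&
  (match j with
   | 0 => V.D.kn K (V.D.inv c) v && Nat.beq (V.D.tget (V.D.inv c) v) i &&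
       decide (V.D.inv c < V.D.k) && Nat.beq (V.vget c i) (V.vget (V.D.inv c) v)
   | r + 1 =>
     match rels.getD r (0, []) with
     | (_, []) => false
     | (rid, y :: t) => Nat.beq y c && decide (rid < V.m) && (match V.walkV K t v with
        | none => false
        | some p => Nat.beq p.1 i && Nat.beq (V.vget c i) (Nat.xor p.2 (Nat.shiftLeft 1 rid))))

/-- run the log -/
def runLog (rels : List (ℕ × List ℕ)) : ℕ → List (ℕ × ℕ × ℕ) → Option ℕ
  | K, [] => some K
  | K, s :: l =>
    if V.stepOK rels K s then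
      runLog rels (Nat.lor K (Nat.shiftLeft 1 (s.1 * V.D.n + s.2.1))) l
    else none

/-- the tree edges have trivial tails -/
def treeOKV : Bool :=
  V.D.treeOK && (List.range V.D.n).all fun j => j == 0 ||
    Nat.beq (V.vget (V.D.pcol j) (V.D.par j)) 0

/-- the whole check -/
def check (rels : List (ℕ × List ℕ)) (log : List (ℕ × ℕ × ℕ)) : Bool :=
  V.treeOKV && decide (0 < V.D.n) &&
  (match V.runLog rels (V.D.treeMask V.D.n) log with
   | none => false
   | some K => Nat.beq K (2 ^ (V.D.k * V.D.n) - 1))

section Sound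

variable {Γ : Type*} [Group Γ] (e : ℕ → Γ) (τ : ℕ → Γ)

/-- the product of the `τ j` over the bits `j < b` of a tail mask -/
def evn (mask : ℕ) : ℕ → Γ
  | 0 => 1
  | j + 1 => evn mask j * (if mask.testBit j then τ j else 1)

/-- the central element of a tail mask -/
def ev (mask : ℕ) : Γ := evn τ mask V.m

theorem evn_central (hc : ∀ j g, g * τ j = τ j * g) (mask : ℕ) (g : Γ) (b : ℕ) :
    g * evn τ mask b = evn τ mask b * g := by
  induction b with
  | zero => simp [evn]
  | succ j ih =>
    simp only [evn]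
    by_cases h : mask.testBit j = true
    · rw [if_pos h, ← mul_assoc, ih, mul_assoc, hc j g, ← mul_assoc]
    · rw [if_neg h, mul_one, ih]

theorem ev_central (hc : ∀ j g, g * τ j = τ j * g) (mask : ℕ) (g : Γ) :
    g * V.ev τ mask = V.ev τ mask * g :=
  evn_central τ hc mask g V.m

theorem evn_zero (b : ℕ) : evn τ 0 b = 1 := by
  induction b with
  | zero => simp [evn]
  | succ j ih => simp [evn, ih]

theorem ev_zero : V.ev τ 0 = 1 := evn_zero τ V.m

theorem evn_xor (hc : ∀ j g, g * τ j = τ j * g) (hτ : ∀ j, τ j * τ j = 1) (a b : ℕ) (n : ℕ) :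
    evn τ (Nat.xor a b) n = evn τ a n * evn τ b n := by
  induction n with
  | zero => simp [evn]
  | succ j ih =>
    simp only [evn]
    rw [ih]
    have hx : (Nat.xor a b).testBit j = (a.testBit j ^^ b.testBit j) := by
      have e1 : Nat.xor a b = a ^^^ b := rfl
      rw [e1, Nat.testBit_xor]
    rw [hx]
    have hcomm : ∀ x : Γ, x * τ j = τ j * x := fun x => hc j x
    cases ha : a.testBit j <;> cases hb : b.testBit j <;> simp
    · -- a false, b true
      rw [mul_assoc]
    · -- a true, b false
      rw [mul_assoc, mul_assoc, hcomm (evn τ b j)]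
    · -- both
      rw [hcomm (evn τ b j), mul_assoc, ← mul_assoc (τ j), hτ j, one_mul]

theorem ev_xor (hc : ∀ j g, g * τ j = τ j * g) (hτ : ∀ j, τ j * τ j = 1) (a b : ℕ) :
    V.ev τ (Nat.xor a b) = V.ev τ a * V.ev τ b :=
  evn_xor τ hc hτ a b V.m

theorem evn_bit (j b : ℕ) : evn τ (Nat.shiftLeft 1 j) b = if j < b then τ j else 1 := by
  have e1 : Nat.shiftLeft 1 j = 2 ^ j := by
    show 1 <<< j = 2 ^ j
    exact Nat.one_shiftLeft j
  rw [e1]
  induction b with
  | zero => simp [evn]
  | succ i ih =>
    simp only [evn]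
    rw [ih, Nat.testBit_two_pow]
    by_cases h1 : j < i
    · have h2 : ¬ j = i := by omega
      rw [if_pos h1, if_pos (by omega : j < i + 1)]
      simp [h2]
    · by_cases h2 : j = i
      · subst h2
        simp
      · rw [if_neg h1, if_neg (by omega : ¬ j < i + 1)]
        simp [h2]

theorem ev_bit (j : ℕ) (hj : j < V.m) : V.ev τ (Nat.shiftLeft 1 j) = τ j := by
  unfold ev
  rw [evn_bit, if_pos hj]

theorem ev_sq (hc : ∀ j g, g * τ j = τ j * g) (hτ : ∀ j, τ j * τ j = 1) (a : ℕ) :
    V.ev τ a * V.ev τ a = 1 := by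
  rw [← V.ev_xor τ hc hτ a a]
  have : Nat.xor a a = 0 := by
    show a ^^^ a = 0
    exact Nat.xor_self a
  rw [this, V.ev_zero]

/-- all known entries hold up to the tails -/
def GoodV (K : ℕ) : Prop :=
  ∀ c i, c < V.D.k → i < V.D.n → V.D.kn K c i = true →
    V.D.tget c i < V.D.n ∧ e c * V.D.node e i = V.D.node e (V.D.tget c i) * V.ev τ (V.vget c i)

theorem walkV_sound (hc : ∀ j g, g * τ j = τ j * g) (hτ : ∀ j, τ j * τ j = 1)
    {K : ℕ} (hK : V.GoodV e τ K)
    (w : List ℕ) (hw : ∀ y ∈ w, y < V.D.k) (i : ℕ) (hi : i < V.D.n) (p : ℕ × ℕ)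
    (h : V.walkV K w i = some p) :
    p.1 < V.D.n ∧ (w.map e).prod * V.D.node e i = V.D.node e p.1 * V.ev τ p.2 := by
  induction w generalizing p with
  | nil =>
    simp only [walkV, Option.some.injEq] at h
    subst h
    simp [hi, V.ev_zero]
  | cons y t ih =>
    simp only [walkV] at h
    cases hj : V.walkV K t i with
    | none => rw [hj] at h; exact absurd h (by simp)
    | some q =>
      rw [hj] at h
      simp only at h
      by_cases hk : V.D.kn K y q.1 = true
      · rw [if_pos hk] at h
        simp only [Option.some.injEq] at h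
        subst h
        obtain ⟨hj1, hj2⟩ := ih (fun z hz => hw z (List.mem_cons_of_mem _ hz)) q hj
        obtain ⟨h1, h2⟩ := hK y q.1 (hw y List.mem_cons_self) hj1 hk
        refine ⟨h1, ?_⟩
        show ((y :: t).map e).prod * V.D.node e i =
          V.D.node e (V.D.tget y q.1) * V.ev τ (Nat.xor q.2 (V.vget y q.1))
        rw [List.map_cons, List.prod_cons, mul_assoc, hj2, ← mul_assoc, h2, V.ev_xor τ hc hτ,
          mul_assoc, V.ev_central τ hc (V.vget y q.1) (V.ev τ q.2)]
      · rw [if_neg hk] at h
        exact absurd h (by simp)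

theorem step_soundV (rels : List (ℕ × List ℕ)) (hc : ∀ j g, g * τ j = τ j * g)
    (hτ : ∀ j, τ j * τ j = 1) (hinv : ∀ c < V.D.k, e (V.D.inv c) = (e c)⁻¹)
    (hrel : ∀ r ∈ rels, (r.2.map e).prod = τ r.1)
    (hrk : ∀ r ∈ rels, ∀ y ∈ r.2, y < V.D.k)
    {K : ℕ} (hK : V.GoodV e τ K) (s : ℕ × ℕ × ℕ)
    (h : V.stepOK rels K s = true) :
    V.GoodV e τ (Nat.lor K (Nat.shiftLeft 1 (s.1 * V.D.n + s.2.1))) := by
  obtain ⟨c, i, j⟩ := s
  simp only [stepOK, Bool.and_eq_true, decide_eq_true_eq] at h
  obtain ⟨⟨⟨hc', hi⟩, hv⟩, hj⟩ := h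
  have key : e c * V.D.node e i = V.D.node e (V.D.tget c i) * V.ev τ (V.vget c i) := by
    cases j with
    | zero =>
      simp only [Bool.and_eq_true, decide_eq_true_eq] at hj
      obtain ⟨⟨⟨h1, h2⟩, h3⟩, h5⟩ := hj
      obtain ⟨_, h4⟩ := hK _ _ h3 hv h1
      rw [Nat.eq_of_beq_eq_true h2, hinv c hc', ← Nat.eq_of_beq_eq_true h5] at h4
      -- h4 : (e c)⁻¹ * node v = node i * ev (vget c i)
      have h6 : V.D.node e (V.D.tget c i) = e c * (V.D.node e i * V.ev τ (V.vget c i)) := by
        rw [← h4]; group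
      rw [h6, mul_assoc, mul_assoc, V.ev_sq τ hc hτ, mul_one]
    | succ r =>
      simp only at hj
      cases hr : rels.getD r (0, []) with
      | mk rid wd =>
        rw [hr] at hj
        cases wd with
        | nil => exact absurd hj (by simp)
        | cons y t =>
          simp only [Bool.and_eq_true, decide_eq_true_eq] at hj
          obtain ⟨⟨h1, hrid⟩, h2⟩ := hj
          have hy : y = c := Nat.eq_of_beq_eq_true h1
          subst hy
          have hmem : (rid, y :: t) ∈ rels := by
            have : rels.getD r (0, []) ∈ rels ∨ rels.getD r (0, []) = (0, []) := by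
              by_cases hlt : r < rels.length
              · left
                rw [List.getD_eq_getElem _ _ hlt]
                exact List.getElem_mem hlt
              · right
                rw [List.getD_eq_default _ _ (by omega)]
            rcases this with h3 | h3
            · rw [hr] at h3; exact h3
            · rw [hr] at h3; exact absurd h3 (by simp)
          cases hw : V.walkV K t (V.D.tget y i) with
          | none => rw [hw] at h2; exact absurd h2 (by simp)
          | some p =>
            rw [hw] at h2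
            simp only [Bool.and_eq_true] at h2
            obtain ⟨h2a, h2b⟩ := h2
            have hu : p.1 = i := Nat.eq_of_beq_eq_true h2a
            have hvg : V.vget y i = Nat.xor p.2 (Nat.shiftLeft 1 rid) := Nat.eq_of_beq_eq_true h2b
            obtain ⟨_, h4⟩ := V.walkV_sound e τ hc hτ hK t
              (fun z hz => hrk _ hmem z (List.mem_cons_of_mem _ hz)) _ hv _ hw
            rw [hu] at h4
            have h5 := hrel _ hmem
            simp only [List.map_cons, List.prod_cons] at h5
            -- h4 : prod t * node v = node i * ev p.2 ; h5 : e y * prod t = τ rid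
            have h6 : V.D.node e i = (t.map e).prod * V.D.node e (V.D.tget y i) * V.ev τ p.2 := by
              rw [h4, mul_assoc, V.ev_sq τ hc hτ, mul_one]
            rw [hvg, V.ev_xor τ hc hτ, V.ev_bit τ rid hrid]
            calc e y * V.D.node e i
                = (e y * (t.map e).prod) * V.D.node e (V.D.tget y i) * V.ev τ p.2 := by
                  rw [h6]; simp only [mul_assoc]
              _ = τ rid * V.D.node e (V.D.tget y i) * V.ev τ p.2 := by rw [h5]
              _ = V.D.node e (V.D.tget y i) * τ rid * V.ev τ p.2 := by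
                  rw [← hc rid (V.D.node e (V.D.tget y i))]
              _ = V.D.node e (V.D.tget y i) * (V.ev τ p.2 * τ rid) := by
                  rw [mul_assoc, ← hc rid (V.ev τ p.2)]
  intro c' i' hc'' hi' hkn
  rw [V.D.kn_lor K c i c' i' hi hi', Bool.or_eq_true, decide_eq_true_eq] at hkn
  rcases hkn with hkn | ⟨rfl, rfl⟩
  · exact hK c' i' hc'' hi' hkn
  · exact ⟨hv, key⟩

theorem runLog_soundV (rels : List (ℕ × List ℕ)) (hc : ∀ j g, g * τ j = τ j * g)
    (hτ : ∀ j, τ j * τ j = 1) (hinv : ∀ c < V.D.k, e (V.D.inv c) = (e c)⁻¹)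
    (hrel : ∀ r ∈ rels, (r.2.map e).prod = τ r.1)
    (hrk : ∀ r ∈ rels, ∀ y ∈ r.2, y < V.D.k)
    (log : List (ℕ × ℕ × ℕ)) : ∀ (K K' : ℕ), V.GoodV e τ K → V.runLog rels K log = some K' →
      V.GoodV e τ K' := by
  induction log with
  | nil =>
    intro K K' hK h
    simp only [runLog, Option.some.injEq] at h
    subst h
    exact hK
  | cons s l ih =>
    intro K K' hK h
    simp only [runLog] at h
    by_cases hs : V.stepOK rels K s = true
    · rw [if_pos hs] at h
      exact ih _ _ (V.step_soundV e τ rels hc hτ hinv hrel hrk hK s hs) h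
    · rw [if_neg hs] at h
      exact absurd h (by simp)

theorem good_treeMaskV (htree : V.treeOKV = true) : V.GoodV e τ (V.D.treeMask V.D.n) := by
  unfold treeOKV at htree
  rw [Bool.and_eq_true] at htree
  obtain ⟨htree, htail⟩ := htree
  intro c i _ hi hkn
  obtain ⟨j, hj0, hjn, rfl, rfl⟩ := V.D.kn_treeMask htree V.D.n le_rfl c i hi hkn
  rw [List.all_eq_true] at htail
  have ht := htail j (List.mem_range.2 hjn)
  simp only [Bool.or_eq_true, beq_iff_eq] at ht
  have hvz : V.vget (V.D.pcol j) (V.D.par j) = 0 := by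
    rcases ht with h0 | h0
    · omega
    · exact Nat.eq_of_beq_eq_true h0
  have htree' := htree
  unfold Tab.treeOK at htree'
  rw [List.all_eq_true] at htree'
  have := htree' j (List.mem_range.2 hjn)
  simp only [Bool.or_eq_true, beq_iff_eq, Bool.and_eq_true, decide_eq_true_eq] at this
  rcases this with h0 | h0
  · omega
  · obtain ⟨⟨h1, _⟩, h3⟩ := h0
    have h4 : V.D.tget (V.D.pcol j) (V.D.par j) = j := Nat.eq_of_beq_eq_true h3
    rw [h4, hvz, V.ev_zero, mul_one]
    exact ⟨hjn, (V.D.node_of_lt e hj0 h1).symm⟩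

/-- **Soundness.**  If the check succeeds, the whole table holds up to the tails, for any
elements of any group satisfying the relators up to the central elements `τ`. -/
theorem table_of_check (rels : List (ℕ × List ℕ)) (log : List (ℕ × ℕ × ℕ))
    (hchk : V.check rels log = true) (hc : ∀ j g, g * τ j = τ j * g)
    (hτ : ∀ j, τ j * τ j = 1)
    (hinv : ∀ c < V.D.k, e (V.D.inv c) = (e c)⁻¹)
    (hrel : ∀ r ∈ rels, (r.2.map e).prod = τ r.1)
    (hrk : ∀ r ∈ rels, ∀ y ∈ r.2, y < V.D.k) :
    ∀ c < V.D.k, ∀ i < V.D.n, V.D.tget c i < V.D.n ∧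
      e c * V.D.node e i = V.D.node e (V.D.tget c i) * V.ev τ (V.vget c i) := by
  unfold check at hchk
  rw [Bool.and_eq_true, Bool.and_eq_true] at hchk
  obtain ⟨⟨htree, _⟩, h3⟩ := hchk
  cases hr : V.runLog rels (V.D.treeMask V.D.n) log with
  | none => rw [hr] at h3; exact absurd h3 (by simp)
  | some K =>
    rw [hr] at h3
    simp only at h3
    have hK : K = 2 ^ (V.D.k * V.D.n) - 1 := Nat.eq_of_beq_eq_true h3
    subst hK
    have hg := V.runLog_soundV e τ rels hc hτ hinv hrel hrk log _ _ (V.good_treeMaskV e τ htree) hr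
    intro c hc' i hi
    exact hg c i hc' hi (V.D.kn_full c i hc' hi)

/-- walking a word in the full table -/
theorem walkF_sound (hc : ∀ j g, g * τ j = τ j * g) (hτ : ∀ j, τ j * τ j = 1)
    (htab : ∀ c < V.D.k, ∀ i < V.D.n, V.D.tget c i < V.D.n ∧
      e c * V.D.node e i = V.D.node e (V.D.tget c i) * V.ev τ (V.vget c i))
    (w : List ℕ) (hw : ∀ y ∈ w, y < V.D.k) (i : ℕ) (hi : i < V.D.n) :
    (V.walkF w i).1 < V.D.n ∧
      (w.map e).prod * V.D.node e i = V.D.node e (V.walkF w i).1 * V.ev τ (V.walkF w i).2 := by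
  induction w with
  | nil => simp [walkF, hi, V.ev_zero]
  | cons y t ih =>
    obtain ⟨h1, h2⟩ := ih (fun z hz => hw z (List.mem_cons_of_mem _ hz))
    obtain ⟨h3, h4⟩ := htab y (hw y List.mem_cons_self) _ h1
    refine ⟨h3, ?_⟩
    show ((y :: t).map e).prod * V.D.node e i =
      V.D.node e (V.D.tget y (V.walkF t i).1) *
        V.ev τ (Nat.xor (V.walkF t i).2 (V.vget y (V.walkF t i).1))
    rw [List.map_cons, List.prod_cons, mul_assoc, h2, ← mul_assoc, h4, V.ev_xor τ hc hτ,
      mul_assoc, V.ev_central τ hc (V.vget y (V.walkF t i).1) (V.ev τ (V.walkF t i).2)]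

/-- a word with a known central value that walks from a node back to it gives a fact -/
theorem fact_of_walk (hc : ∀ j g, g * τ j = τ j * g) (hτ : ∀ j, τ j * τ j = 1)
    (htab : ∀ c < V.D.k, ∀ i < V.D.n, V.D.tget c i < V.D.n ∧
      e c * V.D.node e i = V.D.node e (V.D.tget c i) * V.ev τ (V.vget c i))
    (w : List ℕ) (hw : ∀ y ∈ w, y < V.D.k) (i : ℕ) (hi : i < V.D.n)
    (z : Γ) (hzc : ∀ g, g * z = z * g) (hz : (w.map e).prod = z)
    (hwalk : (V.walkF w i).1 = i) :
    V.ev τ (V.walkF w i).2 = z := by
  have h := (V.walkF_sound e τ hc hτ htab w hw i hi).2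
  rw [hwalk, hz, ← hzc] at h
  exact (mul_left_cancel h).symm

end Sound

end VT

end Cfsg.Agent.Helper29.DedCheck
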