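import Mathlib
import Cfsg.Agent.Lib.Helper22.PrimeDegree
import Cfsg.Agent.S1013

/-!
# Non-solvable transitive groups of degree 7
(helper22's library)
-/

set_option autoImplicit false

namespace Cfsg.Agent.Helper22.PrimeDeg

open MulAction Equiv Equiv.Perm Cfsg.Agent.Helper22.SharpK

variable {α : Type*} [Fintype α] [DecidableEq α]

/-- If `q ^ k` is the full power of `q` dividing `|Perm α|` and divides `|G|`, then every element
generating a `q`-group has a conjugate in `G`. -/
theorem exists_conj_mem_of_pow_dvd (q k : ℕ) [Fact q.Prime] (G : Subgroup (Perm α))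
    (hk : (Nat.card (Perm α)).factorization q = k) (hdvd : q ^ k ∣ Nat.card G)
    (τ : Perm α) (hτ : IsPGroup q (Subgroup.zpowers τ)) : ∃ g : Perm α, g * τ * g⁻¹ ∈ G := by
  obtain ⟨K, hK⟩ := Sylow.exists_subgroup_card_pow_prime q hdvd
  set K' : Subgroup (Perm α) := K.map G.subtype with hK'
  have hK'card : Nat.card K' = q ^ k := by
    rw [hK', Subgroup.card_map_of_injective G.subtype_injective, hK]
  have hK'G : K' ≤ G := by
    rw [hK']
    exact Subgroup.map_subtype_le _
  let S : Sylow q (Perm α) := Sylow.ofCard K' (by rw [hK'card, hk])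
  obtain ⟨S₀, hS₀⟩ := hτ.exists_le_sylow
  obtain ⟨g, hg⟩ := exists_smul_eq (Perm α) S₀ S
  refine ⟨g, hK'G ?_⟩
  have h1 : τ ∈ (S₀ : Subgroup (Perm α)) := hS₀ (Subgroup.mem_zpowers τ)
  have h2 := Subgroup.smul_mem_pointwise_smul τ (MulAut.conj g) (S₀ : Subgroup (Perm α)) h1
  rw [← Sylow.coe_subgroup_smul, hg, MulAut.smul_def, MulAut.conj_apply] at h2
  exact h2

theorem normalizer_le_centralizer_of_card_two {Γ : Type*} [Group Γ] (T : Subgroup Γ)
    (hT : Nat.card T = 2) :
    Subgroup.normalizer (T : Set Γ) ≤ Subgroup.centralizer (T : Set Γ) := by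
  intro g hg
  rw [Subgroup.mem_centralizer_iff]
  intro t ht
  by_cases ht1 : t = 1
  · rw [ht1, one_mul, mul_one]
  have hmem : g * t * g⁻¹ ∈ T := (Subgroup.mem_normalizer_iff.mp hg t).mp ht
  have hne : g * t * g⁻¹ ≠ 1 := by
    intro h
    apply ht1
    have : t = g⁻¹ * (g * t * g⁻¹) * g := by group
    rw [this, h, mul_one, inv_mul_cancel]
  obtain ⟨x, y, hxy, huniv⟩ := Nat.card_eq_two_iff.mp hT
  have hmem2 : ∀ z : T, z = x ∨ z = y := by
    intro z
    have : z ∈ ({x, y} : Set T) := by rw [huniv]; trivial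
    simpa using this
  have key : ∀ a b : T, a ≠ 1 → b ≠ 1 → a = b := by
    intro a b ha hb
    rcases hmem2 a with rfl | rfl <;> rcases hmem2 b with rfl | rfl <;>
      rcases hmem2 1 with h1 | h1
    all_goals first | rfl | (exfalso; first | exact ha h1.symm | exact hb h1.symm)
  have := key ⟨g * t * g⁻¹, hmem⟩ ⟨t, ht⟩ (fun h => hne (congrArg Subtype.val h))
    (fun h => ht1 (congrArg Subtype.val h))
  have h3 : g * t * g⁻¹ = t := congrArg Subtype.val this
  calc t * g = (g * t * g⁻¹) * g := by rw [h3]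
    _ = g * t := by group

theorem factorization_5040_two : (5040 : ℕ).factorization 2 = 4 := by
  have : (5040 : ℕ) = 2 ^ 4 * 315 := by norm_num
  rw [this, Nat.factorization_mul (by norm_num) (by norm_num), Finsupp.add_apply,
    Nat.Prime.factorization_pow Nat.prime_two, Finsupp.single_eq_same,
    Nat.factorization_eq_zero_of_not_dvd (by norm_num)]

theorem factorization_5040_three : (5040 : ℕ).factorization 3 = 2 := by
  have : (5040 : ℕ) = 3 ^ 2 * 560 := by norm_num
  rw [this, Nat.factorization_mul (by norm_num) (by norm_num), Finsupp.add_apply,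
    Nat.Prime.factorization_pow Nat.prime_three, Finsupp.single_eq_same,
    Nat.factorization_eq_zero_of_not_dvd (by norm_num)]

/-- a non-solvable transitive group of degree 7 not containing the alternating group is simple
of order 168 -/
theorem deg_seven (hα : Fintype.card α = 7) (G : Subgroup (Perm α)) [IsPretransitive G α]
    (hG : ¬ Group.IsSolvable G) (hA : ¬ alternatingGroup α ≤ G) :
    Nat.card G = 168 ∧ IsSimpleGroup G := by
  haveI : Fact (Nat.Prime 7) := ⟨by norm_num⟩
  haveI : Fact (Nat.Prime 2) := ⟨by norm_num⟩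
  haveI : Fact (Nat.Prime 3) := ⟨by norm_num⟩
  have hα' : Nat.card α = 7 := by rw [Nat.card_eq_fintype_card]; exact hα
  have hprim : IsPreprimitive G α := IsPreprimitive.of_prime_card (by rw [hα']; norm_num)
  have hswap : ∀ g ∈ G, ¬ g.IsSwap := by
    intro g hg hsw
    apply hA
    rw [subgroup_eq_top_of_isPreprimitive_of_isSwap_mem hprim g hsw hg]
    exact le_top
  have h3c : ∀ g ∈ G, ¬ g.IsThreeCycle := by
    intro g hg h3
    exact hA (alternatingGroup_le_of_isPreprimitive_of_isThreeCycle_mem hprim h3 hg)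
  have hperm : Nat.card (Perm α) = 5040 := by
    rw [Nat.card_perm, hα']; decide
  have hdvd : Nat.card G ∣ 5040 := by
    rw [← hperm]
    exact Subgroup.card_subgroup_dvd_card G
  obtain ⟨a, b, c, hab, hac, hbc⟩ := Fintype.two_lt_card_iff.mp (by rw [hα]; norm_num)
  have h16 : ¬ 16 ∣ Nat.card G := by
    intro h
    have hτ : IsPGroup 2 (Subgroup.zpowers (swap a b)) := by
      apply IsPGroup.of_card (n := 1)
      rw [Nat.card_zpowers, pow_one]
      exact IsSwap.orderOf ⟨a, b, hab, rfl⟩
    obtain ⟨g, hg⟩ := exists_conj_mem_of_pow_dvd 2 4 G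
      (by rw [hperm]; exact factorization_5040_two) (by norm_num; exact h) (swap a b) hτ
    apply hswap _ hg
    rw [← card_support_eq_two, card_support_conj, card_support_eq_two]
    exact ⟨a, b, hab, rfl⟩
  have h9 : ¬ 9 ∣ Nat.card G := by
    intro h
    have hc3 : (swap a b * swap a c).IsThreeCycle := isThreeCycle_swap_mul_swap_same hab hac hbc
    have hτ : IsPGroup 3 (Subgroup.zpowers (swap a b * swap a c)) := by
      apply IsPGroup.of_card (n := 1)
      rw [Nat.card_zpowers, pow_one]
      exact hc3.orderOf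
    obtain ⟨g, hg⟩ := exists_conj_mem_of_pow_dvd 3 2 G
      (by rw [hperm]; exact factorization_5040_three) (by norm_num; exact h) _ hτ
    apply h3c _ hg
    unfold IsThreeCycle at hc3 ⊢
    rw [cycleType_conj]
    exact hc3
  obtain ⟨d, hd, hcard, hall, hd1⟩ := data (H := G) hα'
  have hmod : Nat.card (Sylow 7 G) ≡ 1 [MOD 7] := card_sylow_modEq_one 7 G
  have hn1 : Nat.card (Sylow 7 G) ≠ 1 := fun h => hG (isSolvable_of_card_sylow_eq_one hα' h)
  have hpos : 0 < Nat.card (Sylow 7 G) := Nat.card_pos
  have hd1' : d ≠ 1 := by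
    intro h
    have h7 := hd1 h
    rw [hcard, h, mul_one] at h7
    have : Nat.card (Sylow 7 G) = 1 := by
      have e : 7 * Nat.card (Sylow 7 G) = 7 * 1 := by rw [h7]
      exact Nat.eq_of_mul_eq_mul_left (by norm_num) e
    exact hn1 this
  -- arithmetic
  have hcases : (d = 3 ∧ Nat.card (Sylow 7 G) = 8) ∨ (d = 2 ∧ Nat.card (Sylow 7 G) = 15) := by
    set n := Nat.card (Sylow 7 G) with hn
    have hmod' : n % 7 = 1 := hmod
    have hn720 : n ∣ 720 := by
      have h1 : 7 * d * n ∣ 5040 := hcard ▸ hdvd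
      have h2 : 7 * (n * d) ∣ 7 * 720 := by
        have : 7 * (n * d) = 7 * d * n := by ring
        rw [this]; exact h1
      exact Dvd.dvd.trans (Dvd.intro _ rfl) (Nat.dvd_of_mul_dvd_mul_left (by norm_num) h2)
    have hmem : n ∈ Nat.divisors 720 := Nat.mem_divisors.mpr ⟨hn720, by norm_num⟩
    simp only [Nat.divisors_ofNat, Finset.mem_insert, Finset.mem_singleton] at hmem
    rw [hcard] at h16 h9
    have hd6 : d ≤ 6 := Nat.le_of_dvd (by norm_num) hd
    have hd' : d ∣ 6 := hd
    interval_cases d <;> omega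
  rcases hcases with ⟨hd3, hn8⟩ | ⟨hd2, hn15⟩
  · -- order 168
    have h168 : Nat.card G = 168 := by rw [hcard, hd3, hn8]
    refine ⟨h168, ?_⟩
    obtain ⟨P⟩ := (inferInstance : Nonempty (Sylow 7 G))
    obtain ⟨hP, hNP, -⟩ := hall P
    apply Cfsg.Agent.S1013.result hα G P (by rw [hn8]; norm_num)
    have e1 := Subgroup.card_mul_index
      ((P : Subgroup G).subgroupOf (Subgroup.normalizer ((P : Subgroup G) : Set G)))
    have e2 : Nat.card ((P : Subgroup G).subgroupOf
        (Subgroup.normalizer ((P : Subgroup G) : Set G))) = 7 :=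
      (Nat.card_congr (Subgroup.subgroupOfEquivOfLe Subgroup.le_normalizer).toEquiv).trans hP
    rw [e2, hNP, hd3] at e1
    have e3 : ((P : Subgroup G).subgroupOf
        (Subgroup.normalizer ((P : Subgroup G) : Set G))).index = 3 := by omega
    rw [e3]
    norm_num
  · -- order 210 is impossible
    exfalso
    have h210 : Nat.card G = 2 * 105 := by rw [hcard, hd2, hn15]
    obtain ⟨T⟩ := (inferInstance : Nonempty (Sylow 2 G))
    have hT : Nat.card (T : Subgroup G) = 2 := card_sylow_of_exact h210 (by norm_num) T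
    have hle := normalizer_le_centralizer_of_card_two (T : Subgroup G) hT
    have hc := MonoidHom.ker_transferSylow_isComplement' T hle
    have hmul := hc.card_mul_card
    rw [hT, h210] at hmul
    set K := (MonoidHom.transferSylow T hle).ker with hK
    have hKcard : Nat.card K = 105 := by omega
    haveI : K.Normal := by rw [hK]; infer_instance
    have hKbot : K ≠ ⊥ := by
      intro h
      rw [h, Subgroup.card_bot] at hKcard
      omega
    haveI := Cfsg.Agent.Helper22.isPretransitive_of_normal_of_ne_bot (X := α) K hKbot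
    obtain ⟨d', hd', hcard', -, hd1''⟩ := data (H := K) hα'
    have hmod'' : Nat.card (Sylow 7 K) % 7 = 1 := card_sylow_modEq_one 7 K
    rw [hKcard] at hcard' hd1''
    have hd6 : d' ≤ 6 := Nat.le_of_dvd (by norm_num) hd'
    have hd'' : d' ∣ 6 := hd'
    have hn' : Nat.card (Sylow 7 K) ≤ 105 := by
      have : 0 < d' := Nat.pos_of_dvd_of_pos hd' (by norm_num)
      nlinarith
    interval_cases d' <;> omega

end Cfsg.Agent.Helper22.PrimeDeg
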