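import Mathlib
import Cfsg.Prelude.Def_Blocks
import Cfsg.Agent.Lib.Helper18.GaloisConj
import Cfsg.Agent.Lib.Helper24.CharInduced

/-!
# Power twists of class functions (helper22, for S4489)

`tw j χ = fun g => χ (g ^ j)`; `galSet p χ` is the set of twists by exponents prime to `p`,
`galCard p χ` its cardinality.  Compatibility of twists with induction.
-/

set_option autoImplicit false
set_option linter.style.haveILetI false

namespace Cfsg.Agent.Helper22.PFieldVal

open Cfsg Cfsg.Agent.Helper24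

universe u

section Twist

variable {G : Type u} [Group G]

/-- power twist of a function on a group -/
def tw (j : ℕ) (χ : G → ℂ) : G → ℂ := fun g => χ (g ^ j)

theorem tw_apply (j : ℕ) (χ : G → ℂ) (g : G) : tw j χ g = χ (g ^ j) := rfl

theorem tw_tw (i j : ℕ) (χ : G → ℂ) : tw i (tw j χ) = tw (i * j) χ := by
  funext g
  simp only [tw_apply, pow_mul]

theorem tw_one (χ : G → ℂ) : tw 1 χ = χ := by
  funext g
  simp [tw_apply]

theorem tw_smul (j : ℕ) (c : ℂ) (χ : G → ℂ) : tw j (c • χ) = c • tw j χ := rfl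

theorem tw_congr {n : ℕ} (hn : ∀ g : G, g ^ n = 1) {i j : ℕ} (h : i ≡ j [MOD n]) (χ : G → ℂ) :
    tw i χ = tw j χ := by
  funext g
  rw [tw_apply, tw_apply]
  congr 1
  rw [pow_eq_pow_iff_modEq]
  exact Nat.ModEq.of_dvd (orderOf_dvd_of_pow_eq_one (hn g)) h

/-- the set of twists by exponents prime to `p` -/
def galSet (p : ℕ) (χ : G → ℂ) : Set (G → ℂ) := {φ | ∃ j : ℕ, Nat.Coprime j p ∧ φ = tw j χ}

/-- the number of twists by exponents prime to `p` -/
noncomputable def galCard (p : ℕ) (χ : G → ℂ) : ℕ := (galSet p χ).ncard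

theorem self_mem_galSet (p : ℕ) (χ : G → ℂ) : χ ∈ galSet p χ :=
  ⟨1, Nat.coprime_one_left p, (tw_one χ).symm⟩

theorem tw_mem_galSet {p j : ℕ} (hj : Nat.Coprime j p) (χ : G → ℂ) : tw j χ ∈ galSet p χ :=
  ⟨j, hj, rfl⟩

theorem isIrrCharacter_tw [Finite G] {p a : ℕ} (hG : Nat.card G = p ^ a) {χ : G → ℂ}
    (hχ : IsIrrCharacter G χ) {j : ℕ} (hj : Nat.Coprime j p) : IsIrrCharacter G (tw j χ) := by
  letI := Fintype.ofFinite G
  have hc : Nat.Coprime (Nat.card G) j := by
    rw [hG]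
    exact Nat.Coprime.pow_left a hj.symm
  exact Cfsg.Agent.Helper18.isIrrCharacter_comp_pow hχ hc

theorem galSet_finite [Finite G] {p a : ℕ} (hG : Nat.card G = p ^ a) {χ : G → ℂ}
    (hχ : IsIrrCharacter G χ) : (galSet p χ).Finite := by
  letI := Fintype.ofFinite G
  have hfin : (Set.range (Subtype.val : IrrCharacter G → G → ℂ)).Finite := by
    have : Finite (IrrCharacter G) := irr_finite'
    exact Set.finite_range _
  apply hfin.subset
  rintro φ ⟨j, hj, rfl⟩
  exact ⟨⟨tw j χ, isIrrCharacter_tw hG hχ hj⟩, rfl⟩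

theorem galCard_pos [Finite G] {p a : ℕ} (hG : Nat.card G = p ^ a) {χ : G → ℂ}
    (hχ : IsIrrCharacter G χ) : 0 < galCard p χ := by
  unfold galCard
  rw [Set.ncard_pos (galSet_finite hG hχ)]
  exact ⟨χ, self_mem_galSet p χ⟩

/-- If the stabilizer of `χ` under twisting is contained in that of `ψ`, then equal twists of `χ`
give equal twists of `ψ`. -/
theorem tw_eq_of_stab {H : Type*} [Group H] {p a : ℕ} (hp : p.Prime)
    (hGn : ∀ g : G, g ^ (p ^ a) = 1) (hHn : ∀ h : H, h ^ (p ^ a) = 1)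
    (χ : G → ℂ) (ψ : H → ℂ)
    (hstab : ∀ i : ℕ, Nat.Coprime i p → tw i χ = χ → tw i ψ = ψ)
    {j j' : ℕ} (hj : Nat.Coprime j p) (hj' : Nat.Coprime j' p) (h : tw j χ = tw j' χ) :
    tw j ψ = tw j' ψ := by
  set n := p ^ (a + 1) with hn
  have hn1 : 1 < n := Nat.one_lt_pow (Nat.succ_ne_zero a) hp.one_lt
  have hGn' : ∀ g : G, g ^ n = 1 := by
    intro g
    rw [hn, pow_succ, pow_mul, hGn g, one_pow]
  have hHn' : ∀ g : H, g ^ n = 1 := by
    intro g
    rw [hn, pow_succ, pow_mul, hHn g, one_pow]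
  have hj'n : Nat.Coprime j' n := Nat.Coprime.pow_right (a + 1) hj'
  obtain ⟨k, -, hk⟩ := Nat.exists_mul_mod_eq_one_of_coprime hj'n hn1
  have hk1 : j' * k ≡ 1 [MOD n] := by
    unfold Nat.ModEq
    rw [hk, Nat.mod_eq_of_lt hn1]
  have hkp : Nat.Coprime k p := by
    rw [Nat.coprime_comm, hp.coprime_iff_not_dvd]
    intro hpk
    have h1 : p ∣ j' * k := Dvd.dvd.mul_left hpk j'
    have h2 : p ∣ n := by
      rw [hn]
      exact dvd_pow_self p (Nat.succ_ne_zero a)
    have h3 : (j' * k) % p = 1 % p := Nat.ModEq.of_dvd h2 hk1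
    rw [Nat.mod_eq_zero_of_dvd h1, Nat.mod_eq_of_lt hp.one_lt] at h3
    exact zero_ne_one h3
  have e1 : tw (k * j) χ = χ := by
    rw [← tw_tw, h, tw_tw]
    have : k * j' ≡ 1 [MOD n] := by rw [mul_comm]; exact hk1
    rw [tw_congr hGn' this, tw_one]
  have e2 : tw (k * j) ψ = ψ := hstab (k * j) (Nat.Coprime.mul_left hkp hj) e1
  have e3 : tw j' (tw (k * j) ψ) = tw j' ψ := by rw [e2]
  rw [tw_tw] at e3
  rw [← e3]
  apply tw_congr hHn'
  have : j' * (k * j) = (j' * k) * j := by ring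
  rw [this]
  have := Nat.ModEq.mul_right j hk1
  rw [one_mul] at this
  exact this.symm

end Twist

section Induction

variable {G : Type u} [Group G] [Fintype G]

/-- Twisting commutes with induction. -/
theorem tw_indFun (T : Subgroup G) (ψ : T → ℂ) {j : ℕ} (hj : Nat.Coprime (Nat.card G) j) :
    tw j (indFun T ψ) = indFun T (tw j ψ) := by
  funext g
  rw [tw_apply, indFun_apply, indFun_apply]
  congr 1
  refine Finset.sum_congr rfl fun x _ => ?_
  have h1 : x⁻¹ * g ^ j * x = (x⁻¹ * g * x) ^ j := by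
    have := conj_pow (a := x⁻¹) (b := g) (i := j)
    rw [inv_inv] at this
    exact this.symm
  rw [h1]
  by_cases hy : x⁻¹ * g * x ∈ T
  · rw [extendByZero_of_mem T _ (T.pow_mem hy j), extendByZero_of_mem T _ hy]
    rfl
  · rw [extendByZero_of_not_mem T _ hy, extendByZero_of_not_mem]
    intro h
    apply hy
    have hcop : Nat.Coprime j (orderOf (x⁻¹ * g * x)) :=
      (Nat.Coprime.coprime_dvd_left (orderOf_dvd_natCard _) hj).symm
    obtain ⟨m, hm⟩ := exists_pow_eq_self_of_coprime hcop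
    rw [← hm]
    exact T.pow_mem h m

end Induction

end Cfsg.Agent.Helper22.PFieldVal
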