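import Mathlib
import Cfsg.Prelude.Def_Blocks
import Cfsg.Agent.Lib.Helper18.CliffordCorr
import Cfsg.Agent.Lib.Helper18.GaloisConj
import Cfsg.Agent.Lib.Helper24.CharInduced
import Cfsg.Agent.Lib.Helper5.Clifford
import Cfsg.Agent.Lib.Helper22.PFV1

/-!
# Products of Galois conjugate characters: quasi-primitivity (helper22)

If `χ` and the product `χ · χ^σ` (with `χ^σ g = χ (g ^ k)`, `k` coprime to `|G|`) are both
irreducible then `χ` is quasi-primitive.
-/

set_option autoImplicit false
set_option linter.unusedSectionVars false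
set_option linter.unusedVariables false
set_option linter.style.haveILetI false

namespace Cfsg.Agent.Helper22.FitCen

open Cfsg Cfsg.Agent Cfsg.Agent.Helper24 Cfsg.Agent.Helper22.PFieldVal
open scoped ComplexConjugate

universe u

variable {G : Type u} [Group G] [Fintype G]

/-- A nonzero character does not vanish at the identity. -/
theorem char_one_ne_zero {γ : G → ℂ} (hγ : IsCharacter G γ) (h0 : γ ≠ 0) : γ 1 ≠ 0 := by
  classical
  letI := irrFintype (G := G)
  obtain ⟨ξ, hξ, hcon⟩ := Helper5.exists_constituent hγ h0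
  obtain ⟨ρ, hρ, hdec⟩ := Helper5.exists_add_of_constituent hγ hξ hcon
  obtain ⟨n, hn0, hn⟩ := irr_one_eq hξ
  obtain ⟨m, hm⟩ := char_one_eq hρ
  rw [hdec, Pi.add_apply, hn, hm]
  have : (0 : ℕ) < n + m := by omega
  exact_mod_cast this.ne'

/-- The sum of two nonzero characters is not irreducible. -/
theorem not_irr_add {a b : G → ℂ} (ha : IsCharacter G a) (hb : IsCharacter G b) (ha0 : a ≠ 0)
    (hb0 : b ≠ 0) : ¬ IsIrrCharacter G (a + b) := by
  classical
  intro hirr
  letI := irrFintype (G := G)
  obtain ⟨ξ, hξ, hξa⟩ := Helper5.exists_constituent ha ha0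
  obtain ⟨ξ', hξ', hξb⟩ := Helper5.exists_constituent hb hb0
  obtain ⟨m1, hm1⟩ := classInner_char_nat ha (isCharacter_of_isIrrCharacter hξ)
  obtain ⟨m2, hm2⟩ := classInner_char_nat hb (isCharacter_of_isIrrCharacter hξ)
  obtain ⟨m3, hm3⟩ := classInner_char_nat ha (isCharacter_of_isIrrCharacter hξ')
  obtain ⟨m4, hm4⟩ := classInner_char_nat hb (isCharacter_of_isIrrCharacter hξ')
  have hm1' : m1 ≠ 0 := by
    rintro rfl
    exact hξa (by simpa using hm1)
  have hm4' : m4 ≠ 0 := by
    rintro rfl
    exact hξb (by simpa using hm4)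
  have h1 : classInner (a + b) ξ = ((m1 + m2 : ℕ) : ℂ) := by
    rw [classInner_add_left, hm1, hm2]; push_cast; ring
  have h2 : classInner (a + b) ξ' = ((m3 + m4 : ℕ) : ℂ) := by
    rw [classInner_add_left, hm3, hm4]; push_cast; ring
  rw [irr_orthogonality hirr hξ] at h1
  rw [irr_orthogonality hirr hξ'] at h2
  by_cases e1 : a + b = ξ
  · rw [if_pos e1] at h1
    by_cases e2 : a + b = ξ'
    · rw [if_pos e2] at h2
      have e3 : ξ = ξ' := e1.symm.trans e2
      subst e3
      have h3 : (1 : ℕ) = m1 + m2 := by exact_mod_cast h1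
      have h4 : (1 : ℕ) = m3 + m4 := by exact_mod_cast h2
      have h5 : m2 = m4 := by
        have : ((m2 : ℕ) : ℂ) = ((m4 : ℕ) : ℂ) := by rw [← hm2, ← hm4]
        exact_mod_cast this
      omega
    · rw [if_neg e2] at h2
      have h4 : (0 : ℕ) = m3 + m4 := by exact_mod_cast h2
      omega
  · rw [if_neg e1] at h1
    have h3 : (0 : ℕ) = m1 + m2 := by exact_mod_cast h1
    omega

/-- Projection formula: an induced function times a class function of the big group. -/
theorem indFun_mul_class (T : Subgroup G) (α : T → ℂ) {φ : G → ℂ} (hφ : IsClassFunction G φ) :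
    indFun T α * φ = indFun T (fun t => α t * φ t) := by
  funext g
  rw [Pi.mul_apply, indFun_apply, indFun_apply, mul_assoc, Finset.sum_mul]
  congr 1
  refine Finset.sum_congr rfl fun x _ => ?_
  have h1 : φ (x⁻¹ * g * x) = φ g := by
    have := hφ g x⁻¹
    rwa [inv_inv] at this
  by_cases hy : x⁻¹ * g * x ∈ T
  · rw [extendByZero_of_mem T _ hy, extendByZero_of_mem T _ hy]
    change α ⟨x⁻¹ * g * x, hy⟩ * φ g = α ⟨x⁻¹ * g * x, hy⟩ * φ (x⁻¹ * g * x)
    rw [h1]
  · rw [extendByZero_of_not_mem T _ hy, extendByZero_of_not_mem T _ hy, zero_mul]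

/-- If `χ` is induced from a proper subgroup then `χ · χ^σ` is reducible. -/
theorem not_irr_of_induced {χ : G → ℂ} (hχ : IsIrrCharacter G χ) {k : ℕ}
    (hk : Nat.Coprime k (Nat.card G)) (T : Subgroup G) (hT : ¬ T = ⊤) (α : T → ℂ)
    (hα : IsIrrCharacter T α) (hind : indFun T α = χ) :
    ¬ IsIrrCharacter G (fun g => χ g * χ (g ^ k)) := by
  classical
  intro hirr
  letI : Fintype T := Fintype.ofFinite T
  letI := irrFintype (G := T)
  letI := irrFintype (G := G)
  have hkG : Nat.Coprime (Nat.card G) k := hk.symm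
  have hkT : Nat.Coprime (Nat.card T) k :=
    Nat.Coprime.coprime_dvd_left (Subgroup.card_subgroup_dvd_card T) hkG
  have hσ : tw k χ = indFun T (tw k α) := by rw [← hind, tw_indFun T α hkG]
  have hασ : IsIrrCharacter T (tw k α) := Helper18.isIrrCharacter_comp_pow hα hkT
  have hχσ : IsIrrCharacter G (tw k χ) := Helper18.isIrrCharacter_comp_pow hχ hkG
  have hχσcf : IsClassFunction G (tw k χ) := isClassFunction_of_isIrrCharacter hχσ
  have hres : IsCharacter T (fun t : T => tw k χ t) :=
    isCharacter_restrict T (isCharacter_of_isIrrCharacter hχσ)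
  have hcon2 : classInner (fun t : T => tw k χ t) (tw k α) ≠ 0 := by
    have h1 := frobenius_reciprocity T (tw k α) hχσcf
    rw [← hσ, irr_orthogonality hχσ hχσ, if_pos rfl] at h1
    rw [← classInner_conj_symm, ← h1]
    simp
  obtain ⟨γ, hγ, hdec⟩ := Helper5.exists_add_of_constituent hres hασ hcon2
  have hα1 : α 1 ≠ 0 := char_one_ne_zero (isCharacter_of_isIrrCharacter hα)
    (fun h0 => by
      have := irr_orthogonality hα hα
      rw [if_pos rfl, h0, classInner_zero_left] at this
      exact zero_ne_one this)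
  have hασ1 : tw k α 1 = α 1 := by rw [tw_apply, one_pow]
  have hγ0 : γ ≠ 0 := by
    intro h0
    rw [h0, add_zero] at hdec
    have h1 : tw k χ ((1 : T) : G) = tw k α 1 := congrFun hdec 1
    rw [hασ1, tw_apply] at h1
    have h2 : χ (((1 : T) : G) ^ k) = χ 1 := by simp
    rw [h2, ← hind, indFun_one] at h1
    have h3 : ((T.index : ℂ) - 1) * α 1 = 0 := by linear_combination h1
    rcases mul_eq_zero.mp h3 with h | h
    · have h4 : (T.index : ℂ) = ((1 : ℕ) : ℂ) := by rw [Nat.cast_one]; linear_combination h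
      have h5 : T.index = 1 := by exact_mod_cast h4
      exact hT (Subgroup.index_eq_one.mp h5)
    · exact hα1 h
  have hγ1 : γ 1 ≠ 0 := char_one_ne_zero hγ hγ0
  have hψ : (fun g => χ g * χ (g ^ k)) =
      indFun T (fun t => α t * tw k α t) + indFun T (fun t => α t * γ t) := by
    have h1 := indFun_mul_class T α hχσcf
    rw [hind] at h1
    have h2 : (fun g => χ g * χ (g ^ k)) = χ * tw k χ := rfl
    rw [h2, h1, ← indFun_add]
    congr 1
    funext t
    have h3 := congrFun hdec t
    simp only [Pi.add_apply] at h3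
    rw [Pi.add_apply, h3, mul_add]
  rw [hψ] at hirr
  have hc1 : IsCharacter T (fun t => α t * tw k α t) :=
    isCharacter_mul (isCharacter_of_isIrrCharacter hα) (isCharacter_of_isIrrCharacter hασ)
  have hc2 : IsCharacter T (fun t => α t * γ t) :=
    isCharacter_mul (isCharacter_of_isIrrCharacter hα) hγ
  have hidx : (T.index : ℂ) ≠ 0 := by
    have : T.index ≠ 0 := Subgroup.index_ne_zero_of_finite
    exact_mod_cast this
  refine not_irr_add (isCharacter_indFun T hc1) (isCharacter_indFun T hc2) ?_ ?_ hirr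
  · intro h0
    have h1 := congrFun h0 1
    rw [indFun_one, hασ1] at h1
    simp only [Pi.zero_apply] at h1
    exact mul_ne_zero hidx (mul_ne_zero hα1 hα1) h1
  · intro h0
    have h1 := congrFun h0 1
    rw [indFun_one] at h1
    simp only [Pi.zero_apply] at h1
    exact mul_ne_zero hidx (mul_ne_zero hα1 hγ1) h1

/-- If `χ` and `χ · χ^σ` are irreducible, then `χ` is quasi-primitive: every irreducible
constituent of the restriction of `χ` to a normal subgroup is invariant in `G`. -/
theorem inertia_eq_top_of_irr_mul_tw {χ : G → ℂ} (hχ : IsIrrCharacter G χ) {k : ℕ}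
    (hk : Nat.Coprime k (Nat.card G))
    (hirr : IsIrrCharacter G (fun g => χ g * χ (g ^ k)))
    (N : Subgroup G) [N.Normal] [Fintype N] (ϑ : N → ℂ) (hϑ : IsIrrCharacter N ϑ)
    (hcon : classInner (fun n : N => χ n) ϑ ≠ 0) : Helper18.inertia N ϑ = ⊤ := by
  classical
  by_contra hT
  obtain ⟨α, hα, hind, -⟩ := Helper18.clifford_correspondence N hχ hϑ hcon
  exact not_irr_of_induced hχ hk _ hT α hα hind hirr

end Cfsg.Agent.Helper22.FitCen
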