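import Mathlib
import Cfsg.Prelude.Def_Blocks
import Cfsg.Agent.Lib.Helper18.GaloisConj
import Cfsg.Agent.Lib.Helper24.CharNormal
import Cfsg.Agent.Lib.Helper24.CharAlgebra
import Cfsg.Agent.Lib.Helper5.Clifford
import Cfsg.Agent.Lib.Helper23.Schur

/-!
# Averaging a character over the cosets of a normal subgroup; central characters (helper22)
-/

set_option autoImplicit false
set_option linter.unusedSectionVars false
set_option linter.unusedVariables false
set_option linter.style.haveILetI false

namespace Cfsg.Agent.Helper22.FitCen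

open Cfsg Cfsg.Agent Cfsg.Agent.Helper24
open scoped ComplexConjugate

universe u

variable {G : Type u} [Group G] [Fintype G]

/-- The average of a function over the cosets of a subgroup. -/
noncomputable def avgU (U : Subgroup G) [Fintype U] (ρ : G → ℂ) : G → ℂ :=
  fun g => (Nat.card U : ℂ)⁻¹ * ∑ u : U, ρ (g * (u : G))

theorem avgU_apply (U : Subgroup G) [Fintype U] (ρ : G → ℂ) (g : G) :
    avgU U ρ g = (Nat.card U : ℂ)⁻¹ * ∑ u : U, ρ (g * (u : G)) := rfl

theorem avgU_add (U : Subgroup G) [Fintype U] (a b : G → ℂ) :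
    avgU U (a + b) = avgU U a + avgU U b := by
  funext g
  simp only [avgU_apply, Pi.add_apply, Finset.sum_add_distrib, mul_add]

theorem avgU_smul (U : Subgroup G) [Fintype U] (c : ℂ) (a : G → ℂ) :
    avgU U (c • a) = c • avgU U a := by
  funext g
  simp only [avgU_apply, Pi.smul_apply, smul_eq_mul, ← Finset.mul_sum]
  ring

theorem avgU_zero (U : Subgroup G) [Fintype U] : avgU U (0 : G → ℂ) = 0 := by
  funext g
  simp [avgU_apply]

theorem avgU_sum (U : Subgroup G) [Fintype U] {ι : Type*} (s : Finset ι) (f : ι → G → ℂ) :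
    avgU U (∑ i ∈ s, f i) = ∑ i ∈ s, avgU U (f i) := by
  classical
  induction s using Finset.induction_on with
  | empty => simp [avgU_zero]
  | insert i s hi ih => rw [Finset.sum_insert hi, Finset.sum_insert hi, avgU_add, ih]

theorem card_ne_zero_complex (U : Subgroup G) : (Nat.card U : ℂ) ≠ 0 := by
  have : Nat.card U ≠ 0 := Nat.card_pos.ne'
  exact_mod_cast this

theorem avgU_irr (U : Subgroup G) [U.Normal] [Fintype U] {ξ : G → ℂ} (hξ : IsIrrCharacter G ξ) :
    avgU U ξ = ξ ∨ avgU U ξ = 0 := by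
  by_cases h : ∃ x ∈ U, ξ x ≠ ξ 1
  · right
    funext g
    rw [avgU_apply, sum_char_coset_eq_zero U hξ h g, mul_zero]
    rfl
  · left
    push Not at h
    funext g
    rw [avgU_apply, sum_char_coset_of_le_ker U (isCharacter_of_isIrrCharacter hξ) h g,
      ← mul_assoc, inv_mul_cancel₀ (card_ne_zero_complex U), one_mul]

theorem isCharacter_avgU (U : Subgroup G) [U.Normal] [Fintype U] {ρ : G → ℂ}
    (hρ : IsCharacter G ρ) : IsCharacter G (avgU U ρ) := by
  classical
  letI := irrFintype (G := G)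
  obtain ⟨hm, hdec⟩ := isCharacter_decomp hρ
  rw [hdec, avgU_sum]
  apply isCharacter_sum
  intro ξ _
  obtain ⟨m, hm'⟩ := hm ξ
  rw [avgU_smul, hm']
  apply isCharacter_natCast_smul
  rcases avgU_irr U ξ.2 with h | h
  · rw [h]
    exact isCharacter_of_isIrrCharacter ξ.2
  · rw [h]
    exact isCharacter_zero

theorem avgU_one (U : Subgroup G) [Fintype U] :
    avgU U (fun _ => (1 : ℂ)) = fun _ => (1 : ℂ) := by
  funext g
  rw [avgU_apply]
  simp only [Finset.sum_const, Finset.card_univ, nsmul_eq_mul, mul_one]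
  rw [← Nat.card_eq_fintype_card, inv_mul_cancel₀ (card_ne_zero_complex U)]

/-- The key lower bound: the averaged function `B` of `χ · conj χ` satisfies
`∑ B(g) B(g^k) = |G| (1 + n)`. -/
theorem sum_avg_ge (U : Subgroup G) [U.Normal] [Fintype U] {χ : G → ℂ}
    (hχ : IsIrrCharacter G χ) {k : ℕ} (hk : Nat.Coprime k (Nat.card G)) :
    ∃ n : ℕ, ∑ g : G, avgU U (fun x => χ x * conj (χ x)) g *
      avgU U (fun x => χ x * conj (χ x)) (g ^ k) = (Nat.card G : ℂ) * (1 + n) := by
  classical
  letI := irrFintype (G := G)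
  have hkG : Nat.Coprime (Nat.card G) k := hk.symm
  have hχc := isCharacter_of_isIrrCharacter hχ
  have hcardG : (Nat.card G : ℂ) ≠ 0 := by
    have : Nat.card G ≠ 0 := Nat.card_pos.ne'
    exact_mod_cast this
  have h1c : IsCharacter G (fun _ => (1 : ℂ)) := isCharacter_one
  have hΘ : IsCharacter G (fun x => χ x * conj (χ x)) := isCharacter_mul hχc (isCharacter_conj hχc)
  have hin : classInner (fun x => χ x * conj (χ x)) (fun _ => (1 : ℂ)) ≠ 0 := by
    have h1 : classInner (fun x => χ x * conj (χ x)) (fun _ => (1 : ℂ)) = classInner χ χ := by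
      unfold classInner
      congr 1
      refine Finset.sum_congr rfl fun g _ => ?_
      simp
    rw [h1, irr_orthogonality hχ hχ, if_pos rfl]
    exact one_ne_zero
  obtain ⟨ρ, hρ, hdec⟩ := Helper5.exists_add_of_constituent hΘ isIrrCharacter_one hin
  have hB : avgU U (fun x => χ x * conj (χ x)) = (fun _ => (1 : ℂ)) + avgU U ρ := by
    rw [hdec, avgU_add, avgU_one]
  have hB' : IsCharacter G (avgU U ρ) := isCharacter_avgU U hρ
  have hC' : IsCharacter G (fun g => conj (avgU U ρ (g ^ k))) :=
    isCharacter_conj (Helper18.isCharacter_comp_pow hB' hkG)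
  obtain ⟨n1, hn1⟩ := classInner_char_nat h1c hC'
  obtain ⟨n2, hn2⟩ := classInner_char_nat hB' h1c
  obtain ⟨n3, hn3⟩ := classInner_char_nat hB' hC'
  have h11 : classInner (fun _ : G => (1 : ℂ)) (fun _ => (1 : ℂ)) = 1 := by
    rw [irr_orthogonality isIrrCharacter_one isIrrCharacter_one, if_pos rfl]
  refine ⟨n1 + n2 + n3, ?_⟩
  rw [hB]
  have h2 : ∑ g : G, (((fun _ => (1 : ℂ)) + avgU U ρ : G → ℂ) g) *
      (((fun _ => (1 : ℂ)) + avgU U ρ : G → ℂ) (g ^ k)) =
      (Nat.card G : ℂ) * classInner (((fun _ => (1 : ℂ)) + avgU U ρ : G → ℂ))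
        (((fun _ => (1 : ℂ)) + fun g => conj (avgU U ρ (g ^ k)) : G → ℂ)) := by
    unfold classInner
    rw [← mul_assoc, mul_inv_cancel₀ hcardG, one_mul]
    refine Finset.sum_congr rfl fun g _ => ?_
    simp only [Pi.add_apply, map_add, map_one, Complex.conj_conj]
  rw [h2, classInner_add_left, classInner_add_right, classInner_add_right, h11, hn1, hn2, hn3]
  push_cast
  ring

section Central

/-- The central character of a faithful irreducible character, as an injective homomorphism. -/
theorem exists_central_hom {χ : G → ℂ} (hχ : IsIrrCharacter G χ)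
    (hfaith : ∀ g : G, χ g = χ 1 → g = 1) :
    ∃ ω : Subgroup.center G →* ℂˣ, Function.Injective ω ∧
      ∀ (z : Subgroup.center G) (g : G), χ ((z : G) * g) = ((ω z : ℂˣ) : ℂ) * χ g := by
  have h1 : χ 1 ≠ 0 := Cfsg.Agent.Helper23.irr_one_ne_zero χ hχ
  let f : Subgroup.center G →* ℂ :=
    { toFun := fun z => χ (z : G) / χ 1
      map_one' := by
        change χ ((1 : Subgroup.center G) : G) / χ 1 = 1
        rw [Subgroup.coe_one, div_self h1]
      map_mul' := by
        intro z z'
        change χ ((z * z' : Subgroup.center G) : G) / χ 1 = χ (z : G) / χ 1 * (χ (z' : G) / χ 1)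
        rw [Subgroup.coe_mul, Cfsg.Agent.Helper23.irr_central_mul χ hχ z z.2 z']
        ring }
  have hf : ∀ (z : Subgroup.center G) (g : G), χ ((z : G) * g) = ((f.toHomUnits z : ℂˣ) : ℂ) * χ g := by
    intro z g
    rw [MonoidHom.coe_toHomUnits]
    exact Cfsg.Agent.Helper23.irr_central_mul χ hχ z z.2 g
  refine ⟨f.toHomUnits, ?_, hf⟩
  rw [injective_iff_map_eq_one]
  intro z hz
  have h2 := hf z 1
  rw [hz, mul_one, Units.val_one, one_mul] at h2
  exact Subtype.ext (hfaith z h2)

/-- The values of a homomorphism of a finite group into `ℂˣ` have norm one. -/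
theorem norm_hom_eq_one {Z : Type*} [Group Z] [Finite Z] (ω : Z →* ℂˣ) (z : Z) :
    ‖((ω z : ℂˣ) : ℂ)‖ = 1 := by
  have h1 : ((ω z : ℂˣ) : ℂ) ^ orderOf z = 1 := by
    rw [← Units.val_pow_eq_pow_val, ← map_pow, pow_orderOf_eq_one, map_one, Units.val_one]
  exact Complex.norm_eq_one_of_pow_eq_one h1 (orderOf_pos z).ne'

end Central

end Cfsg.Agent.Helper22.FitCen
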