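import Mathlib
import Cfsg.Prelude.Def_Blocks
import Cfsg.Agent.Lib.Helper22.FC1
import Cfsg.Agent.Lib.Helper22.FC2
import Cfsg.Agent.Lib.Helper18.Winter3

/-!
# Products of Galois conjugate characters: the class two case (helper22)
-/

set_option autoImplicit false
set_option linter.unusedSectionVars false
set_option linter.unusedVariables false
set_option linter.style.haveILetI false

namespace Cfsg.Agent.Helper22.FitCen

open Cfsg Cfsg.Agent Cfsg.Agent.Helper24
open scoped ComplexConjugate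

universe u

variable {G : Type u} [Group G] [Fintype G]

/-- The squared absolute value of a character. -/
noncomputable def theta (χ : G → ℂ) : G → ℝ := fun g => Complex.normSq (χ g)

theorem theta_apply (χ : G → ℂ) (g : G) : theta χ g = Complex.normSq (χ g) := rfl

theorem theta_cast (χ : G → ℂ) (g : G) : ((theta χ g : ℝ) : ℂ) = χ g * conj (χ g) := by
  rw [theta_apply, Complex.mul_conj]

theorem theta_nonneg (χ : G → ℂ) (g : G) : 0 ≤ theta χ g := Complex.normSq_nonneg _

theorem theta_one_pos {χ : G → ℂ} (hχ : IsIrrCharacter G χ) : 0 < theta χ 1 :=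
  Complex.normSq_pos.mpr (Cfsg.Agent.Helper23.irr_one_ne_zero χ hχ)

theorem theta_conj {χ : G → ℂ} (hχ : IsIrrCharacter G χ) (g h : G) :
    theta χ (h * g * h⁻¹) = theta χ g := by
  rw [theta_apply, theta_apply, isClassFunction_of_isIrrCharacter hχ g h]

theorem theta_mul_central {χ : G → ℂ} (hχ : IsIrrCharacter G χ)
    (ω : Subgroup.center G →* ℂˣ)
    (hω : ∀ (z : Subgroup.center G) (g : G), χ ((z : G) * g) = ((ω z : ℂˣ) : ℂ) * χ g)
    (g : G) (z : G) (hz : z ∈ Subgroup.center G) : theta χ (g * z) = theta χ g := by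
  have h1 : g * z = z * g := (Subgroup.mem_center_iff.mp hz g)
  rw [theta_apply, theta_apply, h1, hω ⟨z, hz⟩ g, Complex.normSq_mul, Complex.normSq_eq_norm_sq,
    norm_hom_eq_one ω ⟨z, hz⟩]
  simp

theorem theta_bad {χ : G → ℂ} (hχ : IsIrrCharacter G χ)
    (ω : Subgroup.center G →* ℂˣ) (hinj : Function.Injective ω)
    (hω : ∀ (z : Subgroup.center G) (g : G), χ ((z : G) * g) = ((ω z : ℂˣ) : ℂ) * χ g)
    (g v : G) (hz : g * v * g⁻¹ * v⁻¹ ∈ Subgroup.center G) (hne : g * v * g⁻¹ * v⁻¹ ≠ 1) :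
    theta χ g = 0 := by
  obtain ⟨z, hzdef⟩ : ∃ z, z = g * v * g⁻¹ * v⁻¹ := ⟨_, rfl⟩
  rw [← hzdef] at hz hne
  have hzi : z⁻¹ ∈ Subgroup.center G := Subgroup.inv_mem _ hz
  have h1 : v * g * v⁻¹ = z⁻¹ * g := by rw [hzdef]; group
  have h2 : χ g = ((ω ⟨z⁻¹, hzi⟩ : ℂˣ) : ℂ) * χ g := by
    have h5 := isClassFunction_of_isIrrCharacter hχ g v
    rw [h1] at h5
    rw [← hω ⟨z⁻¹, hzi⟩ g]
    exact h5.symm
  have h3 : ((ω ⟨z⁻¹, hzi⟩ : ℂˣ) : ℂ) ≠ 1 := by
    intro h
    have h4 : ω ⟨z⁻¹, hzi⟩ = 1 := Units.ext h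
    have h5 : (⟨z⁻¹, hzi⟩ : Subgroup.center G) = 1 := by
      apply hinj
      rw [h4, map_one]
    have h6 : z⁻¹ = 1 := congrArg Subtype.val h5
    exact hne (inv_eq_one.mp h6)
  have h4 : (1 - ((ω ⟨z⁻¹, hzi⟩ : ℂˣ) : ℂ)) * χ g = 0 := by linear_combination h2
  rcases mul_eq_zero.mp h4 with h | h
  · exact absurd (sub_eq_zero.mp h).symm h3
  · rw [theta_apply, h, map_zero]

/-- The contradiction in the class two case, given the combinatorial inequality. -/
theorem caseB_contra (U : Subgroup G) [U.Normal] [Fintype U] {χ : G → ℂ}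
    (hχ : IsIrrCharacter G χ) {k : ℕ} (hk : Nat.Coprime k (Nat.card G))
    (hirr : IsIrrCharacter G (fun g => χ g * χ (g ^ k)))
    (hlt : ∑ g : G, (∑ u : U, theta χ (g * u)) * (∑ u : U, theta χ (g ^ k * u))
      < (Fintype.card U : ℝ) ^ 2 * ∑ g : G, theta χ g * theta χ (g ^ k)) : False := by
  classical
  obtain ⟨n, hn⟩ := sum_avg_ge U hχ hk
  have hcardG : (Nat.card G : ℂ) ≠ 0 := by
    have : Nat.card G ≠ 0 := Nat.card_pos.ne'
    exact_mod_cast this
  have hcardU := card_ne_zero_complex U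
  -- the right hand side
  have hR : ∑ g : G, theta χ g * theta χ (g ^ k) = (Nat.card G : ℝ) := by
    apply Complex.ofReal_injective
    push_cast
    have h1 := irr_orthogonality hirr hirr
    rw [if_pos rfl] at h1
    unfold classInner at h1
    have h2 : ∑ g : G, (fun g => χ g * χ (g ^ k)) g * conj ((fun g => χ g * χ (g ^ k)) g) =
        (Nat.card G : ℂ) := by
      have := congrArg (fun t => (Nat.card G : ℂ) * t) h1
      simp only at this
      rw [← mul_assoc, mul_inv_cancel₀ hcardG, one_mul, mul_one] at this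
      exact this
    rw [← h2]
    refine Finset.sum_congr rfl fun g _ => ?_
    rw [theta_cast, theta_cast]
    simp only [map_mul]
    ring
  -- the left hand side
  have hL : ∑ g : G, (∑ u : U, theta χ (g * u)) * (∑ u : U, theta χ (g ^ k * u)) =
      (Fintype.card U : ℝ) ^ 2 * ((Nat.card G : ℝ) * (1 + n)) := by
    apply Complex.ofReal_injective
    push_cast
    rw [← hn, Finset.mul_sum]
    refine Finset.sum_congr rfl fun g _ => ?_
    have h3 : ∀ x : G, ∑ u : U, ((theta χ (x * u) : ℝ) : ℂ) =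
        (Fintype.card U : ℂ) * avgU U (fun x => χ x * conj (χ x)) x := by
      intro x
      rw [avgU_apply, Nat.card_eq_fintype_card, ← mul_assoc, mul_inv_cancel₀, one_mul]
      · refine Finset.sum_congr rfl fun u _ => ?_
        rw [theta_cast]
      · rw [← Nat.card_eq_fintype_card]
        exact hcardU
    rw [h3 g, h3 (g ^ k)]
    ring
  rw [hL, hR] at hlt
  have hU : (0 : ℝ) < (Fintype.card U : ℝ) ^ 2 := by
    have : 0 < Fintype.card U := Fintype.card_pos
    positivity
  have hG : (0 : ℝ) < (Nat.card G : ℝ) := by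
    have : 0 < Nat.card G := Nat.card_pos
    exact_mod_cast this
  have hn0 : (0 : ℝ) ≤ (n : ℝ) := Nat.cast_nonneg n
  have h5 : (Fintype.card U : ℝ) ^ 2 * (Nat.card G : ℝ) ≤
      (Fintype.card U : ℝ) ^ 2 * ((Nat.card G : ℝ) * (1 + n)) := by
    apply mul_le_mul_of_nonneg_left _ hU.le
    nlinarith
  linarith

end Cfsg.Agent.Helper22.FitCen
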