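import Mathlib
import Cfsg.Agent.Lib.Helper16.Fpf3A

set_option autoImplicit false
set_option linter.style.haveILetI false
set_option linter.unusedSectionVars false
set_option linter.unusedVariables false

/-! A fixed-point-free automorphism of order three together with a commuting involutory
automorphism with few fixed points: basic tools (fixed subgroup, quotients, counting). -/

namespace Cfsg.Agent.Helper22.FpfTau

open Cfsg.Agent.Helper16.Fpf3

variable {T : Type*} [Group T]

/-- fixed points of an automorphism -/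
def fixSub (τ : MulAut T) : Subgroup T where
  carrier := {x | τ x = x}
  one_mem' := map_one τ
  mul_mem' := by
    intro a b ha hb
    change τ (a * b) = a * b
    rw [map_mul, ha, hb]
  inv_mem' := by
    intro a ha
    change τ a⁻¹ = a⁻¹
    rw [map_inv, ha]

theorem mem_fixSub {τ : MulAut T} {x : T} : x ∈ fixSub τ ↔ τ x = x := Iff.rfl

/-- The configuration. -/
structure FT (φ τ : MulAut T) : Prop where
  fpf : IsFpf3 φ
  inv : ∀ x, τ (τ x) = x
  comm : ∀ x, τ (φ x) = φ (τ x)
  pg : IsPGroup 2 T

theorem inv_fixSub {φ τ : MulAut T} (h : FT φ τ) : Inv φ (fixSub τ) := by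
  intro x hx
  rw [mem_fixSub] at *
  rw [h.comm, hx]

theorem inv_fixSub_self (τ : MulAut T) : Inv τ (fixSub τ) := by
  intro x hx
  rw [mem_fixSub] at *
  rw [hx, hx]

theorem map_eq_of_inv [Finite T] {α : MulAut T} {N : Subgroup T} (h : Inv α N) :
    N.map (α : T →* T) = N := by
  apply Subgroup.eq_of_le_of_card_ge
  · rintro _ ⟨n, hn, rfl⟩
    exact h n hn
  · rw [Subgroup.card_map_of_injective]
    exact α.injective

/-- the induced automorphism of a quotient -/
noncomputable def qAut [Finite T] (α : MulAut T) (N : Subgroup T) [N.Normal] (h : Inv α N) :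
    MulAut (T ⧸ N) :=
  QuotientGroup.congr N N α (map_eq_of_inv h)

theorem qAut_mk [Finite T] (α : MulAut T) (N : Subgroup T) [N.Normal] (h : Inv α N) (x : T) :
    qAut α N h (x : T ⧸ N) = ((α x : T) : T ⧸ N) :=
  QuotientGroup.congr_mk _ _ _ _ x

theorem isFpf3_qAut [Finite T] {φ : MulAut T} (hφ : IsFpf3 φ) (N : Subgroup T) [N.Normal]
    (h : Inv φ N) : IsFpf3 (qAut φ N h) := by
  constructor
  · intro t
    induction t using QuotientGroup.induction_on with
    | H t => rw [qAut_mk, qAut_mk, qAut_mk, hφ.cube]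
  · intro t
    induction t using QuotientGroup.induction_on with
    | H t =>
      intro ht
      rw [qAut_mk, QuotientGroup.eq] at ht
      have h1 : t⁻¹ * φ t ∈ N := by
        have := N.inv_mem ht
        rwa [mul_inv_rev, inv_inv] at this
      have h2 := mem_of_kappa_mem hφ h h1
      exact (QuotientGroup.eq_one_iff t).mpr h2

theorem FT.quot [Finite T] {φ τ : MulAut T} (h : FT φ τ) (N : Subgroup T) [N.Normal]
    (hφ : Inv φ N) (hτ : Inv τ N) : FT (qAut φ N hφ) (qAut τ N hτ) := by
  refine ⟨isFpf3_qAut h.fpf N hφ, ?_, ?_, h.pg.to_quotient N⟩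
  · intro t
    induction t using QuotientGroup.induction_on with
    | H t => rw [qAut_mk, qAut_mk, h.inv]
  · intro t
    induction t using QuotientGroup.induction_on with
    | H t => rw [qAut_mk, qAut_mk, qAut_mk, qAut_mk, h.comm]

/-- An involutory map of a nontrivial invariant `2`-subgroup has a nontrivial fixed point. -/
theorem exists_fixed_of_ne_bot [Finite T] {τ : MulAut T} (hinv : ∀ x, τ (τ x) = x)
    {N : Subgroup T} (hN : Inv τ N) (hp : IsPGroup 2 N) (hne : N ≠ ⊥) :
    ∃ x ∈ N, x ≠ 1 ∧ τ x = x := by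
  classical
  haveI : Fintype N := Fintype.ofFinite N
  let σ : Function.End N := fun n => ⟨τ n.1, hN _ n.2⟩
  haveI : Fact (Nat.Prime 2) := ⟨Nat.prime_two⟩
  have hσ : σ ^ 2 ^ 1 = 1 := by
    rw [pow_one]
    funext n
    show σ^[2] n = n
    apply Subtype.ext
    exact hinv n.1
  have hmod := Equiv.Perm.card_fixedPoints_modEq (p := 2) (n := 1) hσ
  obtain ⟨k, hk⟩ := IsPGroup.iff_card.mp hp
  have hk0 : k ≠ 0 := by
    rintro rfl
    rw [pow_zero] at hk
    exact hne ((Subgroup.card_eq_one).mp hk)
  rw [← Nat.card_eq_fintype_card, hk] at hmod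
  have heven : Fintype.card (Function.fixedPoints σ) % 2 = 0 := by
    have h2 : 2 ^ k % 2 = 0 := by
      obtain ⟨j, rfl⟩ := Nat.exists_eq_succ_of_ne_zero hk0
      rw [pow_succ]; omega
    have := hmod
    unfold Nat.ModEq at this
    omega
  have h1fix : (1 : N) ∈ Function.fixedPoints σ := by
    show σ 1 = 1
    apply Subtype.ext
    show τ 1 = 1
    exact map_one τ
  have hpos : 0 < Fintype.card (Function.fixedPoints σ) :=
    Fintype.card_pos_iff.mpr ⟨⟨1, h1fix⟩⟩
  have hlt : 1 < Fintype.card (Function.fixedPoints σ) := by omega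
  obtain ⟨⟨y, hy⟩, hne'⟩ := Fintype.exists_ne_of_one_lt_card hlt ⟨1, h1fix⟩
  refine ⟨y.1, y.2, ?_, ?_⟩
  · intro hy1
    apply hne'
    apply Subtype.ext
    apply Subtype.ext
    exact hy1
  · exact congrArg Subtype.val hy

/-- The number of fixed points does not grow in quotients. -/
theorem card_fixSub_quot_le [Finite T] (τ : MulAut T) (N : Subgroup T) [N.Normal] (h : Inv τ N) :
    Nat.card (fixSub (qAut τ N h)) ≤ Nat.card (fixSub τ) := by
  classical
  set C := fixSub τ with hC
  set Cb := fixSub (qAut τ N h) with hCb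
  set P := Cb.comap (QuotientGroup.mk' N) with hP
  have hmemP : ∀ x : T, x ∈ P ↔ x * (τ x)⁻¹ ∈ N := by
    intro x
    rw [hP, Subgroup.mem_comap, hCb, mem_fixSub, QuotientGroup.mk'_apply, qAut_mk,
      QuotientGroup.eq]
    constructor
    · intro hx
      have := N.inv_mem hx
      rw [mul_inv_rev, inv_inv] at this
      have h2 : x * (τ x)⁻¹ = x * ((x)⁻¹ * τ x)⁻¹ * x⁻¹ := by group
      rw [h2]
      exact (inferInstance : N.Normal).conj_mem _ (N.inv_mem this) x
    · intro hx
      have h2 : (τ x)⁻¹ * x = x⁻¹ * (x * (τ x)⁻¹) * x⁻¹⁻¹ := by group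
      rw [h2]
      exact (inferInstance : N.Normal).conj_mem _ hx x⁻¹
  -- card P = card Cb * card N
  have hcardP : Nat.card P * Cb.index = Nat.card Cb * Cb.index * Nat.card N := by
    have h1 : P.index = Cb.index :=
      Subgroup.index_comap_of_surjective Cb (QuotientGroup.mk'_surjective N)
    have h2 := Subgroup.card_mul_index P
    have h3 := Subgroup.card_mul_index Cb
    have h4 := Subgroup.card_eq_card_quotient_mul_card_subgroup N
    rw [h1] at h2
    rw [h2, h3, h4]
  have hidx : 0 < Cb.index := Nat.pos_of_ne_zero Subgroup.index_ne_zero_of_finite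
  have hcardP' : Nat.card P = Nat.card Cb * Nat.card N := by
    have : Nat.card P * Cb.index = (Nat.card Cb * Nat.card N) * Cb.index := by
      rw [hcardP]; ring
    exact Nat.eq_of_mul_eq_mul_right hidx this
  -- injection of P into N × C
  let θ : P → N := fun x => ⟨x.1 * (τ x.1)⁻¹, (hmemP x.1).mp x.2⟩
  have hθ : ∀ x y : P, θ x = θ y → y.1⁻¹ * x.1 ∈ C := by
    intro x y hxy
    have h1 : x.1 * (τ x.1)⁻¹ = y.1 * (τ y.1)⁻¹ := congrArg Subtype.val hxy
    rw [hC, mem_fixSub, map_mul, map_inv]
    have h2 : τ x.1 = (y.1 * (τ y.1)⁻¹)⁻¹ * x.1 := by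
      rw [← h1]; group
    rw [h2]; group
  let r : N → P := fun n => if hn : ∃ x : P, θ x = n then hn.choose else 1
  have hr : ∀ x : P, θ (r (θ x)) = θ x := by
    intro x
    have hn : ∃ y : P, θ y = θ x := ⟨x, rfl⟩
    show θ (if hn : ∃ y : P, θ y = θ x then hn.choose else 1) = θ x
    rw [dif_pos hn]
    exact hn.choose_spec
  let F : P → N × C := fun x => (θ x, ⟨(r (θ x)).1⁻¹ * x.1, hθ x (r (θ x)) (hr x).symm⟩)
  have hF : Function.Injective F := by
    intro x y hxy
    have h1 : θ x = θ y := congrArg Prod.fst hxy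
    have h2 : (r (θ x)).1⁻¹ * x.1 = (r (θ y)).1⁻¹ * y.1 :=
      congrArg (fun p => (p.2 : T)) hxy
    rw [h1] at h2
    apply Subtype.ext
    exact mul_left_cancel h2
  have hle := Nat.card_le_card_of_injective F hF
  rw [Nat.card_prod, hcardP'] at hle
  have hNpos : 0 < Nat.card N := Nat.card_pos
  have : Nat.card Cb * Nat.card N ≤ Nat.card C * Nat.card N := by
    calc Nat.card Cb * Nat.card N ≤ Nat.card N * Nat.card C := hle
      _ = Nat.card C * Nat.card N := Nat.mul_comm _ _
  exact Nat.le_of_mul_le_mul_right this hNpos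

end Cfsg.Agent.Helper22.FpfTau
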