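import Cfsg.Agent.Lib.Helper22.FpfTauA

set_option autoImplicit false
set_option linter.style.haveILetI false
set_option linter.unusedSectionVars false
set_option linter.unusedVariables false

/-! The abelian case. -/

namespace Cfsg.Agent.Helper22.FpfTau

open Cfsg.Agent.Helper16.Fpf3

variable {T : Type*} [Group T]

/-- An invariant subgroup of order four has exponent two. -/
theorem sq_eq_one_of_card_four [Finite T] {φ : MulAut T} (hφ : IsFpf3 φ) {N : Subgroup T}
    (hN : Inv φ N) (hc : Nat.card N = 4) : ∀ x ∈ N, x * x = 1 := by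
  haveI : Fact (Nat.Prime 2) := ⟨Nat.prime_two⟩
  have hcomm' := IsPGroup.commutative_of_card_eq_prime_sq (p := 2) (G := N) (by rw [hc]; norm_num)
  have hcomm : ∀ a ∈ N, ∀ b ∈ N, a * b = b * a := fun a ha b hb =>
    congrArg Subtype.val (hcomm' ⟨a, ha⟩ ⟨b, hb⟩)
  let Ω : Subgroup T :=
    { carrier := {x | x ∈ N ∧ x * x = 1}
      one_mem' := ⟨N.one_mem, one_mul 1⟩
      mul_mem' := by
        rintro a b ⟨ha, ha2⟩ ⟨hb, hb2⟩
        refine ⟨N.mul_mem ha hb, ?_⟩
        calc a * b * (a * b) = a * (b * a) * b := by group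
          _ = a * (a * b) * b := by rw [hcomm b hb a ha]
          _ = (a * a) * (b * b) := by group
          _ = 1 := by rw [ha2, hb2, one_mul]
      inv_mem' := by
        rintro a ⟨ha, ha2⟩
        refine ⟨N.inv_mem ha, ?_⟩
        have : a⁻¹ = a := by rw [inv_eq_iff_mul_eq_one]; exact ha2
        rw [this]; exact ha2 }
  have hΩN : Ω ≤ N := fun x hx => hx.1
  have hΩinv : Inv φ Ω := by
    rintro x ⟨hx, hx2⟩
    exact ⟨hN x hx, by rw [← map_mul, hx2, map_one]⟩
  have hmod := card_modEq hφ hΩinv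
  have hdvd : Nat.card Ω ∣ 4 := by
    rw [← hc]; exact Subgroup.card_dvd_of_le hΩN
  have hne : Nat.card Ω ≠ 1 := by
    intro h1
    obtain ⟨x, hx⟩ := exists_prime_orderOf_dvd_card' (G := N) 2 (by rw [hc]; norm_num)
    have hx2 : x.1 * x.1 = 1 := by
      have := pow_orderOf_eq_one x
      rw [hx, pow_two] at this
      exact congrArg Subtype.val this
    have hxΩ : x.1 ∈ Ω := ⟨x.2, hx2⟩
    rw [Subgroup.card_eq_one] at h1
    rw [h1, Subgroup.mem_bot] at hxΩ
    have : x = 1 := Subtype.ext hxΩ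
    rw [this, orderOf_one] at hx
    norm_num at hx
  have hcard : Nat.card Ω = 4 := by
    have hle : Nat.card Ω ≤ 4 := Nat.le_of_dvd (by norm_num) hdvd
    have hpos : 0 < Nat.card Ω := Nat.card_pos
    unfold Nat.ModEq at hmod
    interval_cases (Nat.card Ω) <;> omega
  have hΩ : Ω = N := Subgroup.eq_of_le_of_card_ge hΩN (by rw [hc, hcard])
  intro x hx
  rw [← hΩ] at hx
  exact hx.2

/-- The abelian case: either elementary abelian of order `16`, or exactly four solutions of
`x * x = 1`. -/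
theorem abelian_cases [Finite T] {φ τ : MulAut T} (h : FT φ τ) (hab : ∀ a b : T, a * b = b * a)
    (hc : Nat.card (fixSub τ) = 4) :
    ((∀ x : T, x * x = 1) ∧ Nat.card T = 16) ∨ Nat.card {x : T // x * x = 1} = 4 := by
  haveI : Fact (Nat.Prime 2) := ⟨Nat.prime_two⟩
  set V := fixSub τ with hV
  have hV2 : ∀ v ∈ V, v * v = 1 := sq_eq_one_of_card_four h.fpf (inv_fixSub h) hc
  have hnorm : ∀ x : T, x * τ x ∈ V := by
    intro x
    rw [hV, mem_fixSub, map_mul, h.inv]
    exact hab _ _
  let W₂ : Subgroup T :=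
    { carrier := {x | x ^ 4 = 1}
      one_mem' := one_pow 4
      mul_mem' := by
        intro a b ha hb
        change (a * b) ^ 4 = 1
        rw [Commute.mul_pow (hab a b), ha, hb, one_mul]
      inv_mem' := by
        intro a ha
        change a⁻¹ ^ 4 = 1
        rw [inv_pow, ha, inv_one] }
  let W₁ : Subgroup T :=
    { carrier := {x | x * x = 1}
      one_mem' := one_mul 1
      mul_mem' := by
        intro a b ha hb
        change a * b * (a * b) = 1
        calc a * b * (a * b) = a * (b * a) * b := by group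
          _ = a * (a * b) * b := by rw [hab b a]
          _ = (a * a) * (b * b) := by group
          _ = 1 := by rw [ha, hb, one_mul]
      inv_mem' := by
        intro a ha
        change a⁻¹ * a⁻¹ = 1
        have : a⁻¹ = a := by rw [inv_eq_iff_mul_eq_one]; exact ha
        rw [this]; exact ha }
  have hW₁₂ : W₁ ≤ W₂ := by
    intro x hx
    change x ^ 4 = 1
    have hx' : x * x = 1 := hx
    calc x ^ 4 = (x * x) * (x * x) := by
          rw [show (4 : ℕ) = 2 + 2 from rfl, pow_add, pow_two]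
      _ = 1 := by rw [hx', one_mul]
  have hVW₁ : V ≤ W₁ := fun v hv => hV2 v hv
  -- squares of elements of W₂ lie in V
  have hsq : ∀ x ∈ W₂, x * x ∈ V := by
    intro x hx
    have hx4 : x ^ 4 = 1 := hx
    have hn := hnorm x
    have hn2 := hV2 _ hn
    have e1 : τ x = x⁻¹ * (x * τ x) := by group
    rw [hV, mem_fixSub, map_mul, e1]
    set n := x * τ x with hn'
    calc x⁻¹ * n * (x⁻¹ * n) = x⁻¹ * (n * x⁻¹) * n := by group
      _ = x⁻¹ * (x⁻¹ * n) * n := by rw [hab n x⁻¹]
      _ = x⁻¹ * x⁻¹ * (n * n) := by group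
      _ = x⁻¹ * x⁻¹ := by rw [hn2, mul_one]
      _ = x * x * (x ^ 4)⁻¹ := by
          rw [show (4 : ℕ) = 2 + 2 from rfl, pow_add, pow_two]; group
      _ = x * x := by rw [hx4, inv_one, mul_one]
  have hθmem : ∀ x ∈ W₂, x⁻¹ * τ x ∈ V := by
    intro x hx
    have : x⁻¹ * τ x = (x * x)⁻¹ * (x * τ x) := by group
    rw [this]
    exact V.mul_mem (V.inv_mem (hsq x hx)) (hnorm x)
  let θ : W₂ →* V := MonoidHom.mk' (fun x => ⟨x.1⁻¹ * τ x.1, hθmem x.1 x.2⟩) (by
    intro x y
    apply Subtype.ext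
    show (x.1 * y.1)⁻¹ * τ (x.1 * y.1) = (x.1⁻¹ * τ x.1) * (y.1⁻¹ * τ y.1)
    rw [map_mul, mul_inv_rev]
    calc y.1⁻¹ * x.1⁻¹ * (τ x.1 * τ y.1) = y.1⁻¹ * (x.1⁻¹ * τ x.1) * τ y.1 := by group
      _ = (x.1⁻¹ * τ x.1) * y.1⁻¹ * τ y.1 := by rw [hab y.1⁻¹ (x.1⁻¹ * τ x.1)]
      _ = (x.1⁻¹ * τ x.1) * (y.1⁻¹ * τ y.1) := by group)
  have hker : Nat.card θ.ker ≤ 4 := by
    rw [← hc]
    let g : θ.ker → V := fun x => ⟨x.1.1, by
      have hx : θ x.1 = 1 := x.2
      have hx' : x.1.1⁻¹ * τ x.1.1 = 1 := congrArg Subtype.val hx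
      show τ x.1.1 = x.1.1
      have : τ x.1.1 = x.1.1 * (x.1.1⁻¹ * τ x.1.1) := by group
      rw [this, hx', mul_one]⟩
    apply Nat.card_le_card_of_injective g
    intro x y hxy
    apply Subtype.ext
    apply Subtype.ext
    exact congrArg (fun v : V => (v : T)) hxy
  have hrange : Nat.card θ.range ≤ 4 := by
    rw [← hc]; exact Subgroup.card_le_card_group _
  have hW₂ : Nat.card W₂ ≤ 16 := by
    have h1 := Subgroup.card_mul_index θ.ker
    rw [Subgroup.index_ker] at h1
    rw [← h1]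
    calc Nat.card θ.ker * Nat.card θ.range ≤ 4 * 4 := Nat.mul_le_mul hker hrange
      _ = 16 := by norm_num
  -- W₁
  have hW₁inv : Inv φ W₁ := by
    intro x hx
    change φ x * φ x = 1
    have hx' : x * x = 1 := hx
    rw [← map_mul, hx', map_one]
  have hmod := card_modEq h.fpf hW₁inv
  have hW₁p : IsPGroup 2 W₁ := h.pg.to_subgroup W₁
  obtain ⟨k, hk⟩ := IsPGroup.iff_card.mp hW₁p
  have hle1 : Nat.card W₁ ≤ 16 := (Subgroup.card_le_of_le hW₁₂).trans hW₂
  have hge1 : 4 ≤ Nat.card W₁ := by rw [← hc]; exact Subgroup.card_le_of_le hVW₁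
  have hk4 : k ≤ 4 := by
    by_contra hcon
    push Not at hcon
    have : 2 ^ 5 ≤ 2 ^ k := Nat.pow_le_pow_right (by norm_num) hcon
    rw [hk] at hle1
    omega
  have hkcases : k = 2 ∨ k = 4 := by
    rw [hk] at hmod hge1
    unfold Nat.ModEq at hmod
    interval_cases k <;> simp_all
  rcases hkcases with rfl | rfl
  · right
    rw [← Nat.card_congr (Equiv.subtypeEquivRight (p := fun x => x ∈ W₁)
      (q := fun x => x * x = 1) (fun x => Iff.rfl))]
    rw [hk]; norm_num
  · left
    have hW : W₁ = W₂ := Subgroup.eq_of_le_of_card_ge hW₁₂ (by rw [hk]; exact hW₂)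
    have hall : ∀ x : T, x * x = 1 := by
      intro x
      by_contra hx
      obtain ⟨m, hm⟩ := (IsPGroup.iff_orderOf.mp h.pg) x
      have hm2 : 2 ≤ m := by
        by_contra hcon
        push Not at hcon
        have : x ^ 2 = 1 := by
          have h1 : orderOf x ∣ 2 := by
            rw [hm]
            interval_cases m <;> norm_num
          exact orderOf_dvd_iff_pow_eq_one.mp h1
        rw [pow_two] at this
        exact hx this
      set y := x ^ (2 ^ (m - 2)) with hy
      have hy4 : y ^ 4 = 1 := by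
        rw [hy, ← pow_mul]
        have : 2 ^ (m - 2) * 4 = 2 ^ m := by
          have : m = (m - 2) + 2 := by omega
          conv_rhs => rw [this, pow_add]
          norm_num
        rw [this, ← hm, pow_orderOf_eq_one]
      have hyW : y ∈ W₂ := hy4
      rw [← hW] at hyW
      have hy2 : y * y = 1 := hyW
      rw [hy, ← pow_add] at hy2
      have h1 : orderOf x ∣ 2 ^ (m - 2) + 2 ^ (m - 2) := orderOf_dvd_of_pow_eq_one hy2
      rw [hm] at h1
      have h2 : 2 ^ (m - 2) + 2 ^ (m - 2) = 2 ^ (m - 1) := by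
        have : m - 1 = (m - 2) + 1 := by omega
        rw [this, pow_succ]; ring
      rw [h2] at h1
      have h3 := Nat.le_of_dvd (by positivity) h1
      have h4 : 2 ^ (m - 1) < 2 ^ m := Nat.pow_lt_pow_right (by norm_num) (by omega)
      omega
    refine ⟨hall, ?_⟩
    have htop : W₁ = ⊤ := by
      rw [eq_top_iff]
      intro x _
      exact hall x
    rw [← Subgroup.card_top (G := T), ← htop, hk]; norm_num

end Cfsg.Agent.Helper22.FpfTau
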