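import Cfsg.Agent.Lib.Helper22.FpfTauB
import Cfsg.Agent.Lib.Helper22.Aut3C
import Cfsg.Agent.Lib.Helper22.Aut3U
import Cfsg.Agent.Lib.Helper16.Fpf3C

set_option autoImplicit false
set_option linter.style.haveILetI false
set_option linter.unusedSectionVars false
set_option linter.unusedVariables false

/-! Two-generation in the homocyclic case, the Engel property, and the central quotient. -/

namespace Cfsg.Agent.Helper22.FpfTau

open Cfsg.Agent.Helper16.Fpf3 Cfsg.Agent.Helper22.Aut3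

variable {T : Type*} [Group T]

/-- the configuration of the earlier development -/
theorem cfg_of_card_four [Finite T] {φ : MulAut T} (hφ : IsFpf3 φ) (hp : IsPGroup 2 T)
    (hcen : ∀ x : T, x * x = 1 → ∀ g : T, g * x = x * g)
    (h4 : Nat.card {x : T // x * x = 1} = 4) : Cfg T φ where
  fin := inferInstance
  pg := hp
  cen := hcen
  four := h4
  nofix := fun x _ hx => hφ.fpf x hx
  ord := ⟨1, by
    ext t
    rw [pow_one, pow_succ, pow_two]
    simp only [MulAut.mul_apply, MulAut.one_apply]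
    exact hφ.cube t⟩

/-- An abelian group with exactly four solutions of `x * x = 1` is generated by `a` and `φ a`. -/
theorem exists_gen_of_card_four [Finite T] {φ : MulAut T} (hφ : IsFpf3 φ) (hp : IsPGroup 2 T)
    (hab : ∀ a b : T, a * b = b * a) (h4 : Nat.card {x : T // x * x = 1} = 4) :
    ∃ a : T, ∀ t : T, t ∈ Subgroup.closure {a, φ a} := by
  have C : Cfg T φ := cfg_of_card_four hφ hp (fun x _ g => hab g x) h4
  have hN : AbInv φ (⊤ : Subgroup T) := abInv_top hab
  set n := C.expo (⊤ : Subgroup T) with hn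
  obtain ⟨z, hz, hz1⟩ := C.exists_invol
  have hn0 : n ≠ 0 := C.expo_ne_zero (Subgroup.mem_top z) hz1
  obtain ⟨x, -, hx1, hx2⟩ := C.exists_pow_eq hN (i := n - 1) (by omega) hz
  have hxn : x ^ (2 ^ n) = 1 := by
    have : n - 1 + 1 = n := by omega
    rw [this] at hx1; exact hx1
  refine ⟨x, fun t => ?_⟩
  have hexp : ∀ t : T, t ^ (2 ^ n) = 1 := fun t => C.pow_expo (Subgroup.mem_top t)
  exact span_aux C hab hz hz1 hxn hn0 hx2 (Subgroup.closure {x, φ x})
    (Subgroup.subset_closure (Set.mem_insert _ _))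
    (Subgroup.subset_closure (Set.mem_insert_of_mem _ rfl)) hexp n le_rfl t (hexp t)

/-! ### The Engel property -/

theorem inv_apply_eq [Finite T] {φ : MulAut T} (hφ : IsFpf3 φ) (t : T) : φ⁻¹ t = φ (φ t) := by
  rw [MulAut.inv_apply, MulEquiv.symm_apply_eq, hφ.cube]

theorem commute_conj_phi [Finite T] {φ : MulAut T} (hφ : IsFpf3 φ) (x k : T) :
    x * (k * φ x * k⁻¹) = (k * φ x * k⁻¹) * x := by
  have hinj : Function.Injective (fun h : T => h * (φ h)⁻¹) := by
    intro h h' hh
    have h1 : (h⁻¹)⁻¹ * φ h⁻¹ = (h'⁻¹)⁻¹ * φ h'⁻¹ := by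
      rw [map_inv, map_inv, inv_inv, inv_inv]; exact hh
    exact inv_injective (kappa_inj hφ h1)
  obtain ⟨h, rfl⟩ := Finite.surjective_of_injective hinj k
  have key := commute_rho hφ (h⁻¹ * x * h)
  rw [map_mul, map_mul, map_inv] at key
  calc x * (h * (φ h)⁻¹ * φ x * (h * (φ h)⁻¹)⁻¹)
      = h * ((h⁻¹ * x * h) * ((φ h)⁻¹ * φ x * φ h)) * h⁻¹ := by group
    _ = h * (((φ h)⁻¹ * φ x * φ h) * (h⁻¹ * x * h)) * h⁻¹ := by rw [key]
    _ = (h * (φ h)⁻¹ * φ x * (h * (φ h)⁻¹)⁻¹) * x := by group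

/-- Every element commutes with all its conjugates. -/
theorem engel [Finite T] {φ : MulAut T} (hφ : IsFpf3 φ) (x k : T) :
    x * (k * x * k⁻¹) = (k * x * k⁻¹) * x := by
  have h1 : Commute x (k * φ x * k⁻¹) := commute_conj_phi hφ x k
  have h2 : Commute x (k * φ (φ x) * k⁻¹) := by
    have := commute_conj_phi (inv_isFpf3 hφ) x k
    rw [inv_apply_eq hφ] at this
    exact this
  have h3 : k * x⁻¹ * k⁻¹ = (k * φ x * k⁻¹) * (k * φ (φ x) * k⁻¹) := by
    have e := prod_eq_one hφ x
    have e2 : x⁻¹ = φ x * φ (φ x) := by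
      calc x⁻¹ = x⁻¹ * (x * φ x * φ (φ x)) := by rw [e, mul_one]
        _ = φ x * φ (φ x) := by group
    rw [e2]; group
  have h4 : Commute x (k * x⁻¹ * k⁻¹) := by rw [h3]; exact h1.mul_right h2
  have h5 : k * x * k⁻¹ = (k * x⁻¹ * k⁻¹)⁻¹ := by group
  rw [h5]
  exact h4.inv_right

/-- The normal closure of an element is commutative. -/
theorem normalClosure_comm [Finite T] {φ : MulAut T} (hφ : IsFpf3 φ) (x : T) {a b : T}
    (ha : a ∈ Subgroup.normalClosure {x}) (hb : b ∈ Subgroup.normalClosure {x}) :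
    a * b = b * a := by
  unfold Subgroup.normalClosure at ha hb
  refine closure_comm_of_comm ?_ ha hb
  intro u hu v hv
  rw [Group.mem_conjugatesOfSet_iff] at hu hv
  obtain ⟨x', hx', hu⟩ := hu
  obtain ⟨x'', hx'', hv⟩ := hv
  rw [Set.mem_singleton_iff] at hx' hx''
  rw [hx'] at hu
  rw [hx''] at hv
  rw [isConj_iff] at hu hv
  obtain ⟨g, rfl⟩ := hu
  obtain ⟨k, rfl⟩ := hv
  have e := engel hφ x (g⁻¹ * k)
  calc g * x * g⁻¹ * (k * x * k⁻¹)
      = g * (x * (g⁻¹ * k * x * (g⁻¹ * k)⁻¹)) * g⁻¹ := by group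
    _ = g * ((g⁻¹ * k * x * (g⁻¹ * k)⁻¹) * x) * g⁻¹ := by rw [e]
    _ = k * x * k⁻¹ * (g * x * g⁻¹) := by group

/-! ### The central quotient is not a nonabelian group of order `64` -/

theorem center_quot_not_64 [Finite T] {φ : MulAut T} (hφ : IsFpf3 φ)
    (hq : Nat.card (T ⧸ Subgroup.center T) = 64)
    (hna : ∃ a b : T ⧸ Subgroup.center T, a * b ≠ b * a) : False := by
  set Z := Subgroup.center T with hZ
  set ψ := qAut φ Z inv_center with hψdef
  have hψ : IsFpf3 ψ := isFpf3_qAut hφ Z inv_center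
  have hcZ : Nat.card (Subgroup.center (T ⧸ Z)) = 4 := card_center hψ hq hna
  -- the key commutation
  have key : ∀ x w : T, (x : T ⧸ Z) ∉ Subgroup.center (T ⧸ Z) →
      (w : T ⧸ Z) ∈ Subgroup.center (T ⧸ Z) → x * w = w * x := by
    intro x w hx hw
    let f : (T ⧸ Z) →* Subgroup.center (T ⧸ Z) := MonoidHom.mk'
      (fun y => ⟨cm (x : T ⧸ Z) y, cm_mem hψ hq hna _ _⟩) (by
        intro a b
        apply Subtype.ext
        exact cm_mul_right hψ hq hna _ a b)
    have hker : Nat.card f.ker ≤ 16 := by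
      rw [← card_L hψ hq hna hx]
      apply Subgroup.card_le_of_le
      intro y hy
      by_contra hyL
      have h1 : f y = 1 := hy
      have h2 : cm (x : T ⧸ Z) y = 1 := congrArg Subtype.val h1
      exact cm_ne_one hψ hq hna hx hyL h2
    have hrange : f.range = ⊤ := by
      apply Subgroup.eq_top_of_le_card
      have h1 := Subgroup.card_mul_index f.ker
      rw [Subgroup.index_ker, hq] at h1
      rw [hcZ]
      have hpos : 0 < Nat.card f.ker := Nat.card_pos
      nlinarith
    have hw' : (⟨(w : T ⧸ Z), hw⟩ : Subgroup.center (T ⧸ Z)) ∈ f.range := by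
      rw [hrange]; exact Subgroup.mem_top _
    obtain ⟨y, hy⟩ := hw'
    induction y using QuotientGroup.induction_on with
    | H y =>
      have h1 : cm (x : T ⧸ Z) (y : T ⧸ Z) = (w : T ⧸ Z) := congrArg Subtype.val hy
      have h2 : ((x * y * x⁻¹ * y⁻¹ : T) : T ⧸ Z) = (w : T ⧸ Z) := by
        rw [← h1]; rfl
      rw [QuotientGroup.eq] at h2
      have h3 := Subgroup.mem_center_iff.mp h2
      set z := (x * y * x⁻¹ * y⁻¹)⁻¹ * w with hz
      have hw2 : w = x * (y * x⁻¹ * y⁻¹) * z := by rw [hz]; group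
      have e1 : Commute x (y * x⁻¹ * y⁻¹) := by
        have := engel hφ x y
        have e2 : y * x⁻¹ * y⁻¹ = (y * x * y⁻¹)⁻¹ := by group
        rw [e2]
        exact (show Commute x (y * x * y⁻¹) from this).inv_right
      have e3 : Commute x z := h3 x
      rw [hw2]
      exact ((Commute.refl x).mul_right e1).mul_right e3
  -- every element over the centre of the quotient is central
  obtain ⟨a, b, hab⟩ := hna
  have hex : ∃ x₀ : T, (x₀ : T ⧸ Z) ∉ Subgroup.center (T ⧸ Z) := by
    induction a using QuotientGroup.induction_on with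
    | H a =>
      refine ⟨a, fun ha => hab ?_⟩
      exact (Subgroup.mem_center_iff.mp ha b).symm
  obtain ⟨x₀, hx₀⟩ := hex
  have hall : ∀ w : T, (w : T ⧸ Z) ∈ Subgroup.center (T ⧸ Z) → w ∈ Z := by
    intro w hw
    rw [hZ, Subgroup.mem_center_iff]
    intro x
    by_cases hx : (x : T ⧸ Z) ∈ Subgroup.center (T ⧸ Z)
    · have hx₀x : ((x₀ * x : T) : T ⧸ Z) ∉ Subgroup.center (T ⧸ Z) := by
        intro hc
        apply hx₀
        have : (x₀ : T ⧸ Z) = ((x₀ * x : T) : T ⧸ Z) * (x : T ⧸ Z)⁻¹ := by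
          rw [QuotientGroup.mk_mul]; group
        rw [this]
        exact Subgroup.mul_mem _ hc (Subgroup.inv_mem _ hx)
      have e1 := key x₀ w hx₀ hw
      have e2 := key (x₀ * x) w hx₀x hw
      calc x * w = x₀⁻¹ * (x₀ * x * w) := by group
        _ = x₀⁻¹ * (w * (x₀ * x)) := by rw [e2]
        _ = x₀⁻¹ * (w * x₀) * x := by group
        _ = x₀⁻¹ * (x₀ * w) * x := by rw [e1]
        _ = w * x := by group
    · exact key x w hx hw
  have hbot : Subgroup.center (T ⧸ Z) = ⊥ := by
    rw [eq_bot_iff]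
    intro y hy
    induction y using QuotientGroup.induction_on with
    | H y =>
      rw [Subgroup.mem_bot]
      exact (QuotientGroup.eq_one_iff y).mpr (hall y hy)
  rw [hbot, Subgroup.card_bot] at hcZ
  norm_num at hcZ

end Cfsg.Agent.Helper22.FpfTau
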