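import Cfsg.Agent.Lib.Helper22.FpfTauC

set_option autoImplicit false
set_option linter.style.haveILetI false
set_option linter.unusedSectionVars false
set_option linter.unusedVariables false

/-! The nonabelian case has order `64`. -/

namespace Cfsg.Agent.Helper22.FpfTau

open Cfsg.Agent.Helper16.Fpf3 Cfsg.Agent.Helper22.Aut3

variable {T : Type*} [Group T]

/-! ### Commutators with central values -/

theorem cm_swap (s t : T) : (cm s t)⁻¹ = cm t s := by unfold cm; group

theorem cm_one_left (t : T) : cm 1 t = 1 := by unfold cm; group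

theorem cm_one_right (t : T) : cm t 1 = 1 := by unfold cm; group

theorem cm_self' (t : T) : cm t t = 1 := by unfold cm; group

theorem cm_of_mem_center [Finite T] {z : T} (hz : z ∈ Subgroup.center T) (s : T) : cm s z = 1 :=
  (cm_eq_one_iff s z).mpr (Subgroup.mem_center_iff.mp hz s)

theorem cm_of_mem_center_left [Finite T] {z : T} (hz : z ∈ Subgroup.center T) (s : T) : cm z s = 1 :=
  (cm_eq_one_iff z s).mpr (Subgroup.mem_center_iff.mp hz s).symm

section classtwo

variable (hc : ∀ s t : T, cm s t ∈ Subgroup.center T)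

include hc

theorem cm_central₂ (s t g : T) : cm s t * g = g * cm s t :=
  (Subgroup.mem_center_iff.mp (hc s t) g).symm

theorem cm_mul_left₂ (s u t : T) : cm (s * u) t = cm s t * cm u t := by
  have h1 := cm_central₂ hc u t s⁻¹
  calc cm (s * u) t = s * (cm u t * s⁻¹) * s * t * s⁻¹ * t⁻¹ := by unfold cm; group
    _ = s * (s⁻¹ * cm u t) * s * t * s⁻¹ * t⁻¹ := by rw [h1]
    _ = cm u t * cm s t := by unfold cm; group
    _ = cm s t * cm u t := cm_central₂ hc u t _

theorem cm_mul_right₂ (s t u : T) : cm s (t * u) = cm s t * cm s u := by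
  calc cm s (t * u) = (cm (t * u) s)⁻¹ := (cm_swap _ _).symm
    _ = (cm t s * cm u s)⁻¹ := by rw [cm_mul_left₂ hc]
    _ = (cm u s)⁻¹ * (cm t s)⁻¹ := mul_inv_rev _ _
    _ = cm s u * cm s t := by rw [cm_swap, cm_swap]
    _ = cm s t * cm s u := cm_central₂ hc s u _

theorem cm_inv_left₂ (s t : T) : cm s⁻¹ t = (cm s t)⁻¹ := by
  have h1 : cm (s⁻¹ * s) t = cm s⁻¹ t * cm s t := cm_mul_left₂ hc _ _ _
  rw [inv_mul_cancel, cm_one_left] at h1
  exact eq_inv_of_mul_eq_one_left h1.symm

theorem cm_inv_right₂ (s t : T) : cm s t⁻¹ = (cm s t)⁻¹ := by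
  have h1 : cm s (t⁻¹ * t) = cm s t⁻¹ * cm s t := cm_mul_right₂ hc _ _ _
  rw [inv_mul_cancel, cm_one_right] at h1
  exact eq_inv_of_mul_eq_one_left h1.symm

/-- the right kernel-type subgroup -/
def cmRight (x : T) (W : Subgroup T) : Subgroup T where
  carrier := {y | cm x y ∈ W}
  one_mem' := by
    change cm x 1 ∈ W
    rw [cm_one_right]; exact W.one_mem
  mul_mem' := by
    intro a b ha hb
    change cm x (a * b) ∈ W
    rw [cm_mul_right₂ hc]
    exact W.mul_mem ha hb
  inv_mem' := by
    intro a ha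
    change cm x a⁻¹ ∈ W
    rw [cm_inv_right₂ hc]
    exact W.inv_mem ha

/-- the left kernel-type subgroup -/
def cmLeft (W : Subgroup T) : Subgroup T where
  carrier := {x | ∀ y, cm x y ∈ W}
  one_mem' := by
    intro y
    rw [cm_one_left]; exact W.one_mem
  mul_mem' := by
    intro a b ha hb y
    rw [cm_mul_left₂ hc]
    exact W.mul_mem (ha y) (hb y)
  inv_mem' := by
    intro a ha y
    rw [cm_inv_left₂ hc]
    exact W.inv_mem (ha y)

end classtwo

/-! ### General tools -/

theorem fix_le_of_inv [Finite T] {φ τ : MulAut T} (h : FT φ τ) (hc : Nat.card (fixSub τ) = 4)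
    {N : Subgroup T} (hφ : Inv φ N) (hτ : Inv τ N) (hne : N ≠ ⊥) : fixSub τ ≤ N := by
  set D := N ⊓ fixSub τ with hD
  have hDinv : Inv φ D := inv_inf hφ (inv_fixSub h)
  obtain ⟨x, hxN, hx1, hx⟩ := exists_fixed_of_ne_bot h.inv hτ (h.pg.to_subgroup N) hne
  have hxD : x ∈ D := ⟨hxN, hx⟩
  have hmod := card_modEq h.fpf hDinv
  have hdvd : Nat.card D ∣ 4 := by
    rw [← hc]; exact Subgroup.card_dvd_of_le inf_le_right
  have hne1 : Nat.card D ≠ 1 := by
    intro h1
    rw [Subgroup.card_eq_one] at h1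
    rw [h1, Subgroup.mem_bot] at hxD
    exact hx1 hxD
  have hcard : Nat.card D = 4 := by
    have hle : Nat.card D ≤ 4 := Nat.le_of_dvd (by norm_num) hdvd
    have hpos : 0 < Nat.card D := Nat.card_pos
    unfold Nat.ModEq at hmod
    interval_cases (Nat.card D) <;> omega
  have hDV : D = fixSub τ := Subgroup.eq_of_le_of_card_ge inf_le_right (by rw [hc, hcard])
  rw [← hDV]
  exact inf_le_left

theorem card_fix_quot [Finite T] {φ τ : MulAut T} (h : FT φ τ) (hc : Nat.card (fixSub τ) = 4)
    (N : Subgroup T) [N.Normal] (hφ : Inv φ N) (hτ : Inv τ N) (hne : N ≠ ⊤) :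
    Nat.card (fixSub (qAut τ N hτ)) = 4 := by
  have h' := h.quot N hφ hτ
  set Cb := fixSub (qAut τ N hτ) with hCb
  have hle : Nat.card Cb ≤ 4 := by
    rw [← hc]; exact card_fixSub_quot_le τ N hτ
  have htop : (⊤ : Subgroup (T ⧸ N)) ≠ ⊥ := by
    intro htb
    apply hne
    rw [eq_top_iff]
    intro x _
    have : (x : T ⧸ N) ∈ (⊤ : Subgroup (T ⧸ N)) := Subgroup.mem_top _
    rw [htb, Subgroup.mem_bot] at this
    exact (QuotientGroup.eq_one_iff x).mp this
  obtain ⟨x, -, hx1, hx⟩ := exists_fixed_of_ne_bot h'.inv (N := ⊤) (fun _ _ => Subgroup.mem_top _)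
    (h'.pg.to_subgroup ⊤) htop
  have hxC : x ∈ Cb := hx
  have hne1 : Nat.card Cb ≠ 1 := by
    intro h1
    rw [Subgroup.card_eq_one] at h1
    rw [h1, Subgroup.mem_bot] at hxC
    exact hx1 hxC
  have hmod := card_modEq h'.fpf (inv_fixSub h')
  have hpos : 0 < Nat.card Cb := Nat.card_pos
  unfold Nat.ModEq at hmod
  rw [← hCb] at hmod
  interval_cases (Nat.card Cb) <;> omega

/-- lifting generators from a quotient -/
theorem lift_gen {N : Subgroup T} [N.Normal] {S : Set T}
    (hS : Subgroup.closure ((fun x : T => (x : T ⧸ N)) '' S) = ⊤) :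
    Subgroup.closure S ⊔ N = ⊤ := by
  rw [eq_top_iff]
  intro t _
  have h1 : (t : T ⧸ N) ∈ Subgroup.closure ((fun x : T => (x : T ⧸ N)) '' S) := by
    rw [hS]; exact Subgroup.mem_top _
  have h2 : Subgroup.closure ((fun x : T => (x : T ⧸ N)) '' S) =
      (Subgroup.closure S).map (QuotientGroup.mk' N) := by
    rw [MonoidHom.map_closure]; rfl
  rw [h2] at h1
  obtain ⟨u, hu, hut⟩ := h1
  have h3 : u⁻¹ * t ∈ N := by
    rw [← QuotientGroup.eq]; exact hut
  have : t = u * (u⁻¹ * t) := by group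
  rw [this]
  exact Subgroup.mul_mem_sup hu h3

theorem abelian_of_quot_gen [Finite T] {φ : MulAut T} (hφ : IsFpf3 φ) (N : Subgroup T) [N.Normal]
    (hN : Inv φ N) (hNZ : N ≤ Subgroup.center T)
    (hgen : ∃ a : T ⧸ N, ∀ t : T ⧸ N, t ∈ Subgroup.closure {a, qAut φ N hN a}) :
    ∀ s t : T, s * t = t * s := by
  obtain ⟨a, ha⟩ := hgen
  induction a using QuotientGroup.induction_on with
  | H a =>
    have h1 : Subgroup.closure ((fun x : T => (x : T ⧸ N)) '' {a, φ a}) = ⊤ := by
      rw [eq_top_iff]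
      intro t _
      rw [Set.image_pair]
      have := ha t
      rw [qAut_mk] at this
      exact this
    have h2 := lift_gen h1
    have h3 : L φ a = ⊤ := by
      rw [eq_top_iff, ← h2]
      exact sup_le_sup_left hNZ _
    intro s t
    exact L_comm hφ a s (by rw [h3]; exact Subgroup.mem_top _) t
      (by rw [h3]; exact Subgroup.mem_top _)

/-- An abelian quotient by a central invariant subgroup of a nonabelian group is elementary
abelian of order `16`. -/
theorem quot_elementary [Finite T] {φ τ : MulAut T} (h : FT φ τ)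
    (hc : Nat.card (fixSub τ) = 4) (hna : ∃ a b : T, a * b ≠ b * a)
    (N : Subgroup T) [N.Normal] (hφ : Inv φ N) (hτ : Inv τ N) (hNZ : N ≤ Subgroup.center T)
    (hq : ∀ a b : T ⧸ N, a * b = b * a) :
    (∀ x : T, x * x ∈ N) ∧ Nat.card (T ⧸ N) = 16 := by
  have hne : N ≠ ⊤ := by
    intro htop
    obtain ⟨a, b, hab⟩ := hna
    apply hab
    have ha : a ∈ Subgroup.center T := hNZ (by rw [htop]; exact Subgroup.mem_top _)
    exact (Subgroup.mem_center_iff.mp ha b).symm
  have h' := h.quot N hφ hτ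
  have hc' := card_fix_quot h hc N hφ hτ hne
  rcases abelian_cases h' hq hc' with ⟨h1, h2⟩ | h4
  · refine ⟨fun x => ?_, h2⟩
    have := h1 (x : T ⧸ N)
    rw [← QuotientGroup.mk_mul] at this
    exact (QuotientGroup.eq_one_iff _).mp this
  · exfalso
    obtain ⟨a, b, hab⟩ := hna
    apply hab
    exact abelian_of_quot_gen h.fpf N hφ hNZ (exists_gen_of_card_four h'.fpf h'.pg hq h4) a b

/-- Four generators of a group of order `16`. -/
theorem exists_four_gen {Q : Type*} [Group Q] [Finite Q] {ψ : MulAut Q} (hψ : IsFpf3 ψ)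
    (hp : IsPGroup 2 Q) (hQ : Nat.card Q = 16) :
    ∃ a b : Q, Subgroup.closure {a, ψ a, b, ψ b} = ⊤ := by
  haveI : Nontrivial Q := by
    rw [← Finite.one_lt_card_iff_nontrivial, hQ]; norm_num
  obtain ⟨a, ha⟩ := exists_ne (1 : Q)
  have hinvS : ∀ b : Q, Inv ψ (Subgroup.closure {a, ψ a, b, ψ b}) := by
    intro b
    apply Cfsg.Agent.Helper16.Fpf3.inv_closure
    intro s hs
    have hsq : ∀ c : Q, c ∈ Subgroup.closure {a, ψ a, b, ψ b} →
        ψ c ∈ Subgroup.closure {a, ψ a, b, ψ b} → ψ (ψ c) ∈ Subgroup.closure {a, ψ a, b, ψ b} := by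
      intro c h1 h2
      rw [rho_sq_eq hψ]
      exact Subgroup.inv_mem _ (Subgroup.mul_mem _ h1 h2)
    have m1 : a ∈ Subgroup.closure {a, ψ a, b, ψ b} := Subgroup.subset_closure (by simp)
    have m2 : ψ a ∈ Subgroup.closure {a, ψ a, b, ψ b} := Subgroup.subset_closure (by simp)
    have m3 : b ∈ Subgroup.closure {a, ψ a, b, ψ b} := Subgroup.subset_closure (by simp)
    have m4 : ψ b ∈ Subgroup.closure {a, ψ a, b, ψ b} := Subgroup.subset_closure (by simp)
    rcases hs with rfl | rfl | rfl | hs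
    · exact m2
    · exact hsq _ m1 m2
    · exact m4
    · rw [Set.mem_singleton_iff] at hs
      rw [hs]
      exact hsq _ m3 m4
  -- cardinalities of invariant subgroups
  have hcards : ∀ N : Subgroup Q, Inv ψ N → N ≠ ⊥ →
      Nat.card N = 4 ∨ Nat.card N = 16 := by
    intro N hN hne
    have h1 := card_modEq hψ hN
    have h2 : Nat.card N ∣ 2 ^ 4 := by
      have := Subgroup.card_subgroup_dvd_card N
      rwa [hQ] at this
    obtain ⟨k, hk, hk'⟩ := (Nat.dvd_prime_pow Nat.prime_two).mp h2
    have h3 : Nat.card N ≠ 1 := fun h => hne (Subgroup.card_eq_one.mp h)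
    rw [hk'] at h1 h3 ⊢
    unfold Nat.ModEq at h1
    interval_cases k <;> simp_all
  by_cases htop : Subgroup.closure {a, ψ a, a, ψ a} = ⊤
  · exact ⟨a, a, htop⟩
  · have hA : Nat.card (Subgroup.closure {a, ψ a, a, ψ a}) = 4 := by
      rcases hcards _ (hinvS a) (by
        intro hb
        have : a ∈ Subgroup.closure {a, ψ a, a, ψ a} := Subgroup.subset_closure (by simp)
        rw [hb, Subgroup.mem_bot] at this
        exact ha this) with h | h
      · exact h
      · exfalso
        apply htop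
        apply Subgroup.eq_top_of_card_eq
        rw [h, hQ]
    obtain ⟨b, hb⟩ : ∃ b : Q, b ∉ Subgroup.closure {a, ψ a, a, ψ a} := by
      by_contra hcon
      push Not at hcon
      apply htop
      rw [eq_top_iff]
      intro x _
      exact hcon x
    refine ⟨a, b, ?_⟩
    have hle : Subgroup.closure {a, ψ a, a, ψ a} ≤ Subgroup.closure {a, ψ a, b, ψ b} := by
      rw [Subgroup.closure_le]
      intro x hx
      apply Subgroup.subset_closure
      rcases hx with rfl | rfl | rfl | hx
      · simp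
      · simp
      · simp
      · rw [Set.mem_singleton_iff] at hx; rw [hx]; simp
    have hlt : Subgroup.closure {a, ψ a, a, ψ a} < Subgroup.closure {a, ψ a, b, ψ b} := by
      refine lt_of_le_of_ne hle ?_
      intro heq
      apply hb
      rw [heq]
      exact Subgroup.subset_closure (by simp)
    have hcl := card_lt_of_lt hlt
    rcases hcards _ (hinvS b) (by
        intro hbot
        have : a ∈ Subgroup.closure {a, ψ a, b, ψ b} := Subgroup.subset_closure (by simp)
        rw [hbot, Subgroup.mem_bot] at this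
        exact ha this) with h | h
    · omega
    · apply Subgroup.eq_top_of_card_eq
      rw [h, hQ]

end Cfsg.Agent.Helper22.FpfTau
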