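import Cfsg.Agent.Lib.Helper22.FpfTauD

set_option autoImplicit false
set_option linter.style.haveILetI false
set_option linter.unusedSectionVars false
set_option linter.unusedVariables false

/-! The nonabelian case has order `64`: the commutator computation and the induction. -/

namespace Cfsg.Agent.Helper22.FpfTau

open Cfsg.Agent.Helper16.Fpf3 Cfsg.Agent.Helper22.Aut3

/-- cancellation among central elements -/
theorem central_cancel {G : Type*} [Group G] {q r s : G} (hr : ∀ g : G, r * g = g * r)
    (h : q * (q * r)⁻¹ * (s⁻¹ * (q * r)) = 1) : q = s := by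
  have e1 : q * (q * r)⁻¹ = r⁻¹ := by
    rw [← hr q, mul_inv_rev]; group
  rw [e1] at h
  have e2 : s⁻¹ * (q * r) = r := by
    calc s⁻¹ * (q * r) = r * (r⁻¹ * (s⁻¹ * (q * r))) := by group
      _ = r := by rw [h, mul_one]
  have e3 : s⁻¹ * q = 1 := by
    calc s⁻¹ * q = (s⁻¹ * (q * r)) * r⁻¹ := by group
      _ = 1 := by rw [e2, mul_inv_cancel]
  calc q = s * (s⁻¹ * q) := by group
    _ = s := by rw [e3, mul_one]

variable {T : Type*} [Group T]

theorem cm_phi_right [Finite T] {φ : MulAut T} (hφ : IsFpf3 φ)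
    (hc : ∀ s t : T, cm s t ∈ Subgroup.center T) (a b : T) :
    cm (φ a) b = cm a (φ b) ∧ cm a (φ b) = φ (φ (cm a b)) := by
  set p := cm a b with hp
  set q := cm a (φ b) with hq
  have haa : cm a (φ a) = 1 := (cm_eq_one_iff _ _).mpr (commute_rho hφ a)
  have hbb : cm b (φ b) = 1 := (cm_eq_one_iff _ _).mpr (commute_rho hφ b)
  have h1 : cm (a * b) (φ (a * b)) = 1 := (cm_eq_one_iff _ _).mpr (commute_rho hφ (a * b))
  rw [map_mul, cm_mul_left₂ hc, cm_mul_right₂ hc, cm_mul_right₂ hc, haa, hbb, one_mul, mul_one]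
    at h1
  have e1 : cm (φ a) b = q := by
    rw [← cm_swap b (φ a)]
    exact inv_eq_of_mul_eq_one_left h1
  refine ⟨e1, ?_⟩
  have hφp : φ p = cm (φ a) (φ b) := cm_rho a b
  have e2 : φ q = (q * φ p)⁻¹ := by
    rw [hq, cm_rho, rho_sq_eq hφ b, cm_inv_right₂ hc, cm_mul_right₂ hc, e1, ← hφp]
  have e3 : φ (φ q) = (φ (φ p))⁻¹ * (q * φ p) := by
    rw [e2, map_inv, map_mul, e2, mul_inv_rev, inv_inv]
  have e4 := prod_eq_one hφ q
  rw [e3, e2] at e4
  have hr : ∀ g : T, φ p * g = g * φ p := by
    intro g
    rw [hφp]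
    exact cm_central₂ hc _ _ g
  exact central_cancel hr e4

/-- All commutators lie in the fixed subgroup of `τ`. -/
theorem comm_mem_fix [Finite T] {φ τ : MulAut T} (h : FT φ τ) (hc4 : Nat.card (fixSub τ) = 4)
    (hna : ∃ a b : T, a * b ≠ b * a)
    (hc : ∀ s t : T, cm s t ∈ Subgroup.center T) (hsq : ∀ x : T, x * x ∈ Subgroup.center T)
    (hq : Nat.card (T ⧸ Subgroup.center T) = 16) : ∀ s t : T, cm s t ∈ fixSub τ := by
  set Z := Subgroup.center T with hZ
  have hψ : IsFpf3 (qAut φ Z inv_center) := isFpf3_qAut h.fpf Z inv_center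
  obtain ⟨a', b', hgen⟩ := exists_four_gen hψ (h.pg.to_quotient Z) hq
  induction a' using QuotientGroup.induction_on with
  | H a =>
  induction b' using QuotientGroup.induction_on with
  | H b =>
  rw [qAut_mk, qAut_mk] at hgen
  have h1 : Subgroup.closure ((fun x : T => (x : T ⧸ Z)) '' {a, φ a, b, φ b}) = ⊤ := by
    rw [← hgen]
    congr 1
    simp only [Set.image_insert_eq, Set.image_singleton]
  have hG := lift_gen h1
  set p := cm a b with hp
  set W := Subgroup.closure {p, φ p} with hW
  obtain ⟨e1, e2⟩ := cm_phi_right h.fpf hc a b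
  have hpW : p ∈ W := Subgroup.subset_closure (Set.mem_insert _ _)
  have hφpW : φ p ∈ W := Subgroup.subset_closure (Set.mem_insert_of_mem _ rfl)
  have hφφpW : φ (φ p) ∈ W := by
    rw [rho_sq_eq h.fpf]
    exact W.inv_mem (W.mul_mem hpW hφpW)
  have haa : cm a (φ a) = 1 := (cm_eq_one_iff _ _).mpr (commute_rho h.fpf a)
  have hbb : cm b (φ b) = 1 := (cm_eq_one_iff _ _).mpr (commute_rho h.fpf b)
  have hφp : φ p = cm (φ a) (φ b) := cm_rho a b
  -- generation step
  have hK : ∀ x : T, cm x a ∈ W → cm x (φ a) ∈ W → cm x b ∈ W → cm x (φ b) ∈ W →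
      ∀ y : T, cm x y ∈ W := by
    intro x h1 h2 h3 h4 y
    have hle : Subgroup.closure {a, φ a, b, φ b} ⊔ Z ≤ cmRight hc x W := by
      apply sup_le
      · rw [Subgroup.closure_le]
        intro g hg
        rcases hg with rfl | rfl | rfl | hg
        · exact h1
        · exact h2
        · exact h3
        · rw [Set.mem_singleton_iff] at hg
          rw [hg]; exact h4
      · intro z hz
        change cm x z ∈ W
        rw [cm_of_mem_center hz]
        exact W.one_mem
    have : y ∈ cmRight hc x W := hle (by rw [hG]; exact Subgroup.mem_top _)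
    exact this
  have hKa : ∀ y : T, cm a y ∈ W := by
    apply hK
    · rw [cm_self']; exact W.one_mem
    · rw [haa]; exact W.one_mem
    · exact hpW
    · rw [e2]; exact hφφpW
  have hKφa : ∀ y : T, cm (φ a) y ∈ W := by
    apply hK
    · rw [← cm_swap a (φ a), haa, inv_one]; exact W.one_mem
    · rw [cm_self']; exact W.one_mem
    · rw [e1, e2]; exact hφφpW
    · rw [← hφp]; exact hφpW
  have hKb : ∀ y : T, cm b y ∈ W := by
    apply hK
    · rw [← cm_swap a b]; exact W.inv_mem hpW
    · rw [← cm_swap (φ a) b, e1, e2]; exact W.inv_mem hφφpW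
    · rw [cm_self']; exact W.one_mem
    · rw [hbb]; exact W.one_mem
  have hKφb : ∀ y : T, cm (φ b) y ∈ W := by
    apply hK
    · rw [← cm_swap a (φ b), e2]; exact W.inv_mem hφφpW
    · rw [← cm_swap (φ a) (φ b), ← hφp]; exact W.inv_mem hφpW
    · rw [← cm_swap b (φ b), hbb, inv_one]; exact W.one_mem
    · rw [cm_self']; exact W.one_mem
  have hall : ∀ x y : T, cm x y ∈ W := by
    intro x
    have hle : Subgroup.closure {a, φ a, b, φ b} ⊔ Z ≤ cmLeft hc W := by
      apply sup_le
      · rw [Subgroup.closure_le]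
        intro g hg
        rcases hg with rfl | rfl | rfl | hg
        · exact hKa
        · exact hKφa
        · exact hKb
        · rw [Set.mem_singleton_iff] at hg
          rw [hg]; exact hKφb
      · intro z hz y
        rw [cm_of_mem_center_left hz]
        exact W.one_mem
    have : x ∈ cmLeft hc W := hle (by rw [hG]; exact Subgroup.mem_top _)
    exact this
  -- properties of W
  have hpZ : p ∈ Z := hc a b
  have hφpZ : φ p ∈ Z := inv_center p hpZ
  have hWinvφ : Inv φ W := by
    apply Cfsg.Agent.Helper16.Fpf3.inv_closure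
    intro s hs
    rcases hs with rfl | hs
    · exact hφpW
    · rw [Set.mem_singleton_iff] at hs
      rw [hs]; exact hφφpW
  have hWinvτ : Inv τ W := by
    apply Cfsg.Agent.Helper16.Fpf3.inv_closure
    intro s hs
    rcases hs with hs | hs
    · have e : τ p = cm (τ a) (τ b) := cm_rho (ρ := τ) a b
      rw [hs, e]; exact hall _ _
    · rw [Set.mem_singleton_iff] at hs
      have e : τ (φ p) = cm (τ (φ a)) (τ (φ b)) := by
        rw [hφp]; exact cm_rho (ρ := τ) _ _
      rw [hs, e]; exact hall _ _
  have hWne : W ≠ ⊥ := by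
    intro hbot
    obtain ⟨x, y, hxy⟩ := hna
    apply hxy
    have := hall x y
    rw [hbot, Subgroup.mem_bot] at this
    exact (cm_eq_one_iff x y).mp this
  have hVW : fixSub τ ≤ W := fix_le_of_inv h hc4 hWinvφ hWinvτ hWne
  have hpp : p * p = 1 := by
    rw [hp, ← cm_mul_left₂ hc]
    exact cm_of_mem_center_left (hsq a) b
  have hcardW : Nat.card W ≤ 4 := by
    have hφpp : φ p * φ p = 1 := by rw [← map_mul, hpp, map_one]
    have h1 : Nat.card (Subgroup.closure ({φ p} : Set T)) ≤ 2 := by
      have := card_closure_insert_le (G := T) (S := (∅ : Set T)) (g := φ p)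
        (by rw [hφpp]; exact Subgroup.one_mem _) (by intro s hs; exact absurd hs (Set.notMem_empty s))
      rw [Subgroup.closure_empty, Subgroup.card_bot] at this
      simpa using this
    have h2 := card_closure_insert_le (G := T) (S := ({φ p} : Set T)) (g := p)
      (by rw [hpp]; exact Subgroup.one_mem _) (by
        intro s hs
        rw [Set.mem_singleton_iff] at hs
        rw [hs]
        have : p * φ p * p⁻¹ = φ p := by
          rw [Subgroup.mem_center_iff.mp hφpZ p]; group
        rw [this]
        exact Subgroup.subset_closure rfl)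
    calc Nat.card W ≤ 2 * Nat.card (Subgroup.closure ({φ p} : Set T)) := h2
      _ ≤ 2 * 2 := Nat.mul_le_mul_left 2 h1
  have hWV : fixSub τ = W := Subgroup.eq_of_le_of_card_ge hVW (by rw [hc4]; exact hcardW)
  intro s t
  rw [hWV]
  exact hall s t

theorem card_of_center_quot_abelian [Finite T] {φ τ : MulAut T} (h : FT φ τ)
    (hc4 : Nat.card (fixSub τ) = 4) (hna : ∃ a b : T, a * b ≠ b * a)
    (hq : ∀ a b : T ⧸ Subgroup.center T, a * b = b * a) : Nat.card T = 64 := by
  haveI : Fact (Nat.Prime 2) := ⟨Nat.prime_two⟩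
  set Z := Subgroup.center T with hZ
  obtain ⟨hsq, hcardQ⟩ := quot_elementary h hc4 hna Z inv_center inv_center le_rfl hq
  have hc : ∀ s t : T, cm s t ∈ Z := by
    intro s t
    have e := hq ((t⁻¹ : T) : T ⧸ Z) ((s⁻¹ : T) : T ⧸ Z)
    rw [← QuotientGroup.mk_mul, ← QuotientGroup.mk_mul, QuotientGroup.eq] at e
    have e' : (t⁻¹ * s⁻¹)⁻¹ * (s⁻¹ * t⁻¹) = cm s t := by unfold cm; group
    rw [e'] at e
    exact e
  have hcomm := comm_mem_fix h hc4 hna hc hsq hcardQ
  haveI : Nontrivial T := by
    obtain ⟨a, b, hab⟩ := hna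
    exact ⟨⟨a * b, b * a, hab⟩⟩
  have hZne : Z ≠ ⊥ := by
    have := h.pg.center_nontrivial
    intro hbot
    rw [Subgroup.nontrivial_iff_ne_bot] at this
    exact this hbot
  have hVZ : fixSub τ ≤ Z := fix_le_of_inv h hc4 inv_center inv_center hZne
  haveI hVn : (fixSub τ).Normal := by
    constructor
    intro n hn g
    have := Subgroup.mem_center_iff.mp (hVZ hn) g
    have e : g * n * g⁻¹ = n := by rw [this]; group
    rw [e]; exact hn
  have hq' : ∀ a b : T ⧸ fixSub τ, a * b = b * a := by
    intro a b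
    induction a using QuotientGroup.induction_on with
    | H a =>
    induction b using QuotientGroup.induction_on with
    | H b =>
    rw [← QuotientGroup.mk_mul, ← QuotientGroup.mk_mul, QuotientGroup.eq]
    have : (a * b)⁻¹ * (b * a) = cm b⁻¹ a⁻¹ := by unfold cm; group
    rw [this]
    exact hcomm _ _
  obtain ⟨-, hcardB⟩ := quot_elementary h hc4 hna (fixSub τ) (inv_fixSub h) (inv_fixSub_self τ)
    hVZ hq'
  rw [Subgroup.card_eq_card_quotient_mul_card_subgroup (fixSub τ), hcardB, hc4]

end Cfsg.Agent.Helper22.FpfTau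

namespace Cfsg.Agent.Helper22.FpfTau

open Cfsg.Agent.Helper16.Fpf3

universe u

/-- The main dichotomy, by induction on the order. -/
theorem main_aux : ∀ n : ℕ, ∀ (U : Type u) [Group U] [Finite U] (φ τ : MulAut U),
    Nat.card U = n → FT φ τ → Nat.card (fixSub τ) = 4 →
    (∀ a b : U, a * b = b * a) ∨ Nat.card U = 64 := by
  intro n
  induction n using Nat.strong_induction_on with
  | _ n ih =>
    intro U _ _ φ τ hn h hc4
    by_cases hab : ∀ a b : U, a * b = b * a
    · exact Or.inl hab
    · right
      push Not at hab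
      haveI : Fact (Nat.Prime 2) := ⟨Nat.prime_two⟩
      haveI : Nontrivial U := by
        obtain ⟨a, b, hab'⟩ := hab
        exact ⟨⟨a * b, b * a, hab'⟩⟩
      set Z := Subgroup.center U with hZ
      have hZnt : Nontrivial Z := h.pg.center_nontrivial
      have hZne : Z ≠ ⊤ := by
        intro htop
        obtain ⟨a, b, hab'⟩ := hab
        apply hab'
        have ha : a ∈ Z := by rw [htop]; exact Subgroup.mem_top _
        exact (Subgroup.mem_center_iff.mp ha b).symm
      have hlt : Nat.card (U ⧸ Z) < n := by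
        rw [← hn, Subgroup.card_eq_card_quotient_mul_card_subgroup Z]
        have h1 : 1 < Nat.card Z := Finite.one_lt_card
        have h2 : 0 < Nat.card (U ⧸ Z) := Nat.card_pos
        nlinarith
      have h' := h.quot Z inv_center inv_center
      have hc' := card_fix_quot h hc4 Z inv_center inv_center hZne
      rcases ih _ hlt (U ⧸ Z) _ _ rfl h' hc' with hq | h64
      · exact card_of_center_quot_abelian h hc4 hab hq
      · by_cases hq : ∀ a b : U ⧸ Z, a * b = b * a
        · exact card_of_center_quot_abelian h hc4 hab hq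
        · exfalso
          push Not at hq
          exact center_quot_not_64 h.fpf h64 hq

/-- The main dichotomy. -/
theorem abelian_or_card {U : Type u} [Group U] [Finite U] {φ τ : MulAut U} (h : FT φ τ)
    (hc4 : Nat.card (fixSub τ) = 4) : (∀ a b : U, a * b = b * a) ∨ Nat.card U = 64 :=
  main_aux _ U φ τ rfl h hc4

end Cfsg.Agent.Helper22.FpfTau
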