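import Cfsg.Agent.Lib.Helper22.FpfTauE
import Cfsg.Agent.Lib.Helper22.Aut3M
import Cfsg.Agent.Lib.Helper16.Fpf3G

set_option autoImplicit false
set_option linter.style.haveILetI false
set_option linter.unusedSectionVars false
set_option linter.unusedVariables false

/-! The two nonabelian groups of order `64`. -/

namespace Cfsg.Agent.Helper22.FpfTau

open Cfsg.Agent.Helper16.Fpf3 Cfsg.Agent.Helper22.Aut3

variable {T : Type*} [Group T]

/-- A nonabelian group of order `64` with a fixed-point-free automorphism of order three either
has all its involutions central (and then has a frame) or is the Heisenberg group. -/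
theorem nonabelian_cases [Finite T] {φ : MulAut T} (hφ : IsFpf3 φ) (hT : Nat.card T = 64)
    (hna : ∃ a b : T, a * b ≠ b * a) : HasFrame T ∨ Nonempty (Heis ≃* T) := by
  haveI : Fact (Nat.Prime 2) := ⟨Nat.prime_two⟩
  have hp : IsPGroup 2 T := IsPGroup.of_card (n := 6) (by rw [hT]; norm_num)
  have hcZ : Nat.card (Subgroup.center T) = 4 := card_center hφ hT hna
  by_cases hinv : ∀ x : T, x * x = 1 → x ∈ Subgroup.center T
  · left
    have h4 : Nat.card {x : T // x * x = 1} = 4 := by
      rw [← hcZ]
      apply Nat.card_congr
      exact Equiv.subtypeEquivRight (fun x =>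
        ⟨fun hx => hinv x hx, fun hx => center_sq hφ hT hna hx⟩)
    have C : Cfg T φ := cfg_of_card_four hφ hp
      (fun x hx g => Subgroup.mem_center_iff.mp (hinv x hx) g) h4
    exact C.nonabelian_frame hna
  · right
    push Not at hinv
    obtain ⟨c, hcc, hcZ'⟩ := hinv
    -- L(c) has exponent two
    have hLsq : ∀ u ∈ L φ c, u * u = 1 := by
      let E : Subgroup T :=
        { carrier := {u | u ∈ L φ c ∧ u * u = 1}
          one_mem' := ⟨Subgroup.one_mem _, one_mul 1⟩
          mul_mem' := by
            rintro a b ⟨ha, ha2⟩ ⟨hb, hb2⟩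
            refine ⟨Subgroup.mul_mem _ ha hb, ?_⟩
            have hab := L_comm hφ c a ha b hb
            calc a * b * (a * b) = a * (b * a) * b := by group
              _ = a * (a * b) * b := by rw [hab]
              _ = (a * a) * (b * b) := by group
              _ = 1 := by rw [ha2, hb2, one_mul]
          inv_mem' := by
            rintro a ⟨ha, ha2⟩
            refine ⟨Subgroup.inv_mem _ ha, ?_⟩
            have : a⁻¹ = a := by rw [inv_eq_iff_mul_eq_one]; exact ha2
            rw [this]; exact ha2 }
      have hle : L φ c ≤ E := by
        apply sup_le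
        · rw [Subgroup.closure_le]
          intro x hx
          rcases hx with rfl | hx
          · exact ⟨mem_L_self _, hcc⟩
          · rw [Set.mem_singleton_iff] at hx
            rw [hx]
            exact ⟨rho_mem_L _, by rw [← map_mul, hcc, map_one]⟩
        · intro z hz
          exact ⟨center_le_L c hz, center_sq hφ hT hna hz⟩
      intro u hu
      exact (hle hu).2
    -- an element outside L(c)
    obtain ⟨y, hy⟩ : ∃ y : T, y ∉ L φ c := by
      by_contra hcon
      push Not at hcon
      apply L_ne_top hφ hT hna c
      rw [eq_top_iff]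
      intro x _
      exact hcon x
    -- the homomorphism u ↦ cm u y on L(c)
    let g : L φ c →* Subgroup.center T := MonoidHom.mk'
      (fun u => ⟨cm u.1 y, cm_mem hφ hT hna _ _⟩) (by
        intro a b
        apply Subtype.ext
        exact cm_mul_left hφ hT hna _ _ _)
    have hker : Nat.card g.ker ≤ 4 := by
      rw [← hcZ]
      let ι : g.ker → Subgroup.center T := fun u => ⟨u.1.1, by
        by_contra huZ
        have h1 : g u.1 = 1 := u.2
        have h2 : cm u.1.1 y = 1 := congrArg Subtype.val h1
        have h3 : L φ u.1.1 = L φ c := L_eq_of_mem hφ hT hna huZ hcZ' u.1.2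
        exact cm_ne_one hφ hT hna huZ (by rw [h3]; exact hy) h2⟩
      apply Nat.card_le_card_of_injective ι
      intro a b hab
      apply Subtype.ext
      apply Subtype.ext
      exact congrArg (fun v : Subgroup.center T => (v : T)) hab
    have hrange : g.range = ⊤ := by
      apply Subgroup.eq_top_of_le_card
      have h1 := Subgroup.card_mul_index g.ker
      rw [Subgroup.index_ker, card_L hφ hT hna hcZ'] at h1
      rw [hcZ]
      have hpos : 0 < Nat.card g.ker := Nat.card_pos
      nlinarith
    have hyy : y * y ∈ Subgroup.center T := sq_mem_center hφ hT hna y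
    have hmem : (⟨y * y, hyy⟩ : Subgroup.center T) ∈ g.range := by
      rw [hrange]; exact Subgroup.mem_top _
    obtain ⟨u, hu⟩ := hmem
    have hu' : cm u.1 y = y * y := congrArg Subtype.val hu
    set d := u.1 * y with hd
    have hdd : d * d = 1 := by
      rw [hd, mul_sq hφ hT hna, hLsq u.1 u.2, one_mul, cm_symm hφ hT hna, hu']
      exact center_sq hφ hT hna hyy
    have hdL : d ∉ L φ c := by
      intro hdL
      apply hy
      have : y = u.1⁻¹ * d := by rw [hd]; group
      rw [this]
      exact Subgroup.mul_mem _ (Subgroup.inv_mem _ u.2) hdL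
    have hcd : c * d ≠ d * c := by
      intro hcomm
      exact cm_ne_one hφ hT hna hcZ' hdL ((cm_eq_one_iff c d).mpr hcomm)
    exact heis_equiv hφ hT hna hcc hdd hcd

end Cfsg.Agent.Helper22.FpfTau
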