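import Mathlib
import Cfsg.Agent.Lib.Helper22.FrobFreeA

set_option autoImplicit false

/-!
Galois descent plus the normal basis theorem: a finite group `H` acting faithfully on a field `L`
and semilinearly on an `L`-space `U` makes `U` a free module over `H`.
-/

namespace Cfsg.Agent.Helper22.FrobFree

open Module

section dedekind

variable {L : Type*} [Field L] {H : Type*} [Group H] [Fintype H] [MulSemiringAction H L]
  [FaithfulSMul H L]

theorem dedekind_smul (c : H → L) (hc : ∀ x : L, ∑ g, c g * (g • x) = 0) : c = 0 := by
  classical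
  have hli := linearIndependent_monoidHom L L
  let φ : H → (L →* L) := fun g => ((MulSemiringAction.toRingHom H L g : L →+* L) : L →* L)
  have hφ : Function.Injective φ := by
    intro g g' h
    apply FaithfulSMul.eq_of_smul_eq_smul (α := L)
    intro x
    exact DFunLike.congr_fun h x
  have hli2 := hli.comp φ hφ
  rw [Fintype.linearIndependent_iff] at hli2
  funext g
  apply hli2 c _ g
  funext x
  simp only [Function.comp_apply, Finset.sum_apply, Pi.smul_apply, smul_eq_mul, Pi.zero_apply]
  exact hc x

theorem exists_normal_elt :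
    ∃ θ : L, LinearIndependent (FixedPoints.subfield H L) (fun h : H => h • θ) := by
  obtain ⟨x, hx⟩ := exists_linearIndependent_algEquiv_apply (FixedPoints.subfield H L) L
  refine ⟨x, ?_⟩
  exact hx.comp (FixedPoints.toAlgAutMulEquiv H L) (FixedPoints.toAlgAutMulEquiv H L).injective

/-- the matrix `((g h) θ)` of a normal basis generator is invertible -/
theorem exists_normal_matrix [DecidableEq H] :
    ∃ θ : L, IsUnit (Matrix.of (fun g h : H => (g * h) • θ)) := by
  obtain ⟨θ, hθ⟩ := exists_normal_elt (L := L) (H := H)
  refine ⟨θ, ?_⟩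
  rw [← Matrix.vecMul_injective_iff_isUnit, ← Matrix.coe_vecMulLinear, injective_iff_map_eq_zero]
  intro c hc
  apply dedekind_smul c
  have hspan : Submodule.span (FixedPoints.subfield H L) (Set.range fun h : H => h • θ) = ⊤ :=
    hθ.span_eq_top_of_card_eq_finrank' (by rw [FixedPoints.finrank_eq_card])
  intro x
  have hx : x ∈ Submodule.span (FixedPoints.subfield H L) (Set.range fun h : H => h • θ) := by
    rw [hspan]; trivial
  induction hx using Submodule.span_induction with
  | mem y hy =>
    obtain ⟨h, rfl⟩ := hy
    have := congrFun hc h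
    simpa [Matrix.vecMul, dotProduct, mul_smul] using this
  | zero => simp
  | add y z _ _ hy hz =>
    simp only [smul_add, mul_add, Finset.sum_add_distrib, hy, hz, add_zero]
  | smul a y _ hy =>
    have h1 : ∀ g : H, c g * g • (a • y) = (a : L) * (c g * g • y) := by
      intro g
      rw [Algebra.smul_def, smul_mul', FixedPoints.coe_algebraMap]
      have : g • ((FixedPoints.subfield H L).subtype a) = (a : L) := a.2 g
      rw [this]
      ring
    simp_rw [h1]
    rw [← Finset.mul_sum, hy, mul_zero]

end dedekind

section descent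

variable {k : Type*} [Field k] {U : Type*} [AddCommGroup U] [Module k U]
variable {L : Type*} [Field L] {H : Type*} [Group H] [Fintype H]

/-- matrices over `L` acting on `H`-tuples of vectors -/
def mact (ι : L →+* Module.End k U) (A : Matrix H H L) (w : H → U) : H → U :=
  fun g => ∑ h, ι (A g h) (w h)

theorem mact_mul (ι : L →+* Module.End k U) (A B : Matrix H H L) (w : H → U) :
    mact ι A (mact ι B w) = mact ι (A * B) w := by
  funext g
  simp only [mact, Matrix.mul_apply, map_sum, map_mul, LinearMap.sum_apply, Module.End.mul_apply]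
  rw [Finset.sum_comm]

theorem mact_one [DecidableEq H] (ι : L →+* Module.End k U) (w : H → U) :
    mact ι (1 : Matrix H H L) w = w := by
  funext g
  simp only [mact, Matrix.one_apply]
  rw [Finset.sum_eq_single g]
  · simp
  · intro h _ hne
    rw [if_neg (Ne.symm hne)]
    simp
  · intro h
    exact absurd (Finset.mem_univ g) h

theorem mact_zero (ι : L →+* Module.End k U) (A : Matrix H H L) :
    mact ι A (0 : H → U) = 0 := by
  funext g
  simp [mact]

/-- the fixed vectors -/
def fixedSub (β : H →* Module.End k U) : Submodule k U where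
  carrier := {u | ∀ h, β h u = u}
  add_mem' := by
    intro a b ha hb h
    rw [map_add, ha h, hb h]
  zero_mem' := by
    intro h
    rw [map_zero]
  smul_mem' := by
    intro c a ha h
    rw [map_smul, ha h]

theorem mem_fixedSub (β : H →* Module.End k U) (u : U) : u ∈ fixedSub β ↔ ∀ h, β h u = u :=
  Iff.rfl

variable [MulSemiringAction H L] [FaithfulSMul H L]

theorem galois_free (ι : L →+* Module.End k U) (β : H →* Module.End k U)
    (hβ : ∀ h a, β h * ι a = ι (h • a) * β h) : FreeOn β ⊤ := by
  classical
  obtain ⟨θ, hθ⟩ := exists_normal_matrix (L := L) (H := H)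
  set M : Matrix H H L := Matrix.of (fun g h : H => (g * h) • θ) with hM
  have hdet : IsUnit M.det := (Matrix.isUnit_iff_isUnit_det M).mp hθ
  have hMN : M * M⁻¹ = 1 := Matrix.mul_nonsing_inv M hdet
  have hNM : M⁻¹ * M = 1 := Matrix.nonsing_inv_mul M hdet
  have hβ' : ∀ h a u, β h (ι a u) = ι (h • a) (β h u) := by
    intro h a u
    have := congrArg (fun T : Module.End k U => T u) (hβ h a)
    simpa using this
  have hMact : ∀ w : H → U, mact ι M⁻¹ (mact ι M w) = w := by
    intro w
    rw [mact_mul, hNM, mact_one]
  have hcancel : ∀ w w' : H → U, mact ι M w = mact ι M w' → w = w' := by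
    intro w w' h
    rw [← hMact w, ← hMact w', h]
  have hWmap : ∀ h : H, ((fixedSub β).map (ι θ)).map (β h) = (fixedSub β).map (ι (h • θ)) := by
    intro h
    ext x
    simp only [Submodule.mem_map]
    constructor
    · rintro ⟨y, ⟨u, hu, rfl⟩, rfl⟩
      refine ⟨u, hu, ?_⟩
      rw [hβ', hu h]
    · rintro ⟨u, hu, rfl⟩
      refine ⟨ι θ u, ⟨u, hu, rfl⟩, ?_⟩
      rw [hβ', hu h]
  -- applying `β g` to a combination of fixed vectors
  have happly : ∀ (w : H → U), (∀ h, w h ∈ fixedSub β) → ∀ g,
      β g (∑ h, ι (h • θ) (w h)) = mact ι M w g := by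
    intro w hw g
    rw [map_sum]
    simp only [mact]
    refine Finset.sum_congr rfl (fun h _ => ?_)
    rw [hβ', hw h g, hM, Matrix.of_apply, mul_smul]
  refine ⟨(fixedSub β).map (ι θ), ?_, ?_⟩
  · rw [iSupIndep_iff_finsetSum_eq_zero_imp_eq_zero]
    intro s v hv hsum i hi
    have hdec : ∀ i ∈ s, ∃ u, u ∈ fixedSub β ∧ ι (i • θ) u = v i := by
      intro i hi
      have := hv i hi
      rw [hWmap, Submodule.mem_map] at this
      exact this
    choose! u hu huv using hdec
    set w : H → U := fun h => if h ∈ s then u h else 0 with hw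
    have hwfix : ∀ h, w h ∈ fixedSub β := by
      intro h
      simp only [hw]
      split_ifs with hh
      · exact hu h hh
      · exact Submodule.zero_mem _
    have hsum2 : ∑ h, ι (h • θ) (w h) = 0 := by
      rw [← hsum]
      rw [← Finset.sum_subset (Finset.subset_univ s)]
      · refine Finset.sum_congr rfl (fun h hh => ?_)
        simp only [hw, if_pos hh, huv h hh]
      · intro h _ hh
        simp only [hw, if_neg hh, map_zero]
    have hzero : mact ι M w = mact ι M 0 := by
      rw [mact_zero]
      funext g
      rw [← happly w hwfix g, hsum2, map_zero]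
      rfl
    have hw0 := hcancel _ _ hzero
    have : w i = 0 := congrFun hw0 i
    simp only [hw, if_pos hi] at this
    rw [← huv i hi, this, map_zero]
  · rw [eq_top_iff]
    intro u _
    set v : H → U := fun g => β g u with hv
    set w : H → U := mact ι M⁻¹ v with hw
    have hMw : mact ι M w = v := by
      rw [hw, mact_mul, hMN, mact_one]
    have hfix : ∀ h, w h ∈ fixedSub β := by
      intro h x
      have hcomp : mact ι M (fun h => β x (w h)) = v := by
        funext g
        simp only [mact]
        have h1 : ∀ h : H, ι (M g h) (β x (w h)) = β x (ι (M (x⁻¹ * g) h) (w h)) := by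
          intro h
          rw [hβ']
          congr 2
          simp only [hM, Matrix.of_apply]
          rw [← mul_smul]
          congr 1
          group
        simp_rw [h1]
        rw [← map_sum]
        have h2 : ∑ h, ι (M (x⁻¹ * g) h) (w h) = v (x⁻¹ * g) := by
          rw [← hMw]
          rfl
        rw [h2]
        simp only [hv]
        rw [← Module.End.mul_apply, ← map_mul]
        congr 2
        group
      have := hcancel _ _ (hcomp.trans hMw.symm)
      exact congrFun this h
    have hu : u = ∑ h, ι (h • θ) (w h) := by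
      have h1 : v 1 = u := by simp [hv]
      rw [← h1, ← hMw]
      simp only [mact, hM, Matrix.of_apply, one_mul]
    rw [hu]
    refine Submodule.sum_mem _ (fun h _ => ?_)
    refine Submodule.mem_iSup_of_mem h ?_
    rw [hWmap]
    exact Submodule.mem_map_of_mem (hfix h)

end descent

section abstractAction

variable {k : Type*} [Field k] {U : Type*} [AddCommGroup U] [Module k U]
variable {L : Type*} [Field L] {H : Type*} [Group H] [Fintype H]

/-- version of `galois_free` for a field of operators normalised by the group -/
theorem galois_free' (ι : L →+* Module.End k U) (hι : Function.Injective ι)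
    (β : H →* Module.End k U)
    (hconj : ∀ h a, ∃ b, ι b = β h * ι a * β h⁻¹)
    (hfaith : ∀ h, (∀ a, β h * ι a = ι a * β h) → h = 1) : FreeOn β ⊤ := by
  classical
  choose σ hσ using hconj
  have hb1 : ∀ h, β h * β h⁻¹ = 1 := fun h => by rw [← map_mul, mul_inv_cancel, map_one]
  have hb2 : ∀ h, β h⁻¹ * β h = 1 := fun h => by rw [← map_mul, inv_mul_cancel, map_one]
  letI : MulSemiringAction H L :=
    { smul := σ
      one_smul := fun a => hι (by
        show ι (σ 1 a) = ι a
        rw [hσ]; simp)
      mul_smul := fun g h a => hι (by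
        show ι (σ (g * h) a) = ι (σ g (σ h a))
        rw [hσ, hσ, hσ]; simp [mul_assoc])
      smul_zero := fun h => hι (by
        show ι (σ h 0) = ι 0
        rw [hσ]; simp)
      smul_add := fun h a b => hι (by
        show ι (σ h (a + b)) = ι (σ h a + σ h b)
        rw [hσ, map_add, map_add, hσ, hσ, mul_add, add_mul])
      smul_one := fun h => hι (by
        show ι (σ h 1) = ι 1
        rw [hσ, map_one, mul_one, hb1])
      smul_mul := fun h a b => hι (by
        show ι (σ h (a * b)) = ι (σ h a * σ h b)
        rw [hσ, map_mul, map_mul, hσ, hσ]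
        have : β h * ι a * β h⁻¹ * (β h * ι b * β h⁻¹) =
            β h * ι a * (β h⁻¹ * β h) * ι b * β h⁻¹ := by simp only [mul_assoc]
        rw [this, hb2, mul_one]
        simp only [mul_assoc]) }
  have hsmul : ∀ (h : H) (a : L), ι (h • a) = β h * ι a * β h⁻¹ := fun h a => hσ h a
  haveI : FaithfulSMul H L := ⟨by
    intro g g' hgg
    have h1 : g'⁻¹ * g = 1 := by
      apply hfaith
      intro a
      have h2 := congrArg ι (hgg a)
      rw [hsmul, hsmul] at h2
      have h3 : β g'⁻¹ * (β g * ι a * β g⁻¹) * β g = β g'⁻¹ * (β g' * ι a * β g'⁻¹) * β g := by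
        rw [h2]
      have h4 : β g'⁻¹ * (β g * ι a * β g⁻¹) * β g = β (g'⁻¹ * g) * ι a := by
        rw [map_mul]
        calc β g'⁻¹ * (β g * ι a * β g⁻¹) * β g
            = β g'⁻¹ * β g * ι a * (β g⁻¹ * β g) := by simp only [mul_assoc]
          _ = β g'⁻¹ * β g * ι a := by rw [hb2, mul_one]
      have h5 : β g'⁻¹ * (β g' * ι a * β g'⁻¹) * β g = ι a * β (g'⁻¹ * g) := by
        rw [map_mul]
        calc β g'⁻¹ * (β g' * ι a * β g'⁻¹) * β g
            = (β g'⁻¹ * β g') * ι a * (β g'⁻¹ * β g) := by simp only [mul_assoc]
          _ = ι a * (β g'⁻¹ * β g) := by rw [hb2, one_mul]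
      rw [← h4, ← h5, h3]
    calc g = g' * (g'⁻¹ * g) := by group
      _ = g' := by rw [h1, mul_one]⟩
  refine galois_free ι β (fun h a => ?_)
  rw [hsmul]
  calc β h * ι a = β h * ι a * 1 := by rw [mul_one]
    _ = β h * ι a * (β h⁻¹ * β h) := by rw [hb2]
    _ = β h * ι a * β h⁻¹ * β h := by simp only [mul_assoc]

end abstractAction

end Cfsg.Agent.Helper22.FrobFree
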