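import Mathlib
import Cfsg.Agent.Lib.Helper22.FrobFreeA

set_option autoImplicit false

/-!
The orbit lemma (induced modules): if the translates of `U₁` over the cosets of `H₁` are separated
by operators `E h`, and `U₁` is free over `H₁`, then the sum of the translates is free over `H`.
-/

namespace Cfsg.Agent.Helper22.FrobFree

open Module

variable {k : Type*} [Field k] {U : Type*} [AddCommGroup U] [Module k U]

theorem FreeOn.orbit {H : Type*} [Group H] [Finite H] (β : H →* Module.End k U)
    (H₁ : Subgroup H) (U₁ : Submodule k U) (E : H → Module.End k U)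
    (hE1 : ∀ h, ∀ u ∈ U₁, E h (β h u) = β h u)
    (hE0 : ∀ h h', h⁻¹ * h' ∉ H₁ → ∀ u ∈ U₁, E h (β h' u) = 0)
    (hstab : ∀ x ∈ H₁, ∀ u ∈ U₁, β x u ∈ U₁)
    (hfree : FreeOn (β.comp H₁.subtype) U₁) :
    FreeOn β (⨆ h : H, U₁.map (β h)) := by
  classical
  letI : Fintype H := Fintype.ofFinite H
  obtain ⟨W, hi, hs⟩ := hfree
  have hWU : W ≤ U₁ := by
    rw [← hs]
    intro w hw
    refine Submodule.mem_iSup_of_mem (1 : H₁) ?_
    refine ⟨w, hw, ?_⟩
    simp
  have hinv : ∀ h : H, ∀ u : U, β h⁻¹ (β h u) = u := by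
    intro h u
    rw [← Module.End.mul_apply, ← map_mul, inv_mul_cancel, map_one, Module.End.one_apply]
  refine ⟨W, ?_, ?_⟩
  · rw [iSupIndep_iff_finsetSum_eq_zero_imp_eq_zero] at hi ⊢
    intro s v hv hsum i₀ hi₀
    set v' : H → U := fun h => if h ∈ s then v h else 0 with hv'
    have hv'mem : ∀ h, v' h ∈ W.map (β h) := by
      intro h
      simp only [hv']
      split_ifs with hh
      · exact hv h hh
      · exact Submodule.zero_mem _
    have hsum' : ∑ h, v' h = 0 := by
      rw [← hsum, ← Finset.sum_subset (Finset.subset_univ s)]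
      · exact Finset.sum_congr rfl (fun h hh => by simp only [hv', if_pos hh])
      · intro h _ hh
        simp only [hv', if_neg hh]
    -- apply `E i₀`
    have hE : ∀ h, E i₀ (v' h) = if i₀⁻¹ * h ∈ H₁ then v' h else 0 := by
      intro h
      obtain ⟨w, hw, hwv⟩ := hv'mem h
      split_ifs with hh
      · have h1 : v' h = β i₀ (β (i₀⁻¹ * h) w) := by
          rw [← hwv, ← Module.End.mul_apply, ← map_mul]
          congr 2
          group
        rw [h1]
        exact hE1 i₀ _ (hstab _ hh w (hWU hw))
      · rw [← hwv]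
        exact hE0 i₀ h hh w (hWU hw)
    have hsumE : ∑ h, (if i₀⁻¹ * h ∈ H₁ then v' h else 0) = 0 := by
      have := congrArg (E i₀) hsum'
      rw [map_sum, map_zero] at this
      exact (Finset.sum_congr rfl (fun h _ => (hE h).symm)).trans this
    -- reindex over `H₁`
    set t : H₁ → U := fun x => β i₀⁻¹ (v' (i₀ * x)) with ht
    have htmem : ∀ x ∈ (Finset.univ : Finset H₁), t x ∈ W.map ((β.comp H₁.subtype) x) := by
      intro x _
      obtain ⟨w, hw, hwv⟩ := hv'mem (i₀ * x)
      refine ⟨w, hw, ?_⟩
      simp only [ht]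
      rw [← hwv, map_mul, Module.End.mul_apply, hinv]
      rfl
    have htsum : ∑ x ∈ (Finset.univ : Finset H₁), t x = 0 := by
      simp only [ht]
      rw [← map_sum]
      have h1 : ∑ x : H₁, v' (i₀ * x) = ∑ h, (if i₀⁻¹ * h ∈ H₁ then v' h else 0) := by
        have hf := Finset.sum_filter (s := (Finset.univ : Finset H))
          (fun h : H => i₀⁻¹ * h ∈ H₁) v'
        have hmap : (Finset.univ.filter (fun h : H => i₀⁻¹ * h ∈ H₁)) =
            (Finset.univ : Finset H₁).map
              ((Function.Embedding.subtype _).trans (mulLeftEmbedding i₀)) := by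
          ext h
          simp only [Finset.mem_filter, Finset.mem_univ, true_and, Finset.mem_map,
            Function.Embedding.trans_apply, Function.Embedding.subtype_apply,
            mulLeftEmbedding_apply]
          constructor
          · intro hh
            exact ⟨⟨i₀⁻¹ * h, hh⟩, by simp⟩
          · rintro ⟨x, rfl⟩
            simp
        rw [← hf, hmap, Finset.sum_map]
        rfl
      rw [h1, hsumE, map_zero]
    have h0 := hi Finset.univ t htmem htsum 1 (Finset.mem_univ _)
    simp only [ht] at h0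
    have h2 : v' i₀ = 0 := by
      have h3 := congrArg (β i₀) h0
      rw [map_zero] at h3
      have h4 : β i₀ (β i₀⁻¹ (v' (i₀ * ((1 : H₁) : H)))) = v' (i₀ * ((1 : H₁) : H)) := by
        have := hinv i₀⁻¹ (v' (i₀ * ((1 : H₁) : H)))
        rwa [inv_inv] at this
      rw [h4] at h3
      simpa using h3
    simpa [hv', hi₀] using h2
  · apply le_antisymm
    · exact iSup_mono (fun h => Submodule.map_mono hWU)
    · refine iSup_le (fun h => ?_)
      rw [← hs, Submodule.map_iSup]
      refine iSup_le (fun x => ?_)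
      refine le_trans ?_ (le_iSup _ (h * (x : H)))
      rw [map_mul]
      intro y hy
      obtain ⟨z, ⟨w, hw, rfl⟩, rfl⟩ := hy
      exact ⟨w, hw, rfl⟩

end Cfsg.Agent.Helper22.FrobFree
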