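import Mathlib
import Cfsg.Agent.Lib.Helper22.FrobFreeB

set_option autoImplicit false

/-!
The commutative core: data, the algebra generated by the acting group, and the field case.
-/

namespace Cfsg.Agent.Helper22.FrobFree

open Module

/-- a group `K` with commuting image acting on `U`, normalised by `H` acting without fixed points
on `K` -/
structure CoreData (k U K H : Type*) [Field k] [AddCommGroup U] [Module k U] [Group K]
    [Group H] where
  α : K →* Module.End k U
  β : H →* Module.End k U
  c : H → K →* K
  compat : ∀ h f, β h * α f = α (c h f) * β h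
  fpf : ∀ h, h ≠ 1 → ∀ f, c h f = f → f = 1
  comm : ∀ f g, α f * α g = α g * α f
  nofix : ∀ u, (∀ f, α f u = u) → u = 0

namespace CoreData

variable {k U K H : Type*} [Field k] [AddCommGroup U] [Module k U] [Group K] [Group H]
variable (D : CoreData k U K H)

/-- the algebra generated by the image of `K` -/
def alg : Subalgebra k (Module.End k U) := Algebra.adjoin k (Set.range D.α)

theorem alpha_mem (f : K) : D.α f ∈ D.alg := Algebra.subset_adjoin ⟨f, rfl⟩

theorem alg_comm {a b : Module.End k U} (ha : a ∈ D.alg) (hb : b ∈ D.alg) : a * b = b * a := by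
  have h1 : ∀ f, ∀ b ∈ D.alg, Commute (D.α f) b := by
    intro f b hb
    refine Algebra.commute_of_mem_adjoin_of_forall_mem_commute hb ?_
    rintro _ ⟨g, rfl⟩
    exact D.comm f g
  have h2 : Commute b a := by
    refine Algebra.commute_of_mem_adjoin_of_forall_mem_commute ha ?_
    rintro _ ⟨g, rfl⟩
    exact (h1 g b hb).symm
  exact h2.symm.eq

theorem beta_inv_mul (h : H) : D.β h⁻¹ * D.β h = 1 := by
  rw [← map_mul, inv_mul_cancel, map_one]

theorem beta_mul_inv (h : H) : D.β h * D.β h⁻¹ = 1 := by
  rw [← map_mul, mul_inv_cancel, map_one]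

theorem conj_alpha (h : H) (f : K) : D.β h * D.α f * D.β h⁻¹ = D.α (D.c h f) := by
  rw [D.compat, mul_assoc, D.beta_mul_inv, mul_one]

theorem conj_mul (h : H) (x y : Module.End k U) :
    D.β h * (x * y) * D.β h⁻¹ = (D.β h * x * D.β h⁻¹) * (D.β h * y * D.β h⁻¹) := by
  have : (D.β h * x * D.β h⁻¹) * (D.β h * y * D.β h⁻¹) =
      D.β h * x * (D.β h⁻¹ * D.β h) * y * D.β h⁻¹ := by simp only [mul_assoc]
  rw [this, D.beta_inv_mul, mul_one]
  simp only [mul_assoc]

theorem conj_mem (h : H) {r : Module.End k U} (hr : r ∈ D.alg) :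
    D.β h * r * D.β h⁻¹ ∈ D.alg := by
  unfold alg at hr
  induction hr using Algebra.adjoin_induction with
  | mem x hx =>
    obtain ⟨f, rfl⟩ := hx
    rw [D.conj_alpha]
    exact D.alpha_mem _
  | algebraMap a =>
    have : D.β h * algebraMap k _ a * D.β h⁻¹ = algebraMap k _ a := by
      rw [← Algebra.commutes, mul_assoc, D.beta_mul_inv, mul_one]
    rw [this]
    exact Subalgebra.algebraMap_mem _ a
  | add x y _ _ hx hy =>
    rw [mul_add, add_mul]
    exact add_mem hx hy
  | mul x y _ _ hx hy =>
    rw [D.conj_mul]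
    exact mul_mem hx hy

theorem faithful_of_commute [Finite K] [Nontrivial U] (h : H)
    (hc : ∀ r ∈ D.alg, D.β h * r = r * D.β h) : h = 1 := by
  by_contra hne
  have h1 : ∀ f, D.α (D.c h f) = D.α f := by
    intro f
    have h2 := hc (D.α f) (D.alpha_mem f)
    rw [D.compat] at h2
    have h3 := congrArg (· * D.β h⁻¹) h2
    simpa [mul_assoc, D.beta_mul_inv] using h3
  have hinj : Function.Injective (fun f : K => f⁻¹ * D.c h f) := by
    intro f g hfg
    simp only at hfg
    have h4 : D.c h g = g * f⁻¹ * D.c h f := by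
      calc D.c h g = g * (g⁻¹ * D.c h g) := by group
        _ = g * (f⁻¹ * D.c h f) := by rw [hfg]
        _ = g * f⁻¹ * D.c h f := by group
    have h5 : D.c h (g * f⁻¹) = g * f⁻¹ := by
      rw [map_mul, map_inv, h4]
      group
    have h6 := D.fpf h hne _ h5
    calc f = (g * f⁻¹)⁻¹ * g := by group
      _ = g := by rw [h6, inv_one, one_mul]
  have hsurj := Finite.surjective_of_injective hinj
  have h2 : ∀ f, D.α f = 1 := by
    intro f
    obtain ⟨g, rfl⟩ := hsurj f
    simp only [map_mul]
    rw [h1, ← map_mul, inv_mul_cancel, map_one]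
  obtain ⟨u, hu⟩ := exists_ne (0 : U)
  exact hu (D.nofix u (fun f => by rw [h2]; rfl))

end CoreData

open CoreData

variable {k U K H : Type*} [Field k] [AddCommGroup U] [Module k U] [Group K] [Group H]

/-- the field case: if the algebra has only trivial idempotents it is a field, and
Galois descent applies -/
theorem core_field [Finite K] [Finite H] [FiniteDimensional k U] [Nontrivial U]
    (D : CoreData k U K H) (hchar : (Nat.card K : k) ≠ 0)
    (hidem : ∀ e ∈ D.alg, e * e = e → e = 0 ∨ e = 1) : FreeOn D.β ⊤ := by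
  classical
  haveI : NeZero (Nat.card K : k) := ⟨hchar⟩
  letI : Fintype H := Fintype.ofFinite H
  -- commutative ring structure
  letI : CommRing D.alg :=
    { (inferInstance : Ring D.alg) with
      mul_comm := fun a b => Subtype.ext (D.alg_comm a.2 b.2) }
  -- surjection from the group algebra
  let φ : MonoidAlgebra k K →ₐ[k] Module.End k U := MonoidAlgebra.lift k (Module.End k U) K D.α
  have hφmem : ∀ a, φ a ∈ D.alg := by
    intro a
    simp only [φ]
    rw [MonoidAlgebra.lift_apply]
    refine Subalgebra.sum_mem _ (fun f _ => ?_)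
    exact Subalgebra.smul_mem _ (D.alpha_mem f) _
  have hle : D.alg ≤ φ.range := by
    refine Algebra.adjoin_le ?_
    rintro _ ⟨f, rfl⟩
    exact ⟨MonoidAlgebra.of k K f, by simp only [φ]; exact MonoidAlgebra.lift_of _ _⟩
  let ψ : MonoidAlgebra k K →+* D.alg := (φ.codRestrict D.alg hφmem).toRingHom
  have hψ : Function.Surjective ψ := by
    rintro ⟨r, hr⟩
    obtain ⟨a, ha⟩ := hle hr
    exact ⟨a, Subtype.ext ha⟩
  haveI : IsSemisimpleRing D.alg := RingHom.isSemisimpleRing_of_surjective ψ hψ
  -- field
  have hfield : IsField D.alg := by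
    refine ⟨⟨0, 1, ?_⟩, fun a b => mul_comm a b, ?_⟩
    · intro h01
      have : (0 : Module.End k U) = 1 := congrArg Subtype.val h01
      exact zero_ne_one this
    · intro x hx
      obtain ⟨e, he, hspan⟩ := IsSemisimpleRing.ideal_eq_span_idempotent (Ideal.span {x})
      have he' : (e : Module.End k U) * e = e := congrArg Subtype.val he.eq
      rcases hidem e e.2 he' with h0 | h1
      · exfalso
        have : e = 0 := Subtype.ext h0
        rw [this] at hspan
        have hx0 : x ∈ Ideal.span ({0} : Set D.alg) := by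
          rw [← hspan]
          exact Ideal.subset_span rfl
        rw [Ideal.mem_span_singleton'] at hx0
        obtain ⟨a, ha⟩ := hx0
        rw [mul_zero] at ha
        exact hx ha.symm
      · have : e = 1 := Subtype.ext h1
        rw [this] at hspan
        have h1mem : (1 : D.alg) ∈ Ideal.span ({x} : Set D.alg) := by
          rw [hspan]
          exact Ideal.subset_span rfl
        rw [Ideal.mem_span_singleton'] at h1mem
        obtain ⟨a, ha⟩ := h1mem
        exact ⟨a, by rw [mul_comm]; exact ha⟩
  letI : Field D.alg := hfield.toField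
  refine galois_free' (L := D.alg) (D.alg.val.toRingHom) ?_ D.β ?_ ?_
  · intro a b hab
    exact Subtype.ext hab
  · intro h a
    exact ⟨⟨_, D.conj_mem h a.2⟩, rfl⟩
  · intro h hc
    refine D.faithful_of_commute h (fun r hr => ?_)
    exact hc ⟨r, hr⟩

end Cfsg.Agent.Helper22.FrobFree
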