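import Mathlib
import Cfsg.Agent.Lib.Helper22.FrobFreeC
import Cfsg.Agent.Lib.Helper22.FrobFreeD

set_option autoImplicit false

/-!
The commutative core by induction on the dimension, via minimal idempotents.
-/

namespace Cfsg.Agent.Helper22.FrobFree

open Module

namespace CoreData

variable {k U K H : Type*} [Field k] [AddCommGroup U] [Module k U] [Group K] [Group H]
variable (D : CoreData k U K H)

/-- conjugation by `β h` -/
def cj (h : H) (e : Module.End k U) : Module.End k U := D.β h * e * D.β h⁻¹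

theorem cj_one (e : Module.End k U) : D.cj 1 e = e := by
  simp [cj]

theorem cj_mul (g h : H) (e : Module.End k U) : D.cj (g * h) e = D.cj g (D.cj h e) := by
  simp [cj, mul_assoc]

theorem cj_inv_cancel (h : H) (e : Module.End k U) : D.cj h⁻¹ (D.cj h e) = e := by
  rw [← cj_mul, inv_mul_cancel, cj_one]

theorem cj_cancel_inv (h : H) (e : Module.End k U) : D.cj h (D.cj h⁻¹ e) = e := by
  rw [← cj_mul, mul_inv_cancel, cj_one]

theorem cj_mem (h : H) {e : Module.End k U} (he : e ∈ D.alg) : D.cj h e ∈ D.alg :=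
  D.conj_mem h he

theorem cj_mulop (h : H) (x y : Module.End k U) : D.cj h (x * y) = D.cj h x * D.cj h y :=
  D.conj_mul h x y

theorem cj_zero (h : H) : D.cj h 0 = 0 := by simp [cj]

theorem cj_sum {ι : Type*} (h : H) (s : Finset ι) (f : ι → Module.End k U) :
    D.cj h (∑ i ∈ s, f i) = ∑ i ∈ s, D.cj h (f i) := by
  simp only [cj, Finset.mul_sum, Finset.sum_mul]

theorem cj_idem (h : H) {e : Module.End k U} (he : e * e = e) : D.cj h e * D.cj h e = D.cj h e := by
  rw [← cj_mulop, he]

theorem cj_injective (h : H) : Function.Injective (D.cj h) := by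
  intro a b hab
  rw [← D.cj_inv_cancel h a, hab, D.cj_inv_cancel]

theorem cj_apply (h : H) (e : Module.End k U) (u : U) : D.cj h e (D.β h u) = D.β h (e u) := by
  simp only [cj, Module.End.mul_apply]
  have : D.β h⁻¹ (D.β h u) = u := by
    rw [← Module.End.mul_apply, D.beta_inv_mul, Module.End.one_apply]
  rw [this]

theorem mul_cj (h : H) (e : Module.End k U) : D.β h * e = D.cj h e * D.β h := by
  simp only [cj, mul_assoc, D.beta_inv_mul, mul_one]

theorem range_cj (h : H) (e : Module.End k U) :
    LinearMap.range (D.cj h e) = (LinearMap.range e).map (D.β h) := by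
  ext x
  constructor
  · rintro ⟨w, rfl⟩
    refine ⟨e (D.β h⁻¹ w), ⟨_, rfl⟩, ?_⟩
    simp [cj]
  · rintro ⟨y, ⟨w, rfl⟩, rfl⟩
    exact ⟨D.β h w, D.cj_apply h e w⟩

theorem finrank_range_cj [FiniteDimensional k U] (h : H) (e : Module.End k U) :
    finrank k (LinearMap.range (D.cj h e)) = finrank k (LinearMap.range e) := by
  apply le_antisymm
  · rw [range_cj]
    exact Submodule.finrank_map_le _ _
  · have : LinearMap.range e = (LinearMap.range (D.cj h e)).map (D.β h⁻¹) := by
      rw [← range_cj, cj_inv_cancel]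
    rw [this]
    exact Submodule.finrank_map_le _ _

/-- pull back the data along a group homomorphism and restrict to an invariant subspace -/
def pull {H' : Type*} [Group H'] (j : H' →* H) (hj : Function.Injective j) (S : Submodule k U)
    (hα : ∀ f, ∀ u ∈ S, D.α f u ∈ S) (hβ : ∀ x : H', ∀ u ∈ S, (D.β.comp j) x u ∈ S) :
    CoreData k S K H' where
  α := resHom D.α S hα
  β := resHom (D.β.comp j) S hβ
  c := fun x => D.c (j x)
  compat := by
    intro x f
    ext u
    have := congrArg (fun T : Module.End k U => T (u : U)) (D.compat (j x) f)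
    simpa using this
  fpf := by
    intro x hx f hf
    refine D.fpf (j x) ?_ f hf
    intro h1
    apply hx
    apply hj
    rw [h1, map_one]
  comm := by
    intro f g
    ext u
    have := congrArg (fun T : Module.End k U => T (u : U)) (D.comm f g)
    simpa using this
  nofix := by
    intro u hu
    apply Subtype.ext
    apply D.nofix
    intro f
    exact congrArg Subtype.val (hu f)

theorem pull_beta {H' : Type*} [Group H'] (j : H' →* H) (hj : Function.Injective j)
    (S : Submodule k U) (hα : ∀ f, ∀ u ∈ S, D.α f u ∈ S)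
    (hβ : ∀ x : H', ∀ u ∈ S, (D.β.comp j) x u ∈ S) (x : H') (u : S) :
    (((D.pull j hj S hα hβ).β x u : S) : U) = D.β (j x) (u : U) := rfl

/-- products of idempotents against a minimal idempotent -/
theorem min_absorb [FiniteDimensional k U] {ε : Module.End k U} (hεmem : ε ∈ D.alg)
    (hε : ε * ε = ε)
    (hmin : ∀ e ∈ D.alg, e * e = e → e ≠ 0 →
      finrank k (LinearMap.range ε) ≤ finrank k (LinearMap.range e))
    {e : Module.End k U} (hemem : e ∈ D.alg) (he : e * e = e) : ε * e = 0 ∨ ε * e = ε := by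
  by_cases h0 : ε * e = 0
  · exact Or.inl h0
  right
  have hidem : (ε * e) * (ε * e) = ε * e := by
    calc (ε * e) * (ε * e) = ε * (e * ε) * e := by simp only [mul_assoc]
      _ = ε * (ε * e) * e := by rw [D.alg_comm hemem hεmem]
      _ = (ε * ε) * (e * e) := by simp only [mul_assoc]
      _ = ε * e := by rw [hε, he]
  have hle : LinearMap.range (ε * e) ≤ LinearMap.range ε := by
    rintro _ ⟨w, rfl⟩
    exact ⟨e w, rfl⟩
  have hrank := hmin (ε * e) (mul_mem hεmem hemem) hidem h0
  have heq : LinearMap.range (ε * e) = LinearMap.range ε :=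
    Submodule.eq_of_le_of_finrank_le hle hrank
  ext u
  have h1 : ε u ∈ LinearMap.range (ε * e) := by
    rw [heq]
    exact ⟨u, rfl⟩
  rw [idem_mem_range hidem] at h1
  have h2 : (ε * e) (ε u) = (ε * e) u := by
    have : (ε * e) * ε = ε * e := by
      calc (ε * e) * ε = ε * (e * ε) := by simp only [mul_assoc]
        _ = ε * (ε * e) := by rw [D.alg_comm hemem hεmem]
        _ = (ε * ε) * e := by simp only [mul_assoc]
        _ = ε * e := by rw [hε]
    rw [← Module.End.mul_apply, this]
  rw [← h2, h1]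

end CoreData

open CoreData

universe u v w w'

/-- the commutative core -/
theorem core_aux {k : Type u} [Field k] {K : Type w} [Group K] [Finite K]
    (hchar : (Nat.card K : k) ≠ 0) (n : ℕ) :
    ∀ (U : Type v) [AddCommGroup U] [Module k U] [FiniteDimensional k U]
      (H : Type w') [Group H] [Finite H] (D : CoreData k U K H),
      finrank k U = n → FreeOn D.β ⊤ := by
  induction n using Nat.strong_induction_on with
  | _ n ih =>
  intro U _ _ _ H _ _ D hn
  classical
  rcases subsingleton_or_nontrivial U with hU | hU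
  · exact FreeOn.of_subsingleton _
  by_cases hidem : ∀ e ∈ D.alg, e * e = e → e = 0 ∨ e = 1
  · exact core_field D hchar hidem
  push Not at hidem
  obtain ⟨e₀, he₀mem, he₀, he₀0, he₀1⟩ := hidem
  letI : Fintype H := Fintype.ofFinite H
  -- a minimal idempotent
  have hex : ∃ m, ∃ e ∈ D.alg, e * e = e ∧ e ≠ 0 ∧ finrank k (LinearMap.range e) = m :=
    ⟨_, e₀, he₀mem, he₀, he₀0, rfl⟩
  obtain ⟨ε, hεmem, hε, hε0, hεrank⟩ := Nat.find_spec hex
  have hminrank : ∀ e ∈ D.alg, e * e = e → e ≠ 0 →
      Nat.find hex ≤ finrank k (LinearMap.range e) := by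
    intro e he1 he2 he3
    exact Nat.find_min' hex ⟨e, he1, he2, he3, rfl⟩
  have hε1 : ε ≠ 1 := by
    intro h
    have h1 := hminrank e₀ he₀mem he₀ he₀0
    rw [← hεrank, h] at h1
    have h2 : LinearMap.range (1 : Module.End k U) = ⊤ := by
      rw [eq_top_iff]
      intro u _
      exact ⟨u, rfl⟩
    rw [h2, finrank_top] at h1
    have h3 : LinearMap.range e₀ ≠ ⊤ := by
      intro h4
      exact he₀1 (idem_range_eq_top he₀ h4)
    have h4 := Submodule.finrank_lt h3
    omega
  -- conjugates of ε are minimal as well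
  have hcjmin : ∀ h : H, ∀ e ∈ D.alg, e * e = e → e ≠ 0 →
      finrank k (LinearMap.range (D.cj h ε)) ≤ finrank k (LinearMap.range e) := by
    intro h e he1 he2 he3
    rw [D.finrank_range_cj, hεrank]
    exact hminrank e he1 he2 he3
  have hcj0 : ∀ h : H, D.cj h ε ≠ 0 := by
    intro h h0
    apply hε0
    rw [← D.cj_inv_cancel h ε, h0, D.cj_zero]
  have horth : ∀ h h' : H, D.cj h ε ≠ D.cj h' ε → D.cj h ε * D.cj h' ε = 0 := by
    intro h h' hne
    have h1 := D.min_absorb (D.cj_mem h hεmem) (D.cj_idem h hε) (hcjmin h)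
      (D.cj_mem h' hεmem) (D.cj_idem h' hε)
    have h2 := D.min_absorb (D.cj_mem h' hεmem) (D.cj_idem h' hε) (hcjmin h')
      (D.cj_mem h hεmem) (D.cj_idem h hε)
    rcases h1 with h1 | h1
    · exact h1
    rcases h2 with h2 | h2
    · rw [D.alg_comm (D.cj_mem h hεmem) (D.cj_mem h' hεmem)]
      exact h2
    · exfalso
      apply hne
      rw [← h1, D.alg_comm (D.cj_mem h hεmem) (D.cj_mem h' hεmem), h2]
  -- the stabiliser
  let H₁ : Subgroup H :=
    { carrier := {h | D.cj h ε = ε}
      mul_mem' := by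
        intro a b ha hb
        simp only [Set.mem_ofPred_eq] at ha hb ⊢
        rw [D.cj_mul, hb, ha]
      one_mem' := D.cj_one ε
      inv_mem' := by
        intro a ha
        simp only [Set.mem_ofPred_eq] at ha ⊢
        rw [← ha, D.cj_inv_cancel, ha] }
  have hH₁ : ∀ h : H, h ∈ H₁ ↔ D.cj h ε = ε := fun h => Iff.rfl
  -- the orbit and its sum
  set 𝒪 : Finset (Module.End k U) := Finset.univ.image (fun h : H => D.cj h ε) with h𝒪
  have hmem𝒪 : ∀ e, e ∈ 𝒪 ↔ ∃ h : H, D.cj h ε = e := by
    intro e
    simp [h𝒪]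
  set s : Module.End k U := ∑ e ∈ 𝒪, e with hs
  have hsmem : s ∈ D.alg := by
    refine Subalgebra.sum_mem _ (fun e he => ?_)
    obtain ⟨h, rfl⟩ := (hmem𝒪 e).mp he
    exact D.cj_mem h hεmem
  have hmul𝒪 : ∀ e ∈ 𝒪, ∀ e' ∈ 𝒪, e * e' = if e = e' then e else 0 := by
    intro e he e' he'
    obtain ⟨h, rfl⟩ := (hmem𝒪 e).mp he
    obtain ⟨h', rfl⟩ := (hmem𝒪 e').mp he'
    split_ifs with heq
    · rw [← heq]
      exact D.cj_idem h hε
    · exact horth h h' heq
  have hes : ∀ e ∈ 𝒪, e * s = e := by
    intro e he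
    rw [hs, Finset.mul_sum]
    rw [Finset.sum_congr rfl (fun e' he' => hmul𝒪 e he e' he')]
    rw [Finset.sum_ite_eq, if_pos he]
  have hss : s * s = s := by
    conv_lhs => rw [hs]
    rw [Finset.sum_mul]
    rw [Finset.sum_congr rfl (fun e he => hes e he)]
  have hεs : ε * s = ε := by
    apply hes
    rw [hmem𝒪]
    exact ⟨1, D.cj_one ε⟩
  have hs0 : s ≠ 0 := by
    intro h0
    rw [h0, mul_zero] at hεs
    exact hε0 hεs.symm
  -- `s` is fixed by conjugation
  have hcjs : ∀ g : H, D.cj g s = s := by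
    intro g
    rw [hs, D.cj_sum]
    rw [← Finset.sum_image (s := 𝒪) (g := D.cj g) (f := fun e => e)
      (fun a _ b _ hab => D.cj_injective g hab)]
    congr 1
    ext e
    rw [Finset.mem_image, hmem𝒪]
    constructor
    · rintro ⟨e', he', rfl⟩
      obtain ⟨h, rfl⟩ := (hmem𝒪 e').mp he'
      exact ⟨g * h, D.cj_mul g h ε⟩
    · rintro ⟨h, rfl⟩
      refine ⟨D.cj (g⁻¹ * h) ε, (hmem𝒪 _).mpr ⟨_, rfl⟩, ?_⟩
      rw [← D.cj_mul]
      congr 1
      group
  have hβs : ∀ g : H, D.β g * s = s * D.β g := by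
    intro g
    rw [D.mul_cj, hcjs]
  have hαs : ∀ f : K, D.α f * s = s * D.α f := fun f => D.alg_comm (D.alpha_mem f) hsmem
  -- the range of `s`
  set U₁ : Submodule k U := LinearMap.range ε with hU₁
  have hrange : LinearMap.range s = ⨆ h : H, U₁.map (D.β h) := by
    apply le_antisymm
    · rintro _ ⟨w, rfl⟩
      rw [hs, LinearMap.sum_apply]
      refine Submodule.sum_mem _ (fun e he => ?_)
      obtain ⟨h, rfl⟩ := (hmem𝒪 e).mp he
      refine Submodule.mem_iSup_of_mem h ?_
      rw [hU₁, ← D.range_cj]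
      exact ⟨w, rfl⟩
    · refine iSup_le (fun h => ?_)
      rw [hU₁, ← D.range_cj]
      intro u hu
      rw [idem_mem_range (D.cj_idem h hε)] at hu
      rw [idem_mem_range hss]
      have h1 : s * D.cj h ε = D.cj h ε := by
        rw [D.alg_comm hsmem (D.cj_mem h hεmem)]
        exact hes _ ((hmem𝒪 _).mpr ⟨h, rfl⟩)
      rw [← hu, ← Module.End.mul_apply, h1]
  -- the orbit part
  have hfree₁ : FreeOn D.β (LinearMap.range s) := by
    rw [hrange]
    refine FreeOn.orbit D.β H₁ U₁ (fun h => D.cj h ε) ?_ ?_ ?_ ?_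
    · intro h u hu
      rw [hU₁, idem_mem_range hε] at hu
      rw [D.cj_apply, hu]
    · intro h h' hnot u hu
      rw [hU₁, idem_mem_range hε] at hu
      have hne : D.cj h ε ≠ D.cj h' ε := by
        intro heq
        apply hnot
        rw [hH₁, D.cj_mul, ← heq, D.cj_inv_cancel]
      have h1 : D.β h' u = D.cj h' ε (D.β h' u) := by
        rw [D.cj_apply, hu]
      rw [h1, ← Module.End.mul_apply, horth h h' hne]
      rfl
    · intro x hx u hu
      rw [hU₁, idem_mem_range hε] at hu ⊢
      have h1 := D.cj_apply x ε u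
      rw [(hH₁ x).mp hx, hu] at h1
      exact h1
    · -- induction hypothesis on `U₁` with the stabiliser
      have hα₁ : ∀ f, ∀ u ∈ U₁, D.α f u ∈ U₁ :=
        fun f => commute_range_inv (D.alg_comm (D.alpha_mem f) hεmem)
      have hβ₁ : ∀ x : H₁, ∀ u ∈ U₁, (D.β.comp H₁.subtype) x u ∈ U₁ := by
        intro x u hu
        rw [hU₁, idem_mem_range hε] at hu ⊢
        have h1 := D.cj_apply x ε u
        rw [(hH₁ x).mp x.2, hu] at h1
        exact h1
      have hlt : finrank k U₁ < n := by
        rw [← hn]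
        apply Submodule.finrank_lt
        intro h4
        exact hε1 (idem_range_eq_top hε h4)
      have := ih _ hlt U₁ H₁ (D.pull H₁.subtype H₁.subtype_injective U₁ hα₁ hβ₁) rfl
      exact FreeOn.of_subtype (β := D.β.comp H₁.subtype) (fun _ _ => rfl) this
  -- the complement
  have hfree₂ : FreeOn D.β (LinearMap.ker s) := by
    have hα₂ : ∀ f, ∀ u ∈ LinearMap.ker s, D.α f u ∈ LinearMap.ker s :=
      fun f => commute_ker_inv (hαs f)
    have hβ₂ : ∀ x : H, ∀ u ∈ LinearMap.ker s, (D.β.comp (MonoidHom.id H)) x u ∈ LinearMap.ker s :=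
      fun x => commute_ker_inv (hβs x)
    have hlt : finrank k (LinearMap.ker s) < n := by
      rw [← hn]
      apply Submodule.finrank_lt
      intro h4
      exact hs0 (idem_ker_eq_top h4)
    have := ih _ hlt (LinearMap.ker s) H
      (D.pull (MonoidHom.id H) Function.injective_id (LinearMap.ker s) hα₂ hβ₂) rfl
    exact FreeOn.of_subtype (β := D.β) (fun _ _ => rfl) this
  exact FreeOn.of_idem hss hfree₁ hfree₂

theorem core {k : Type u} [Field k] {K : Type w} [Group K] [Finite K]
    {U : Type v} [AddCommGroup U] [Module k U] [FiniteDimensional k U]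
    {H : Type w'} [Group H] [Finite H] (D : CoreData k U K H)
    (hchar : (Nat.card K : k) ≠ 0) : FreeOn D.β ⊤ :=
  core_aux hchar _ U H D rfl

end Cfsg.Agent.Helper22.FrobFree
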