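import Mathlib
import Cfsg.Agent.Lib.Helper22.FrobFreeE
import Cfsg.Agent.Lib.Helper22.FrobFreeF

set_option autoImplicit false

/-!
The reduction from a nilpotent group without fixed vectors to the commutative core.
-/

namespace Cfsg.Agent.Helper22.FrobFree

open Module

/-- a group `F` acting on `U` without fixed vectors, normalised by `H` acting on `F` without
fixed points -/
structure FrobData (k U F H : Type*) [Field k] [AddCommGroup U] [Module k U] [Group F]
    [Group H] where
  α : F →* Module.End k U
  β : H →* Module.End k U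
  c : H → F ≃* F
  compat : ∀ h f, β h * α f = α (c h f) * β h
  fpf : ∀ h, h ≠ 1 → ∀ f, c h f = f → f = 1
  nofix : ∀ u, (∀ f, α f u = u) → u = 0

namespace FrobData

variable {k U F H : Type*} [Field k] [AddCommGroup U] [Module k U] [Group F] [Group H]
variable (D : FrobData k U F H)

/-- restriction to an invariant subspace -/
def restrict (S : Submodule k U) (hα : ∀ f, ∀ u ∈ S, D.α f u ∈ S)
    (hβ : ∀ h, ∀ u ∈ S, D.β h u ∈ S) : FrobData k S F H where
  α := resHom D.α S hα
  β := resHom D.β S hβ
  c := D.c
  compat := by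
    intro x f
    ext u
    have := congrArg (fun T : Module.End k U => T (u : U)) (D.compat x f)
    simpa using this
  fpf := D.fpf
  nofix := by
    intro u hu
    apply Subtype.ext
    apply D.nofix
    intro f
    exact congrArg Subtype.val (hu f)

/-- subgroups over which one can average equivariantly -/
structure Good (K : Subgroup F) : Prop where
  normal : K.Normal
  inv : ∀ h x, x ∈ K ↔ D.c h x ∈ K
  char : (Nat.card K : k) ≠ 0

variable {D}

theorem Good.alpha_comm [Finite F] {K : Subgroup F} (hK : D.Good K) (f : F) :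
    D.α f * avg D.α K = avg D.α K * D.α f := by
  refine avg_commute D.α K (D.α f) (MulAut.conj f).toEquiv ?_ ?_
  · intro x
    constructor
    · intro hx
      exact hK.normal.conj_mem x hx f
    · intro hx
      have h1 : (MulAut.conj f).toEquiv x = f * x * f⁻¹ := rfl
      rw [h1] at hx
      have := hK.normal.conj_mem _ hx f⁻¹
      simpa [mul_assoc] using this
  · intro x _
    have h1 : (MulAut.conj f).toEquiv x = f * x * f⁻¹ := rfl
    rw [h1, ← map_mul, ← map_mul]
    congr 1
    group

theorem Good.beta_comm [Finite F] {K : Subgroup F} (hK : D.Good K) (h : H) :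
    D.β h * avg D.α K = avg D.α K * D.β h :=
  avg_commute D.α K (D.β h) (D.c h).toEquiv (hK.inv h) (fun x _ => D.compat h x)

variable (D)

/-- the commutative core attached to a subgroup with commuting image and no fixed vectors -/
def toCore (K : Subgroup F) (hinv : ∀ h x, x ∈ K → D.c h x ∈ K)
    (hcomm : ∀ x ∈ K, ∀ y ∈ K, D.α x * D.α y = D.α y * D.α x)
    (hnofix : ∀ u, (∀ x ∈ K, D.α x u = u) → u = 0) : CoreData k U K H where
  α := D.α.comp K.subtype
  β := D.β
  c := fun h => ((D.c h).toMonoidHom.comp K.subtype).codRestrict K (fun x => hinv h x x.2)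
  compat := fun h f => D.compat h f
  fpf := fun h hh f hf => Subtype.ext (D.fpf h hh f (congrArg Subtype.val hf))
  comm := fun f g => hcomm f f.2 g g.2
  nofix := fun u hu => hnofix u (fun x hx => hu ⟨x, hx⟩)

theorem good_sylow [Finite F] [Group.IsNilpotent F] {q : ℕ} (hq : q.Prime) (hqk : (q : k) ≠ 0)
    (P : Sylow q F) : D.Good (P : Subgroup F) := by
  haveI : Fact q.Prime := ⟨hq⟩
  have hn : (P : Subgroup F).Normal := inferInstance
  have hc : (P : Subgroup F).Characteristic := Sylow.characteristic_of_normal P hn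
  refine ⟨hn, ?_, ?_⟩
  · intro h x
    have := hc.fixed (D.c h)
    conv_lhs => rw [← this]
    rfl
  · rw [P.card_eq_multiplicity, Nat.cast_pow]
    exact pow_ne_zero _ hqk

theorem good_inf [Finite F] {K₁ K₂ : Subgroup F} {q : ℕ} (hq : q.Prime) (hqk : (q : k) ≠ 0)
    (h₁n : K₁.Normal) (h₁i : ∀ h x, x ∈ K₁ ↔ D.c h x ∈ K₁)
    (h₂ : D.Good K₂) (hcard : ∃ a, Nat.card K₂ = q ^ a) : D.Good (K₁ ⊓ K₂) := by
  haveI := h₁n
  haveI := h₂.normal
  refine ⟨inferInstance, ?_, ?_⟩
  · intro h x
    rw [Subgroup.mem_inf, Subgroup.mem_inf, h₁i h x, h₂.inv h x]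
  · obtain ⟨a, ha⟩ := hcard
    have hdvd : Nat.card (K₁ ⊓ K₂ : Subgroup F) ∣ q ^ a := by
      rw [← ha]
      exact Subgroup.card_dvd_of_le inf_le_right
    obtain ⟨b, _, hb⟩ := (Nat.dvd_prime_pow hq).mp hdvd
    rw [hb, Nat.cast_pow]
    exact pow_ne_zero _ hqk

end FrobData

open FrobData

universe u v w w'

theorem main_aux {k : Type u} [Field k] {F : Type w} [Group F] [Finite F] [Group.IsNilpotent F]
    {H : Type w'} [Group H] [Finite H] (n : ℕ) :
    ∀ (U : Type v) [AddCommGroup U] [Module k U] [FiniteDimensional k U]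
      (D : FrobData k U F H), finrank k U = n → FreeOn D.β ⊤ := by
  induction n using Nat.strong_induction_on with
  | _ n ih =>
  intro U _ _ _ D hn
  classical
  rcases subsingleton_or_nontrivial U with hU | hU
  · exact FreeOn.of_subsingleton _
  by_cases hsplit : ∃ K : Subgroup F, D.Good K ∧ avg D.α K ≠ 0 ∧ avg D.α K ≠ 1
  · obtain ⟨K, hK, h0, h1⟩ := hsplit
    have he : avg D.α K * avg D.α K = avg D.α K := avg_idem D.α K hK.char
    have hfree₁ : FreeOn D.β (LinearMap.range (avg D.α K)) := by
      have hlt : finrank k (LinearMap.range (avg D.α K)) < n := by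
        rw [← hn]
        apply Submodule.finrank_lt
        intro h4
        exact h1 (idem_range_eq_top he h4)
      have := ih _ hlt (LinearMap.range (avg D.α K))
        (D.restrict _ (fun f => commute_range_inv (hK.alpha_comm f))
          (fun h => commute_range_inv (hK.beta_comm h))) rfl
      exact FreeOn.of_subtype (β := D.β) (fun _ _ => rfl) this
    have hfree₂ : FreeOn D.β (LinearMap.ker (avg D.α K)) := by
      have hlt : finrank k (LinearMap.ker (avg D.α K)) < n := by
        rw [← hn]
        apply Submodule.finrank_lt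
        intro h4
        exact h0 (idem_ker_eq_top h4)
      have := ih _ hlt (LinearMap.ker (avg D.α K))
        (D.restrict _ (fun f => commute_ker_inv (hK.alpha_comm f))
          (fun h => commute_ker_inv (hK.beta_comm h))) rfl
      exact FreeOn.of_subtype (β := D.β) (fun _ _ => rfl) this
    exact FreeOn.of_idem he hfree₁ hfree₂
  · push Not at hsplit
    -- a Sylow subgroup without fixed vectors
    have hsyl : ∃ q : ℕ, q.Prime ∧ (q : k) ≠ 0 ∧ ∃ P : Sylow q F,
        avg D.α (P : Subgroup F) = 0 := by
      by_contra hno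
      push Not at hno
      have htriv : ∀ q : ℕ, q.Prime → (q : k) ≠ 0 → ∀ P : Sylow q F, ∀ x ∈ P, D.α x = 1 := by
        intro q hq hqk P x hx
        have hgood : D.Good (P : Subgroup F) := D.good_sylow hq hqk P
        have h1 := hsplit _ hgood (hno q hq hqk P)
        exact alpha_eq_one_of_avg D.α _ h1 hx
      obtain ⟨u, hu0, hufix⟩ :=
        exists_fixed_of_unipotent D.α (unipotent_of_sylow_trivial D.α htriv)
      exact hu0 (D.nofix u hufix)
    obtain ⟨q, hq, hqk, P, hP0⟩ := hsyl
    haveI : Fact q.Prime := ⟨hq⟩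
    have hgoodP : D.Good (P : Subgroup F) := D.good_sylow hq hqk P
    have hgoodK : ∀ i, D.Good (Subgroup.upperCentralSeries F i ⊓ (P : Subgroup F)) := by
      intro i
      refine D.good_inf hq hqk inferInstance ?_ hgoodP ⟨_, P.card_eq_multiplicity⟩
      intro h x
      have hc : (Subgroup.upperCentralSeries F i).Characteristic := inferInstance
      have := hc.fixed (D.c h)
      conv_lhs => rw [← this]
      rfl
    have hK0 : avg D.α (Subgroup.upperCentralSeries F 0 ⊓ (P : Subgroup F)) = 1 := by
      rw [Subgroup.upperCentralSeries_zero, bot_inf_eq, avg_bot]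
    obtain ⟨m, hm⟩ := Group.IsNilpotent.nilpotent' (G := F)
    have hex : ∃ i, avg D.α (Subgroup.upperCentralSeries F i ⊓ (P : Subgroup F)) = 0 := by
      refine ⟨m, ?_⟩
      rw [hm, top_inf_eq]
      exact hP0
    have hi := Nat.find_spec hex
    have hi0 : Nat.find hex ≠ 0 := by
      intro h0
      rw [h0, hK0] at hi
      exact one_ne_zero hi
    obtain ⟨j, hj⟩ := Nat.exists_eq_succ_of_ne_zero hi0
    have hj1 : avg D.α (Subgroup.upperCentralSeries F j ⊓ (P : Subgroup F)) = 1 :=
      hsplit _ (hgoodK j) (Nat.find_min hex (m := j) (by omega))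
    rw [hj] at hi
    have hgood := hgoodK (j + 1)
    have hcomm : ∀ x ∈ Subgroup.upperCentralSeries F (j + 1) ⊓ (P : Subgroup F),
        ∀ y ∈ Subgroup.upperCentralSeries F (j + 1) ⊓ (P : Subgroup F),
        D.α x * D.α y = D.α y * D.α x := by
      intro x hx y hy
      have h1 := Subgroup.mem_upperCentralSeries_succ_iff.mp hx.1 y
      rw [commutatorElement_def] at h1
      have h2 : x * y * x⁻¹ * y⁻¹ ∈ (P : Subgroup F) :=
        mul_mem (mul_mem (mul_mem hx.2 hy.2) (inv_mem hx.2)) (inv_mem hy.2)
      have h3 : D.α (x * y * x⁻¹ * y⁻¹) = 1 :=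
        alpha_eq_one_of_avg D.α _ hj1 ⟨h1, h2⟩
      calc D.α x * D.α y = D.α (x * y * x⁻¹ * y⁻¹) * (D.α y * D.α x) := by
            rw [← map_mul, ← map_mul, ← map_mul]
            congr 1
            group
        _ = D.α y * D.α x := by rw [h3, one_mul]
    have hnofix : ∀ u, (∀ x ∈ Subgroup.upperCentralSeries F (j + 1) ⊓ (P : Subgroup F),
        D.α x u = u) → u = 0 := by
      intro u hu
      have := avg_fixed D.α _ hgood.char hu
      rw [Nat.succ_eq_add_one] at hi
      rw [hi] at this
      exact this.symm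
    exact core (D.toCore _ (fun h x hx => (hgood.inv h x).mp hx) hcomm hnofix) hgood.char

theorem main {k : Type u} [Field k] {F : Type w} [Group F] [Finite F] [Group.IsNilpotent F]
    {H : Type w'} [Group H] [Finite H] {U : Type v} [AddCommGroup U] [Module k U]
    [FiniteDimensional k U] (D : FrobData k U F H) : FreeOn D.β ⊤ :=
  main_aux _ U D rfl

end Cfsg.Agent.Helper22.FrobFree
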