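import Mathlib
import Cfsg.Prelude.Def_Solvable
import Cfsg.Agent.Lib.Helper21.GAG39Defs
import Cfsg.Agent.S0034

/-!
# S4839 piece G39-CONV (helper22): a `p`-group `N` which is the Frobenius kernel of a complement `H`
with `|H| + 1 = |N|` is `O_p(G)`.
-/

set_option autoImplicit false
set_option linter.unusedSectionVars false
set_option linter.unusedVariables false

namespace Cfsg.Agent.Helper21.GAG39

open Cfsg
open scoped Pointwise

variable {G : Type*} [Group G] [Finite G] {p : ℕ} [Fact p.Prime] (N : Subgroup G) [N.Normal]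

theorem g39conv_pCore_isPGroup (p : ℕ) (G : Type*) [Group G] : IsPGroup p (Cfsg.pCore p G) :=
  Sylow.sSup_of_normal _ (fun _ h => h.2) (fun _ h => h.1)

/-- arithmetic: `p^b ∣ (p^a - 1) * p^a` with `1 ≤ a` forces `b ≤ a`. -/
theorem g39conv_arith {p a b : ℕ} (hp : p.Prime) (ha : 1 ≤ a)
    (h : p ^ b ∣ (p ^ a - 1) * p ^ a) : b ≤ a := by
  by_contra hlt
  push Not at hlt
  -- p^(a+1) ∣ (p^a - 1) p^a, so p ∣ p^a - 1
  have h1 : p ^ (a + 1) ∣ (p ^ a - 1) * p ^ a := (pow_dvd_pow p hlt).trans h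
  rw [pow_succ, mul_comm (p ^ a) p, mul_comm (p ^ a - 1) (p ^ a), mul_comm p (p ^ a)] at h1
  have hpos : 0 < p ^ a := pow_pos hp.pos a
  have h2 : p ∣ p ^ a - 1 := (Nat.mul_dvd_mul_iff_left hpos).mp h1
  have h3 : p ∣ p ^ a := dvd_pow_self p (by omega)
  have h4 : p ∣ p ^ a - (p ^ a - 1) := Nat.dvd_sub h3 h2
  have h5 : p ^ a - (p ^ a - 1) = 1 := by omega
  rw [h5] at h4
  exact hp.one_lt.ne' (Nat.dvd_one.mp h4)

/-- PIECE G39-CONV [L0, uses the proved `Cfsg.Agent.S0034.result`]. -/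
theorem core_of_frobenius (hNp : IsPGroup p N) (H : Subgroup G) (hH : IsFrobeniusComplement H)
    (hker : frobeniusKernel H = (N : Set G)) (hcard : Nat.card H + 1 = Nat.card N) :
    N = pCore p G := by
  have hp : p.Prime := Fact.out
  have hNle : N ≤ pCore p G := le_sSup ⟨inferInstance, hNp⟩
  obtain ⟨hidx, -⟩ := Cfsg.Agent.S0034.result H hH
  have hcN : Nat.card N = H.index := by
    rw [← hidx, hker]
    rfl
  have hG : Nat.card G = (Nat.card N - 1) * Nat.card N := by
    rw [← Subgroup.card_mul_index H, ← hcN, ← hcard]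
    simp
  obtain ⟨a, ha⟩ := IsPGroup.iff_card.mp hNp
  obtain ⟨b, hb⟩ := IsPGroup.iff_card.mp (g39conv_pCore_isPGroup p G)
  have hHpos : 0 < Nat.card H := Nat.card_pos
  have ha1 : 1 ≤ a := by
    rcases Nat.eq_zero_or_pos a with h0 | h0
    · rw [h0, pow_zero] at ha
      omega
    · exact h0
  have hdvd : p ^ b ∣ (p ^ a - 1) * p ^ a := by
    rw [← hb, ← ha, ← hG]
    exact Subgroup.card_subgroup_dvd_card _
  have hba : b ≤ a := g39conv_arith hp ha1 hdvd
  have hcardle : Nat.card (pCore p G) ≤ Nat.card N := by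
    rw [ha, hb]
    exact Nat.pow_le_pow_right hp.pos hba
  exact Subgroup.eq_of_le_of_card_ge hNle hcardle

end Cfsg.Agent.Helper21.GAG39
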