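import Mathlib
import Cfsg.Agent.Lib.Helper8.GRDefs

/-! # S3085 piece GR-COMPL (helper22 for helper8): generic complement lemma -/

set_option autoImplicit false
set_option linter.unusedVariables false

namespace Cfsg.Agent.Helper8.GR

open Cfsg.Agent.Helper8.XS

/-- factorisation `a = m * l` with `m ∈ N`, `l ∈ L` -/
theorem compl_factor {A : Type*} [Group A] (N L : Subgroup A) (hc : N.IsComplement' L) (a : A) :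
    ∃ m ∈ N, ∃ l ∈ L, a = m * l := by
  obtain ⟨⟨⟨m, hm⟩, ⟨l, hl⟩⟩, hml⟩ := hc.2 a
  exact ⟨m, hm, l, hl, hml.symm⟩

/-- PIECE GR-COMPL -/
theorem compl {A : Type*} [Group A] (N L : Subgroup A) [N.Normal] (hc : N.IsComplement' L)
    (a₁ a₂ : A) (h1 : a₁ * a₁ ∈ N) (h2 : a₂ * a₂ ∈ N) (h12 : a₁ * a₂ = a₂ * a₁) :
    ∃ n₁ ∈ N, ∃ n₂ ∈ N, (n₁ * a₁) * (n₁ * a₁) = 1 ∧ (n₂ * a₂) * (n₂ * a₂) = 1 ∧
      (n₁ * a₁) * (n₂ * a₂) = (n₂ * a₂) * (n₁ * a₁) := by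
  obtain ⟨m₁, hm₁, l₁, hl₁, e₁⟩ := compl_factor N L hc a₁
  obtain ⟨m₂, hm₂, l₂, hl₂, e₂⟩ := compl_factor N L hc a₂
  have hdis : ∀ x : A, x ∈ N → x ∈ L → x = 1 := fun x hxN hxL =>
    Subgroup.disjoint_def.1 hc.disjoint hxN hxL
  have k₁ : m₁⁻¹ * a₁ = l₁ := by rw [e₁]; group
  have k₂ : m₂⁻¹ * a₂ = l₂ := by rw [e₂]; group
  -- the quotient map
  have hπ : ∀ x : A, x ∈ N ↔ (QuotientGroup.mk' N) x = 1 := fun x =>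
    (QuotientGroup.eq_one_iff x).symm
  have hπl₁ : (QuotientGroup.mk' N) l₁ = (QuotientGroup.mk' N) a₁ := by
    rw [← k₁, map_mul, (hπ _).1 (N.inv_mem hm₁), one_mul]
  have hπl₂ : (QuotientGroup.mk' N) l₂ = (QuotientGroup.mk' N) a₂ := by
    rw [← k₂, map_mul, (hπ _).1 (N.inv_mem hm₂), one_mul]
  have s₁ : l₁ * l₁ = 1 := by
    apply hdis _ _ (L.mul_mem hl₁ hl₁)
    rw [hπ, map_mul, hπl₁, ← map_mul]
    exact (hπ _).1 h1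
  have s₂ : l₂ * l₂ = 1 := by
    apply hdis _ _ (L.mul_mem hl₂ hl₂)
    rw [hπ, map_mul, hπl₂, ← map_mul]
    exact (hπ _).1 h2
  have c₁₂ : l₁ * l₂ * (l₂ * l₁)⁻¹ = 1 := by
    apply hdis _ _ (L.mul_mem (L.mul_mem hl₁ hl₂) (L.inv_mem (L.mul_mem hl₂ hl₁)))
    rw [hπ, map_mul, map_mul, map_inv, map_mul, hπl₁, hπl₂, ← map_mul, ← map_mul, h12,
      mul_inv_cancel]
  refine ⟨m₁⁻¹, N.inv_mem hm₁, m₂⁻¹, N.inv_mem hm₂, ?_, ?_, ?_⟩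
  · rw [k₁]; exact s₁
  · rw [k₂]; exact s₂
  · rw [k₁, k₂]
    exact mul_inv_eq_one.1 c₁₂

end Cfsg.Agent.Helper8.GR
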