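import Mathlib
import Cfsg.Agent.Lib.Helper8.GRDefs

/-! # S3085 piece GR-RHOCOMM (helper22 for helper8) -/

set_option autoImplicit false
set_option linter.unusedVariables false

namespace Cfsg.Agent.Helper8.GR

open Cfsg.Agent.Helper8.XS

/-- the twist by `w` does not see a right factor commuting with `w` -/
theorem rhocomm_tw_mul {Q : Type*} [Group Q] (w x t : Q) (ht : t * w = w * t) :
    tw w (x * t) = tw w x := by
  by_cases hx : x * w = w * x
  · have h1 : x * t * w = w * (x * t) := by
      rw [mul_assoc, ht, ← mul_assoc, hx, mul_assoc]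
    rw [tw_comm h1, tw_comm hx]
  · have h1 : x * t * w ≠ w * (x * t) := by
      intro h1
      apply hx
      have h2 : x * w * t = w * x * t := by
        rw [mul_assoc x w t, ← ht, ← mul_assoc, h1, mul_assoc]
      exact mul_right_cancel h2
    rw [tw_anti h1, tw_anti hx]

/-- `tw w x` commutes with everything commuting with `w` -/
theorem rhocomm_tw_comm {Q : Type*} [Group Q] (w x t : Q) (ht : t * w = w * t) :
    t * tw w x = tw w x * t := by
  unfold tw
  split_ifs
  · simp
  · exact ht

/-- PIECE GR-RHOCOMM -/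
theorem rhocomm {Q : Type*} [Group Q] {z : Q} (h : XQ z) (w w' : Q) (hw : w * w = z)
    (hw' : w' * w' = z) (hc : w * w' = w' * w) (ρ ρ' : MulAut Q) (hρ : IsRho w ρ)
    (hρ' : IsRho w' ρ') : ρ * ρ' = ρ' * ρ := by
  ext x
  rw [MulAut.mul_apply, MulAut.mul_apply, hρ' x, hρ x, hρ, hρ']
  -- `tw w' x` commutes with `w`, `tw w x` commutes with `w'`
  have e1 : tw w' x * w = w * tw w' x := (rhocomm_tw_comm w' x w hc).symm
  have e2 : tw w x * w' = w' * tw w x := (rhocomm_tw_comm w x w' hc.symm).symm
  rw [rhocomm_tw_mul w x (tw w' x) e1, rhocomm_tw_mul w' x (tw w x) e2]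
  have e3 : tw w' x * tw w x = tw w x * tw w' x := rhocomm_tw_comm w x (tw w' x) e1
  rw [mul_assoc, mul_assoc, e3]

end Cfsg.Agent.Helper8.GR
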