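import Mathlib
import Cfsg.Agent.Lib.Helper8.HJDefs

/-!
# S3313 piece A5CENT (helper22, for helper8): the centralizer of an involution of `A5` is a four-group
-/

set_option autoImplicit false

namespace Cfsg.Agent.Helper8.HJ

open Cfsg

set_option maxRecDepth 100000 in
/-- the statement in `A5`, by enumeration -/
theorem a5cent_model : ∀ a : alternatingGroup (Fin 5), a ≠ 1 → a * a = 1 →
    (Fintype.card {b : alternatingGroup (Fin 5) // b * a = a * b} = 4 ∧
      ∀ b : alternatingGroup (Fin 5), b * a = a * b → b * b = 1) := by
  decide +kernel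

/-- PIECE A5CENT.  In `A5` the centralizer of an involution is a four-group. -/
theorem a5_cent_invol {B : Type*} [Group B] (e : B ≃* alternatingGroup (Fin 5)) (x : B)
    (hx : orderOf x = 2) :
    Nat.card {y : B // y * x = x * y} = 4 ∧ ∀ y : B, y * x = x * y → y * y = 1 := by
  have hx1 : x ≠ 1 := by
    intro h
    rw [h, orderOf_one] at hx
    omega
  have hx2 : x * x = 1 := by
    have := pow_orderOf_eq_one x
    rwa [hx, pow_two] at this
  have ha1 : e x ≠ 1 := by
    intro h
    apply hx1
    apply e.injective
    rw [h, map_one]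
  have ha2 : e x * e x = 1 := by rw [← map_mul, hx2, map_one]
  obtain ⟨h1, h2⟩ := a5cent_model (e x) ha1 ha2
  constructor
  · rw [← h1, ← Nat.card_eq_fintype_card]
    apply Nat.card_congr
    refine e.toEquiv.subtypeEquiv ?_
    intro y
    show y * x = x * y ↔ e y * e x = e x * e y
    rw [← map_mul, ← map_mul]
    exact e.injective.eq_iff.symm
  · intro y hy
    apply e.injective
    rw [map_mul, map_one]
    apply h2
    rw [← map_mul, ← map_mul, hy]

end Cfsg.Agent.Helper8.HJ
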