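import Mathlib
import Cfsg.Agent.Lib.Helper8.HJDefs

/-!
# S3313 piece A5CNT (helper22, for helper8): the `A5` count behind `r(t) = 195`
-/

set_option autoImplicit false

namespace Cfsg.Agent.Helper8.HJ

open Cfsg

set_option maxRecDepth 100000 in
/-- the count in `A5`, by enumeration -/
theorem a5cnt_model :
    Fintype.card {p : alternatingGroup (Fin 5) × alternatingGroup (Fin 5) //
      (p.1 ≠ 1 ∧ p.1 * p.1 = 1) ∧ p.2 * p.2 = 1 ∧ (p.1 * p.2) ^ 15 = 1} = 195 := by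
  decide +kernel

/-- order 2 means a nonidentity element of square 1 -/
theorem a5cnt_orderOf_two {B : Type*} [Group B] (x : B) : orderOf x = 2 ↔ (x ≠ 1 ∧ x * x = 1) := by
  constructor
  · intro hx
    constructor
    · intro h
      rw [h, orderOf_one] at hx
      omega
    · have := pow_orderOf_eq_one x
      rwa [hx, pow_two] at this
  · rintro ⟨h1, h2⟩
    exact orderOf_eq_prime (by rw [pow_two]; exact h2) h1

/-- PIECE A5CNT. -/
theorem a5_count {B : Type*} [Group B] (e : B ≃* alternatingGroup (Fin 5)) :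
    Nat.card {p : B × B // orderOf p.1 = 2 ∧ p.2 * p.2 = 1 ∧ (p.1 * p.2) ^ 15 = 1} = 195 := by
  rw [← a5cnt_model, ← Nat.card_eq_fintype_card]
  apply Nat.card_congr
  refine (Equiv.prodCongr e.toEquiv e.toEquiv).subtypeEquiv ?_
  intro p
  show (orderOf p.1 = 2 ∧ p.2 * p.2 = 1 ∧ (p.1 * p.2) ^ 15 = 1) ↔
    ((e p.1 ≠ 1 ∧ e p.1 * e p.1 = 1) ∧ e p.2 * e p.2 = 1 ∧ (e p.1 * e p.2) ^ 15 = 1)
  rw [a5cnt_orderOf_two, ← map_mul, ← map_mul, ← map_mul, ← map_pow]
  have h1 : ∀ y : B, e y = 1 ↔ y = 1 := fun y => by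
    rw [← map_one e]
    exact e.injective.eq_iff
  rw [h1, h1, h1]
  have h2 : e p.1 ≠ 1 ↔ p.1 ≠ 1 := not_congr (h1 _)
  rw [h2]

end Cfsg.Agent.Helper8.HJ
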