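import Mathlib
import Cfsg.Agent.Lib.Helper7.JCF6Count

/-!
# KS12 piece F6CORE (helper22, for helper23): `f6_core`

Derived from helper7's abstract additive core `Cfsg.Agent.Helper7.JCF6.f6_core`; the transfer
`f6core_count` is helper7's `f6_count` with the offender inequality as a hypothesis.
-/

set_option autoImplicit false

namespace Cfsg.Agent.Helper13.JCFF

open Cfsg
open Cfsg.Agent.Helper7.JCF6 (cjHom cjHom_val commGroupOf actOf fixD fixE commD mem_commD)

section F6Core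

universe u

variable {X : Type u} [Group X] [Finite X]

/-- the count of helper7 (`f6_count`) with the offender inequality as a hypothesis -/
theorem f6core_count {A A1 U W : Subgroup X} {d x : X} (hAe : IsElementaryAbelian 2 A)
    (hoffX : ∀ D : Subgroup X, D ≤ A →
      Nat.card (U ⊓ Subgroup.centralizer (D : Set X) : Subgroup X) * Nat.card D ≤
        Nat.card A * Nat.card (U ⊓ Subgroup.centralizer (A : Set X) : Subgroup X))
    (hU : IsElementaryAbelian 2 U) (hA1A : A1 ≤ A) (hidx : A1.relIndex A = 2) (hxA : x ∈ A)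
    (hAU : A ≤ Subgroup.normalizer (U : Set X))
    (hdU : d ∈ Subgroup.normalizer (U : Set X))
    (hd3 : ∀ u ∈ U, d * d * d * u = u * (d * d * d))
    (hA1d : ∀ a ∈ A1, ∀ u ∈ U, a * (d * u * d⁻¹) * a⁻¹ = d * (a * u * a⁻¹) * d⁻¹)
    (hxd : ∀ u ∈ U, x * (d * u * d⁻¹) * x⁻¹ = d⁻¹ * (x * u * x⁻¹) * d)
    (hWU : W ≤ U) (hW4 : Nat.card W = 4) (hWd : ∀ w ∈ W, ∃ u ∈ U, w = u * (d * u * d⁻¹))
    (hWA1 : ∀ a ∈ A1, ∀ w ∈ W, a * w = w * a) :
    ∀ u ∈ U, u * (d * u * d⁻¹) ∈ W := by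
  have hA1U : A1 ≤ Subgroup.normalizer (U : Set X) := hA1A.trans hAU
  have hxU : x ∈ Subgroup.normalizer (U : Set X) := hAU hxA
  have hnU : ∀ g ∈ Subgroup.normalizer (U : Set X), ∀ u ∈ U, g * u * g⁻¹ ∈ U :=
    fun g hg u hu => (Subgroup.mem_normalizer_iff.mp hg u).mp hu
  let icg : CommGroup ↥U := commGroupOf hU
  let iact := actOf hU hA1U
  let δ : Additive ↥U →+ Additive ↥U := MonoidHom.toAdditive (cjHom U d hdU)
  let ξ : Additive ↥U →+ Additive ↥U := MonoidHom.toAdditive (cjHom U x hxU)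
  have hδv : ∀ m : Additive ↥U,
      ((Additive.toMul (δ m) : ↥U) : X) = d * ((Additive.toMul m : ↥U) : X) * d⁻¹ := fun m => rfl
  have hξv : ∀ m : Additive ↥U,
      ((Additive.toMul (ξ m) : ↥U) : X) = x * ((Additive.toMul m : ↥U) : X) * x⁻¹ := fun m => rfl
  have hbv : ∀ (b : ↥A1) (m : Additive ↥U),
      ((Additive.toMul (b • m) : ↥U) : X) = b.1 * ((Additive.toMul m : ↥U) : X) * b.1⁻¹ :=
    fun b m => rfl
  have haddv : ∀ m n : Additive ↥U, ((Additive.toMul (m + n) : ↥U) : X) =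
      ((Additive.toMul m : ↥U) : X) * ((Additive.toMul n : ↥U) : X) := fun m n => rfl
  have hext : ∀ m n : Additive ↥U,
      ((Additive.toMul m : ↥U) : X) = ((Additive.toMul n : ↥U) : X) → m = n := by
    intro m n h
    have h1 : (Additive.toMul m : ↥U) = Additive.toMul n := Subtype.ext h
    exact h1
  have hmemU : ∀ m : Additive ↥U, ((Additive.toMul m : ↥U) : X) ∈ U := fun m => (Additive.toMul m).2
  have hx2 : x * x = 1 := by
    have := hAe.2 x hxA
    rwa [sq] at this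
  have hxinv : x⁻¹ = x := inv_eq_of_mul_eq_one_right hx2
  -- the hypotheses of the core
  have h2 : ∀ m : Additive ↥U, m + m = 0 := by
    intro m
    apply hext
    rw [haddv]
    have := hU.2 _ (hmemU m)
    rw [sq] at this
    exact this
  have hδ3 : ∀ m, δ (δ (δ m)) = m := by
    intro m
    apply hext
    rw [hδv, hδv, hδv]
    set u := ((Additive.toMul m : ↥U) : X) with hu
    calc d * (d * (d * u * d⁻¹) * d⁻¹) * d⁻¹ = (d * d * d * u) * (d⁻¹ * d⁻¹ * d⁻¹) := by group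
      _ = u * (d * d * d) * (d⁻¹ * d⁻¹ * d⁻¹) := by rw [hd3 u (hmemU m)]
      _ = u := by group
  have hξ2 : ∀ m, ξ (ξ m) = m := by
    intro m
    apply hext
    rw [hξv, hξv, hxinv]
    set u := ((Additive.toMul m : ↥U) : X) with hu
    calc x * (x * u * x) * x = (x * x) * u * (x * x) := by group
      _ = u := by rw [hx2, one_mul, mul_one]
  have hξδ : ∀ m, ξ (δ m) = δ (δ (ξ m)) := by
    intro m
    apply hext
    rw [hξv, hδv, hδv, hδv, hξv]
    set u := ((Additive.toMul m : ↥U) : X) with hu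
    have hv : x * u * x⁻¹ ∈ U := hnU x hxU u (hmemU m)
    rw [hxd u (hmemU m)]
    set v := x * u * x⁻¹ with hvdef
    calc d⁻¹ * v * d = d⁻¹ * (v * (d * d * d)) * (d⁻¹ * d⁻¹) := by group
      _ = d⁻¹ * (d * d * d * v) * (d⁻¹ * d⁻¹) := by rw [hd3 v hv]
      _ = d * (d * v * d⁻¹) * d⁻¹ := by group
  have hBδ : ∀ (b : ↥A1) (m : Additive ↥U), b • δ m = δ (b • m) := by
    intro b m
    apply hext
    rw [hbv, hδv, hδv, hbv]
    exact hA1d b.1 b.2 _ (hmemU m)
  have hBξ : ∀ (b : ↥A1) (m : Additive ↥U), b • ξ m = ξ (b • m) := by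
    intro b m
    apply hext
    rw [hbv, hξv, hξv, hbv]
    set u := ((Additive.toMul m : ↥U) : X) with hu
    have hbx : b.1 * x = x * b.1 :=
      Cfsg.Agent.Helper3.IsElementaryAbelian.commute hAe (hA1A b.2) hxA
    calc b.1 * (x * u * x⁻¹) * b.1⁻¹ = (b.1 * x) * u * (b.1 * x)⁻¹ := by group
      _ = (x * b.1) * u * (x * b.1)⁻¹ := by rw [hbx]
      _ = x * (b.1 * u * b.1⁻¹) * x⁻¹ := by group
  have hB : IsPGroup 2 ↥A1 := by
    intro b
    refine ⟨1, ?_⟩
    rw [pow_one]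
    apply Subtype.ext
    have := hAe.2 b.1 (hA1A b.2)
    simpa using this
  -- the four-group
  let W' : AddSubgroup (Additive ↥U) :=
    { carrier := {m | ((Additive.toMul m : ↥U) : X) ∈ W}
      zero_mem' := W.one_mem
      add_mem' := fun {a b} ha hb => W.mul_mem ha hb
      neg_mem' := fun {a} ha => W.inv_mem ha }
  have hW'mem : ∀ m : Additive ↥U, m ∈ W' ↔ ((Additive.toMul m : ↥U) : X) ∈ W := fun m => Iff.rfl
  have hW'4 : Nat.card W' = 4 := by
    rw [← hW4]
    apply Nat.card_congr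
    exact
      { toFun := fun m => ⟨((Additive.toMul m.1 : ↥U) : X), m.2⟩
        invFun := fun w => ⟨Additive.ofMul ⟨w.1, hWU w.2⟩, w.2⟩
        left_inv := fun m => rfl
        right_inv := fun w => rfl }
  have hWY : W' ≤ commD δ := by
    intro m hm
    obtain ⟨u, hu, hwu⟩ := hWd _ ((hW'mem m).mp hm)
    refine mem_commD.mpr ⟨Additive.ofMul ⟨u, hu⟩, ?_⟩
    apply hext
    rw [haddv, hδv, hwu]
    rfl
  have hWB : W' ≤ fixD (Additive ↥U) (⊤ : Subgroup ↥A1) := by
    intro m hm b _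
    apply hext
    rw [hbv]
    have := hWA1 b.1 b.2 _ ((hW'mem m).mp hm)
    rw [this, mul_inv_cancel_right]
  -- the offender inequality
  have hoff : ∀ D : Subgroup ↥A1, Nat.card (fixD (Additive ↥U) D) ≤
      2 * D.index * Nat.card (fixD (Additive ↥U) (⊤ : Subgroup ↥A1) ⊓ fixE ξ :
        AddSubgroup (Additive ↥U)) := by
    intro D
    set D' : Subgroup X := D.map A1.subtype with hD'
    have hD'A1 : D' ≤ A1 := Subgroup.map_subtype_le D
    have hD'A : D' ≤ A := hD'A1.trans hA1A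
    have hi : Nat.card (fixD (Additive ↥U) D) ≤
        Nat.card (U ⊓ Subgroup.centralizer (D' : Set X) : Subgroup X) := by
      have hf : ∀ m : fixD (Additive ↥U) D, ((Additive.toMul m.1 : ↥U) : X) ∈
          (U ⊓ Subgroup.centralizer (D' : Set X) : Subgroup X) := by
        intro m
        refine ⟨hmemU m.1, ?_⟩
        show _ ∈ Subgroup.centralizer (D' : Set X)
        rw [Subgroup.mem_centralizer_iff]
        rintro _ ⟨b, hb, rfl⟩
        have h1 : ((Additive.toMul (b • m.1) : ↥U) : X) = ((Additive.toMul m.1 : ↥U) : X) :=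
          congrArg (fun n : Additive ↥U => ((Additive.toMul n : ↥U) : X)) (m.2 b hb)
        rw [hbv] at h1
        show b.1 * ((Additive.toMul m.1 : ↥U) : X) = ((Additive.toMul m.1 : ↥U) : X) * b.1
        calc b.1 * ((Additive.toMul m.1 : ↥U) : X)
            = (b.1 * ((Additive.toMul m.1 : ↥U) : X) * b.1⁻¹) * b.1 := by group
          _ = ((Additive.toMul m.1 : ↥U) : X) * b.1 := by rw [h1]
      apply Nat.card_le_card_of_injective (fun m => (⟨_, hf m⟩ :
        (U ⊓ Subgroup.centralizer (D' : Set X) : Subgroup X)))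
      intro m n hmn
      apply Subtype.ext
      apply hext
      exact congrArg (fun q : (U ⊓ Subgroup.centralizer (D' : Set X) : Subgroup X) => (q : X)) hmn
    have hii : Nat.card (U ⊓ Subgroup.centralizer (A : Set X) : Subgroup X) ≤
        Nat.card (fixD (Additive ↥U) (⊤ : Subgroup ↥A1) ⊓ fixE ξ : AddSubgroup (Additive ↥U)) := by
      have hf : ∀ u : (U ⊓ Subgroup.centralizer (A : Set X) : Subgroup X),
          (Additive.ofMul (⟨u.1, u.2.1⟩ : ↥U) : Additive ↥U) ∈
            (fixD (Additive ↥U) (⊤ : Subgroup ↥A1) ⊓ fixE ξ : AddSubgroup (Additive ↥U)) := by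
        intro u
        have hc : ∀ a ∈ A, a * u.1 = u.1 * a := by
          have : u.1 ∈ Subgroup.centralizer (A : Set X) := u.2.2
          rw [Subgroup.mem_centralizer_iff] at this
          exact this
        constructor
        · intro b _
          apply hext
          rw [hbv]
          show b.1 * u.1 * b.1⁻¹ = u.1
          rw [hc b.1 (hA1A b.2), mul_inv_cancel_right]
        · show ξ _ = _
          apply hext
          rw [hξv]
          show x * u.1 * x⁻¹ = u.1
          rw [hc x hxA, mul_inv_cancel_right]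
      apply Nat.card_le_card_of_injective (fun u => (⟨_, hf u⟩ :
        (fixD (Additive ↥U) (⊤ : Subgroup ↥A1) ⊓ fixE ξ : AddSubgroup (Additive ↥U))))
      intro u v huv
      apply Subtype.ext
      have h1 := congrArg (fun n => ((Additive.toMul n.1 : ↥U) : X)) huv
      exact h1
    have hiii := hoffX D' hD'A
    have hcA : Nat.card A1 * 2 = Nat.card A := by
      rw [← hidx]
      exact Cfsg.Agent.Helper3.card_mul_relIndex_of_le hA1A
    have hcA1 : Nat.card D * D.index = Nat.card A1 := Subgroup.card_mul_index D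
    have hcD : Nat.card D' = Nat.card D :=
      Subgroup.card_map_of_injective (Subgroup.subtype_injective A1)
    have hDpos : 0 < Nat.card D := Nat.card_pos
    rw [hcD, ← hcA, ← hcA1] at hiii
    have h5 : Nat.card (U ⊓ Subgroup.centralizer (D' : Set X) : Subgroup X) * Nat.card D ≤
        (2 * D.index * Nat.card (U ⊓ Subgroup.centralizer (A : Set X) : Subgroup X)) *
          Nat.card D := by
      calc _ ≤ Nat.card D * D.index * 2 *
            Nat.card (U ⊓ Subgroup.centralizer (A : Set X) : Subgroup X) := hiii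
        _ = _ := by ring
    have h6 := Nat.le_of_mul_le_mul_right h5 hDpos
    calc Nat.card (fixD (Additive ↥U) D) ≤ _ := hi
      _ ≤ _ := h6
      _ ≤ _ := Nat.mul_le_mul_left _ hii
  have hmain := Cfsg.Agent.Helper7.JCF6.f6_core h2 δ ξ hδ3 hξ2 hξδ hB hBδ hBξ W' hW'4 hWY hWB hoff
  intro u hu
  have h1 : (Additive.ofMul (⟨u, hu⟩ : ↥U) : Additive ↥U) +
      δ (Additive.ofMul (⟨u, hu⟩ : ↥U)) ∈ commD δ := mem_commD.mpr ⟨_, rfl⟩
  rw [hmain] at h1
  exact (hW'mem _).mp h1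


omit [Finite X] in
/-- a nontrivial `d`-invariant subgroup of the four-group `W` (on which `d` acts without fixed
points) is `W` -/
theorem f6core_W2 (W F : Subgroup X) (d : X) (hW4 : Nat.card W = 4) (hFW : F ≤ W)
    (hFd : ∀ f ∈ F, d * f * d⁻¹ ∈ F) (hWfix : ∀ w ∈ W, d * w * d⁻¹ = w → w = 1)
    (v : X) (hv : v ∈ F) (hv1 : v ≠ 1) : F = W := by
  have : Finite W := Nat.finite_of_card_ne_zero (by rw [hW4]; norm_num)
  have : Finite F := Finite.of_injective _ (Subgroup.inclusion_injective hFW)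
  have hdvd : Nat.card F ∣ 4 := hW4 ▸ Subgroup.card_dvd_of_le hFW
  have h1 : Nat.card F ≠ 1 := by
    intro h
    have hb : F = ⊥ := Subgroup.card_eq_one.1 h
    rw [hb, Subgroup.mem_bot] at hv
    exact hv1 hv
  have hcv1 : d * v * d⁻¹ ≠ 1 := by
    intro h
    apply hv1
    have : v = d⁻¹ * (d * v * d⁻¹) * d := by group
    rw [this, h]
    group
  have h2 : Nat.card F ≠ 2 := by
    intro h
    obtain ⟨y, hy, huniq⟩ := (Nat.card_eq_two_iff' (1 : F)).1 h
    have e1 := huniq ⟨v, hv⟩ (fun h => hv1 (congrArg Subtype.val h))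
    have e2 := huniq ⟨d * v * d⁻¹, hFd v hv⟩ (fun h => hcv1 (congrArg Subtype.val h))
    have e3 : d * v * d⁻¹ = v := congrArg Subtype.val (e2.trans e1.symm)
    exact hv1 (hWfix v (hFW hv) e3)
  have h4 : Nat.card F = 4 := by
    have hle : Nat.card F ≤ 4 := Nat.le_of_dvd (by norm_num) hdvd
    have hpos : 0 < Nat.card F := Nat.card_pos
    interval_cases hc : Nat.card F
    · exact absurd rfl h1
    · exact absurd rfl h2
    · norm_num at hdvd
    · rfl
  exact Subgroup.eq_of_le_of_card_ge hFW (by rw [h4, hW4])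

/-- **KS12 piece F6CORE.** -/
theorem f6_core {X : Type*} [Group X] [Finite X] (U A A1 W : Subgroup X) (d x : X)
    (hUc : ∀ u ∈ U, ∀ v ∈ U, u * v = v * u) (hU2 : ∀ u ∈ U, u * u = 1)
    (hAc : ∀ a ∈ A, ∀ b ∈ A, a * b = b * a) (hA2 : ∀ a ∈ A, a * a = 1)
    (hAU : ∀ a ∈ A, ∀ u ∈ U, a * u * a⁻¹ ∈ U)
    (hdU : ∀ u ∈ U, d * u * d⁻¹ ∈ U) (hd3 : d ^ 3 = 1)
    (hA1 : A1 ≤ A) (hxA : x ∈ A) (hx1 : x ∉ A1) (hidx : ∀ a ∈ A, a ∉ A1 → a * x ∈ A1)
    (hcomm : ∀ a ∈ A1, ∀ u ∈ U, a * (d * u * d⁻¹) * a⁻¹ = d * (a * u * a⁻¹) * d⁻¹)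
    (hinv : ∀ u ∈ U, x * (d * u * d⁻¹) * x⁻¹ = d⁻¹ * (x * u * x⁻¹) * d)
    (hoff : ∀ D : Subgroup X, D ≤ A →
      Nat.card D * Nat.card (U ⊓ Subgroup.centralizer (D : Set X) : Subgroup X) ≤
        Nat.card A * Nat.card (U ⊓ Subgroup.centralizer (A : Set X) : Subgroup X))
    (hWU : W ≤ U) (hW4 : Nat.card W = 4)
    (hWd : ∀ w ∈ W, d * w * d⁻¹ ∈ W) (hWfix : ∀ w ∈ W, d * w * d⁻¹ = w → w = 1)
    (hWA : ∀ a ∈ A, ∀ w ∈ W, a * w * a⁻¹ ∈ W) :
    ∀ u ∈ U, u * (d * u * d⁻¹) * (d ^ 2 * u * (d ^ 2)⁻¹) = 1 → u ∈ W := by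
  -- elementary abelian
  have hUe : IsElementaryAbelian 2 U :=
    ⟨⟨⟨fun a b => Subtype.ext (hUc a a.2 b b.2)⟩⟩, fun a ha => by rw [sq]; exact hU2 a ha⟩
  have hAe : IsElementaryAbelian 2 A :=
    ⟨⟨⟨fun a b => Subtype.ext (hAc a a.2 b b.2)⟩⟩, fun a ha => by rw [sq]; exact hA2 a ha⟩
  -- conjugation algebra
  have hd3' : d * d * d = 1 := by
    have := hd3
    rwa [pow_succ, pow_succ, pow_one] at this
  have hc3 : ∀ u : X, d * (d * (d * u * d⁻¹) * d⁻¹) * d⁻¹ = u := by
    intro u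
    calc d * (d * (d * u * d⁻¹) * d⁻¹) * d⁻¹ = (d * d * d) * u * (d * d * d)⁻¹ := by group
      _ = u := by rw [hd3']; group
  have hsq : ∀ u : X, d ^ 2 * u * (d ^ 2)⁻¹ = d * (d * u * d⁻¹) * d⁻¹ := by
    intro u; rw [pow_two]; group
  have hcm : ∀ a b : X, d * (a * b) * d⁻¹ = (d * a * d⁻¹) * (d * b * d⁻¹) := by
    intro a b; group
  have hinvU : ∀ u ∈ U, u⁻¹ = u := fun u hu => inv_eq_of_mul_eq_one_right (hU2 u hu)
  have hinvA : ∀ a ∈ A, a⁻¹ = a := fun a ha => inv_eq_of_mul_eq_one_right (hA2 a ha)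
  -- normalizers
  have hdN : d ∈ Subgroup.normalizer (U : Set X) := by
    rw [Subgroup.mem_normalizer_iff]
    intro h
    refine ⟨hdU h, fun hh => ?_⟩
    have := hdU _ (hdU _ hh)
    rwa [hc3] at this
  have hAN : A ≤ Subgroup.normalizer (U : Set X) := by
    intro a ha
    rw [Subgroup.mem_normalizer_iff]
    intro h
    refine ⟨hAU a ha h, fun hh => ?_⟩
    have h1 := hAU a ha _ hh
    have h2 : a * (a * h * a⁻¹) * a⁻¹ = h := by
      calc a * (a * h * a⁻¹) * a⁻¹ = (a * a) * h * (a * a)⁻¹ := by group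
        _ = h := by rw [hA2 a ha]; group
    rwa [h2] at h1
  -- the index
  have hidx2 : A1.relIndex A = 2 := by
    rw [Subgroup.relIndex, Subgroup.index_eq_two_iff]
    refine ⟨⟨x, hxA⟩, fun b => ?_⟩
    by_cases hb : (b : X) ∈ A1
    · refine Or.inr ⟨Subgroup.mem_subgroupOf.2 hb, fun hbx => ?_⟩
      have hbx' : (b : X) * x ∈ A1 := Subgroup.mem_subgroupOf.1 hbx
      exact hx1 ((Subgroup.mul_mem_cancel_left A1 hb).1 hbx')
    · refine Or.inl ⟨Subgroup.mem_subgroupOf.2 (hidx b b.2 hb), fun hb' => ?_⟩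
      exact hb (Subgroup.mem_subgroupOf.1 hb')
  -- (e): `W` is killed by `1 + d + d²`
  have hWtau : ∀ w ∈ W, w * (d * w * d⁻¹) * (d * (d * w * d⁻¹) * d⁻¹) = 1 := by
    intro w hw
    have h1 := hWd w hw
    have h2 := hWd _ h1
    apply hWfix _ (W.mul_mem (W.mul_mem hw h1) h2)
    rw [hcm, hcm, hc3]
    have := hUc w (hWU hw) _ (U.mul_mem (hWU h1) (hWU h2))
    rw [← this]
    group
  have hWd' : ∀ w ∈ W, ∃ u ∈ U, w = u * (d * u * d⁻¹) := by
    intro w hw
    refine ⟨d * w * d⁻¹, hdU w (hWU hw), ?_⟩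
    have h1 := hWtau w hw
    rw [mul_assoc] at h1
    have h2 := eq_inv_of_mul_eq_one_right h1
    rw [h2]
    exact (hinvU w (hWU hw)).symm
  -- (f): `A1` centralizes `W`
  have hWA1 : ∀ a ∈ A1, ∀ w ∈ W, a * w = w * a := by
    intro a ha w hw
    by_contra hne
    set v := w * (a * w * a⁻¹) with hv
    have haw : a * w * a⁻¹ ∈ W := hWA a (hA1 ha) w hw
    have hvW : v ∈ W := W.mul_mem hw haw
    have hv1 : v ≠ 1 := by
      intro h
      have h2 := eq_inv_of_mul_eq_one_right h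
      rw [hinvU w (hWU hw)] at h2
      apply hne
      calc a * w = a * w * a⁻¹ * a := by group
        _ = w * a := by rw [h2]
    have haa : a * (a * w * a⁻¹) * a⁻¹ = w := by
      calc a * (a * w * a⁻¹) * a⁻¹ = (a * a) * w * (a * a)⁻¹ := by group
        _ = w := by rw [hA2 a (hA1 ha)]; group
    have hva : a * v = v * a := by
      have h3 : a * v * a⁻¹ = v := by
        rw [hv]
        calc a * (w * (a * w * a⁻¹)) * a⁻¹ = (a * w * a⁻¹) * (a * (a * w * a⁻¹) * a⁻¹) := by group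
          _ = (a * w * a⁻¹) * w := by rw [haa]
          _ = w * (a * w * a⁻¹) := hUc _ (hWU haw) _ (hWU hw)
      calc a * v = a * v * a⁻¹ * a := by group
        _ = v * a := by rw [h3]
    set F : Subgroup X := W ⊓ Subgroup.centralizer ({a} : Set X) with hF
    have hmemF : ∀ f, f ∈ F ↔ f ∈ W ∧ a * f = f * a := by
      intro f
      rw [hF, Subgroup.mem_inf, Subgroup.mem_centralizer_iff]
      constructor
      · rintro ⟨h1, h2⟩
        exact ⟨h1, h2 a rfl⟩
      · rintro ⟨h1, h2⟩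
        refine ⟨h1, fun h hh => ?_⟩
        rw [Set.mem_singleton_iff] at hh
        rw [hh]; exact h2
    have hFd : ∀ f ∈ F, d * f * d⁻¹ ∈ F := by
      intro f hf
      obtain ⟨hfW, hfa⟩ := (hmemF f).1 hf
      refine (hmemF _).2 ⟨hWd f hfW, ?_⟩
      have h4 : a * f * a⁻¹ = f := by rw [hfa]; group
      have h5 := hcomm a ha f (hWU hfW)
      rw [h4] at h5
      calc a * (d * f * d⁻¹) = a * (d * f * d⁻¹) * a⁻¹ * a := by group
        _ = (d * f * d⁻¹) * a := by rw [h5]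
    have hFW : F = W := f6core_W2 W F d hW4 inf_le_left hFd hWfix v ((hmemF v).2 ⟨hvW, hva⟩) hv1
    have : w ∈ F := hFW ▸ hw
    exact hne ((hmemF w).1 this).2
  -- the count
  have hcount := f6core_count (A := A) (A1 := A1) (U := U) (W := W) (d := d) (x := x) hAe
    (fun D hD => by rw [mul_comm]; exact hoff D hD) hUe hA1 hidx2 hxA hAN hdN
    (fun u _ => by
      rw [hd3', one_mul, mul_one]) hcomm hinv hWU hW4 hWd' hWA1
  -- conclusion
  intro u hu htau
  rw [hsq] at htau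
  have h1 := hcount (d * u * d⁻¹) (hdU u hu)
  rw [mul_assoc] at htau
  have h2 := eq_inv_of_mul_eq_one_right htau
  rw [h2, hinvU u hu] at h1
  exact h1

end F6Core

end Cfsg.Agent.Helper13.JCFF
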