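import Mathlib
import Cfsg.Agent.Lib.Helper18.LevDefs
import Cfsg.Agent.Lib.Helper22.LEVSTEP3Pre
import Cfsg.Agent.Lib.Helper18.LEVBAD3

/-!
# S2522 (Lev) PIECE LEV-STEP3: `step_three` (exact skeleton signature)
-/

set_option autoImplicit false
set_option linter.unusedSectionVars false
set_option linter.unusedVariables false

namespace Cfsg.Agent.Helper18.Lev

open Module

universe u v

section pieces
variable {K : Type u} [Field K] {V : Type v} [AddCommGroup V] [Module K V]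

/-- PIECE LEV-STEP3. -/
theorem step_three (hK : 4 ≤ Cardinal.mk K) [FiniteDimensional K V] (h3 : finrank K V = 3)
    (g : V →ₗ[K] V) (hdet : LinearMap.det g = 1) (hH : HH g)
    (x0 : V) (hx0 : x0 ≠ 0) (y0 : V →ₗ[K] K) (hy0 : y0 ≠ 0) :
    ∃ (e : V) (φ : V →ₗ[K] K), φ e = 1 ∧ φ (g e) = 1 ∧ φ x0 ≠ 0 ∧ y0 e ≠ 0 ∧
      childX g e φ ≠ 0 ∧ childY g φ ≠ 0 ∧ HH (child g e φ) :=
  step3_of_bad3 hK h3 g hdet hH x0 hx0 y0 hy0
    (fun e hind hI φ φ' he hge he' hge' hbad hbad' =>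
      child_bad_unique3 h3 g hdet e hind hH.2 hI φ φ' he hge he' hge' hbad hbad')

end pieces

end Cfsg.Agent.Helper18.Lev
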