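import Mathlib
import Cfsg.Prelude.Def_OddOrderLocal
import Cfsg.Prelude.Def_CaseTheorems
import Cfsg.Agent.Lib.Helper22.SecRank
import Cfsg.Agent.Lib.Helper8.PGroup

/-!
# 2-groups of sectional rank at most two are metacyclic (Blackburn)

Shared library of helper22.  Everything lives in `Cfsg.Agent.Helper22.MetaTwo`.
-/

set_option autoImplicit false

namespace Cfsg.Agent.Helper22.MetaTwo

open Subgroup
open scoped commutatorElement

universe u

/-- the rank condition, phrased with pairs of subgroups -/
def R2 (R : Type*) [Group R] : Prop :=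
  ∀ K M : Subgroup R, M ≤ K → K ≤ normalizer (M : Set R) → (∀ k ∈ K, k ^ 2 ∈ M) →
    Nat.card K ≤ 4 * Nat.card M

theorem r2_of_sectional {S : Type*} [Group S] [Finite S] (hr : Cfsg.SectionalPRankLE 2 2 S) :
    R2 S := by
  intro K M hMK hn hsq
  have h := Cfsg.Agent.Helper22.SecRank.card_le_of_sq hr K M hMK hn hsq
  norm_num at h
  exact h

theorem card_comap_mk {R : Type*} [Group R] [Finite R] (Z : Subgroup R) [Z.Normal]
    (Kb : Subgroup (R ⧸ Z)) :
    Nat.card (Kb.comap (QuotientGroup.mk' Z)) = Nat.card Kb * Nat.card Z := by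
  have h1 : (Kb.comap (QuotientGroup.mk' Z)).index = Kb.index :=
    Subgroup.index_comap_of_surjective Kb (QuotientGroup.mk'_surjective Z)
  have h2 := Subgroup.card_mul_index (Kb.comap (QuotientGroup.mk' Z))
  have h3 := Subgroup.card_mul_index Kb
  have h4 := Subgroup.card_eq_card_quotient_mul_card_subgroup Z
  rw [h1] at h2
  have hpos : 0 < Kb.index := Nat.pos_of_ne_zero Subgroup.index_ne_zero_of_finite
  apply Nat.eq_of_mul_eq_mul_right hpos
  rw [h2, h4, ← h3]
  ring

theorem R2.quotient {R : Type*} [Group R] [Finite R] (h : R2 R) (Z : Subgroup R) [Z.Normal] :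
    R2 (R ⧸ Z) := by
  intro Kb Mb hMK hn hsq
  have h1 : Mb.comap (QuotientGroup.mk' Z) ≤ Kb.comap (QuotientGroup.mk' Z) :=
    Subgroup.comap_mono hMK
  have h2 : Kb.comap (QuotientGroup.mk' Z) ≤
      normalizer ((Mb.comap (QuotientGroup.mk' Z) : Subgroup R) : Set R) := by
    intro k hk
    rw [Subgroup.mem_normalizer_iff]
    intro m
    rw [Subgroup.mem_comap, Subgroup.mem_comap, map_mul, map_mul, map_inv]
    exact (Subgroup.mem_normalizer_iff.mp (hn hk)) _
  have h3 : ∀ k ∈ Kb.comap (QuotientGroup.mk' Z), k ^ 2 ∈ Mb.comap (QuotientGroup.mk' Z) := by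
    intro k hk
    rw [Subgroup.mem_comap, map_pow]
    exact hsq _ hk
  have h4 := h _ _ h1 h2 h3
  rw [card_comap_mk, card_comap_mk] at h4
  have hZpos : 0 < Nat.card Z := Nat.card_pos
  have h5 : Nat.card Kb * Nat.card Z ≤ (4 * Nat.card Mb) * Nat.card Z := by
    calc Nat.card Kb * Nat.card Z ≤ 4 * (Nat.card Mb * Nat.card Z) := h4
      _ = (4 * Nat.card Mb) * Nat.card Z := by ring
  exact Nat.le_of_mul_le_mul_right h5 hZpos

section Inv

variable {R : Type*} [Group R]

/-- the subgroup of central elements of order at most two -/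
def cenInv (R : Type*) [Group R] : Subgroup R where
  carrier := {g | g ∈ center R ∧ g ^ 2 = 1}
  one_mem' := ⟨one_mem _, one_pow 2⟩
  mul_mem' := by
    rintro a b ⟨ha, ha2⟩ ⟨hb, hb2⟩
    refine ⟨mul_mem ha hb, ?_⟩
    have hc : Commute a b := (Subgroup.mem_center_iff.mp ha b).symm
    rw [hc.mul_pow, ha2, hb2, one_mul]
  inv_mem' := by
    rintro a ⟨ha, ha2⟩
    exact ⟨inv_mem ha, by rw [inv_pow, ha2, inv_one]⟩

theorem mem_cenInv {g : R} : g ∈ cenInv R ↔ g ∈ center R ∧ g ^ 2 = 1 := Iff.rfl

theorem cenInv_normal : (cenInv R).Normal := by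
  constructor
  intro n hn g
  have h1 := Subgroup.mem_center_iff.mp hn.1 g
  have h2 : g * n * g⁻¹ = n := by rw [h1, mul_inv_cancel_right]
  rw [h2]
  exact hn

variable [Finite R]

/-- under the rank condition an involution lies in any four-group of central involutions -/
theorem mem_of_sq_eq_one (h : R2 R) {u z w : R} (hu : u ∈ center R) (hz : z ∈ center R)
    (hu2 : u ^ 2 = 1) (hz2 : z ^ 2 = 1) (hu1 : u ≠ 1) (hz1 : z ≠ 1) (huz : u ≠ z)
    (hw : w ^ 2 = 1) : w = 1 ∨ w = u ∨ w = z ∨ w = u * z := by
  classical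
  haveI := cenInv_normal (R := R)
  set E : Subgroup R := cenInv R ⊔ zpowers w with hE
  have hexp : ∀ g ∈ E, g ^ 2 ∈ (⊥ : Subgroup R) := by
    intro g hg
    rw [hE, Subgroup.mem_sup_of_normal_left] at hg
    obtain ⟨y, hy, t, ht, rfl⟩ := hg
    obtain ⟨i, rfl⟩ := Subgroup.mem_zpowers_iff.mp ht
    have hc : Commute y (w ^ i) := (Subgroup.mem_center_iff.mp hy.1 (w ^ i)).symm
    rw [Subgroup.mem_bot, hc.mul_pow, hy.2, one_mul, ← zpow_natCast, ← zpow_mul, mul_comm,
      zpow_mul, zpow_natCast, hw, one_zpow]
  have hcard := h E ⊥ bot_le (by rw [Subgroup.normalizer_eq_top]; exact le_top) hexp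
  rw [Subgroup.card_bot, mul_one] at hcard
  by_contra hcon
  push Not at hcon
  obtain ⟨hw1, hwu, hwz, hwuz⟩ := hcon
  have huE : u ∈ E := (le_sup_left : cenInv R ≤ E) ⟨hu, hu2⟩
  have hzE : z ∈ E := (le_sup_left : cenInv R ≤ E) ⟨hz, hz2⟩
  have hwE : w ∈ E := (le_sup_right : zpowers w ≤ E) (mem_zpowers w)
  let s : Finset R := {1, u, z, u * z, w}
  have hs : (s : Set R) ⊆ (E : Set R) := by
    intro g hg
    simp only [s, Finset.coe_insert, Finset.coe_singleton, Set.mem_insert_iff,
      Set.mem_singleton_iff] at hg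
    rcases hg with rfl | rfl | rfl | rfl | rfl
    · exact one_mem _
    · exact huE
    · exact hzE
    · exact mul_mem huE hzE
    · exact hwE
  have hscard : s.card = 5 := by
    have huz1 : u * z ≠ 1 := by
      intro h1
      apply huz
      have : u = z⁻¹ := eq_inv_of_mul_eq_one_left h1
      rw [this]
      exact inv_eq_of_mul_eq_one_right (by rw [← pow_two]; exact hz2)
    have huzu : u * z ≠ u := by
      intro h1
      exact hz1 (by simpa using h1)
    have huzz : u * z ≠ z := by
      intro h1
      exact hu1 (by simpa using h1)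
    simp only [s]
    rw [Finset.card_insert_of_notMem, Finset.card_insert_of_notMem, Finset.card_insert_of_notMem,
      Finset.card_insert_of_notMem, Finset.card_singleton]
    · simp only [Finset.mem_singleton]; exact hwuz.symm
    · simp only [Finset.mem_insert, Finset.mem_singleton, not_or]
      exact ⟨huzz.symm, hwz.symm⟩
    · simp only [Finset.mem_insert, Finset.mem_singleton, not_or]
      exact ⟨huz, huzu.symm, hwu.symm⟩
    · simp only [Finset.mem_insert, Finset.mem_singleton, not_or]
      exact ⟨hu1.symm, hz1.symm, huz1.symm, hw1.symm⟩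
  have h5 : 5 ≤ Nat.card E := by
    have h6 : (s : Set R).ncard ≤ (E : Set R).ncard := Set.ncard_le_ncard hs (Set.toFinite _)
    rw [Set.ncard_coe_finset, hscard] at h6
    rw [← Nat.card_coe_set_eq] at h6
    exact h6
  omega

end Inv

section Gen

variable {R : Type*} [Group R]

/-- two commuting generators make the group commutative -/
theorem comm_of_two_gen {a b : R} (hab : closure {a, b} = ⊤) (h : a * b = b * a) :
    ∀ g k : R, g * k = k * g := by
  have h1 : closure {a, b} ≤ centralizer {a, b} := by
    rw [closure_le]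
    intro u hu
    rw [SetLike.mem_coe, Subgroup.mem_centralizer_iff]
    intro v hv
    rcases hu with rfl | hu <;> rcases hv with rfl | hv
    · rfl
    · rw [Set.mem_singleton_iff] at hv; subst hv; exact h.symm
    · rw [Set.mem_singleton_iff] at hu; subst hu; exact h
    · rw [Set.mem_singleton_iff] at hu hv; subst hu; subst hv; rfl
  have hcent : ∀ g : R, g ∈ centralizer {a, b} := fun g => h1 (by rw [hab]; exact mem_top g)
  have h2 : closure {a, b} ≤ center R := by
    rw [closure_le]
    intro u hu
    rw [SetLike.mem_coe, Subgroup.mem_center_iff]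
    intro g
    exact (Subgroup.mem_centralizer_iff.mp (hcent g) u hu).symm
  intro g k
  have h3 : k ∈ center R := h2 (by rw [hab]; exact mem_top k)
  exact Subgroup.mem_center_iff.mp h3 g

/-- transfer of generation -/
theorem closure_pair_eq_top {a b x y : R} (hab : closure {a, b} = ⊤)
    (ha : a ∈ closure {x, y}) (hb : b ∈ closure {x, y}) : closure {x, y} = ⊤ := by
  rw [eq_top_iff, ← hab, closure_le]
  intro g hg
  rcases hg with rfl | hg
  · exact ha
  · rw [Set.mem_singleton_iff] at hg; subst hg; exact hb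

theorem pow_eq_one_or_eq {z : R} (hz2 : z ^ 2 = 1) (j : ℕ) : z ^ j = 1 ∨ z ^ j = z := by
  rcases Nat.even_or_odd' j with ⟨i, rfl | rfl⟩
  · left; rw [pow_mul, hz2, one_pow]
  · right; rw [pow_succ, pow_mul, hz2, one_pow, one_mul]

variable [Finite R]

/-- the case of a derived subgroup of order two: some generating pair `x, y` has `z ∈ ⟨x⟩` -/
theorem exists_gen_of_card_two (hR : IsPGroup 2 R) (h2 : R2 R)
    (z : R) (hzc : z ∈ center R) (hz2 : z ^ 2 = 1) (hz1 : z ≠ 1)
    (hD : ∀ a b : R, ⁅a, b⁆ = 1 ∨ ⁅a, b⁆ = z) (hna : ∃ a b : R, a * b ≠ b * a) :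
    ∀ (s : ℕ) (a b : R), closure {a, b} = ⊤ → orderOf a + orderOf b = s →
      ∃ x y : R, closure {x, y} = ⊤ ∧ z ∈ zpowers x := by
  intro s
  induction s using Nat.strong_induction_on with
  | _ s ih =>
    intro a b hab hs
    wlog hle : orderOf b ≤ orderOf a generalizing a b
    · exact this b a (by rw [Set.pair_comm]; exact hab) (by omega) (by omega)
    by_cases hza : z ∈ zpowers a
    · exact ⟨a, b, hab, hza⟩
    by_cases hzb : z ∈ zpowers b
    · exact ⟨b, a, by rw [Set.pair_comm]; exact hab, hzb⟩
    have hzc' : ∀ g : R, g * z = z * g := fun g => Subgroup.mem_center_iff.mp hzc g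
    have hcen : ∀ g k : R, ⁅g, k⁆ ∈ center R := by
      intro g k
      rcases hD g k with h | h
      · rw [h]; exact one_mem _
      · rw [h]; exact hzc
    have hcsq : ∀ g k : R, ⁅g, k⁆ ^ 2 = 1 := by
      intro g k
      rcases hD g k with h | h
      · rw [h, one_pow]
      · rw [h, hz2]
    have hsqc : ∀ g : R, g ^ 2 ∈ center R := by
      intro g
      rw [Subgroup.mem_center_iff]
      intro k
      have h1 := Cfsg.Agent.Helper22.commutator_pow_left_of_central k g (hcen g k) 2
      rw [hcsq, commutatorElement_eq_one_iff_mul_comm] at h1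
      exact h1.symm
    have hab_ne : b * a ≠ a * b := by
      intro h
      obtain ⟨g, k, hgk⟩ := hna
      exact hgk (comm_of_two_gen hab h.symm g k)
    have hba : ⁅b, a⁆ = z := by
      rcases hD b a with h | h
      · exact absurd (commutatorElement_eq_one_iff_mul_comm.mp h) hab_ne
      · exact h
    have hrel : b * a = z * a * b := by
      rw [← hba]; exact Cfsg.Agent.Helper22.mul_eq_commutator_mul a b
    obtain ⟨k, hk⟩ := (IsPGroup.iff_orderOf.mp hR) a
    obtain ⟨l, hl⟩ := (IsPGroup.iff_orderOf.mp hR) b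
    have hb1 : b ≠ 1 := by
      rintro rfl
      exact hab_ne (by rw [one_mul, mul_one])
    have hl1 : 1 ≤ l := by
      by_contra hcon
      have : l = 0 := by omega
      rw [this, pow_zero, orderOf_eq_one_iff] at hl
      exact hb1 hl
    have hlk : l ≤ k := by
      rw [hk, hl] at hle
      exact (Nat.pow_le_pow_iff_right (by norm_num : 1 < 2)).mp hle
    have hapow : a ^ (2 ^ k) = 1 := by rw [← hk]; exact pow_orderOf_eq_one a
    have hbpow : b ^ (2 ^ l) = 1 := by rw [← hl]; exact pow_orderOf_eq_one b
    by_cases hk1 : k = 1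
    · -- both generators are involutions
      have hl' : l = 1 := by omega
      rw [hk1] at hapow
      rw [hl'] at hbpow
      have hpow := Cfsg.Agent.Helper22.mul_pow_eq_of_central a b z hzc' hrel 2
      rw [pow_one] at hapow hbpow
      rw [hapow, hbpow, Nat.choose_self, pow_one, mul_one, mul_one] at hpow
      refine ⟨a * b, b, closure_pair_eq_top hab ?_ ?_, ?_⟩
      · have h1 : (a * b) * b⁻¹ ∈ closure {a * b, b} :=
          mul_mem (subset_closure (Set.mem_insert _ _))
            (inv_mem (subset_closure (Set.mem_insert_of_mem _ rfl)))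
        rwa [mul_inv_cancel_right] at h1
      · exact subset_closure (Set.mem_insert_of_mem _ rfl)
      · rw [← hpow]
        exact Subgroup.pow_mem _ (mem_zpowers _) 2
    · have hk2 : 2 ≤ k := by omega
      -- the involutions of ⟨a⟩ and ⟨b⟩
      have hu2 : (a ^ (2 ^ (k - 1))) ^ 2 = 1 := by
        rw [← pow_mul, ← pow_succ, Nat.sub_add_cancel (by omega : 1 ≤ k)]
        exact hapow
      have hu1 : a ^ (2 ^ (k - 1)) ≠ 1 := by
        apply pow_ne_one_of_lt_orderOf (pow_ne_zero _ (by norm_num))
        rw [hk]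
        exact Nat.pow_lt_pow_right (by norm_num) (by omega)
      have hucen : a ^ (2 ^ (k - 1)) ∈ center R := by
        have h1 : a ^ (2 ^ (k - 1)) = (a ^ (2 ^ (k - 2))) ^ 2 := by
          rw [← pow_mul, ← pow_succ]
          congr 2
          omega
        rw [h1]
        exact hsqc _
      have huz : a ^ (2 ^ (k - 1)) ≠ z := by
        intro h
        apply hza
        rw [← h]
        exact Subgroup.pow_mem _ (mem_zpowers a) _
      have hv2 : (b ^ (2 ^ (l - 1))) ^ 2 = 1 := by
        rw [← pow_mul, ← pow_succ, Nat.sub_add_cancel hl1]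
        exact hbpow
      have hv1 : b ^ (2 ^ (l - 1)) ≠ 1 := by
        apply pow_ne_one_of_lt_orderOf (pow_ne_zero _ (by norm_num))
        rw [hl]
        exact Nat.pow_lt_pow_right (by norm_num) (by omega)
      have hvz : b ^ (2 ^ (l - 1)) ≠ z := by
        intro h
        apply hzb
        rw [← h]
        exact Subgroup.pow_mem _ (mem_zpowers b) _
      set u : R := a ^ (2 ^ (k - 1)) with hu
      set v : R := b ^ (2 ^ (l - 1)) with hv
      have hvcase : v = u ∨ v = u * z := by
        rcases mem_of_sq_eq_one h2 hucen hzc hu2 hz2 hu1 hz1 huz hv2 with h | h | h | h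
        · exact absurd h hv1
        · exact Or.inl h
        · exact absurd h hvz
        · exact Or.inr h
      have huv : u * v = 1 ∨ u * v = z := by
        rcases hvcase with h | h
        · left; rw [h, ← pow_two, hu2]
        · right; rw [h, ← mul_assoc, ← pow_two, hu2, one_mul]
      -- the modified generator
      set m : ℕ := 2 ^ k - 2 ^ (k - l) with hm
      set n : ℕ := 2 ^ (l - 1) with hn
      have hrel' : b * a ^ m = z ^ m * a ^ m * b :=
        Cfsg.Agent.Helper22.mul_pow_of_central a b z hzc' hrel m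
      have hzm : ∀ g : R, g * z ^ m = z ^ m * g := by
        intro g
        have : Commute g z := hzc' g
        exact this.pow_right m
      have hpow := Cfsg.Agent.Helper22.mul_pow_eq_of_central (a ^ m) b (z ^ m) hzm hrel' n
      have hamn : (a ^ m) ^ n = u := by
        have h1 : m * n + 2 ^ (k - 1) = 2 ^ k * 2 ^ (l - 1) := by
          have h2 : 2 ^ (k - l) * 2 ^ (l - 1) = 2 ^ (k - 1) := by
            rw [← pow_add]; congr 1; omega
          have h3 : 2 ^ (k - l) ≤ 2 ^ k := Nat.pow_le_pow_right (by norm_num) (by omega)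
          rw [hm, hn, Nat.sub_mul, h2]
          have h4 : 2 ^ (k - 1) ≤ 2 ^ k * 2 ^ (l - 1) := by
            calc 2 ^ (k - 1) = 2 ^ (k - l) * 2 ^ (l - 1) := h2.symm
              _ ≤ 2 ^ k * 2 ^ (l - 1) := Nat.mul_le_mul_right _ h3
          omega
        have h5 : (a ^ m) ^ n * u = 1 := by
          rw [hu, ← pow_mul, ← pow_add, h1, pow_mul, hapow, one_pow]
        have h6 : u * u = 1 := by rw [← pow_two]; exact hu2
        calc (a ^ m) ^ n = (a ^ m) ^ n * (u * u) := by rw [h6, mul_one]
          _ = ((a ^ m) ^ n * u) * u := by rw [mul_assoc]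
          _ = u := by rw [h5, one_mul]
      rw [hamn] at hpow
      have hε : (z ^ m) ^ (n.choose 2) = 1 ∨ (z ^ m) ^ (n.choose 2) = z := by
        rw [← pow_mul]; exact pow_eq_one_or_eq hz2 _
      have hzz : z * z = 1 := by rw [← pow_two]; exact hz2
      have hres : (a ^ m * b) ^ n = 1 ∨ (a ^ m * b) ^ n = z := by
        rw [hpow, mul_assoc]
        rcases hε with h | h <;> rcases huv with h' | h' <;> rw [h, h']
        · left; rw [mul_one]
        · right; rw [one_mul]
        · right; rw [mul_one]
        · left; exact hzz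
      have hgen' : closure {a, a ^ m * b} = ⊤ := by
        apply closure_pair_eq_top hab
        · exact subset_closure (Set.mem_insert _ _)
        · have h1 : (a ^ m)⁻¹ * (a ^ m * b) ∈ closure {a, a ^ m * b} :=
            mul_mem (inv_mem (Subgroup.pow_mem _ (subset_closure (Set.mem_insert _ _)) m))
              (subset_closure (Set.mem_insert_of_mem _ rfl))
          rwa [inv_mul_cancel_left] at h1
      rcases hres with h | h
      · -- the order drops
        have h1 : orderOf (a ^ m * b) ∣ n := orderOf_dvd_of_pow_eq_one h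
        have h2 : orderOf (a ^ m * b) ≤ n := Nat.le_of_dvd (pow_pos (by norm_num) _) h1
        have h3 : n < orderOf b := by
          rw [hl, hn]
          exact Nat.pow_lt_pow_right (by norm_num) (by omega)
        exact ih (orderOf a + orderOf (a ^ m * b)) (by omega) a (a ^ m * b) hgen' rfl
      · refine ⟨a ^ m * b, a, by rw [Set.pair_comm]; exact hgen', ?_⟩
        rw [← h]
        exact Subgroup.pow_mem _ (mem_zpowers _) n

end Gen

section Main

/-- a generator of a two-generated non-cyclic group is not in the Frattini subgroup -/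
theorem not_mem_frattini_of_gen {R : Type*} [Group R] [Finite R] (hnc : ¬ IsCyclic R) {x y : R}
    (hxy : closure {x, y} = ⊤) : x ∉ frattini R := by
  intro hx
  apply hnc
  have h1 : zpowers y ⊔ frattini R = ⊤ := by
    rw [eq_top_iff, ← hxy, closure_le]
    intro g hg
    rcases hg with rfl | hg
    · exact (le_sup_right : frattini R ≤ _) hx
    · rw [Set.mem_singleton_iff] at hg; subst hg
      exact (le_sup_left : zpowers g ≤ _) (mem_zpowers g)
  have h2 := frattini_nongenerating h1
  refine ⟨⟨y, fun g => ?_⟩⟩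
  have hg : g ∈ zpowers y := by rw [h2]; exact mem_top g
  exact hg

theorem normal_of_commutator_le {R : Type*} [Group R] (N : Subgroup R) (h : commutator R ≤ N) :
    N.Normal := by
  constructor
  intro n hn r
  have h1 : r * n * r⁻¹ = ⁅r, n⁆ * n := by rw [commutatorElement_def]; group
  rw [h1]
  exact mul_mem (h (Subgroup.commutator_mem_commutator (Subgroup.mem_top r) (Subgroup.mem_top n))) hn

/-- generators from a metacyclic quotient by a central subgroup inside the Frattini subgroup -/
theorem exists_gens_of_quotient {R : Type*} [Group R] [Finite R] (Z : Subgroup R) [Z.Normal]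
    (hZfr : Z ≤ frattini R) (hmeta : Cfsg.IsMetacyclic (R ⧸ Z)) :
    ∃ x y : R, closure {x, y} = ⊤ ∧
      ∀ d ∈ commutator R, ∃ i : ℕ, ∃ t ∈ Z, d = x ^ i * t := by
  obtain ⟨Nb, hNbn, hNbc, hQc⟩ := hmeta
  haveI := hNbn
  haveI := hNbc
  haveI := hQc
  obtain ⟨⟨sb, hsbN⟩, hgen⟩ := IsCyclic.exists_generator (α := Nb)
  obtain ⟨x, rfl⟩ := QuotientGroup.mk'_surjective Z sb
  obtain ⟨qb, hqgen⟩ := IsCyclic.exists_generator (α := (R ⧸ Z) ⧸ Nb)
  obtain ⟨yb, rfl⟩ := QuotientGroup.mk'_surjective Nb qb
  obtain ⟨y, rfl⟩ := QuotientGroup.mk'_surjective Z yb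
  have key : ∀ g : R, (QuotientGroup.mk' Z) g ∈ Nb → ∃ i : ℕ, ∃ t ∈ Z, g = x ^ i * t := by
    intro g hg
    have h1 := hgen ⟨(QuotientGroup.mk' Z) g, hg⟩
    rw [← mem_powers_iff_mem_zpowers] at h1
    obtain ⟨i, hi⟩ := h1
    have h3 : ((QuotientGroup.mk' Z) x) ^ i = (QuotientGroup.mk' Z) g := by
      have := congrArg Subtype.val hi
      simpa using this
    rw [← map_pow] at h3
    have h4 : (x ^ i)⁻¹ * g ∈ Z := QuotientGroup.eq.mp h3
    exact ⟨i, _, h4, by group⟩
  refine ⟨x, y, ?_, ?_⟩
  · apply frattini_nongenerating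
    rw [eq_top_iff]
    intro g _
    have h1 := hqgen ((QuotientGroup.mk' Nb) ((QuotientGroup.mk' Z) g))
    rw [← mem_powers_iff_mem_zpowers] at h1
    obtain ⟨j, hj⟩ := h1
    have hj' : (QuotientGroup.mk' Nb) ((QuotientGroup.mk' Z) (y ^ j)) =
        (QuotientGroup.mk' Nb) ((QuotientGroup.mk' Z) g) := by
      rw [map_pow, map_pow]; exact hj
    have h3 : ((QuotientGroup.mk' Z) (y ^ j))⁻¹ * (QuotientGroup.mk' Z) g ∈ Nb :=
      QuotientGroup.eq.mp hj'
    have h4 : (QuotientGroup.mk' Z) ((y ^ j)⁻¹ * g) ∈ Nb := by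
      rw [map_mul, map_inv]; exact h3
    obtain ⟨i, t, ht, hit⟩ := key _ h4
    have h5 : g = y ^ j * x ^ i * t := by
      rw [mul_assoc, ← hit]; group
    have hx : x ∈ closure ({x, y} : Set R) := subset_closure (Set.mem_insert x {y})
    have hy : y ∈ closure ({x, y} : Set R) :=
      subset_closure (Set.mem_insert_of_mem x (Set.mem_singleton y))
    have h6 : y ^ j * x ^ i ∈ closure ({x, y} : Set R) :=
      mul_mem (Subgroup.pow_mem _ hy j) (Subgroup.pow_mem _ hx i)
    rw [h5]
    exact mul_mem ((le_sup_left : closure ({x, y} : Set R) ≤ closure ({x, y} : Set R) ⊔ frattini R) h6)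
      ((le_sup_right : frattini R ≤ closure ({x, y} : Set R) ⊔ frattini R) (hZfr ht))
  · intro d hd
    apply key
    have hd' : d ∈ (⊤ : Subgroup R) → d ∈ Nb.comap (QuotientGroup.mk' Z) := by
      intro _
      have hle : commutator R ≤ Nb.comap (QuotientGroup.mk' Z) := by
        rw [_root_.commutator_def, Subgroup.commutator_le]
        intro a _ b _
        rw [Subgroup.mem_comap, map_commutatorElement]
        have hcomm := (IsCyclic.isMulCommutative (α := (R ⧸ Z) ⧸ Nb)).is_comm.comm
          (QuotientGroup.mk' Nb ((QuotientGroup.mk' Z) a))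
          (QuotientGroup.mk' Nb ((QuotientGroup.mk' Z) b))
        rw [← QuotientGroup.eq_one_iff, ← QuotientGroup.mk'_apply, map_commutatorElement,
          commutatorElement_eq_one_iff_mul_comm]
        exact hcomm
      exact hle hd
    exact hd' (mem_top d)

/-- a derived subgroup of exponent two in a non-cyclic 2-group with a metacyclic quotient by
a central involution `z` of the derived subgroup is generated by `z` -/
theorem commutator_le_zpowers_of_quotient {R : Type*} [Group R] [Finite R] (hR : IsPGroup 2 R)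
    (hcyc : ¬ IsCyclic R) (hD : ∀ d ∈ commutator R, d ^ 2 = 1) (z : R) (hzD : z ∈ commutator R)
    (hzc : z ∈ center R) (hz1 : z ≠ 1) [(zpowers z).Normal]
    (hmeta : Cfsg.IsMetacyclic (R ⧸ zpowers z)) : commutator R ≤ zpowers z := by
  haveI : Fact (Nat.Prime 2) := ⟨Nat.prime_two⟩
  have hcm : ∀ a b : R, ⁅a, b⁆ ∈ commutator R := fun a b =>
    Subgroup.commutator_mem_commutator (Subgroup.mem_top a) (Subgroup.mem_top b)
  have hDfr : commutator R ≤ frattini R :=
    Cfsg.Agent.Helper23.commutator_le_frattini_pgroup 2 hR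
  have hZcen : zpowers z ≤ center R := by rw [zpowers_le]; exact hzc
  have hZD : zpowers z ≤ commutator R := by rw [zpowers_le]; exact hzD
  obtain ⟨x, y, hgenR, key⟩ := exists_gens_of_quotient (zpowers z) (hZD.trans hDfr) hmeta
  have heD : ⁅x, y⁆ ∈ commutator R := hcm x y
  have he2 : ⁅x, y⁆ ^ 2 = 1 := hD _ heD
  have hxe : x * ⁅x, y⁆ = ⁅x, y⁆ * x := by
    obtain ⟨i, t, ht, hit⟩ := key _ heD
    have htc := Subgroup.mem_center_iff.mp (hZcen ht) x
    rw [hit, ← mul_assoc, ← pow_succ', mul_assoc, ← htc, ← mul_assoc, ← pow_succ]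
  have hxy : x * y = ⁅x, y⁆ * y * x := by
    rw [commutatorElement_def]; group
  have hx2y : x ^ 2 * y = y * x ^ 2 := by
    calc x ^ 2 * y = x * (x * y) := by rw [pow_two, mul_assoc]
      _ = x * (⁅x, y⁆ * y * x) := by rw [← hxy]
      _ = (x * ⁅x, y⁆) * y * x := by simp only [mul_assoc]
      _ = ⁅x, y⁆ * (x * y) * x := by rw [hxe]; simp only [mul_assoc]
      _ = ⁅x, y⁆ * (⁅x, y⁆ * y * x) * x := by rw [← hxy]
      _ = (⁅x, y⁆ * ⁅x, y⁆) * y * (x * x) := by simp only [mul_assoc]
      _ = y * x ^ 2 := by rw [← pow_two, he2, one_mul, ← pow_two]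
  have hx2c : x ^ 2 ∈ center R := by
    have h1 : closure {x, y} ≤ centralizer {x ^ 2} := by
      rw [closure_le]
      intro g hg
      rw [SetLike.mem_coe, Subgroup.mem_centralizer_singleton_iff]
      rcases hg with rfl | hg
      · rw [← pow_succ, ← pow_succ']
      · rw [Set.mem_singleton_iff] at hg; subst hg; exact hx2y.symm
    rw [Subgroup.mem_center_iff]
    intro g
    have hg : g ∈ centralizer {x ^ 2} := h1 (by rw [hgenR]; exact mem_top g)
    exact Subgroup.mem_centralizer_singleton_iff.mp hg
  have hxD : x ∉ commutator R := by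
    intro hx
    exact not_mem_frattini_of_gen hcyc hgenR (hDfr hx)
  obtain ⟨kx, hkx⟩ := (IsPGroup.iff_orderOf.mp hR) x
  have hDcen : commutator R ≤ center R := by
    intro d hd
    obtain ⟨i, t, ht, hit⟩ := key d hd
    have hxi : x ^ i ∈ commutator R := by
      have h1 : x ^ i = d * t⁻¹ := by rw [hit]; group
      rw [h1]
      exact mul_mem hd (inv_mem (hZD ht))
    rcases Nat.even_or_odd' i with ⟨j, rfl | rfl⟩
    · rw [hit, pow_mul]
      exact mul_mem (Subgroup.pow_mem _ hx2c j) (hZcen ht)
    · exfalso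
      apply hxD
      have hcop : Nat.Coprime (2 * j + 1) (orderOf x) := by
        rw [hkx]
        apply Nat.Coprime.pow_right
        rw [Nat.coprime_comm, Nat.coprime_two_left]
        exact ⟨j, rfl⟩
      obtain ⟨m, hm⟩ := exists_pow_eq_self_of_coprime hcop
      rw [← hm]
      exact Subgroup.pow_mem _ hxi m
  have hDe : commutator R ≤ zpowers ⁅x, y⁆ :=
    Cfsg.Agent.Helper22.commutator_le_zpowers_of_two_gen x y hgenR hDcen
  have hze : z = ⁅x, y⁆ := by
    rcases Cfsg.Agent.Helper22.SecRank.eq_one_or_eq_of_mem_zpowers he2 (hDe hzD) with h | h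
    · exact absurd h hz1
    · exact h
  rw [hze]
  exact hDe

set_option maxHeartbeats 800000 in
theorem isMetacyclic_aux : ∀ (n : ℕ) (R : Type u) [Group R] [Finite R],
    Nat.card R = n → IsPGroup 2 R → R2 R → Cfsg.IsMetacyclic R := by
  intro n
  induction n using Nat.strong_induction_on with
  | _ n ih =>
    intro R _ _ hn hR h2
    haveI : Fact (Nat.Prime 2) := ⟨Nat.prime_two⟩
    by_cases hcyc : IsCyclic R
    · refine ⟨⊥, inferInstance, inferInstance, ?_⟩
      exact isCyclic_of_surjective (QuotientGroup.mk' (⊥ : Subgroup R))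
        (QuotientGroup.mk'_surjective _)
    haveI : Nontrivial R := by
      by_contra h
      rw [not_nontrivial_iff_subsingleton] at h
      exact hcyc inferInstance
    have hcm : ∀ a b : R, ⁅a, b⁆ ∈ commutator R := fun a b =>
      Subgroup.commutator_mem_commutator (Subgroup.mem_top a) (Subgroup.mem_top b)
    have hidx1 : Nat.card R ≤ 2 ^ 2 * Nat.card (frattini R) := by
      have h := h2 ⊤ (frattini R) le_top (by rw [Subgroup.normalizer_eq_top])
        (fun k _ => Cfsg.Agent.Helper21.pow_mem_frattini_of_isPGroup hR k)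
      rw [Subgroup.card_top] at h
      norm_num
      exact h
    by_cases hD : ∀ d ∈ commutator R, d ^ 2 = 1
    · by_cases hab : commutator R = ⊥
      · -- abelian case
        obtain ⟨x, hx⟩ := Cfsg.Agent.Helper22.exists_not_mem_frattini (R := R)
        haveI : (zpowers x).Normal := normal_of_commutator_le _ (by rw [hab]; exact bot_le)
        exact ⟨zpowers x, inferInstance, inferInstance,
          Cfsg.Agent.Helper22.isCyclic_quotient_zpowers hR hidx1 x hx⟩
      · obtain ⟨z, hzD, hzc, hz1⟩ :=
          Cfsg.Agent.Helper8.exists_mem_center_of_normal_ne_bot hR (commutator R) hab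
        have hz2 : z ^ 2 = 1 := hD z hzD
        have hna : ∃ a b : R, a * b ≠ b * a := by
          by_contra hcon
          push Not at hcon
          apply hab
          rw [eq_bot_iff, _root_.commutator_def, Subgroup.commutator_le]
          intro a _ b _
          rw [Subgroup.mem_bot, commutatorElement_eq_one_iff_mul_comm]
          exact hcon a b
        have hDz : commutator R ≤ zpowers z := by
          have hZcen : zpowers z ≤ center R := by rw [zpowers_le]; exact hzc
          haveI hZn : (zpowers z).Normal := by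
            constructor
            intro t ht g
            have h1 := Subgroup.mem_center_iff.mp (hZcen ht) g
            have h3 : g * t * g⁻¹ = t := by rw [h1, mul_inv_cancel_right]
            rw [h3]
            exact ht
          have hZc : Nat.card (zpowers z) = 2 := by
            rw [Nat.card_zpowers]
            exact orderOf_eq_prime hz2 hz1
          have hlt : Nat.card (R ⧸ zpowers z) < n := by
            have h1 : Nat.card (R ⧸ zpowers z) * Nat.card (zpowers z) = Nat.card R :=
              (Subgroup.card_eq_card_quotient_mul_card_subgroup (zpowers z)).symm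
            rw [hZc, hn] at h1
            have hpos : 0 < Nat.card (R ⧸ zpowers z) := Nat.card_pos
            omega
          exact commutator_le_zpowers_of_quotient hR hcyc hD z hzD hzc hz1
            (ih _ hlt (R ⧸ zpowers z) rfl (hR.to_quotient _) (h2.quotient _))
        -- derived subgroup of order two
        have hD' : ∀ a b : R, ⁅a, b⁆ = 1 ∨ ⁅a, b⁆ = z := fun a b =>
          Cfsg.Agent.Helper22.SecRank.eq_one_or_eq_of_mem_zpowers hz2 (hDz (hcm a b))
        obtain ⟨a, ha⟩ := Cfsg.Agent.Helper22.exists_not_mem_frattini (R := R)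
        obtain ⟨b, hb⟩ := Cfsg.Agent.Helper22.exists_two_gen hR hidx1 a ha
        obtain ⟨x, y, hxy, hzx⟩ :=
          exists_gen_of_card_two hR h2 z hzc hz2 hz1 hD' hna _ a b hb rfl
        have hx : x ∉ frattini R := not_mem_frattini_of_gen hcyc hxy
        haveI : (zpowers x).Normal :=
          normal_of_commutator_le _ (hDz.trans (by rw [zpowers_le]; exact hzx))
        exact ⟨zpowers x, inferInstance, inferInstance,
          Cfsg.Agent.Helper22.isCyclic_quotient_zpowers hR hidx1 x hx⟩
    · -- the derived subgroup has exponent at least four: lift through the squares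
      have hD' : ∃ d ∈ commutator R, d ^ 2 ≠ 1 := by
        by_contra hcon
        apply hD
        intro d hd
        by_contra hne
        exact hcon ⟨d, hd, hne⟩
      obtain ⟨d₀, hd₀, hd₀p⟩ := hD'
      set T : Subgroup R := normalClosure {g : R | ∃ d ∈ commutator R, d ^ 2 = g} with hT
      haveI hTn : T.Normal := Subgroup.normalClosure_normal
      have hTne : ⊥ ≠ T := by
        intro h
        apply hd₀p
        have h1 : d₀ ^ 2 ∈ T := Subgroup.subset_normalClosure ⟨d₀, hd₀, rfl⟩
        rw [← h] at h1
        exact Subgroup.mem_bot.mp h1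
      obtain ⟨Z, hZn, -, hZT, hZc⟩ := Cfsg.Agent.Helper22.exists_normal_step hR T ⊥ bot_le hTne
      haveI := hZn
      rw [Subgroup.card_bot, mul_one] at hZc
      have hlt : Nat.card (R ⧸ Z) < n := by
        have h1 : Nat.card (R ⧸ Z) * Nat.card Z = Nat.card R :=
          (Subgroup.card_eq_card_quotient_mul_card_subgroup Z).symm
        rw [hZc, hn] at h1
        have hpos : 0 < Nat.card (R ⧸ Z) := Nat.card_pos
        omega
      have hmeta := ih _ hlt (R ⧸ Z) rfl (hR.to_quotient Z) (h2.quotient Z)
      refine Cfsg.Agent.Helper22.isMetacyclic_of_quotient hR Z hZc ?_ hmeta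
      intro H hH
      exact hZT.trans (Cfsg.Agent.Helper22.normalClosure_pow_le (commutator R) H hH)

/-- Blackburn: a finite 2-group of sectional rank at most two is metacyclic. -/
theorem isMetacyclic_of_sectional {S : Type u} [Group S] [Finite S] (hS : IsPGroup 2 S)
    (hr : Cfsg.SectionalPRankLE 2 2 S) : Cfsg.IsMetacyclic S :=
  isMetacyclic_aux _ S rfl hS (r2_of_sectional hr)

end Main

end Cfsg.Agent.Helper22.MetaTwo
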