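import Mathlib

/-!
# Multiple transitivity from transitivity of a fixing subgroup

Shared library of helper22.  Everything lives in `Cfsg.Agent.Helper22`.
-/

set_option autoImplicit false

namespace Cfsg.Agent.Helper22

open MulAction SubMulAction

/-- If `G` is `m`-transitive and the pointwise stabilizer of an `m`-set `s` is `k`-transitive on the
complement, then `G` is `(m + k)`-transitive. -/
theorem isMultiplyPretransitive_add_of_fixingSubgroup :
    ∀ (m k : ℕ) {G α : Type*} [Group G] [MulAction G α] [Finite α] (s : Set α),
      s.ncard = m → IsMultiplyPretransitive G α m →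
      IsMultiplyPretransitive (fixingSubgroup G s) (ofFixingSubgroup G s) k →
      IsMultiplyPretransitive G α (m + k) := by
  intro m
  induction m with
  | zero =>
    intro k G α _ _ _ s hs _ hk
    have hs0 : s = ∅ := by
      rwa [Set.ncard_eq_zero (Set.toFinite s)] at hs
    subst hs0
    rw [zero_add]
    exact (IsPretransitive.of_embedding_congr
      (of_fixingSubgroupEmpty_mapScalars_surjective (M := G) (α := α))
      (ofFixingSubgroupEmpty_equivariantMap_bijective (M := G) (α := α))).1 hk
  | succ m ih =>
    intro k G α _ _ _ s hs hm hk
    have hsne : s.Nonempty := by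
      rw [← Set.ncard_pos (Set.toFinite s), hs]; exact Nat.succ_pos m
    obtain ⟨a, ha⟩ := hsne
    set t : Set (ofStabilizer G a) := Subtype.val ⁻¹' s with ht
    have hst : s = insert a (Subtype.val '' t) := by
      ext x
      by_cases hx : x = a <;> simp [hx, mem_ofStabilizer_iff, ha, ht]
    have ha' : a ∉ Subtype.val '' t := by
      intro h; rw [Set.mem_image] at h; obtain ⟨x, hx⟩ := h
      apply x.prop; rw [hx.right]; exact Set.mem_singleton a
    have htcard : t.ncard = m := by
      rw [← Set.ncard_image_of_injective t Subtype.val_injective]
      apply Nat.add_right_cancel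
      rw [← Set.ncard_insert_of_notMem ha' (Set.toFinite _), ← hst, hs]
    -- G is transitive
    have hcard : ((m + 1 : ℕ) : ENat) ≤ ENat.card α := by
      have h1 : s.encard ≤ ENat.card α := by
        rw [← Set.encard_univ]; exact Set.encard_le_encard (Set.subset_univ s)
      have h2 : s.encard = ((m + 1 : ℕ) : ENat) := by
        rw [← hs, Set.Finite.cast_ncard_eq (Set.toFinite s)]
      rw [← h2]; exact h1
    have htrans : IsPretransitive G α := by
      rw [← is_one_pretransitive_iff]
      exact isMultiplyPretransitive_of_le' (n := m + 1) (Nat.succ_le_succ (Nat.zero_le m)) hcard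
    -- the stabilizer is m-transitive
    have hm' : IsMultiplyPretransitive (stabilizer G a) (ofStabilizer G a) m :=
      (ofStabilizer.isMultiplyPretransitive (a := a)).1 hm
    -- transfer k-transitivity
    have hk1 : IsMultiplyPretransitive (fixingSubgroup G (insert a (Subtype.val '' t)))
        (ofFixingSubgroup G (insert a (Subtype.val '' t))) k :=
      IsPretransitive.of_embedding (ofFixingSubgroup_of_eq_bijective (hst := hst)).surjective
    have hk2 : IsMultiplyPretransitive (fixingSubgroup (stabilizer G a) t)
        (ofFixingSubgroup (stabilizer G a) t) k :=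
      IsPretransitive.of_embedding ofFixingSubgroup_insert_map_bijective.surjective
    have := ih k (G := stabilizer G a) (α := ofStabilizer G a) t htcard hm' hk2
    have h3 : m + 1 + k = (m + k).succ := by omega
    rw [h3]
    exact (ofStabilizer.isMultiplyPretransitive (a := a)).2 this

end Cfsg.Agent.Helper22
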