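import Mathlib
import Cfsg.Agent.Lib.Helper21.N9KDefs
import Cfsg.Agent.Lib.Lead.M11T5
import Cfsg.Agent.Lib.Lead.N9LOCDEF
import Cfsg.Agent.Lib.Helper17.N9FUS
import Cfsg.Agent.Lib.Helper14.N9TRI

/-!
# S3702 GROUP piece COUNTGEN (helper22, for helper21): the class multiplication count
-/

set_option autoImplicit false
set_option linter.style.haveILetI false
set_option linter.unusedSectionVars false
set_option linter.unusedVariables false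

namespace Cfsg.Agent.Helper21.N9

open Cfsg Cfsg.Agent.Helper16

universe u

section Grp

variable {G : Type u} [Group G] [Finite G] {H J : Subgroup G}

/-- a solution `(p.1 x p.1⁻¹, p.2 y p.2⁻¹)` of `x' y' = z` lies in the set counted by `loc` -/
theorem countgen_mem (c : Cfg H J) {x y z : G} (hx : x ∈ J) (hx1 : x ≠ 1) (hy : y ∈ J) (hy1 : y ≠ 1)
    (hxy : ¬ IsConj x y) (hz : z ∈ J) (hz1 : z ≠ 1) (p : G × G)
    (hp : (p.1 * x * p.1⁻¹) * (p.2 * y * p.2⁻¹) = z) : p.1 ∈ H ∧ p.2 ∈ H := by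
  have hx' : ∃ g : G, g * (p.1 * x * p.1⁻¹) * g⁻¹ ∈ J := by
    refine ⟨p.1⁻¹, ?_⟩
    have : p.1⁻¹ * (p.1 * x * p.1⁻¹) * p.1⁻¹⁻¹ = x := by group
    rw [this]; exact hx
  have hy' : ∃ g : G, g * (p.2 * y * p.2⁻¹) * g⁻¹ ∈ J := by
    refine ⟨p.2⁻¹, ?_⟩
    have : p.2⁻¹ * (p.2 * y * p.2⁻¹) * p.2⁻¹⁻¹ = y := by group
    rw [this]; exact hy
  have hx1' : p.1 * x * p.1⁻¹ ≠ 1 := by
    intro h
    apply hx1
    have : x = p.1⁻¹ * (p.1 * x * p.1⁻¹) * p.1 := by group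
    rw [this, h]; group
  have hy1' : p.2 * y * p.2⁻¹ ≠ 1 := by
    intro h
    apply hy1
    have : y = p.2⁻¹ * (p.2 * y * p.2⁻¹) * p.2 := by group
    rw [this, h]; group
  have hxy' : ¬ IsConj (p.1 * x * p.1⁻¹) (p.2 * y * p.2⁻¹) := by
    intro h
    apply hxy
    have h1 : IsConj x (p.1 * x * p.1⁻¹) := isConj_iff.mpr ⟨p.1, rfl⟩
    have h2 : IsConj y (p.2 * y * p.2⁻¹) := isConj_iff.mpr ⟨p.2, rfl⟩
    exact (h1.trans h).trans h2.symm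
  obtain ⟨h1, h2⟩ := tri c hx' hx1' hy' hy1' hxy' hz hz1 hp
  exact ⟨fusion c x hx hx1 p.1 h1, fusion c y hy hy1 p.2 h2⟩

/-- the solutions, sorted by the pair of conjugates -/
noncomputable def countgenEquiv (c : Cfg H J) {x y z : G} (hx : x ∈ J) (hx1 : x ≠ 1) (hy : y ∈ J)
    (hy1 : y ≠ 1) (hxy : ¬ IsConj x y) (hz : z ∈ J) (hz1 : z ≠ 1) :
    {p : G × G // (p.1 * x * p.1⁻¹) * (p.2 * y * p.2⁻¹) = z} ≃
      Σ q : {q : G × G // (∃ h ∈ H, q.1 = h * x * h⁻¹) ∧ (∃ h ∈ H, q.2 = h * y * h⁻¹) ∧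
          q.1 * q.2 = z},
        {a : G // a * x * a⁻¹ = q.1.1} × {b : G // b * y * b⁻¹ = q.1.2} where
  toFun p :=
    ⟨⟨(p.1.1 * x * p.1.1⁻¹, p.1.2 * y * p.1.2⁻¹),
      ⟨p.1.1, (countgen_mem c hx hx1 hy hy1 hxy hz hz1 p.1 p.2).1, rfl⟩,
      ⟨p.1.2, (countgen_mem c hx hx1 hy hy1 hxy hz hz1 p.1 p.2).2, rfl⟩, p.2⟩,
      ⟨p.1.1, rfl⟩, ⟨p.1.2, rfl⟩⟩
  invFun s := ⟨(s.2.1.1, s.2.2.1), by
    have h1 := s.2.1.2
    have h2 := s.2.2.2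
    have h3 := s.1.2.2.2
    simp only
    rw [h1, h2]
    exact h3⟩
  left_inv p := by
    apply Subtype.ext
    rfl
  right_inv s := by
    obtain ⟨⟨⟨q1, q2⟩, hq⟩, ⟨a, ha⟩, ⟨b, hb⟩⟩ := s
    simp only at ha hb
    subst ha
    subst hb
    rfl

theorem cnt_eq (c : Cfg H J) {x y z : G} (hx : x ∈ J) (hx1 : x ≠ 1) (hy : y ∈ J) (hy1 : y ≠ 1)
    (hxy : ¬ IsConj x y) (hz : z ∈ J) (hz1 : z ≠ 1) :
    Nat.card {p : G × G // (p.1 * x * p.1⁻¹) * (p.2 * y * p.2⁻¹) = z} =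
      Nat.card (Subgroup.centralizer ({x} : Set G)) *
        Nat.card (Subgroup.centralizer ({y} : Set G)) * loc H x y z := by
  classical
  rw [Nat.card_congr (countgenEquiv c hx hx1 hy hy1 hxy hz hz1)]
  haveI : Fintype {q : G × G // (∃ h ∈ H, q.1 = h * x * h⁻¹) ∧ (∃ h ∈ H, q.2 = h * y * h⁻¹) ∧
      q.1 * q.2 = z} := Fintype.ofFinite _
  rw [Nat.card_sigma]
  have hfib : ∀ q : {q : G × G // (∃ h ∈ H, q.1 = h * x * h⁻¹) ∧ (∃ h ∈ H, q.2 = h * y * h⁻¹) ∧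
      q.1 * q.2 = z},
      Nat.card ({a : G // a * x * a⁻¹ = q.1.1} × {b : G // b * y * b⁻¹ = q.1.2}) =
        Nat.card (Subgroup.centralizer ({x} : Set G)) *
          Nat.card (Subgroup.centralizer ({y} : Set G)) := by
    intro q
    obtain ⟨h1, -, e1⟩ := q.2.1
    obtain ⟨h2, -, e2⟩ := q.2.2.1
    rw [Nat.card_prod, Cfsg.Agent.Helper17.M11.T5.card_fib x q.1.1 ⟨h1, e1.symm⟩,
      Cfsg.Agent.Helper17.M11.T5.card_fib y q.1.2 ⟨h2, e2.symm⟩]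
  rw [Finset.sum_congr rfl (fun q _ => hfib q), Finset.sum_const, Finset.card_univ, smul_eq_mul,
    mul_comm]
  congr 1
  exact Nat.card_eq_fintype_card.symm

end Grp

end Cfsg.Agent.Helper21.N9
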