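import Mathlib
import Cfsg.Agent.Lib.Helper21.N9KDefs
import Cfsg.Agent.Lib.Helper16.TC648Index
import Cfsg.Agent.Lib.Helper22.N9TRA
import Cfsg.Agent.Lib.Helper17.N9FUS

/-!
# S3702 GROUP piece IDX (helper22, for helper21): `[G : H] ≡ 1 mod 27`
-/

set_option autoImplicit false
set_option linter.unusedSectionVars false
set_option linter.unusedVariables false

namespace Cfsg.Agent.Helper21.N9

open Cfsg Cfsg.Agent.Helper16

universe u

section Grp

variable {G : Type u} [Group G] [Finite G] {H J : Subgroup G}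

theorem index_mod (c : Cfg H J) : H.index % 27 = 1 := by
  have hctl : ∀ j ∈ J, j ≠ 1 → ∀ g : G, g⁻¹ * j * g ∈ H → g ∈ H := by
    intro j hj hj1 g hg
    have h1 : g⁻¹ * j * (g⁻¹)⁻¹ ∈ H := by rwa [inv_inv]
    have h2 : g⁻¹ * j * (g⁻¹)⁻¹ ∈ J := c.hsc j hj g⁻¹ h1
    have h3 : g⁻¹ ∈ H := fusion c j hj hj1 g⁻¹ h2
    simpa using H.inv_mem h3
  have h := TC648.index_modEq_one_of_control H J c.hJH hctl
  rw [card_J c] at h
  exact h

end Grp

end Cfsg.Agent.Helper21.N9
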