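import Mathlib
import Cfsg.Agent.Lib.Lead.N9LOCDEF

/-!
# S3702 GROUP side: `loc` is defined in `Cfsg/Agent/Lib/Lead/N9LOCDEF.lean` (lead, landed at the same
minute as the first version of this file) and `locK` in helper19's `N9KLOC.lean`.  To avoid a clash
this file no longer defines anything; it only re-imports lead's file.
-/
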