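import Mathlib
import Cfsg.Agent.Lib.Lead.NC2Defs
import Cfsg.Agent.Lib.Helper1.NC2CEN

/-!
# S3894 (n = 2) piece N2-NORM (helper22): `g N = c • (N g)`, `c ≠ 0` ⇒ `pr g` normalises `T (uni N)`.
-/

set_option autoImplicit false

namespace Cfsg.Agent.Lead.NC2

open Matrix

variable {F : Type*} [Field F]

/-- conjugation by `A` (with `A N = c • N A`) preserves the commutant of `N`. -/
theorem nc2_norm_conj (A Ai N H : Matrix (Fin 2) (Fin 2) F) (c : F) (hc : c ≠ 0)
    (h1 : A * Ai = 1) (h2 : Ai * A = 1) (h : A * N = c • (N * A)) (hH : H * N = N * H) :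
    (A * H * Ai) * N = N * (A * H * Ai) := by
  have hAiN : Ai * N = c⁻¹ • (N * Ai) := by
    have e : N * Ai = c • (Ai * N) := by
      calc N * Ai = (Ai * A) * N * Ai := by rw [h2, one_mul]
        _ = Ai * (A * N) * Ai := by simp only [mul_assoc]
        _ = Ai * (c • (N * A)) * Ai := by rw [h]
        _ = c • (Ai * N * (A * Ai)) := by
            simp only [mul_smul_comm, smul_mul_assoc, mul_assoc]
        _ = c • (Ai * N) := by rw [h1, mul_one]
    rw [e, smul_smul, inv_mul_cancel₀ hc, one_smul]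
  calc (A * H * Ai) * N = A * H * (Ai * N) := by simp only [mul_assoc]
    _ = A * H * (c⁻¹ • (N * Ai)) := by rw [hAiN]
    _ = c⁻¹ • (A * (H * N) * Ai) := by
        simp only [mul_smul_comm, mul_assoc]
    _ = c⁻¹ • (A * (N * H) * Ai) := by rw [hH]
    _ = c⁻¹ • ((A * N) * H * Ai) := by simp only [mul_assoc]
    _ = c⁻¹ • ((c • (N * A)) * H * Ai) := by rw [h]
    _ = N * (A * H * Ai) := by
        simp only [smul_mul_assoc, smul_smul, inv_mul_cancel₀ hc, one_smul, mul_assoc]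

/-- commuting with `uni N` is commuting with `N`. -/
theorem nc2_norm_commute_uni_iff (k : GL (Fin 2) F) (N : Matrix (Fin 2) (Fin 2) F) (hN : N * N = 0) :
    k * uni N hN = uni N hN * k ↔
      (k : Matrix (Fin 2) (Fin 2) F) * N = N * (k : Matrix (Fin 2) (Fin 2) F) := by
  constructor
  · intro h
    have h' := congrArg (fun g : GL (Fin 2) F => (g : Matrix (Fin 2) (Fin 2) F)) h
    simp only [Units.val_mul, uni_val, mul_add, add_mul, mul_one, one_mul] at h'
    exact add_left_cancel h'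
  · intro h
    apply Units.ext
    simp only [Units.val_mul, uni_val, mul_add, add_mul, mul_one, one_mul, h]

theorem pr_mem_normalizer_T_uni {g : GL (Fin 2) F} {N : Matrix (Fin 2) (Fin 2) F} {c : F}
    (hN : N * N = 0) (hc : c ≠ 0)
    (h : (g : Matrix (Fin 2) (Fin 2) F) * N = c • (N * (g : Matrix (Fin 2) (Fin 2) F))) :
    pr g ∈ Subgroup.normalizer ((T (uni N hN) : Subgroup (PGL2 F)) : Set (PGL2 F)) := by
  have hG1 : (g : Matrix (Fin 2) (Fin 2) F) * ((g⁻¹ : GL (Fin 2) F) : Matrix (Fin 2) (Fin 2) F) = 1 := by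
    rw [← Units.val_mul, mul_inv_cancel, Units.val_one]
  have hG2 : ((g⁻¹ : GL (Fin 2) F) : Matrix (Fin 2) (Fin 2) F) * (g : Matrix (Fin 2) (Fin 2) F) = 1 := by
    rw [← Units.val_mul, inv_mul_cancel, Units.val_one]
  have hinv : ((g⁻¹ : GL (Fin 2) F) : Matrix (Fin 2) (Fin 2) F) * N =
      c⁻¹ • (N * ((g⁻¹ : GL (Fin 2) F) : Matrix (Fin 2) (Fin 2) F)) := by
    have e : N * ((g⁻¹ : GL (Fin 2) F) : Matrix (Fin 2) (Fin 2) F) =
        c • (((g⁻¹ : GL (Fin 2) F) : Matrix (Fin 2) (Fin 2) F) * N) := by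
      calc N * ((g⁻¹ : GL (Fin 2) F) : Matrix (Fin 2) (Fin 2) F)
          = (((g⁻¹ : GL (Fin 2) F) : Matrix (Fin 2) (Fin 2) F) * (g : Matrix (Fin 2) (Fin 2) F)) * N *
              ((g⁻¹ : GL (Fin 2) F) : Matrix (Fin 2) (Fin 2) F) := by rw [hG2, one_mul]
        _ = ((g⁻¹ : GL (Fin 2) F) : Matrix (Fin 2) (Fin 2) F) * ((g : Matrix (Fin 2) (Fin 2) F) * N) *
              ((g⁻¹ : GL (Fin 2) F) : Matrix (Fin 2) (Fin 2) F) := by simp only [mul_assoc]
        _ = ((g⁻¹ : GL (Fin 2) F) : Matrix (Fin 2) (Fin 2) F) * (c • (N * (g : Matrix (Fin 2) (Fin 2) F))) *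
              ((g⁻¹ : GL (Fin 2) F) : Matrix (Fin 2) (Fin 2) F) := by rw [h]
        _ = c • (((g⁻¹ : GL (Fin 2) F) : Matrix (Fin 2) (Fin 2) F) * N *
              ((g : Matrix (Fin 2) (Fin 2) F) * ((g⁻¹ : GL (Fin 2) F) : Matrix (Fin 2) (Fin 2) F))) := by
            simp only [mul_smul_comm, smul_mul_assoc, mul_assoc]
        _ = c • (((g⁻¹ : GL (Fin 2) F) : Matrix (Fin 2) (Fin 2) F) * N) := by rw [hG1, mul_one]
    rw [e, smul_smul, inv_mul_cancel₀ hc, one_smul]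
  rw [Subgroup.mem_normalizer_iff]
  intro y
  obtain ⟨k, rfl⟩ := pr_surjective y
  have hconj : pr g * pr k * (pr g)⁻¹ = pr (g * k * g⁻¹) := by
    rw [map_mul, map_mul, map_inv]
  rw [hconj, pr_mem_T_iff, pr_mem_T_iff, nc2_norm_commute_uni_iff, nc2_norm_commute_uni_iff]
  simp only [Units.val_mul]
  constructor
  · intro hk
    exact nc2_norm_conj _ _ N _ c hc hG1 hG2 h hk
  · intro hk
    have := nc2_norm_conj ((g⁻¹ : GL (Fin 2) F) : Matrix (Fin 2) (Fin 2) F)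
      (g : Matrix (Fin 2) (Fin 2) F) N _ c⁻¹ (inv_ne_zero hc) hG2 hG1 hinv hk
    have e : ((g⁻¹ : GL (Fin 2) F) : Matrix (Fin 2) (Fin 2) F) *
        ((g : Matrix (Fin 2) (Fin 2) F) * (k : Matrix (Fin 2) (Fin 2) F) *
          ((g⁻¹ : GL (Fin 2) F) : Matrix (Fin 2) (Fin 2) F)) * (g : Matrix (Fin 2) (Fin 2) F) =
        (k : Matrix (Fin 2) (Fin 2) F) := by
      calc _ = (((g⁻¹ : GL (Fin 2) F) : Matrix (Fin 2) (Fin 2) F) * (g : Matrix (Fin 2) (Fin 2) F)) *
            (k : Matrix (Fin 2) (Fin 2) F) *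
            (((g⁻¹ : GL (Fin 2) F) : Matrix (Fin 2) (Fin 2) F) * (g : Matrix (Fin 2) (Fin 2) F)) := by
            simp only [mul_assoc]
        _ = (k : Matrix (Fin 2) (Fin 2) F) := by rw [hG2, one_mul, mul_one]
    rw [e] at this
    exact this

end Cfsg.Agent.Lead.NC2
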