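import Mathlib

set_option autoImplicit false
set_option linter.style.haveILetI false

/-!
# S4415 (Thompson's `F₃`-lemma): the Jordan data of `b`

Generic linear algebra over `ZMod 3`: an endomorphism `T` with `T³ = 1`, `rank (T - 1) = 2`,
`rank (T - 1)² = 1` (Jordan type `J₃ + J₁^{n-3}`).
-/

namespace Cfsg.Agent.Helper22.NGJ

variable {V : Type*} [AddCommGroup V] [Module (ZMod 3) V]

/-- Jordan data of `T`: `T³ = 1`, `rank (T - 1) = 2`, `rank (T - 1)² = 1`. -/
structure JD (T : Module.End (ZMod 3) V) : Prop where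
  cube : T * T * T = 1
  rk2 : Module.finrank (ZMod 3) (LinearMap.range (T - 1)) = 2
  rk1 : Module.finrank (ZMod 3) (LinearMap.range ((T - 1) * (T - 1))) = 1

theorem three_nsmul_end (X : Module.End (ZMod 3) V) : (3 : ℕ) • X = 0 := by
  ext v
  simp only [LinearMap.smul_apply, LinearMap.zero_apply]
  exact ZModModule.char_nsmul_eq_zero 3 (X v)

/-- `(T - 1)³ = 0` when `T³ = 1` (characteristic `3`). -/
theorem nil_of_cube {T : Module.End (ZMod 3) V} (h : T * T * T = 1) :
    (T - 1) * (T - 1) * (T - 1) = 0 := by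
  have e : (T - 1) * (T - 1) * (T - 1) = T * T * T - 1 - (3 : ℕ) • (T * T - T) := by
    noncomm_ring
  rw [e, h, three_nsmul_end]
  simp

theorem JD.nil {T : Module.End (ZMod 3) V} (h : JD T) : (T - 1) * (T - 1) * (T - 1) = 0 :=
  nil_of_cube h.cube

theorem JD.nil_apply {T : Module.End (ZMod 3) V} (h : JD T) (v : V) :
    (T - 1) ((T - 1) ((T - 1) v)) = 0 := by
  have := congrArg (fun f => f v) h.nil
  simpa using this

theorem JD.exists_gen {T : Module.End (ZMod 3) V} (h : JD T) : ∃ v : V, (T - 1) ((T - 1) v) ≠ 0 := by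
  by_contra hcon
  push Not at hcon
  have : LinearMap.range ((T - 1) * (T - 1)) = ⊥ := by
    rw [eq_bot_iff]
    rintro _ ⟨v, rfl⟩
    rw [Submodule.mem_bot, Module.End.mul_apply]
    exact hcon v
  have h1 := h.rk1
  rw [this, finrank_bot] at h1
  exact absurd h1 (by norm_num)

/-- `N a`, `N² a` are linearly independent when `N² a ≠ 0`, `N³ = 0`. -/
theorem linInd_pair {N : Module.End (ZMod 3) V} (hN : ∀ v, N (N (N v)) = 0) (a : V)
    (ha : N (N a) ≠ 0) : LinearIndependent (ZMod 3) ![N a, N (N a)] := by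
  rw [LinearIndependent.pair_iff]
  intro s t hst
  have h1 : s • N (N a) = 0 := by
    have := congrArg N hst
    simpa [hN] using this
  have hs : s = 0 := by
    rcases smul_eq_zero.mp h1 with h | h
    · exact h
    · exact absurd h ha
  subst hs
  have h2 : t • N (N a) = 0 := by simpa using hst
  rcases smul_eq_zero.mp h2 with h | h
  · exact ⟨rfl, h⟩
  · exact absurd h ha

theorem JD.range_eq_span {T : Module.End (ZMod 3) V} (h : JD T) (a : V)
    (ha : (T - 1) ((T - 1) a) ≠ 0) :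
    LinearMap.range (T - 1) = Submodule.span (ZMod 3) {(T - 1) a, (T - 1) ((T - 1) a)} := by
  symm
  haveI : Module.Finite (ZMod 3) (LinearMap.range (T - 1)) :=
    Module.finite_of_finrank_pos (by rw [h.rk2]; norm_num)
  apply Submodule.eq_of_le_of_finrank_eq
  · rw [Submodule.span_le]
    rintro x (rfl | rfl)
    · exact ⟨a, rfl⟩
    · exact ⟨(T - 1) a, rfl⟩
  · rw [h.rk2]
    have hli := linInd_pair (N := T - 1) h.nil_apply a ha
    have := finrank_span_eq_card hli
    simp only [Fintype.card_fin] at this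
    have hset : Set.range ![(T - 1) a, (T - 1) ((T - 1) a)] = {(T - 1) a, (T - 1) ((T - 1) a)} := by
      ext x
      simp only [Matrix.range_cons, Matrix.range_empty, Set.union_empty, Set.union_singleton,
        Set.mem_insert_iff, Set.mem_singleton_iff]
      exact or_comm
    rw [hset] at this
    exact this

theorem JD.range_sq_eq_span {T : Module.End (ZMod 3) V} (h : JD T) (a : V)
    (ha : (T - 1) ((T - 1) a) ≠ 0) :
    LinearMap.range ((T - 1) * (T - 1)) = Submodule.span (ZMod 3) {(T - 1) ((T - 1) a)} := by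
  symm
  haveI : Module.Finite (ZMod 3) (LinearMap.range ((T - 1) * (T - 1))) :=
    Module.finite_of_finrank_pos (by rw [h.rk1]; norm_num)
  apply Submodule.eq_of_le_of_finrank_eq
  · rw [Submodule.span_le]
    rintro x rfl
    exact ⟨a, rfl⟩
  · rw [h.rk1]
    exact finrank_span_singleton ha

/-- Every `N v` is a combination of `N a`, `N² a`. -/
theorem JD.exists_coeff {T : Module.End (ZMod 3) V} (h : JD T) (a : V)
    (ha : (T - 1) ((T - 1) a) ≠ 0) (v : V) :
    ∃ s t : ZMod 3, (T - 1) v = s • (T - 1) a + t • (T - 1) ((T - 1) a) := by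
  have hv : (T - 1) v ∈ LinearMap.range (T - 1) := ⟨v, rfl⟩
  rw [h.range_eq_span a ha, Submodule.mem_span_pair] at hv
  obtain ⟨s, t, hst⟩ := hv
  exact ⟨s, t, hst.symm⟩

/-- Every `N² v` is a multiple of `N² a`. -/
theorem JD.exists_coeff_sq {T : Module.End (ZMod 3) V} (h : JD T) (a : V)
    (ha : (T - 1) ((T - 1) a) ≠ 0) (v : V) :
    ∃ t : ZMod 3, (T - 1) ((T - 1) v) = t • (T - 1) ((T - 1) a) := by
  have hv : (T - 1) ((T - 1) v) ∈ LinearMap.range ((T - 1) * (T - 1)) := ⟨v, rfl⟩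
  rw [h.range_sq_eq_span a ha, Submodule.mem_span_singleton] at hv
  obtain ⟨t, ht⟩ := hv
  exact ⟨t, ht.symm⟩

/-- **Lemma (P)**: if `V = V₁ ⊕ V₂` with both summands `T`-invariant, then `T` is trivial on one of
them. -/
theorem JD.split {T : Module.End (ZMod 3) V} (h : JD T) (V₁ V₂ : Submodule (ZMod 3) V)
    (h12 : V₁ ⊓ V₂ = ⊥) (h12' : V₁ ⊔ V₂ = ⊤) (h1 : ∀ v ∈ V₁, T v ∈ V₁) (h2 : ∀ v ∈ V₂, T v ∈ V₂) :
    (∀ v ∈ V₁, T v = v) ∨ (∀ v ∈ V₂, T v = v) := by
  -- general claim
  have key : ∀ (U₁ U₂ : Submodule (ZMod 3) V), U₁ ⊓ U₂ = ⊥ → (∀ v ∈ U₁, T v ∈ U₁) →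
      (∀ v ∈ U₂, T v ∈ U₂) → ∀ a ∈ U₁, (T - 1) ((T - 1) a) ≠ 0 → ∀ w ∈ U₂, T w = w := by
    intro U₁ U₂ hU h1 h2 a ha hne w hw
    have hN1 : ∀ v ∈ U₁, (T - 1) v ∈ U₁ := fun v hv => by
      simp only [LinearMap.sub_apply, Module.End.one_apply]
      exact U₁.sub_mem (h1 v hv) hv
    have hN2 : ∀ v ∈ U₂, (T - 1) v ∈ U₂ := fun v hv => by
      simp only [LinearMap.sub_apply, Module.End.one_apply]
      exact U₂.sub_mem (h2 v hv) hv
    obtain ⟨s, t, hst⟩ := h.exists_coeff a hne w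
    have hw1 : (T - 1) w ∈ U₁ := by
      rw [hst]
      exact U₁.add_mem (U₁.smul_mem _ (hN1 a ha)) (U₁.smul_mem _ (hN1 _ (hN1 a ha)))
    have hw2 : (T - 1) w ∈ U₂ := hN2 w hw
    have : (T - 1) w ∈ U₁ ⊓ U₂ := ⟨hw1, hw2⟩
    rw [hU] at this
    have h0 : (T - 1) w = 0 := (Submodule.mem_bot _).mp this
    simp only [LinearMap.sub_apply, Module.End.one_apply] at h0
    exact sub_eq_zero.mp h0
  obtain ⟨v0, hv0⟩ := h.exists_gen
  have hv0mem : v0 ∈ V₁ ⊔ V₂ := by rw [h12']; trivial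
  obtain ⟨a, ha, c, hc, rfl⟩ := Submodule.mem_sup.mp hv0mem
  by_cases hna : (T - 1) ((T - 1) a) = 0
  · have hnc : (T - 1) ((T - 1) c) ≠ 0 := by
      intro hc0
      apply hv0
      rw [map_add, map_add, hna, hc0, add_zero]
    left
    exact key V₂ V₁ (by rw [inf_comm]; exact h12) h2 h1 c hc hnc
  · right
    exact key V₁ V₂ h12 h1 h2 a ha hna


/-- The Jordan data from the hypotheses of the frozen statement. -/
theorem JD.of_frozen [Finite V] (T : Module.End (ZMod 3) V) (hT : T * T * T = 1)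
    (E₀ E₁ : Submodule (ZMod 3) V) (hE01' : E₀ ⊔ E₁ = ⊤)
    (hE1 : ∀ v ∈ E₁, T v = v) (hE0inv : ∀ v ∈ E₀, T v ∈ E₀) (hE0 : Nat.card ↥E₀ = 27)
    (hind : ∃ v ∈ E₀, T (T v - v) - (T v - v) ≠ 0) : JD T := by
  have hN3 : ∀ v, (T - 1) ((T - 1) ((T - 1) v)) = 0 := by
    intro v
    have := congrArg (fun f => f v) (nil_of_cube hT)
    simpa using this
  obtain ⟨v0, hv0E, hv0⟩ := hind
  have hv0' : (T - 1) ((T - 1) v0) ≠ 0 := by
    simpa only [LinearMap.sub_apply, Module.End.one_apply] using hv0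
  -- finrank E₀ = 3
  have hfr : Module.finrank (ZMod 3) E₀ = 3 := by
    have h := Module.natCard_eq_pow_finrank (K := ZMod 3) (V := E₀)
    rw [hE0, Nat.card_zmod] at h
    have h27 : (27 : ℕ) = 3 ^ 3 := by norm_num
    rw [h27] at h
    exact (Nat.pow_right_injective (by norm_num : 2 ≤ 3) h).symm
  have hNE0 : ∀ v ∈ E₀, (T - 1) v ∈ E₀ := fun v hv => by
    simp only [LinearMap.sub_apply, Module.End.one_apply]
    exact E₀.sub_mem (hE0inv v hv) hv
  have hNE1 : ∀ v ∈ E₁, (T - 1) v = 0 := fun v hv => by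
    simp only [LinearMap.sub_apply, Module.End.one_apply]
    rw [hE1 v hv, sub_self]
  have hrange : LinearMap.range (T - 1) ≤ E₀ ⊓ LinearMap.ker ((T - 1) * (T - 1)) := by
    rintro _ ⟨v, rfl⟩
    refine ⟨?_, ?_⟩
    · have hv : v ∈ E₀ ⊔ E₁ := by rw [hE01']; trivial
      obtain ⟨a, ha, c, hc, rfl⟩ := Submodule.mem_sup.mp hv
      rw [map_add, hNE1 c hc, add_zero]
      exact hNE0 a ha
    · change ((T - 1) * (T - 1)) ((T - 1) v) = 0
      rw [Module.End.mul_apply]
      exact hN3 v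
  have hlt : E₀ ⊓ LinearMap.ker ((T - 1) * (T - 1)) < E₀ := by
    refine lt_of_le_of_ne inf_le_left ?_
    intro heq
    have : v0 ∈ E₀ ⊓ LinearMap.ker ((T - 1) * (T - 1)) := by rw [heq]; exact hv0E
    have h2 : ((T - 1) * (T - 1)) v0 = 0 := this.2
    rw [Module.End.mul_apply] at h2
    exact hv0' h2
  have hup : Module.finrank (ZMod 3) (LinearMap.range (T - 1)) < 3 := by
    calc Module.finrank (ZMod 3) (LinearMap.range (T - 1))
        ≤ Module.finrank (ZMod 3) ↥(E₀ ⊓ LinearMap.ker ((T - 1) * (T - 1))) :=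
          Submodule.finrank_mono hrange
      _ < Module.finrank (ZMod 3) E₀ := Submodule.finrank_lt_finrank_of_lt hlt
      _ = 3 := hfr
  have hlow : 2 ≤ Module.finrank (ZMod 3) (LinearMap.range (T - 1)) := by
    have hli := linInd_pair (N := T - 1) hN3 v0 hv0'
    have h2 := finrank_span_eq_card hli
    simp only [Fintype.card_fin] at h2
    have hle : Submodule.span (ZMod 3) (Set.range ![(T - 1) v0, (T - 1) ((T - 1) v0)]) ≤
        LinearMap.range (T - 1) := by
      rw [Submodule.span_le]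
      rintro x ⟨i, rfl⟩
      fin_cases i
      · exact ⟨v0, rfl⟩
      · exact ⟨(T - 1) v0, rfl⟩
    have := Submodule.finrank_mono hle
    omega
  have hrk2 : Module.finrank (ZMod 3) (LinearMap.range (T - 1)) = 2 := by omega
  -- rank of the square
  have hrange2 : LinearMap.range ((T - 1) * (T - 1)) ≤ LinearMap.range (T - 1) ⊓ LinearMap.ker (T - 1) := by
    rintro _ ⟨v, rfl⟩
    refine ⟨⟨(T - 1) v, rfl⟩, ?_⟩
    change (T - 1) (((T - 1) * (T - 1)) v) = 0
    rw [Module.End.mul_apply]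
    exact hN3 v
  have hlt2 : LinearMap.range (T - 1) ⊓ LinearMap.ker (T - 1) < LinearMap.range (T - 1) := by
    refine lt_of_le_of_ne inf_le_left ?_
    intro heq
    have : (T - 1) v0 ∈ LinearMap.range (T - 1) ⊓ LinearMap.ker (T - 1) := by
      rw [heq]; exact ⟨v0, rfl⟩
    have h2 : (T - 1) ((T - 1) v0) = 0 := this.2
    exact hv0' h2
  have hup2 : Module.finrank (ZMod 3) (LinearMap.range ((T - 1) * (T - 1))) < 2 := by
    calc Module.finrank (ZMod 3) (LinearMap.range ((T - 1) * (T - 1)))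
        ≤ Module.finrank (ZMod 3) ↥(LinearMap.range (T - 1) ⊓ LinearMap.ker (T - 1)) :=
          Submodule.finrank_mono hrange2
      _ < Module.finrank (ZMod 3) (LinearMap.range (T - 1)) := Submodule.finrank_lt_finrank_of_lt hlt2
      _ = 2 := hrk2
  have hlow2 : 1 ≤ Module.finrank (ZMod 3) (LinearMap.range ((T - 1) * (T - 1))) := by
    have hle : Submodule.span (ZMod 3) {(T - 1) ((T - 1) v0)} ≤ LinearMap.range ((T - 1) * (T - 1)) := by
      rw [Submodule.span_le]
      rintro x rfl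
      exact ⟨v0, rfl⟩
    have := Submodule.finrank_mono hle
    rw [finrank_span_singleton hv0'] at this
    exact this
  exact ⟨hT, hrk2, by omega⟩

/-- If `Y`, `T Y`, `T² Y` are independent then `dim Y ≤ 1`. -/
theorem JD.finrank_le_one_of_free [Finite V] {T : Module.End (ZMod 3) V} (h : JD T)
    (Y : Submodule (ZMod 3) V)
    (hfree : ∀ y₁ ∈ Y, ∀ y₂ ∈ Y, ∀ y₃ ∈ Y, y₁ + T y₂ + T (T y₃) = 0 → y₁ = 0 ∧ y₂ = 0 ∧ y₃ = 0) :
    Module.finrank (ZMod 3) Y ≤ 1 := by
  -- the map Y × Y → range N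
  let f : (Y × Y) →ₗ[ZMod 3] LinearMap.range (T - 1) :=
    { toFun := fun p => ⟨(T - 1) ((p.1 : V) + T (p.2 : V)), ⟨_, rfl⟩⟩
      map_add' := by
        intro p q
        apply Subtype.ext
        simp only [Prod.fst_add, Prod.snd_add, Submodule.coe_add, map_add]
        abel
      map_smul' := by
        intro c p
        apply Subtype.ext
        simp only [Prod.smul_fst, Prod.smul_snd, Submodule.coe_smul, map_smul, map_add, smul_add,
          RingHom.id_apply] }
  have hinj : Function.Injective f := by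
    rw [← LinearMap.ker_eq_bot, LinearMap.ker_eq_bot']
    rintro ⟨y₁, y₂⟩ hp
    have h0 : (T - 1) ((y₁ : V) + T (y₂ : V)) = 0 := congrArg Subtype.val hp
    have h1 : (-(y₁ : V)) + T ((y₁ : V) - y₂) + T (T (y₂ : V)) = 0 := by
      simp only [LinearMap.sub_apply, Module.End.one_apply, map_add, map_sub] at h0 ⊢
      rw [← h0]; abel
    obtain ⟨e1, e2, e3⟩ := hfree _ (Y.neg_mem y₁.2) _ (Y.sub_mem y₁.2 y₂.2) _ y₂.2 h1
    have hy1 : (y₁ : V) = 0 := neg_eq_zero.mp e1
    ext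
    · exact hy1
    · exact e3
  have := LinearMap.finrank_le_finrank_of_injective hinj
  rw [Module.finrank_prod, h.rk2] at this
  omega


/-- The Jordan data from `|range (T - 1)| = 9` and `(T - 1)² ≠ 0`. -/
theorem JD.of_card [Finite V] (T : Module.End (ZMod 3) V) (hT : T * T * T = 1)
    (h9 : Nat.card ↥(LinearMap.range (T - 1)) = 9) (hsq : ∃ v : V, (T - 1) ((T - 1) v) ≠ 0) :
    JD T := by
  have hN3 : ∀ v, (T - 1) ((T - 1) ((T - 1) v)) = 0 := by
    intro v
    have := congrArg (fun f => f v) (nil_of_cube hT)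
    simpa using this
  obtain ⟨v0, hv0'⟩ := hsq
  have hrk2 : Module.finrank (ZMod 3) (LinearMap.range (T - 1)) = 2 := by
    have h := Module.natCard_eq_pow_finrank (K := ZMod 3) (V := LinearMap.range (T - 1))
    rw [h9, Nat.card_zmod] at h
    have h9' : (9 : ℕ) = 3 ^ 2 := by norm_num
    rw [h9'] at h
    exact (Nat.pow_right_injective (by norm_num : 2 ≤ 3) h).symm
  have hrange2 : LinearMap.range ((T - 1) * (T - 1)) ≤ LinearMap.range (T - 1) ⊓ LinearMap.ker (T - 1) := by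
    rintro _ ⟨v, rfl⟩
    refine ⟨⟨(T - 1) v, rfl⟩, ?_⟩
    change (T - 1) (((T - 1) * (T - 1)) v) = 0
    rw [Module.End.mul_apply]
    exact hN3 v
  have hlt2 : LinearMap.range (T - 1) ⊓ LinearMap.ker (T - 1) < LinearMap.range (T - 1) := by
    refine lt_of_le_of_ne inf_le_left ?_
    intro heq
    have : (T - 1) v0 ∈ LinearMap.range (T - 1) ⊓ LinearMap.ker (T - 1) := by
      rw [heq]; exact ⟨v0, rfl⟩
    have h2 : (T - 1) ((T - 1) v0) = 0 := this.2
    exact hv0' h2
  have hup2 : Module.finrank (ZMod 3) (LinearMap.range ((T - 1) * (T - 1))) < 2 := by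
    calc Module.finrank (ZMod 3) (LinearMap.range ((T - 1) * (T - 1)))
        ≤ Module.finrank (ZMod 3) ↥(LinearMap.range (T - 1) ⊓ LinearMap.ker (T - 1)) :=
          Submodule.finrank_mono hrange2
      _ < Module.finrank (ZMod 3) (LinearMap.range (T - 1)) := Submodule.finrank_lt_finrank_of_lt hlt2
      _ = 2 := hrk2
  have hlow2 : 1 ≤ Module.finrank (ZMod 3) (LinearMap.range ((T - 1) * (T - 1))) := by
    have hle : Submodule.span (ZMod 3) {(T - 1) ((T - 1) v0)} ≤ LinearMap.range ((T - 1) * (T - 1)) := by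
      rw [Submodule.span_le]
      rintro x rfl
      exact ⟨v0, rfl⟩
    have := Submodule.finrank_mono hle
    rw [finrank_span_singleton hv0'] at this
    exact this
  exact ⟨hT, hrk2, by omega⟩

/-- cardinalities from the Jordan data -/
theorem JD.card_range [Finite V] {T : Module.End (ZMod 3) V} (h : JD T) :
    Nat.card ↥(LinearMap.range (T - 1)) = 9 ∧
      Nat.card ↥(LinearMap.range ((T - 1) * (T - 1))) = 3 := by
  refine ⟨?_, ?_⟩
  · have h' := Module.natCard_eq_pow_finrank (K := ZMod 3) (V := LinearMap.range (T - 1))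
    rw [h.rk2, Nat.card_zmod] at h'
    rw [h']; norm_num
  · have h' := Module.natCard_eq_pow_finrank (K := ZMod 3) (V := LinearMap.range ((T - 1) * (T - 1)))
    rw [h.rk1, Nat.card_zmod] at h'
    rw [h']; norm_num

/-- `split` with the range statement -/
theorem JD.split' {T : Module.End (ZMod 3) V} (h : JD T) (V₁ V₂ : Submodule (ZMod 3) V)
    (h12 : V₁ ⊓ V₂ = ⊥) (h12' : V₁ ⊔ V₂ = ⊤) (h1 : ∀ v ∈ V₁, T v ∈ V₁) (h2 : ∀ v ∈ V₂, T v ∈ V₂) :
    ((∀ v ∈ V₁, T v = v) ∧ LinearMap.range (T - 1) ≤ V₂) ∨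
      ((∀ v ∈ V₂, T v = v) ∧ LinearMap.range (T - 1) ≤ V₁) := by
  have key : ∀ (U₁ U₂ : Submodule (ZMod 3) V), U₁ ⊔ U₂ = ⊤ → (∀ v ∈ U₂, T v ∈ U₂) →
      (∀ v ∈ U₁, T v = v) → LinearMap.range (T - 1) ≤ U₂ := by
    intro U₁ U₂ hU h2 h1
    rintro _ ⟨v, rfl⟩
    have hv : v ∈ U₁ ⊔ U₂ := by rw [hU]; trivial
    obtain ⟨a, ha, c, hc, rfl⟩ := Submodule.mem_sup.mp hv
    simp only [LinearMap.sub_apply, Module.End.one_apply, map_add]
    rw [h1 a ha]
    rw [sub_self, zero_add]
    exact U₂.sub_mem (h2 c hc) hc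
  rcases h.split V₁ V₂ h12 h12' h1 h2 with h' | h'
  · left
    exact ⟨h', key V₁ V₂ h12' h2 h'⟩
  · right
    exact ⟨h', key V₂ V₁ (by rw [sup_comm]; exact h12') h1 h'⟩

end Cfsg.Agent.Helper22.NGJ
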