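import Mathlib
import Cfsg.Prelude.Def_Transfer
import Cfsg.Prelude.Def_Solvable
import Cfsg.Agent.Lib.Helper16.Solvable2
import Cfsg.Agent.Lib.Helper9.PPrimeCoreSub
import Cfsg.Agent.Lib.Helper22.PPrimeCore
import Cfsg.Agent.Lib.Helper14.Basic
import Cfsg.Agent.Lib.Helper5.BGFwK
import Cfsg.Agent.Lib.Helper1.CommutatorBasic

set_option autoImplicit false
set_option linter.style.haveILetI false

namespace Cfsg.Agent.Helper22.NGQleK

open Cfsg

variable {S : Type*} [Group S]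

/-- fixed points of `b` on `Q` are trivial -/
theorem fixed_eq_one (Q : Subgroup S) (hQ : IsElementaryAbelian 2 Q) (hQ4 : Nat.card Q = 4)
    (b : S) (hb3 : b ^ 3 = 1) (hbQ : b ∈ Subgroup.normalizer (Q : Set S))
    (hbQ' : ∃ q ∈ Q, b⁻¹ * q * b ≠ q) :
    ∀ q0 ∈ Q, b⁻¹ * q0 * b = q0 → q0 = 1 := by
  intro q0 hq0 hfix
  by_contra hne
  obtain ⟨q, hq, hqne⟩ := hbQ'
  have hsq : ∀ a ∈ Q, a * a = 1 := fun a ha => by
    have := hQ.2 a ha
    rwa [pow_two] at this
  have hcomm : ∀ a ∈ Q, ∀ c ∈ Q, a * c = c * a := by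
    intro a ha c hc
    have := hQ.1.is_comm.comm ⟨a, ha⟩ ⟨c, hc⟩
    exact congrArg Subtype.val this
  have hcQ : ∀ a ∈ Q, b⁻¹ * a * b ∈ Q := by
    intro a ha
    have := (Subgroup.mem_normalizer_iff'.mp hbQ (b⁻¹ * a)).mpr (by simpa using ha)
    simpa [mul_assoc] using this
  have hq1 : q ≠ 1 := by
    rintro rfl
    apply hqne; simp
  have hqq0 : q ≠ q0 := by
    rintro rfl
    exact hqne hfix
  -- the four elements
  have hfin : Finite Q := Nat.finite_of_card_ne_zero (by rw [hQ4]; norm_num)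
  have := Fintype.ofFinite Q
  classical
  let A : Finset Q := {1, ⟨q0, hq0⟩, ⟨q, hq⟩, ⟨q * q0, Q.mul_mem hq hq0⟩}
  have hA4 : A.card = 4 := by
    have h1 : (1 : Q) ≠ ⟨q0, hq0⟩ := fun h => hne (congrArg Subtype.val h).symm
    have h2 : (1 : Q) ≠ ⟨q, hq⟩ := fun h => hq1 (congrArg Subtype.val h).symm
    have h3 : (1 : Q) ≠ ⟨q * q0, Q.mul_mem hq hq0⟩ := fun h => by
      have h' : q * q0 = 1 := (congrArg Subtype.val h).symm
      apply hqq0
      have := hsq q0 hq0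
      calc q = q * (q0 * q0) := by rw [this, mul_one]
        _ = (q * q0) * q0 := by rw [mul_assoc]
        _ = q0 := by rw [h', one_mul]
    have h4 : (⟨q0, hq0⟩ : Q) ≠ ⟨q, hq⟩ := fun h => hqq0 (congrArg Subtype.val h).symm
    have h5 : (⟨q0, hq0⟩ : Q) ≠ ⟨q * q0, Q.mul_mem hq hq0⟩ := fun h => by
      have h' : q0 = q * q0 := congrArg Subtype.val h
      apply hq1
      have : q * q0 = 1 * q0 := by rw [one_mul]; exact h'.symm
      exact mul_right_cancel this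
    have h6 : (⟨q, hq⟩ : Q) ≠ ⟨q * q0, Q.mul_mem hq hq0⟩ := fun h => by
      have h' : q = q * q0 := congrArg Subtype.val h
      apply hne
      have : q * q0 = q * 1 := by rw [mul_one]; exact h'.symm
      exact mul_left_cancel this
    simp only [A]
    rw [Finset.card_insert_of_notMem, Finset.card_insert_of_notMem, Finset.card_insert_of_notMem,
      Finset.card_singleton]
    · simp only [Finset.mem_singleton]; exact h6
    · simp only [Finset.mem_insert, Finset.mem_singleton, not_or]; exact ⟨h4, h5⟩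
    · simp only [Finset.mem_insert, Finset.mem_singleton, not_or]; exact ⟨h1, h2, h3⟩
  have hAuniv : A = Finset.univ := by
    apply Finset.eq_univ_of_card
    rw [hA4, ← Nat.card_eq_fintype_card, hQ4]
  have hmem : (⟨b⁻¹ * q * b, hcQ q hq⟩ : Q) ∈ A := by rw [hAuniv]; exact Finset.mem_univ _
  simp only [A, Finset.mem_insert, Finset.mem_singleton, Subtype.ext_iff] at hmem
  have hinj : ∀ x y : S, b⁻¹ * x * b = b⁻¹ * y * b → x = y := by
    intro x y h
    have := mul_right_cancel h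
    exact mul_left_cancel this
  rcases hmem with h | h | h | h
  · apply hq1
    apply hinj
    rw [h]; simp
  · apply hqq0
    apply hinj
    rw [h, hfix]
  · exact hqne h
  · -- c q = q * q0
    have hc2 : b⁻¹ * (b⁻¹ * q * b) * b = q := by
      rw [h]
      calc b⁻¹ * (q * q0) * b = (b⁻¹ * q * b) * (b⁻¹ * q0 * b) := by group
        _ = (q * q0) * q0 := by rw [h, hfix]
        _ = q := by rw [mul_assoc, hsq q0 hq0, mul_one]
    have hc3 : b⁻¹ * (b⁻¹ * (b⁻¹ * q * b) * b) * b = q := by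
      have : b⁻¹ * (b⁻¹ * (b⁻¹ * q * b) * b) * b = (b ^ 3)⁻¹ * q * b ^ 3 := by
        simp only [pow_succ, pow_zero, one_mul, mul_inv_rev, mul_assoc]
      rw [this, hb3]; simp
    rw [hc2] at hc3
    exact hqne hc3

/-- An element `b` with `b ^ 3 = 1` normalizing a subgroup `Q` of order `4` which it does not
centralize: every element of `Q` is a commutator `q'⁻¹ * (b⁻¹ * q' * b)`. -/
theorem exists_comm_eq (Q : Subgroup S) (hQ : IsElementaryAbelian 2 Q) (hQ4 : Nat.card Q = 4)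
    (b : S) (hb3 : b ^ 3 = 1) (hbQ : b ∈ Subgroup.normalizer (Q : Set S))
    (hbQ' : ∃ q ∈ Q, b⁻¹ * q * b ≠ q) :
    ∀ q ∈ Q, ∃ q' ∈ Q, q = q'⁻¹ * (b⁻¹ * q' * b) := by
  have hfix := fixed_eq_one Q hQ hQ4 b hb3 hbQ hbQ'
  have hfin : Finite Q := Nat.finite_of_card_ne_zero (by rw [hQ4]; norm_num)
  have hcomm : ∀ a ∈ Q, ∀ c ∈ Q, a * c = c * a := by
    intro a ha c hc
    have := hQ.1.is_comm.comm ⟨a, ha⟩ ⟨c, hc⟩
    exact congrArg Subtype.val this
  have hcQ : ∀ a ∈ Q, b⁻¹ * a * b ∈ Q := by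
    intro a ha
    have := (Subgroup.mem_normalizer_iff'.mp hbQ (b⁻¹ * a)).mpr (by simpa using ha)
    simpa [mul_assoc] using this
  let f : Q → Q := fun x => ⟨(x : S)⁻¹ * (b⁻¹ * x * b), Q.mul_mem (Q.inv_mem x.2) (hcQ x x.2)⟩
  have hinj : Function.Injective f := by
    intro x y hxy
    have h : (x : S)⁻¹ * (b⁻¹ * x * b) = (y : S)⁻¹ * (b⁻¹ * y * b) := congrArg Subtype.val hxy
    have hxy' : (x : S) * (y : S)⁻¹ ∈ Q := Q.mul_mem x.2 (Q.inv_mem y.2)
    have key : b⁻¹ * ((x : S) * (y : S)⁻¹) * b = (x : S) * (y : S)⁻¹ := by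
      have h1 : b⁻¹ * (x : S) * b = (x : S) * ((y : S)⁻¹ * (b⁻¹ * y * b)) := by
        rw [← h]; group
      have h2 : b⁻¹ * ((x : S) * (y : S)⁻¹) * b = (b⁻¹ * x * b) * (b⁻¹ * y * b)⁻¹ := by group
      rw [h2, h1]
      group
    have := hfix _ hxy' key
    apply Subtype.ext
    exact mul_inv_eq_one.mp this
  have hsurj : Function.Surjective f := Finite.injective_iff_surjective.mp hinj
  intro q hq
  obtain ⟨x, hx⟩ := hsurj ⟨q, hq⟩
  exact ⟨x, x.2, (congrArg Subtype.val hx).symm⟩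


/-- `Q ≤ O_{3'}(S)` in the setting of Thompson's lemma. -/
theorem q_le_pPrimeCore [Finite S] [hsol : Group.IsSolvable S] (B Q : Subgroup S)
    (hQ : IsElementaryAbelian 2 Q) (hQ4 : Nat.card Q = 4) (hB : Nat.card B = 3)
    (hBQ : B ≤ Subgroup.normalizer (Q : Set S)) (hBQ' : ¬ B ≤ Subgroup.centralizer (Q : Set S))
    (P : Sylow 3 S) (hBZ : (Subgroup.center ↥(P : Subgroup S)).map (P : Subgroup S).subtype = B) :
    Q ≤ pPrimeCore 3 S := by
  haveI : Fact (Nat.Prime 3) := ⟨Nat.prime_three⟩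
  haveI hKn : (pPrimeCore 3 S).Normal := Cfsg.Agent.Helper22.pPrimeCore_normal 3
  -- pick b
  obtain ⟨b, hbB, hbc⟩ := SetLike.not_le_iff_exists.mp hBQ'
  have hb3 : b ^ 3 = 1 := by
    have h := pow_card_eq_one' (G := B) (x := ⟨b, hbB⟩)
    rw [hB] at h
    exact congrArg Subtype.val h
  have hbn : b ∈ Subgroup.normalizer (Q : Set S) := hBQ hbB
  have hbQ' : ∃ q ∈ Q, b⁻¹ * q * b ≠ q := by
    by_contra hcon
    push Not at hcon
    apply hbc
    rw [Subgroup.mem_centralizer_iff]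
    intro q hq
    have := hcon q hq
    calc q * b = b * (b⁻¹ * q * b) := by group
      _ = b * q := by rw [this]
  have hcomm := exists_comm_eq Q hQ hQ4 b hb3 hbn hbQ'
  -- the quotient
  set π := QuotientGroup.mk' (pPrimeCore 3 S) with hπ
  have hπs : Function.Surjective π := QuotientGroup.mk'_surjective _
  have hsolq : Group.IsSolvable (S ⧸ pPrimeCore 3 S) := Group.isSolvable_of_surjective hπs
  have hO : pPrimeCore 3 (S ⧸ pPrimeCore 3 S) = ⊥ := Cfsg.Agent.Helper9.pPrimeCore_quotient_eq_bot 3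
  have hHH := Cfsg.Agent.Helper16.centralizer_pCore_le_of_isSolvable 3 hsolq hO
  -- b in P, central
  have hbP : ∃ z : (P : Subgroup S), z ∈ Subgroup.center ↥(P : Subgroup S) ∧ (z : S) = b := by
    rw [← hBZ] at hbB
    obtain ⟨z, hz, hzb⟩ := Subgroup.mem_map.mp hbB
    exact ⟨z, hz, hzb⟩
  obtain ⟨z, hz, hzb⟩ := hbP
  have hbcent : π b ∈ Subgroup.centralizer (pCore 3 (S ⧸ pPrimeCore 3 S) : Set (S ⧸ pPrimeCore 3 S)) := by
    rw [Subgroup.mem_centralizer_iff]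
    intro y hy
    have hyP : y ∈ ((P.mapSurjective hπs : Sylow 3 (S ⧸ pPrimeCore 3 S)) : Subgroup (S ⧸ pPrimeCore 3 S)) :=
      Cfsg.Agent.Helper14.pCore_le_sylow _ hy
    rw [Sylow.coe_mapSurjective] at hyP
    obtain ⟨x, hxP, rfl⟩ := Subgroup.mem_map.mp hyP
    have hc : (⟨x, hxP⟩ : (P : Subgroup S)) * z = z * ⟨x, hxP⟩ := (Subgroup.mem_center_iff.mp hz ⟨x, hxP⟩)
    have hc' : x * b = b * x := by
      have := congrArg Subtype.val hc
      simpa [hzb] using this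
    rw [← map_mul, ← map_mul, hc']
  have hbO : π b ∈ pCore 3 (S ⧸ pPrimeCore 3 S) := hHH hbcent
  have hOn : (pCore 3 (S ⧸ pPrimeCore 3 S)).Normal :=
    Subgroup.sSup_normal _ (fun _ hK => hK.1)
  have hOp : IsPGroup 3 (pCore 3 (S ⧸ pPrimeCore 3 S)) := Cfsg.Agent.Helper14.pCore_isPGroup 3 _
  intro q hq
  obtain ⟨q', hq', hqq'⟩ := hcomm q hq
  have hπq : π q ∈ pCore 3 (S ⧸ pPrimeCore 3 S) := by
    rw [hqq']
    have h1 : π (q'⁻¹ * (b⁻¹ * q' * b)) = ((π q')⁻¹ * (π b)⁻¹ * (π q')⁻¹⁻¹) * π b := by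
      simp only [map_mul, map_inv, inv_inv, mul_assoc]
    rw [h1]
    apply Subgroup.mul_mem _ _ hbO
    exact hOn.conj_mem _ (Subgroup.inv_mem _ hbO) _
  -- order of π q
  have hq2 : (π q) ^ 2 = 1 := by
    rw [← map_pow, hQ.2 q hq, map_one]
  obtain ⟨k, hk⟩ := hOp ⟨π q, hπq⟩
  have hk' : (π q) ^ (3 ^ k) = 1 := by
    have := congrArg Subtype.val hk
    simpa using this
  have h1 : π q = 1 := by
    have hcop : Nat.Coprime 2 (3 ^ k) := by
      apply Nat.Coprime.pow_right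
      norm_num
    have hord1 : orderOf (π q) ∣ 2 := orderOf_dvd_of_pow_eq_one hq2
    have hord2 : orderOf (π q) ∣ 3 ^ k := orderOf_dvd_of_pow_eq_one hk'
    have : orderOf (π q) = 1 := Nat.eq_one_of_dvd_coprimes hcop hord1 hord2
    exact orderOf_eq_one_iff.mp this
  have : q ∈ (π).ker := MonoidHom.mem_ker.mpr h1
  rwa [hπ, QuotientGroup.ker_mk'] at this


open scoped commutatorElement in
/-- The basic facts on `R = [O_{3'}(S), B]`. -/
theorem r_facts [Finite S] [hsol : Group.IsSolvable S] (B Q : Subgroup S)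
    (hQ : IsElementaryAbelian 2 Q) (hQ4 : Nat.card Q = 4) (hB : Nat.card B = 3)
    (hBQ : B ≤ Subgroup.normalizer (Q : Set S)) (hBQ' : ¬ B ≤ Subgroup.centralizer (Q : Set S))
    (P : Sylow 3 S) (hBZ : (Subgroup.center ↥(P : Subgroup S)).map (P : Subgroup S).subtype = B) :
    Q ≤ ⁅pPrimeCore 3 S, B⁆ ∧ ⁅pPrimeCore 3 S, B⁆ ≤ pPrimeCore 3 S ∧
    (Nat.card ↥⁅pPrimeCore 3 S, B⁆).Coprime 3 ∧
    B ≤ Subgroup.normalizer ((⁅pPrimeCore 3 S, B⁆ : Subgroup S) : Set S) ∧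
    pPrimeCore 3 S ≤ Subgroup.normalizer ((⁅pPrimeCore 3 S, B⁆ : Subgroup S) : Set S) ∧
    ⁅⁅pPrimeCore 3 S, B⁆, B⁆ = ⁅pPrimeCore 3 S, B⁆ := by
  haveI : Fact (Nat.Prime 3) := ⟨Nat.prime_three⟩
  haveI hKn : (pPrimeCore 3 S).Normal := Cfsg.Agent.Helper22.pPrimeCore_normal 3
  have hQK := q_le_pPrimeCore B Q hQ hQ4 hB hBQ hBQ' P hBZ
  have hKcop : (Nat.card (pPrimeCore 3 S)).Coprime 3 := Cfsg.Agent.Helper22.card_pPrimeCore_coprime 3
  have hBK : B ≤ Subgroup.normalizer ((pPrimeCore 3 S : Subgroup S) : Set S) := by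
    rw [Subgroup.normalizer_eq_top]; exact le_top
  have hRK : ⁅pPrimeCore 3 S, B⁆ ≤ pPrimeCore 3 S :=
    Cfsg.Agent.Helper1.commutator_le_of_le_normalizer hBK
  refine ⟨?_, hRK, ?_, Cfsg.Agent.Helper1.le_normalizer_commutator_right _ _,
    Cfsg.Agent.Helper1.le_normalizer_commutator_left _ _, ?_⟩
  · -- Q ≤ R
    obtain ⟨b, hbB, hbc⟩ := SetLike.not_le_iff_exists.mp hBQ'
    have hb3 : b ^ 3 = 1 := by
      have h := pow_card_eq_one' (G := B) (x := ⟨b, hbB⟩)
      rw [hB] at h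
      exact congrArg Subtype.val h
    have hbn : b ∈ Subgroup.normalizer (Q : Set S) := hBQ hbB
    have hbQ' : ∃ q ∈ Q, b⁻¹ * q * b ≠ q := by
      by_contra hcon
      push Not at hcon
      apply hbc
      rw [Subgroup.mem_centralizer_iff]
      intro q hq
      have := hcon q hq
      calc q * b = b * (b⁻¹ * q * b) := by group
        _ = b * q := by rw [this]
    intro q hq
    obtain ⟨q', hq', rfl⟩ := exists_comm_eq Q hQ hQ4 b hb3 hbn hbQ' q hq
    have : q'⁻¹ * (b⁻¹ * q' * b) = ⁅q'⁻¹, b⁻¹⁆ := by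
      rw [commutatorElement_def]; group
    rw [this]
    exact Subgroup.commutator_mem_commutator ((pPrimeCore 3 S).inv_mem (hQK hq')) (B.inv_mem hbB)
  · exact Nat.Coprime.coprime_dvd_left (Subgroup.card_dvd_of_le hRK) hKcop
  · apply Cfsg.Agent.Helper5.BGFwK.comm_comm_eq_of_coprime _ _ hBK
    · rw [hB]; exact hKcop.symm
    · infer_instance

end Cfsg.Agent.Helper22.NGQleK
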