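import Mathlib
import Cfsg.Prelude.Def_Transfer
import Cfsg.Agent.Lib.Helper22.NGQleK
import Cfsg.Agent.Lib.Helper22.NGJordan

set_option autoImplicit false
set_option linter.style.haveILetI false

/-!
# S4415 (Thompson's `F₃`-lemma): the four-group `Q` and its weight frame
-/

namespace Cfsg.Agent.Helper22.NGF

open Cfsg Cfsg.Agent.Helper22.NGJ

variable {G : Type*} [Group G]

/-- The three involutions of `Q`, cycled by `b`. -/
theorem four_group_cycle (Q : Subgroup G) (hQ : IsElementaryAbelian 2 Q) (hQ4 : Nat.card Q = 4)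
    (b : G) (hb3 : b ^ 3 = 1) (hbQ : b ∈ Subgroup.normalizer (Q : Set G))
    (hbQ' : ∃ q ∈ Q, b⁻¹ * q * b ≠ q) :
    ∃ x₁ x₂ x₃ : G, x₁ ∈ Q ∧ x₂ ∈ Q ∧ x₃ ∈ Q ∧ x₁ ≠ 1 ∧ x₂ ≠ 1 ∧ x₃ ≠ 1 ∧
      x₁ ≠ x₂ ∧ x₂ ≠ x₃ ∧ x₁ ≠ x₃ ∧
      b * x₁ * b⁻¹ = x₂ ∧ b * x₂ * b⁻¹ = x₃ ∧ b * x₃ * b⁻¹ = x₁ ∧
      x₁ * x₂ = x₃ ∧ x₂ * x₃ = x₁ ∧ x₁ * x₃ = x₂ ∧
      x₁ * x₁ = 1 ∧ x₂ * x₂ = 1 ∧ x₃ * x₃ = 1 ∧
      x₁ * x₂ = x₂ * x₁ ∧ x₁ * x₃ = x₃ * x₁ ∧ x₂ * x₃ = x₃ * x₂ ∧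
      (∀ q ∈ Q, q = 1 ∨ q = x₁ ∨ q = x₂ ∨ q = x₃) := by
  have hfix := Cfsg.Agent.Helper22.NGQleK.fixed_eq_one Q hQ hQ4 b hb3 hbQ hbQ'
  have hsq : ∀ a ∈ Q, a * a = 1 := fun a ha => by
    have := hQ.2 a ha
    rwa [pow_two] at this
  have hcomm : ∀ a ∈ Q, ∀ c ∈ Q, a * c = c * a := by
    intro a ha c hc
    have := hQ.1.is_comm.comm ⟨a, ha⟩ ⟨c, hc⟩
    exact congrArg Subtype.val this
  have hcQ : ∀ a ∈ Q, b * a * b⁻¹ ∈ Q := by
    intro a ha
    exact (Subgroup.mem_normalizer_iff.mp hbQ a).mp ha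
  -- fixed under b·b⁻¹ implies fixed under b⁻¹·b
  have hfix' : ∀ q ∈ Q, b * q * b⁻¹ = q → q = 1 := by
    intro q hq h
    apply hfix q hq
    calc b⁻¹ * q * b = b⁻¹ * (b * q * b⁻¹) * b := by rw [h]
      _ = q := by group
  have hfin : Finite Q := Nat.finite_of_card_ne_zero (by rw [hQ4]; norm_num)
  -- pick x₁
  have hex : ∃ x ∈ Q, x ≠ 1 := by
    obtain ⟨q, hq, hne⟩ := hbQ'
    refine ⟨q, hq, ?_⟩
    rintro rfl
    apply hne; group
  obtain ⟨x₁, hx₁, hx₁1⟩ := hex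
  obtain ⟨x₂, hx₂def⟩ : ∃ x, x = b * x₁ * b⁻¹ := ⟨_, rfl⟩
  obtain ⟨x₃, hx₃def⟩ : ∃ x, x = b * x₂ * b⁻¹ := ⟨_, rfl⟩
  have hx₂ : x₂ ∈ Q := hx₂def ▸ hcQ x₁ hx₁
  have hx₃ : x₃ ∈ Q := hx₃def ▸ hcQ x₂ hx₂
  have h31 : b * x₃ * b⁻¹ = x₁ := by
    rw [hx₃def, hx₂def]
    have : b * (b * (b * x₁ * b⁻¹) * b⁻¹) * b⁻¹ = b ^ 3 * x₁ * (b ^ 3)⁻¹ := by
      simp only [pow_succ, pow_zero, one_mul, mul_inv_rev, mul_assoc]
    rw [this, hb3]; simp
  have hx₂1 : x₂ ≠ 1 := by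
    intro h
    apply hx₁1
    have : b * x₁ * b⁻¹ = 1 := hx₂def ▸ h
    calc x₁ = b⁻¹ * (b * x₁ * b⁻¹) * b := by group
      _ = 1 := by rw [this]; group
  have hx₃1 : x₃ ≠ 1 := by
    intro h
    apply hx₂1
    have : b * x₂ * b⁻¹ = 1 := hx₃def ▸ h
    calc x₂ = b⁻¹ * (b * x₂ * b⁻¹) * b := by group
      _ = 1 := by rw [this]; group
  have h12 : x₁ ≠ x₂ := fun h => hx₁1 (hfix' x₁ hx₁ (by rw [← hx₂def]; exact h.symm))
  have h23 : x₂ ≠ x₃ := fun h => hx₂1 (hfix' x₂ hx₂ (by rw [← hx₃def]; exact h.symm))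
  have h13 : x₁ ≠ x₃ := by
    intro h
    apply h12
    -- x₃ = x₁ so b x₁ b⁻¹ = b x₃ b⁻¹ = x₁
    have : b * x₁ * b⁻¹ = x₁ := by
      conv_lhs => rw [h]
      exact h31
    rw [← hx₂def] at this
    exact this.symm
  -- the four elements exhaust Q
  have := Fintype.ofFinite Q
  classical
  let A : Finset Q := {1, ⟨x₁, hx₁⟩, ⟨x₂, hx₂⟩, ⟨x₃, hx₃⟩}
  have hA4 : A.card = 4 := by
    have e1 : (1 : Q) ≠ ⟨x₁, hx₁⟩ := fun h => hx₁1 (congrArg Subtype.val h).symm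
    have e2 : (1 : Q) ≠ ⟨x₂, hx₂⟩ := fun h => hx₂1 (congrArg Subtype.val h).symm
    have e3 : (1 : Q) ≠ ⟨x₃, hx₃⟩ := fun h => hx₃1 (congrArg Subtype.val h).symm
    have e4 : (⟨x₁, hx₁⟩ : Q) ≠ ⟨x₂, hx₂⟩ := fun h => h12 (congrArg Subtype.val h)
    have e5 : (⟨x₁, hx₁⟩ : Q) ≠ ⟨x₃, hx₃⟩ := fun h => h13 (congrArg Subtype.val h)
    have e6 : (⟨x₂, hx₂⟩ : Q) ≠ ⟨x₃, hx₃⟩ := fun h => h23 (congrArg Subtype.val h)
    simp only [A]
    rw [Finset.card_insert_of_notMem, Finset.card_insert_of_notMem, Finset.card_insert_of_notMem,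
      Finset.card_singleton]
    · simp only [Finset.mem_singleton]; exact e6
    · simp only [Finset.mem_insert, Finset.mem_singleton, not_or]; exact ⟨e4, e5⟩
    · simp only [Finset.mem_insert, Finset.mem_singleton, not_or]; exact ⟨e1, e2, e3⟩
  have hAuniv : A = Finset.univ := by
    apply Finset.eq_univ_of_card
    rw [hA4, ← Nat.card_eq_fintype_card, hQ4]
  have hall : ∀ q ∈ Q, q = 1 ∨ q = x₁ ∨ q = x₂ ∨ q = x₃ := by
    intro q hq
    have hmem : (⟨q, hq⟩ : Q) ∈ A := by rw [hAuniv]; exact Finset.mem_univ _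
    simpa only [A, Finset.mem_insert, Finset.mem_singleton, Subtype.ext_iff, Subgroup.coe_one] using hmem
  have hp12 : x₁ * x₂ = x₃ := by
    rcases hall _ (Q.mul_mem hx₁ hx₂) with h | h | h | h
    · exfalso
      apply h12
      calc x₁ = x₁ * (x₂ * x₂) := by rw [hsq x₂ hx₂, mul_one]
        _ = (x₁ * x₂) * x₂ := by rw [mul_assoc]
        _ = x₂ := by rw [h, one_mul]
    · exfalso
      apply hx₂1
      have : x₁ * x₂ = x₁ * 1 := by rw [mul_one]; exact h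
      exact mul_left_cancel this
    · exfalso
      apply hx₁1
      have : x₁ * x₂ = 1 * x₂ := by rw [one_mul]; exact h
      exact mul_right_cancel this
    · exact h
  have hp23 : x₂ * x₃ = x₁ := by
    rw [← hp12, ← mul_assoc, hcomm x₂ hx₂ x₁ hx₁, mul_assoc, hsq x₂ hx₂, mul_one]
  have hp13 : x₁ * x₃ = x₂ := by
    rw [← hp12, ← mul_assoc, hsq x₁ hx₁, one_mul]
  exact ⟨x₁, x₂, x₃, hx₁, hx₂, hx₃, hx₁1, hx₂1, hx₃1, h12, h23, h13, hx₂def.symm, hx₃def.symm, h31, hp12, hp23, hp13,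
    hsq x₁ hx₁, hsq x₂ hx₂, hsq x₃ hx₃, hcomm x₁ hx₁ x₂ hx₂, hcomm x₁ hx₁ x₃ hx₃,
    hcomm x₂ hx₂ x₃ hx₃, hall⟩


section core

variable {V : Type*} [AddCommGroup V] [Module (ZMod 3) V]

theorem two_smul_eq_zero' {e : V} (h : e = -e) : e = 0 := by
  have h2 : (2 : ZMod 3) • e = 0 := by
    rw [two_smul]
    nth_rewrite 2 [h]
    exact add_neg_cancel e
  rcases smul_eq_zero.mp h2 with h' | h'
  · exact absurd h' (by decide)
  · exact h'

theorem four_eq (v : V) : v + v + v + v = v := by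
  have := ZModModule.char_nsmul_eq_zero 3 v
  have h3 : v + v + v = 0 := by
    rw [← this]; simp only [succ_nsmul, zero_nsmul, zero_add]
  rw [h3, zero_add]

/-- The weight frame of a four-group `{1, X₁, X₂, X₁X₂}` cycled by `T`. -/
theorem frame_core [Finite V] (T X1 X2 : Module.End (ZMod 3) V) (hJ : JD T)
    (a1 : ∀ v, X1 (X1 v) = v) (a2 : ∀ v, X2 (X2 v) = v) (a12 : ∀ v, X1 (X2 v) = X2 (X1 v))
    (t1 : ∀ v, T (X1 v) = X2 (T v)) (t2 : ∀ v, T (X2 v) = X1 (X2 (T v)))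
    (hX1 : ∃ v, X1 v ≠ v) :
    ∃ e₁ e₂ e₃ : V, e₁ ≠ 0 ∧ T e₁ = e₂ ∧ T e₂ = e₃ ∧ T e₃ = e₁ ∧
      X1 e₁ = e₁ ∧ X1 e₂ = -e₂ ∧ X1 e₃ = -e₃ ∧ X2 e₁ = -e₁ ∧ X2 e₂ = e₂ ∧ X2 e₃ = -e₃ ∧
      (∀ v, ∃ s₁ s₂ s₃ : ZMod 3, ∃ c : V, X1 c = c ∧ X2 c = c ∧
        v = s₁ • e₁ + s₂ • e₂ + s₃ • e₃ + c) ∧
      (∀ c, X1 c = c → X2 c = c → T c = c) ∧
      (∀ v, X1 v = v → X2 v = -v → ∃ s : ZMod 3, v = s • e₁) := by
  have tt : ∀ v, T (T (T v)) = v := by
    intro v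
    have := congrArg (fun f => f v) hJ.cube
    simpa using this
  have tinj : ∀ v, T v = 0 → v = 0 := by
    intro v hv
    rw [← tt v, hv, map_zero, map_zero]
  have t3 : ∀ v, T (X1 (X2 v)) = X1 (T v) := by
    intro v
    rw [t1, t2, ← a12, a2]
  -- the three eigenspaces
  -- l1 : X1 = 1, X2 = -1
  have hl12 : ∀ v, X1 v = v → X2 v = -v → (X1 (T v) = -T v ∧ X2 (T v) = T v) := by
    intro v h1 h2
    refine ⟨?_, ?_⟩
    · rw [← t3, h2, map_neg, h1, map_neg]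
    · rw [← t1, h1]
  -- l2 : X1 = -1, X2 = 1  ->  l3 : X1 = -1, X2 = -1
  have hl23 : ∀ v, X1 v = -v → X2 v = v → (X1 (T v) = -T v ∧ X2 (T v) = -T v) := by
    intro v h1 h2
    refine ⟨?_, ?_⟩
    · rw [← t3, h2, h1, map_neg]
    · rw [← t1, h1, map_neg]
  have hl31 : ∀ v, X1 v = -v → X2 v = -v → (X1 (T v) = T v ∧ X2 (T v) = -T v) := by
    intro v h1 h2
    refine ⟨?_, ?_⟩
    · rw [← t3, h2, map_neg, h1, neg_neg]
    · rw [← t1, h1, map_neg]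
  let l1 : Submodule (ZMod 3) V :=
    { carrier := {v | X1 v = v ∧ X2 v = -v}
      add_mem' := by
        rintro u v ⟨hu1, hu2⟩ ⟨hv1, hv2⟩
        exact ⟨by rw [map_add, hu1, hv1], by rw [map_add, hu2, hv2, neg_add]⟩
      zero_mem' := ⟨map_zero _, by rw [map_zero, neg_zero]⟩
      smul_mem' := by
        rintro c v ⟨hv1, hv2⟩
        exact ⟨by rw [map_smul, hv1], by rw [map_smul, hv2, smul_neg]⟩ }
  have hl1mem : ∀ v, v ∈ l1 ↔ (X1 v = v ∧ X2 v = -v) := fun v => Iff.rfl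
  -- projection to l1 kills T l1 and T² l1
  have hfree : ∀ y₁ ∈ l1, ∀ y₂ ∈ l1, ∀ y₃ ∈ l1, y₁ + T y₂ + T (T y₃) = 0 →
      y₁ = 0 ∧ y₂ = 0 ∧ y₃ = 0 := by
    have step : ∀ y ∈ l1, ∀ z : V, X1 z = -z → y + z = 0 → y = 0 := by
      intro y hy z hz hyz
      have h1 : X1 (y + z) = 0 := by rw [hyz, map_zero]
      rw [map_add, hy.1, hz] at h1
      -- y - z = 0 and y + z = 0
      have h2 : y = -y := by
        have e1 : z = -y := by
          have := hyz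
          exact (neg_eq_of_add_eq_zero_right this).symm ▸ rfl
        have e2 : y + -z = 0 := h1
        rw [e1, neg_neg] at e2
        exact (neg_eq_of_add_eq_zero_right e2).symm ▸ rfl
      exact two_smul_eq_zero' h2
    intro y₁ hy₁ y₂ hy₂ y₃ hy₃ h
    have hT2 := hl12 y₂ hy₂.1 hy₂.2
    have hT3 := hl12 y₃ hy₃.1 hy₃.2
    have hTT3 := hl23 (T y₃) hT3.1 hT3.2
    have e1 : y₁ = 0 := by
      apply step y₁ hy₁ (T y₂ + T (T y₃))
      · rw [map_add, hT2.1, hTT3.1, neg_add]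
      · rw [← add_assoc]; exact h
    subst e1
    rw [zero_add] at h
    have h' : y₂ + T y₃ = 0 := by
      apply tinj
      rw [map_add]; exact h
    have e2 : y₂ = 0 := step y₂ hy₂ (T y₃) hT3.1 h'
    subst e2
    rw [zero_add] at h'
    exact ⟨rfl, rfl, tinj _ h'⟩
  have hdim : Module.finrank (ZMod 3) l1 ≤ 1 := hJ.finrank_le_one_of_free l1 hfree
  -- components
  have hu1 : ∀ v, v + X1 v - X2 v - X1 (X2 v) ∈ l1 := by
    intro v
    refine ⟨?_, ?_⟩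
    · simp only [map_add, map_sub, a1]
      abel
    · simp only [map_add, map_sub, a2, ← a12]
      abel
  have hc : ∀ v, X1 (v + X1 v + X2 v + X1 (X2 v)) = v + X1 v + X2 v + X1 (X2 v) ∧
      X2 (v + X1 v + X2 v + X1 (X2 v)) = v + X1 v + X2 v + X1 (X2 v) := by
    intro v
    refine ⟨?_, ?_⟩
    · simp only [map_add, a1]
      abel
    · simp only [map_add, a2, ← a12]
      abel
  have hu2 : ∀ v, X1 (v - X1 v + X2 v - X1 (X2 v)) = -(v - X1 v + X2 v - X1 (X2 v)) ∧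
      X2 (v - X1 v + X2 v - X1 (X2 v)) = v - X1 v + X2 v - X1 (X2 v) := by
    intro v
    refine ⟨?_, ?_⟩
    · simp only [map_add, map_sub, a1]
      abel
    · simp only [map_add, map_sub, a2, ← a12]
      abel
  have hu3 : ∀ v, X1 (v - X1 v - X2 v + X1 (X2 v)) = -(v - X1 v - X2 v + X1 (X2 v)) ∧
      X2 (v - X1 v - X2 v + X1 (X2 v)) = -(v - X1 v - X2 v + X1 (X2 v)) := by
    intro v
    refine ⟨?_, ?_⟩
    · simp only [map_add, map_sub, a1]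
      abel
    · simp only [map_add, map_sub, a2, ← a12]
      abel
  have hsum : ∀ v, (v + X1 v - X2 v - X1 (X2 v)) + (v - X1 v + X2 v - X1 (X2 v)) +
      (v - X1 v - X2 v + X1 (X2 v)) + (v + X1 v + X2 v + X1 (X2 v)) = v := by
    intro v
    have : (v + X1 v - X2 v - X1 (X2 v)) + (v - X1 v + X2 v - X1 (X2 v)) +
      (v - X1 v - X2 v + X1 (X2 v)) + (v + X1 v + X2 v + X1 (X2 v)) = v + v + v + v := by abel
    rw [this, four_eq]
  -- l1 ≠ ⊥
  have hne : ∃ e ∈ l1, e ≠ 0 := by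
    by_contra hcon
    push Not at hcon
    obtain ⟨v, hv⟩ := hX1
    apply hv
    have z1 : v + X1 v - X2 v - X1 (X2 v) = 0 := hcon _ (hu1 v)
    have z2 : v - X1 v + X2 v - X1 (X2 v) = 0 := by
      -- T (T u2) ∈ l1
      have h2 := hu2 v
      have h3 := hl23 _ h2.1 h2.2
      have h4 := hl31 _ h3.1 h3.2
      have := hcon _ ((hl1mem _).mpr h4)
      exact tinj _ (tinj _ this)
    have z3 : v - X1 v - X2 v + X1 (X2 v) = 0 := by
      have h3 := hu3 v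
      have h4 := hl31 _ h3.1 h3.2
      have := hcon _ ((hl1mem _).mpr h4)
      exact tinj _ this
    have hv' := hsum v
    rw [z1, z2, z3, zero_add, zero_add, zero_add] at hv'
    rw [← hv']
    exact (hc v).1
  obtain ⟨e₁, he₁, he₁0⟩ := hne
  -- every element of l1 is a multiple of e₁
  have hmult : ∀ u ∈ l1, ∃ s : ZMod 3, u = s • e₁ := by
    intro u hu
    have hle : Module.finrank (ZMod 3) l1 ≤ 1 := hdim
    have h1 := (finrank_le_one_iff (K := ZMod 3) (V := l1)).mp hle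
    obtain ⟨w, hw⟩ := h1
    obtain ⟨c1, hc1⟩ := hw ⟨e₁, he₁⟩
    obtain ⟨c2, hc2⟩ := hw ⟨u, hu⟩
    have hc1' : c1 • (w : V) = e₁ := congrArg Subtype.val hc1
    have hc2' : c2 • (w : V) = u := congrArg Subtype.val hc2
    have hc10 : c1 ≠ 0 := by
      rintro rfl
      rw [zero_smul] at hc1'
      exact he₁0 hc1'.symm
    refine ⟨c2 * c1⁻¹, ?_⟩
    rw [← hc1', smul_smul, mul_assoc, inv_mul_cancel₀ hc10, mul_one, hc2']
  have he₂ := hl12 e₁ he₁.1 he₁.2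
  have he₃ := hl23 (T e₁) he₂.1 he₂.2
  refine ⟨e₁, T e₁, T (T e₁), he₁0, rfl, rfl, tt e₁, he₁.1, he₂.1, he₃.1, he₁.2, he₂.2, he₃.2, ?_, ?_,
    fun v h1 h2 => hmult v ⟨h1, h2⟩⟩
  · intro v
    obtain ⟨s₁, hs₁⟩ := hmult _ (hu1 v)
    have h2 := hu2 v
    have h3 := hl23 _ h2.1 h2.2
    have h4 := hl31 _ h3.1 h3.2
    obtain ⟨s₂, hs₂⟩ := hmult _ ((hl1mem _).mpr h4)
    have h3' := hu3 v
    have h4' := hl31 _ h3'.1 h3'.2
    obtain ⟨s₃, hs₃⟩ := hmult _ ((hl1mem _).mpr h4')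
    refine ⟨s₁, s₂, s₃, v + X1 v + X2 v + X1 (X2 v), (hc v).1, (hc v).2, ?_⟩
    have e2 : v - X1 v + X2 v - X1 (X2 v) = s₂ • T e₁ := by
      have := congrArg T hs₂
      rw [tt, map_smul] at this
      exact this
    have e3 : v - X1 v - X2 v + X1 (X2 v) = s₃ • T (T e₁) := by
      have := congrArg (fun w => T (T w)) hs₃
      simp only [tt, map_smul] at this
      exact this
    rw [← hs₁, ← e2, ← e3]
    exact (hsum v).symm
  · -- T trivial on C_V(Q)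
    let p : Module.End (ZMod 3) V := 1 + X1 + X2 + X1 * X2
    have hp : ∀ v, p v = v + X1 v + X2 v + X1 (X2 v) := fun v => by
      simp only [p, LinearMap.add_apply, Module.End.one_apply, Module.End.mul_apply]
    have hpp : ∀ v, p (p v) = p v := by
      intro v
      have h1 : X1 (p v) = p v := by rw [hp]; exact (hc v).1
      have h2 : X2 (p v) = p v := by rw [hp]; exact (hc v).2
      rw [hp (p v), h2, h1]
      exact four_eq _
    have hTp : ∀ v, T (p v) = p (T v) := by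
      intro v
      rw [hp, hp, map_add, map_add, map_add, t1, t2, t3]
      abel
    have hsplit := hJ.split (LinearMap.ker p) (LinearMap.range p) ?_ ?_ ?_ ?_
    · rcases hsplit with h | h
      · exfalso
        have hk : e₁ ∈ LinearMap.ker p := by
          rw [LinearMap.mem_ker, hp, he₁.1, he₁.2, map_neg, he₁.1]
          abel
        have := h e₁ hk
        have h2 := he₂.1
        rw [this, he₁.1] at h2
        exact he₁0 (two_smul_eq_zero' h2)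
      · intro c hc1 hc2
        apply h
        refine ⟨c, ?_⟩
        rw [hp, hc2, hc1]
        exact four_eq c
    · rw [eq_bot_iff]
      rintro v ⟨hv1, ⟨w, rfl⟩⟩
      have : p (p w) = 0 := hv1
      rw [hpp] at this
      rw [Submodule.mem_bot]; exact this
    · rw [eq_top_iff]
      intro v _
      have : v = (v - p v) + p v := by abel
      rw [this]
      apply Submodule.add_mem_sup
      · rw [LinearMap.mem_ker, map_sub, hpp, sub_self]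
      · exact ⟨v, rfl⟩
    · intro v hv
      rw [LinearMap.mem_ker] at hv ⊢
      rw [← hTp, hv, map_zero]
    · rintro _ ⟨w, rfl⟩
      exact ⟨T w, (hTp w).symm⟩

end core

end Cfsg.Agent.Helper22.NGF
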