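import Mathlib
import Cfsg.Agent.Lib.Helper26.PARANK1Q

set_option autoImplicit false
set_option linter.unusedSectionVars false
set_option linter.unusedVariables false
set_option linter.style.haveILetI false
set_option linter.unnecessarySimpa false
set_option linter.unusedSimpArgs false

/-! S4613 sub-piece PAPSL-N2 (helper22): `NoPAut p (PSL₂(F))`, `4 ≤ |F|`, from helper26's rank-one
criterion with the explicit Bruhat data of `SL₂(F)`. -/

namespace Cfsg.Agent.Helper28.PA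

open Matrix

section n2

variable {F : Type*} [Field F]

theorem n2_det (g : SpecialLinearGroup (Fin 2) F) : g 0 0 * g 1 1 - g 0 1 * g 1 0 = 1 := by
  have := g.det_coe
  rw [Matrix.det_fin_two] at this
  exact this

theorem n2_mul_apply (A B : SpecialLinearGroup (Fin 2) F) (i j : Fin 2) :
    (A * B) i j = A i 0 * B 0 j + A i 1 * B 1 j := by
  rw [Matrix.SpecialLinearGroup.coe_mul, Matrix.mul_apply, Fin.sum_univ_two]

theorem n2_inv_00 (A : SpecialLinearGroup (Fin 2) F) : A⁻¹ 0 0 = A 1 1 := by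
  rw [Matrix.SpecialLinearGroup.coe_inv, Matrix.adjugate_fin_two]; rfl

theorem n2_inv_01 (A : SpecialLinearGroup (Fin 2) F) : A⁻¹ 0 1 = -A 0 1 := by
  rw [Matrix.SpecialLinearGroup.coe_inv, Matrix.adjugate_fin_two]; rfl

theorem n2_inv_10 (A : SpecialLinearGroup (Fin 2) F) : A⁻¹ 1 0 = -A 1 0 := by
  rw [Matrix.SpecialLinearGroup.coe_inv, Matrix.adjugate_fin_two]; rfl

theorem n2_inv_11 (A : SpecialLinearGroup (Fin 2) F) : A⁻¹ 1 1 = A 0 0 := by
  rw [Matrix.SpecialLinearGroup.coe_inv, Matrix.adjugate_fin_two]; rfl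

theorem n2_one_00 : (1 : SpecialLinearGroup (Fin 2) F) 0 0 = 1 := by simp
theorem n2_one_01 : (1 : SpecialLinearGroup (Fin 2) F) 0 1 = 0 := by simp
theorem n2_one_10 : (1 : SpecialLinearGroup (Fin 2) F) 1 0 = 0 := by simp
theorem n2_one_11 : (1 : SpecialLinearGroup (Fin 2) F) 1 1 = 1 := by simp

theorem n2_ext (A B : SpecialLinearGroup (Fin 2) F) (h00 : A 0 0 = B 0 0) (h01 : A 0 1 = B 0 1)
    (h10 : A 1 0 = B 1 0) (h11 : A 1 1 = B 1 1) : A = B := by
  apply Matrix.SpecialLinearGroup.ext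
  intro i j
  fin_cases i <;> fin_cases j
  · exact h00
  · exact h01
  · exact h10
  · exact h11

theorem n2_ext3 (A B : SpecialLinearGroup (Fin 2) F) (h00 : A 0 0 = B 0 0)
    (h10 : A 1 0 = B 1 0) (h11 : A 1 1 = B 1 1) (hne : A 1 0 ≠ 0) : A = B := by
  have hA := n2_det A
  have hB := n2_det B
  rw [← h00, ← h10, ← h11] at hB
  have h01 : A 0 1 = B 0 1 := by
    have : (A 0 1 - B 0 1) * A 1 0 = 0 := by linear_combination hB - hA
    rcases mul_eq_zero.1 this with h | h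
    · linear_combination h
    · exact absurd h hne
  exact n2_ext A B h00 h01 h10 h11

/-- the element with given entries -/
def n2_mk (a b c d : F) (h : a * d - b * c = 1) : SpecialLinearGroup (Fin 2) F :=
  ⟨!![a, b; c, d], by rw [Matrix.det_fin_two]; simpa using h⟩

theorem n2_mk_00 (a b c d : F) (h : a * d - b * c = 1) : (n2_mk a b c d h) 0 0 = a := rfl
theorem n2_mk_01 (a b c d : F) (h : a * d - b * c = 1) : (n2_mk a b c d h) 0 1 = b := rfl
theorem n2_mk_10 (a b c d : F) (h : a * d - b * c = 1) : (n2_mk a b c d h) 1 0 = c := rfl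
theorem n2_mk_11 (a b c d : F) (h : a * d - b * c = 1) : (n2_mk a b c d h) 1 1 = d := rfl

/-- upper unitriangular subgroup -/
def n2_U (F : Type*) [Field F] : Subgroup (SpecialLinearGroup (Fin 2) F) where
  carrier := {g | g 0 0 = 1 ∧ g 1 0 = 0 ∧ g 1 1 = 1}
  mul_mem' := by
    rintro a b ⟨a00, a10, a11⟩ ⟨b00, b10, b11⟩
    refine ⟨?_, ?_, ?_⟩
    · rw [n2_mul_apply, a00, b00, b10]; ring
    · rw [n2_mul_apply, a10, b10, b00]; ring
    · rw [n2_mul_apply, a10, a11, b11]; ring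
  one_mem' := ⟨n2_one_00, n2_one_10, n2_one_11⟩
  inv_mem' := by
    rintro a ⟨a00, a10, a11⟩
    refine ⟨?_, ?_, ?_⟩
    · rw [n2_inv_00, a11]
    · rw [n2_inv_10, a10, neg_zero]
    · rw [n2_inv_11, a00]

theorem n2_mem_U (g : SpecialLinearGroup (Fin 2) F) :
    g ∈ n2_U F ↔ g 0 0 = 1 ∧ g 1 0 = 0 ∧ g 1 1 = 1 := Iff.rfl

/-- diagonal subgroup -/
def n2_H (F : Type*) [Field F] : Subgroup (SpecialLinearGroup (Fin 2) F) where
  carrier := {g | g 0 1 = 0 ∧ g 1 0 = 0}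
  mul_mem' := by
    rintro a b ⟨a01, a10⟩ ⟨b01, b10⟩
    refine ⟨?_, ?_⟩
    · rw [n2_mul_apply, a01, b01]; ring
    · rw [n2_mul_apply, a10, b10]; ring
  one_mem' := ⟨n2_one_01, n2_one_10⟩
  inv_mem' := by
    rintro a ⟨a01, a10⟩
    refine ⟨?_, ?_⟩
    · rw [n2_inv_01, a01, neg_zero]
    · rw [n2_inv_10, a10, neg_zero]

theorem n2_mem_H (g : SpecialLinearGroup (Fin 2) F) :
    g ∈ n2_H F ↔ g 0 1 = 0 ∧ g 1 0 = 0 := Iff.rfl

/-- the Weyl element -/
def n2_n (F : Type*) [Field F] : SpecialLinearGroup (Fin 2) F :=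
  n2_mk 0 1 (-1) 0 (by ring)

/-- the unipotent element `[[1, b], [0, 1]]` -/
def n2_u (b : F) : SpecialLinearGroup (Fin 2) F := n2_mk 1 b 0 1 (by ring)

theorem n2_u_mem (b : F) : n2_u b ∈ n2_U F := ⟨rfl, rfl, rfl⟩

/-- the lower unipotent element `[[1, 0], [c, 1]]` -/
def n2_l (c : F) : SpecialLinearGroup (Fin 2) F := n2_mk 1 0 c 1 (by ring)

/-- a scalar matrix `a • 1` with `a² = 1` -/
def n2_z (a : F) (h : a * a = 1) : SpecialLinearGroup (Fin 2) F :=
  n2_mk a 0 0 a (by rw [h]; ring)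

theorem n2_z_central (a : F) (h : a * a = 1) : n2_z a h ∈ Subgroup.center _ := by
  rw [Subgroup.mem_center_iff]
  intro g
  apply n2_ext <;>
  · rw [n2_mul_apply, n2_mul_apply]
    simp only [n2_z, n2_mk_00, n2_mk_01, n2_mk_10, n2_mk_11]
    ring

/-- central elements are scalar -/
theorem n2_center (z : SpecialLinearGroup (Fin 2) F) (hz : z ∈ Subgroup.center _) :
    z 0 1 = 0 ∧ z 1 0 = 0 ∧ z 0 0 = z 1 1 := by
  rw [Subgroup.mem_center_iff] at hz
  have h1 := hz (n2_u 1)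
  have h2 := hz (n2_l 1)
  have e1 := congrArg (fun g : SpecialLinearGroup (Fin 2) F => g 0 0) h1
  have e2 := congrArg (fun g : SpecialLinearGroup (Fin 2) F => g 0 1) h1
  have e3 := congrArg (fun g : SpecialLinearGroup (Fin 2) F => g 1 1) h2
  simp only [n2_mul_apply, n2_u, n2_l, n2_mk_00, n2_mk_01, n2_mk_10, n2_mk_11] at e1 e2 e3
  have hc : z 1 0 = 0 := by linear_combination e1
  have hb : z 0 1 = 0 := by linear_combination e3
  refine ⟨hb, hc, ?_⟩
  linear_combination -e2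

theorem n2_center_le_H : Subgroup.center (SpecialLinearGroup (Fin 2) F) ≤ n2_H F := by
  intro z hz
  obtain ⟨h1, h2, _⟩ := n2_center z hz
  exact ⟨h1, h2⟩

/-- powers of diagonal elements -/
theorem n2_H_pow (h : SpecialLinearGroup (Fin 2) F) (hh : h ∈ n2_H F) (k : ℕ) :
    (h ^ k) 0 0 = (h 0 0) ^ k ∧ (h ^ k) 1 1 = (h 1 1) ^ k := by
  induction k with
  | zero => simp
  | succ k ih =>
    have hk : h ^ k ∈ n2_H F := pow_mem hh k
    obtain ⟨h01, h10⟩ := hh
    obtain ⟨k01, k10⟩ := hk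
    rw [pow_succ, n2_mul_apply, n2_mul_apply, ih.1, ih.2, h10, h01, pow_succ, pow_succ]
    constructor <;> ring

/-- powers of unitriangular elements -/
theorem n2_U_pow (u : SpecialLinearGroup (Fin 2) F) (hu : u ∈ n2_U F) (k : ℕ) :
    (u ^ k) 0 1 = k * u 0 1 := by
  induction k with
  | zero => simp
  | succ k ih =>
    have hk : u ^ k ∈ n2_U F := pow_mem hu k
    obtain ⟨u00, u10, u11⟩ := hu
    obtain ⟨k00, k10, k11⟩ := hk
    rw [pow_succ, n2_mul_apply, ih, k00, u11]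
    push_cast
    ring

theorem n2_U_isPGroup (p : ℕ) [Fact p.Prime] [CharP F p] : IsPGroup p (n2_U F) := by
  intro u
  refine ⟨1, ?_⟩
  apply Subtype.ext
  rw [pow_one, Subgroup.coe_pow, Subgroup.coe_one]
  have hu : (u : SpecialLinearGroup (Fin 2) F) ^ p ∈ n2_U F := pow_mem u.2 p
  obtain ⟨h00, h10, h11⟩ := hu
  apply n2_ext
  · rw [h00, n2_one_00]
  · rw [n2_U_pow _ u.2, CharP.cast_eq_zero F p, zero_mul, n2_one_01]
  · rw [h10, n2_one_10]
  · rw [h11, n2_one_11]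

theorem n2_hZ (p : ℕ) [Fact p.Prime] [CharP F p] (z : SpecialLinearGroup (Fin 2) F)
    (hz : z ∈ Subgroup.center _) (hp : z ^ p = 1) : z = 1 := by
  obtain ⟨h01, h10, h00⟩ := n2_center z hz
  have hH : z ∈ n2_H F := ⟨h01, h10⟩
  have e := (n2_H_pow z hH p).1
  rw [hp, n2_one_00] at e
  have h1 : z 0 0 = 1 := by
    have : (z 0 0) ^ p = 1 ^ p := by rw [one_pow]; exact e.symm
    exact frobenius_inj F p this
  apply n2_ext
  · rw [h1, n2_one_00]
  · rw [h01, n2_one_01]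
  · rw [h10, n2_one_10]
  · rw [← h00, h1, n2_one_11]

theorem n2_hCU : Subgroup.centralizer (n2_U F : Set (SpecialLinearGroup (Fin 2) F)) ≤
    n2_U F ⊔ Subgroup.center _ := by
  intro g hg
  have h1 := hg (n2_u 1) (n2_u_mem 1)
  -- n2_u 1 * g = g * n2_u 1
  have e1 := congrArg (fun g : SpecialLinearGroup (Fin 2) F => g 0 0) h1
  have e2 := congrArg (fun g : SpecialLinearGroup (Fin 2) F => g 0 1) h1
  simp only [n2_mul_apply, n2_u, n2_mk_00, n2_mk_01, n2_mk_10, n2_mk_11] at e1 e2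
  have hc : g 1 0 = 0 := by linear_combination e1
  have had : g 0 0 = g 1 1 := by linear_combination -e2
  have hdet := n2_det g
  rw [hc, ← had] at hdet
  have haa : g 0 0 * g 0 0 = 1 := by linear_combination hdet
  have hg' : g = n2_u (g 0 0 * g 0 1) * n2_z (g 0 0) haa := by
    apply n2_ext
    · rw [n2_mul_apply]; simp only [n2_u, n2_z, n2_mk_00, n2_mk_01, n2_mk_10, n2_mk_11]; ring
    · rw [n2_mul_apply]; simp only [n2_u, n2_z, n2_mk_00, n2_mk_01, n2_mk_10, n2_mk_11]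
      linear_combination -(g 0 1) * haa
    · rw [n2_mul_apply]; simp only [n2_u, n2_z, n2_mk_00, n2_mk_01, n2_mk_10, n2_mk_11]
      rw [hc]; ring
    · rw [n2_mul_apply]; simp only [n2_u, n2_z, n2_mk_00, n2_mk_01, n2_mk_10, n2_mk_11]
      rw [← had]; ring
  rw [hg']
  exact Subgroup.mul_mem_sup (n2_u_mem _) (n2_z_central _ haa)

theorem n2_hHU : n2_H F ≤ Subgroup.normalizer (n2_U F : Set (SpecialLinearGroup (Fin 2) F)) := by
  intro h hh
  obtain ⟨h01, h10⟩ := hh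
  have hdet := n2_det h
  rw [h01, zero_mul, sub_zero] at hdet
  have hd0 : h 1 1 ≠ 0 := by
    intro h0; rw [h0, mul_zero] at hdet; exact zero_ne_one hdet
  rw [Subgroup.mem_normalizer_iff]
  intro u
  rw [n2_mem_U, n2_mem_U]
  simp only [n2_mul_apply, n2_inv_00, n2_inv_01, n2_inv_10, n2_inv_11, h01, h10]
  constructor
  · rintro ⟨u00, u10, u11⟩
    refine ⟨?_, ?_, ?_⟩
    · rw [u00]; linear_combination hdet
    · rw [u10]; ring
    · rw [u11]; linear_combination hdet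
  · rintro ⟨e1, e2, e3⟩
    refine ⟨?_, ?_, ?_⟩
    · have : u 0 0 * (h 0 0 * h 1 1) = 1 := by linear_combination e1
      rwa [hdet, mul_one] at this
    · have : (h 1 1 * h 1 1) * u 1 0 = 0 := by linear_combination e2
      rcases mul_eq_zero.1 this with h' | h'
      · exact absurd (mul_self_eq_zero.1 h') hd0
      · exact h'
    · have : u 1 1 * (h 0 0 * h 1 1) = 1 := by linear_combination e3
      rwa [hdet, mul_one] at this

theorem n2_hHp (p : ℕ) [Fact p.Prime] [CharP F p] (h : SpecialLinearGroup (Fin 2) F)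
    (hh : h ∈ n2_H F) (hp : h ^ p ∈ Subgroup.center (SpecialLinearGroup (Fin 2) F)) :
    h ∈ Subgroup.center (SpecialLinearGroup (Fin 2) F) := by
  obtain ⟨_, _, e⟩ := n2_center _ hp
  rw [(n2_H_pow h hh p).1, (n2_H_pow h hh p).2] at e
  have had : h 0 0 = h 1 1 := frobenius_inj F p e
  obtain ⟨h01, h10⟩ := hh
  have hdet := n2_det h
  rw [h01, zero_mul, sub_zero, ← had] at hdet
  have : h = n2_z (h 0 0) hdet := by
    apply n2_ext
    · rfl
    · rw [h01]; rfl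
    · rw [h10]; rfl
    · rw [← had]; rfl
  rw [this]
  exact n2_z_central _ hdet

theorem n2_hnH : n2_n F ∈ Subgroup.normalizer (n2_H F : Set (SpecialLinearGroup (Fin 2) F)) := by
  rw [Subgroup.mem_normalizer_iff]
  intro h
  rw [n2_mem_H, n2_mem_H]
  simp only [n2_mul_apply, n2_inv_00, n2_inv_01, n2_inv_10, n2_inv_11, n2_n, n2_mk_00, n2_mk_01,
    n2_mk_10, n2_mk_11]
  constructor
  · rintro ⟨h01, h10⟩
    rw [h01, h10]
    constructor <;> ring
  · rintro ⟨e1, e2⟩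
    constructor
    · linear_combination -e2
    · linear_combination -e1

theorem n2_exists_sq_ne [Fintype F] (h4 : 4 ≤ Fintype.card F) : ∃ a : F, a ≠ 0 ∧ a * a ≠ 1 := by
  classical
  have hcard : ({0, 1, -1} : Finset F).card < Fintype.card F := by
    have : ({0, 1, -1} : Finset F).card ≤ 3 := Finset.card_le_three
    omega
  obtain ⟨a, ha⟩ : ∃ a : F, a ∉ ({0, 1, -1} : Finset F) := by
    by_contra hcon
    push Not at hcon
    have : ({0, 1, -1} : Finset F) = Finset.univ := Finset.eq_univ_iff_forall.2 hcon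
    rw [this, Finset.card_univ] at hcard
    exact lt_irrefl _ hcard
  simp only [Finset.mem_insert, Finset.mem_singleton, not_or] at ha
  refine ⟨a, ha.1, ?_⟩
  intro h
  have : (a - 1) * (a + 1) = 0 := by linear_combination h
  rcases mul_eq_zero.1 this with h' | h'
  · exact ha.2.1 (by linear_combination h')
  · exact ha.2.2 (by linear_combination h')

theorem n2_hCUH [Fintype F] (h4 : 4 ≤ Fintype.card F) (u : SpecialLinearGroup (Fin 2) F)
    (hu : u ∈ n2_U F) (hc : ∀ h ∈ n2_H F, h * u = u * h) : u = 1 := by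
  obtain ⟨a, ha0, ha1⟩ := n2_exists_sq_ne h4
  have hmem : n2_mk a 0 0 a⁻¹ (by rw [mul_inv_cancel₀ ha0]; ring) ∈ n2_H F := ⟨rfl, rfl⟩
  have e := congrArg (fun g : SpecialLinearGroup (Fin 2) F => g 0 1) (hc _ hmem)
  obtain ⟨u00, u10, u11⟩ := hu
  simp only [n2_mul_apply, n2_mk_00, n2_mk_01, n2_mk_10, n2_mk_11, u00, u11] at e
  have hb : u 0 1 = 0 := by
    have : (a * a - 1) * u 0 1 = 0 := by
      have e' : a * u 0 1 = u 0 1 * a⁻¹ := by linear_combination e
      have : a * (a * u 0 1) = a * (u 0 1 * a⁻¹) := by rw [e']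
      have h2 : a * (u 0 1 * a⁻¹) = u 0 1 := by field_simp
      rw [h2] at this
      linear_combination this
    rcases mul_eq_zero.1 this with h' | h'
    · exact absurd (by linear_combination h') ha1
    · exact h'
  apply n2_ext
  · rw [u00, n2_one_00]
  · rw [hb, n2_one_01]
  · rw [u10, n2_one_10]
  · rw [u11, n2_one_11]

/-- entries of `u * n * h * u'` -/
theorem n2_big (u h u' : SpecialLinearGroup (Fin 2) F) (hu : u ∈ n2_U F) (hh : h ∈ n2_H F)
    (hu' : u' ∈ n2_U F) :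
    (u * n2_n F * h * u') 0 0 = -(u 0 1 * h 0 0) ∧
    (u * n2_n F * h * u') 1 0 = -(h 0 0) ∧
    (u * n2_n F * h * u') 1 1 = -(h 0 0 * u' 0 1) := by
  obtain ⟨u00, u10, u11⟩ := hu
  obtain ⟨h01, h10⟩ := hh
  obtain ⟨v00, v10, v11⟩ := hu'
  simp only [n2_mul_apply, n2_n, n2_mk_00, n2_mk_01, n2_mk_10, n2_mk_11, u00, u10, u11, h01, h10,
    v00, v10, v11]
  refine ⟨by ring, by ring, by ring⟩

theorem n2_H_00_ne (h : SpecialLinearGroup (Fin 2) F) (hh : h ∈ n2_H F) : h 0 0 ≠ 0 := by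
  obtain ⟨h01, h10⟩ := hh
  have hdet := n2_det h
  rw [h01, zero_mul, sub_zero] at hdet
  intro h0; rw [h0, zero_mul] at hdet; exact zero_ne_one hdet

theorem n2_U_eq (u v : SpecialLinearGroup (Fin 2) F) (hu : u ∈ n2_U F) (hv : v ∈ n2_U F)
    (h : u 0 1 = v 0 1) : u = v := by
  obtain ⟨u00, u10, u11⟩ := hu
  obtain ⟨v00, v10, v11⟩ := hv
  apply n2_ext
  · rw [u00, v00]
  · exact h
  · rw [u10, v10]
  · rw [u11, v11]

theorem n2_H_eq (h k : SpecialLinearGroup (Fin 2) F) (hh : h ∈ n2_H F) (hk : k ∈ n2_H F)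
    (e : h 0 0 = k 0 0) : h = k := by
  have hne := n2_H_00_ne h hh
  obtain ⟨h01, h10⟩ := hh
  obtain ⟨k01, k10⟩ := hk
  have hdet := n2_det h
  have kdet := n2_det k
  rw [h01, zero_mul, sub_zero] at hdet
  rw [k01, zero_mul, sub_zero, ← e] at kdet
  have h11 : h 1 1 = k 1 1 := by
    have : h 0 0 * (h 1 1 - k 1 1) = 0 := by linear_combination hdet - kdet
    rcases mul_eq_zero.1 this with h' | h'
    · exact absurd h' hne
    · linear_combination h'
  apply n2_ext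
  · exact e
  · rw [h01, k01]
  · rw [h10, k10]
  · exact h11

theorem n2_hbruhat (g : SpecialLinearGroup (Fin 2) F) :
    (∃ u ∈ n2_U F, ∃ h ∈ n2_H F, g = u * h) ∨
      (∃ u ∈ n2_U F, ∃ h ∈ n2_H F, ∃ u' ∈ n2_U F, g = u * n2_n F * h * u') := by
  have hdet := n2_det g
  by_cases hc : g 1 0 = 0
  · left
    rw [hc, mul_zero, sub_zero] at hdet
    refine ⟨n2_u (g 0 1 * g 0 0), n2_u_mem _, n2_mk (g 0 0) 0 0 (g 1 1) (by linear_combination hdet),
      ⟨rfl, rfl⟩, ?_⟩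
    apply n2_ext
    · rw [n2_mul_apply]; simp only [n2_u, n2_mk_00, n2_mk_01, n2_mk_10, n2_mk_11]; ring
    · rw [n2_mul_apply]; simp only [n2_u, n2_mk_00, n2_mk_01, n2_mk_10, n2_mk_11]
      linear_combination -(g 0 1) * hdet
    · rw [n2_mul_apply]; simp only [n2_u, n2_mk_00, n2_mk_01, n2_mk_10, n2_mk_11]; rw [hc]; ring
    · rw [n2_mul_apply]; simp only [n2_u, n2_mk_00, n2_mk_01, n2_mk_10, n2_mk_11]; ring
  · right
    have hcc : -g 1 0 ≠ 0 := neg_ne_zero.2 hc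
    have hH : n2_mk (-g 1 0) 0 0 (-g 1 0)⁻¹ (by rw [mul_inv_cancel₀ hcc]; ring) ∈ n2_H F :=
      ⟨rfl, rfl⟩
    refine ⟨n2_u (g 0 0 / g 1 0), n2_u_mem _, _, hH, n2_u (g 1 1 / g 1 0), n2_u_mem _, ?_⟩
    obtain ⟨a1, b1, c1⟩ := n2_big _ _ _ (n2_u_mem (g 0 0 / g 1 0)) hH (n2_u_mem (g 1 1 / g 1 0))
    apply n2_ext3
    · rw [a1]; simp only [n2_u, n2_mk_00, n2_mk_01, n2_mk_10, n2_mk_11]; field_simp
    · rw [b1]; simp only [n2_u, n2_mk_00, n2_mk_01, n2_mk_10, n2_mk_11]; ring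
    · rw [c1]; simp only [n2_u, n2_mk_00, n2_mk_01, n2_mk_10, n2_mk_11]; field_simp
    · exact hc

theorem n2_huniq (u₁ : SpecialLinearGroup (Fin 2) F) (hu₁ : u₁ ∈ n2_U F)
    (h₁ : SpecialLinearGroup (Fin 2) F) (hh₁ : h₁ ∈ n2_H F)
    (u₁' : SpecialLinearGroup (Fin 2) F) (hu₁' : u₁' ∈ n2_U F)
    (u₂ : SpecialLinearGroup (Fin 2) F) (hu₂ : u₂ ∈ n2_U F)
    (h₂ : SpecialLinearGroup (Fin 2) F) (hh₂ : h₂ ∈ n2_H F)
    (u₂' : SpecialLinearGroup (Fin 2) F) (hu₂' : u₂' ∈ n2_U F)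
    (e : u₁ * n2_n F * h₁ * u₁' = u₂ * n2_n F * h₂ * u₂') :
    u₁ = u₂ ∧ h₁ = h₂ ∧ u₁' = u₂' := by
  obtain ⟨a1, b1, c1⟩ := n2_big u₁ h₁ u₁' hu₁ hh₁ hu₁'
  obtain ⟨a2, b2, c2⟩ := n2_big u₂ h₂ u₂' hu₂ hh₂ hu₂'
  rw [e] at a1 b1 c1
  have hne := n2_H_00_ne h₁ hh₁
  have ht : h₁ 0 0 = h₂ 0 0 := by
    have := b1.symm.trans b2
    exact neg_injective this
  refine ⟨?_, n2_H_eq h₁ h₂ hh₁ hh₂ ht, ?_⟩
  · apply n2_U_eq u₁ u₂ hu₁ hu₂
    have := a1.symm.trans a2
    rw [← ht] at this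
    have h3 : (u₁ 0 1 - u₂ 0 1) * h₁ 0 0 = 0 := by linear_combination -this
    rcases mul_eq_zero.1 h3 with h' | h'
    · linear_combination h'
    · exact absurd h' hne
  · apply n2_U_eq u₁' u₂' hu₁' hu₂'
    have := c1.symm.trans c2
    rw [← ht] at this
    have h3 : h₁ 0 0 * (u₁' 0 1 - u₂' 0 1) = 0 := by linear_combination -this
    rcases mul_eq_zero.1 h3 with h' | h'
    · exact absurd h' hne
    · linear_combination h'

theorem n2_hdisj (u : SpecialLinearGroup (Fin 2) F) (hu : u ∈ n2_U F)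
    (h : SpecialLinearGroup (Fin 2) F) (hh : h ∈ n2_H F)
    (u' : SpecialLinearGroup (Fin 2) F) (hu' : u' ∈ n2_U F)
    (v : SpecialLinearGroup (Fin 2) F) (hv : v ∈ n2_U F)
    (k : SpecialLinearGroup (Fin 2) F) (hk : k ∈ n2_H F) :
    u * n2_n F * h * u' ≠ v * k := by
  intro e
  obtain ⟨_, b1, _⟩ := n2_big u h u' hu hh hu'
  rw [e, n2_mul_apply, hv.2.1, hk.2, zero_mul, mul_zero, add_zero] at b1
  exact n2_H_00_ne h hh (neg_eq_zero.1 b1.symm)

/-- sub-piece PAPSL-N2 -/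
theorem papsl_two [Fintype F] (p : ℕ) [Fact p.Prime] [CharP F p] (h4 : 4 ≤ Fintype.card F) :
    NoPAut p (Matrix.ProjectiveSpecialLinearGroup (Fin 2) F) := by
  classical
  exact noPAut_quotient_of_rank_one p (n2_U F) (n2_H F) (n2_n F) (n2_U_isPGroup p)
    (fun z hz hp => n2_hZ p z hz hp) n2_center_le_H n2_hCU n2_hHU
    (fun h hh hp => n2_hHp p h hh hp) n2_hnH (fun u hu hc => n2_hCUH h4 u hu hc)
    n2_hbruhat n2_huniq n2_hdisj

end n2

end Cfsg.Agent.Helper28.PA
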