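import Mathlib
import Cfsg.Prelude.Def_Blocks
import Cfsg.Agent.Lib.Helper24.CharBasic
import Cfsg.Agent.Lib.Helper22.PFV1

/-!
# Field of values versus number of twists (helper22, for S4489)

The number of distinct power twists of a character is at most the degree of its field of values.
-/

set_option autoImplicit false
set_option linter.style.haveILetI false

namespace Cfsg.Agent.Helper22.PFieldVal

open Cfsg Cfsg.Agent.Helper24

/-- An embedding of `ℚ(ζ)` into `ℂ` raising the primitive root `ζ` to the power `j`. -/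
theorem exists_algHom_pow {n : ℕ} (hn : 0 < n) {ζ : ℂ} (hζ : IsPrimitiveRoot ζ n) {j : ℕ}
    (hj : Nat.Coprime j n) :
    ∃ σ : IntermediateField.adjoin ℚ ({ζ} : Set ℂ) →ₐ[ℚ] ℂ,
      σ (IntermediateField.AdjoinSimple.gen ℚ ζ) = ζ ^ j := by
  have hint : IsIntegral ℚ ζ := (hζ.isIntegral hn).tower_top
  have hζj : IsPrimitiveRoot (ζ ^ j) n := hζ.pow_of_coprime j hj
  have hmin : minpoly ℚ ζ = minpoly ℚ (ζ ^ j) := by
    rw [← Polynomial.cyclotomic_eq_minpoly_rat hζ hn,
      ← Polynomial.cyclotomic_eq_minpoly_rat hζj hn]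
  have hroot : ζ ^ j ∈ (minpoly ℚ ζ).aroots ℂ := by
    rw [Polynomial.mem_aroots]
    refine ⟨minpoly.ne_zero hint, ?_⟩
    rw [hmin]
    exact minpoly.aeval ℚ (ζ ^ j)
  refine ⟨(IntermediateField.algHomAdjoinIntegralEquiv ℚ hint).symm ⟨ζ ^ j, hroot⟩, ?_⟩
  exact IntermediateField.algHomAdjoinIntegralEquiv_symm_apply_gen ℚ hint _

/-- The number of distinct twists of a character by exponents prime to the group order is at most
the degree of its field of values. -/
theorem ncard_tw_le_finrank {G : Type*} [Group G] [Finite G] {χ : G → ℂ} (hχ : IsCharacter G χ) :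
    Set.ncard {φ : G → ℂ | ∃ j : ℕ, Nat.Coprime j (Nat.card G) ∧ φ = tw j χ} ≤
      Module.finrank ℚ (IntermediateField.adjoin ℚ (Set.range χ)) := by
  classical
  obtain ⟨n, hn⟩ : ∃ n : ℕ, n = Nat.card G := ⟨_, rfl⟩
  rw [← hn]
  have hn0 : 0 < n := by rw [hn]; exact Nat.card_pos
  haveI : NeZero n := ⟨hn0.ne'⟩
  obtain ⟨ζ, hζ⟩ : ∃ ζ : ℂ, IsPrimitiveRoot ζ n := ⟨_, Complex.isPrimitiveRoot_exp n hn0.ne'⟩
  obtain ⟨d, ρ, rfl⟩ := hχ
  -- eigenvalue data
  have hval : ∀ g : G, ∃ aa : Fin (Module.finrank ℂ (Fin d → ℂ)) → ℕ,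
      ∀ k : ℕ, ρ.character (g ^ k) = ∑ i, (ζ ^ aa i) ^ k := by
    intro g
    obtain ⟨μ, hμ, hk, -⟩ := exists_roots_of_unity ρ g
    have hex : ∀ i, ∃ a < n, ζ ^ a = μ i := fun i =>
      hζ.eq_pow_of_pow_eq_one (by rw [hn]; exact hμ i)
    choose aa _ haa using hex
    refine ⟨aa, fun k => ?_⟩
    rw [hk k]
    exact Finset.sum_congr rfl fun i _ => by rw [haa i]
  choose aa haa using hval
  have hgen : ζ ∈ IntermediateField.adjoin ℚ ({ζ} : Set ℂ) :=
    IntermediateField.mem_adjoin_simple_self ℚ ζ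
  have hFK : IntermediateField.adjoin ℚ (Set.range ρ.character) ≤
      IntermediateField.adjoin ℚ ({ζ} : Set ℂ) := by
    rw [IntermediateField.adjoin_le_iff]
    rintro _ ⟨g, rfl⟩
    have h1 := haa g 1
    simp only [pow_one] at h1
    rw [h1]
    exact sum_mem fun i _ => pow_mem hgen _
  have hmemF : ∀ g : G, ρ.character g ∈ IntermediateField.adjoin ℚ (Set.range ρ.character) :=
    fun g => IntermediateField.subset_adjoin ℚ _ ⟨g, rfl⟩
  -- the embeddings
  have hτ : ∀ j : ℕ, Nat.Coprime j n →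
      ∃ τ : IntermediateField.adjoin ℚ (Set.range ρ.character) →ₐ[ℚ] ℂ,
        ∀ g : G, τ ⟨ρ.character g, hmemF g⟩ = ρ.character (g ^ j) := by
    intro j hj
    obtain ⟨σ, hσ⟩ := exists_algHom_pow hn0 hζ hj
    refine ⟨σ.comp (IntermediateField.inclusion hFK), fun g => ?_⟩
    have hx : IntermediateField.inclusion hFK ⟨ρ.character g, hmemF g⟩ =
        ∑ i, (IntermediateField.AdjoinSimple.gen ℚ ζ) ^ aa g i := by
      apply Subtype.ext
      have h1 := haa g 1
      simp only [pow_one] at h1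
      simp [h1]
    change σ (IntermediateField.inclusion hFK ⟨ρ.character g, hmemF g⟩) = _
    rw [hx, map_sum]
    rw [haa g j]
    refine Finset.sum_congr rfl fun i _ => ?_
    rw [map_pow, hσ, ← pow_mul, ← pow_mul, mul_comm]
  -- integrality and finiteness
  haveI : Finite (Set.range ρ.character) := Set.finite_range _
  haveI : FiniteDimensional ℚ (IntermediateField.adjoin ℚ (Set.range ρ.character)) := by
    apply IntermediateField.finiteDimensional_adjoin
    rintro _ ⟨g, rfl⟩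
    exact (isIntegral_char ρ g).tower_top
  -- the evaluation map
  let ev : (IntermediateField.adjoin ℚ (Set.range ρ.character) →ₐ[ℚ] ℂ) → (G → ℂ) :=
    fun τ g => τ ⟨ρ.character g, hmemF g⟩
  have hsub : {φ : G → ℂ | ∃ j : ℕ, Nat.Coprime j n ∧ φ = tw j ρ.character} ⊆
      ev '' Set.univ := by
    rintro φ ⟨j, hj, rfl⟩
    obtain ⟨τ, hτj⟩ := hτ j hj
    refine ⟨τ, Set.mem_univ _, ?_⟩
    funext g
    exact hτj g
  have hfin : (Set.univ : Set (IntermediateField.adjoin ℚ (Set.range ρ.character) →ₐ[ℚ] ℂ)).Finite :=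
    Set.finite_univ
  calc Set.ncard {φ : G → ℂ | ∃ j : ℕ, Nat.Coprime j n ∧ φ = tw j ρ.character}
      ≤ (ev '' Set.univ).ncard := Set.ncard_le_ncard hsub (hfin.image ev)
    _ ≤ (Set.univ : Set (IntermediateField.adjoin ℚ (Set.range ρ.character) →ₐ[ℚ] ℂ)).ncard :=
        Set.ncard_image_le hfin
    _ = Nat.card (IntermediateField.adjoin ℚ (Set.range ρ.character) →ₐ[ℚ] ℂ) := Set.ncard_univ _
    _ = Module.finrank ℚ (IntermediateField.adjoin ℚ (Set.range ρ.character)) :=
        AlgHom.natCard_of_splits ℚ _ ℂ (fun _ => IsAlgClosed.splits _)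

end Cfsg.Agent.Helper22.PFieldVal
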