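import Mathlib
import Cfsg.Prelude.Def_Blocks
import Cfsg.Agent.Lib.Helper18.CliffordCorr
import Cfsg.Agent.Lib.Helper24.CharAbelian
import Cfsg.Agent.Lib.Helper24.CharConjOrbits
import Cfsg.Agent.Lib.Helper22.PFV1

/-!
# Preliminaries for the inductive step (helper22, for S4489)
-/

set_option autoImplicit false
set_option linter.style.haveILetI false

namespace Cfsg.Agent.Helper22.PFieldVal

open Cfsg Cfsg.Agent Cfsg.Agent.Helper24

universe u

section Prelim

variable {G : Type u} [Group G]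

/-- Twisting commutes with conjugation of functions on a normal subgroup. -/
theorem conjFun_tw (N : Subgroup G) [hN : N.Normal] (g : G) (j : ℕ) (θ : N → ℂ) :
    Helper5.conjFun N g (tw j θ) = tw j (Helper5.conjFun N g θ) := by
  funext x
  rw [Helper5.conjFun_apply, tw_apply, tw_apply, Helper5.conjFun_apply]
  congr 1
  apply Subtype.ext
  simp only [Subgroup.coe_pow]
  rw [conj_pow]

theorem conjFun_pow_tw (N : Subgroup G) [hN : N.Normal] (g : G) (i : ℕ) (θ : N → ℂ)
    (h : Helper5.conjFun N g θ = tw i θ) (k : ℕ) :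
    Helper5.conjFun N (g ^ k) θ = tw (i ^ k) θ := by
  induction k with
  | zero => rw [pow_zero, pow_zero, Helper5.conjFun_one, tw_one]
  | succ k ih =>
    rw [pow_succ, Helper5.conjFun_mul, ih, conjFun_tw, h, tw_tw, pow_succ]

/-- a linear constituent of the restriction to an abelian subgroup -/
theorem exists_linear_constituent [Fintype G] {χ : G → ℂ} (hχ : IsIrrCharacter G χ)
    (B : Subgroup G) [Fintype B] (hB : ∀ x y : B, x * y = y * x) :
    ∃ μ : B → ℂ, IsIrrCharacter B μ ∧ classInner (fun b : B => χ b) μ ≠ 0 ∧ μ 1 = 1 := by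
  classical
  letI : Fintype (IrrCharacter B) := irrFintype
  have hχB : IsCharacter B (fun b : B => χ b) :=
    isCharacter_restrict B (isCharacter_of_isIrrCharacter hχ)
  have hne : (fun b : B => χ b) ≠ 0 := by
    intro h
    obtain ⟨n, hn0, hn⟩ := irr_one_eq hχ
    have h1 := congrFun h 1
    simp only [Subgroup.coe_one, Pi.zero_apply] at h1
    rw [hn] at h1
    have : (n : ℂ) ≠ 0 := by exact_mod_cast hn0.ne'
    exact this h1
  obtain ⟨μ, hμ, hcon⟩ := Helper5.exists_constituent hχB hne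
  exact ⟨μ, hμ, hcon, (charDegree_eq_one_iff hμ).mp (charDegree_eq_one_of_comm hB hμ)⟩

theorem linear_pow {B : Type*} [Group B] {μ : B → ℂ} (hμ : IsCharacter B μ) (h1 : μ 1 = 1)
    (x : B) (k : ℕ) : μ (x ^ k) = μ x ^ k := by
  induction k with
  | zero => simp [h1]
  | succ k ih => rw [pow_succ, char_mul_of_degree_one hμ h1, ih, pow_succ]

theorem tw_linear {B : Type*} [Group B] {μ : B → ℂ} (hμ : IsCharacter B μ) (h1 : μ 1 = 1)
    (j : ℕ) (x : B) : tw j μ x = μ x ^ j := by
  rw [tw_apply, linear_pow hμ h1]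

/-- A linear character of a group of order `p ^ 2` and exponent `p` has a nontrivial kernel. -/
theorem exists_ne_one_of_linear {B : Type*} [Group B] [Finite B] {p : ℕ} [hp : Fact p.Prime]
    (hcard : Nat.card B = p ^ 2) (hexp : ∀ x : B, x ^ p = 1) {μ : B → ℂ}
    (hμ : IsCharacter B μ) (h1 : μ 1 = 1) : ∃ z : B, z ≠ 1 ∧ μ z = 1 := by
  have hpp : p.Prime := hp.out
  haveI : NeZero p := ⟨hpp.ne_zero⟩
  let lam : B →* ℂˣ := linHom hμ h1
  have hmem : ∀ x : B, lam x ∈ rootsOfUnity p ℂ := by
    intro x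
    rw [mem_rootsOfUnity, ← map_pow, hexp x, map_one]
  let lam' : B →* rootsOfUnity p ℂ := lam.codRestrict (rootsOfUnity p ℂ) hmem
  have hninj : ¬ Function.Injective lam' := by
    intro hinj
    have h2 := Nat.card_le_card_of_injective lam' hinj
    rw [hcard, Complex.card_rootsOfUnity] at h2
    have : p * 2 ≤ p * p := Nat.mul_le_mul_left p hpp.two_le
    nlinarith [hpp.two_le]
  rw [injective_iff_map_eq_one] at hninj
  push Not at hninj
  obtain ⟨z, hz, hz1⟩ := hninj
  refine ⟨z, hz1, ?_⟩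
  have h3 : ((lam' z : rootsOfUnity p ℂ) : ℂˣ) = 1 := by rw [hz]; rfl
  have h4 : ((lam z : ℂˣ) : ℂ) = 1 := by
    have : lam z = 1 := h3
    rw [this]; rfl
  exact h4

end Prelim

end Cfsg.Agent.Helper22.PFieldVal
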