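import Mathlib
import Cfsg.Prelude.Def_Blocks
import Cfsg.Agent.Lib.Helper22.PFV3

/-!
# The inductive step (helper22, for S4489)

`stab_claim`: if `χ = ind ψ` from the inertia group `T` of a linear character `μ` of a normal
subgroup `A` of exponent `p`, then any twist fixing `χ` fixes `ψ`.
`card_le_index_pow`: if `χ = ind ψ` is faithful, `T` normal of index `p`, then
`|T| ≤ [T : ker ψ] ^ p`.
-/

set_option autoImplicit false
set_option linter.style.haveILetI false

namespace Cfsg.Agent.Helper22.PFieldVal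

open Cfsg Cfsg.Agent Cfsg.Agent.Helper24

universe u

section Stab

variable {G : Type u} [Group G] [Fintype G]

theorem pow_pow_modEq (p : ℕ) [hp : Fact p.Prime] (i a : ℕ) : i ^ (p ^ a) ≡ i [MOD p] := by
  rw [← ZMod.natCast_eq_natCast_iff]
  push_cast
  exact ZMod.pow_card_pow (i : ZMod p)

theorem stab_claim {p a : ℕ} [hp : Fact p.Prime] (hG : Nat.card G = p ^ a)
    {χ : G → ℂ} (hχ : IsIrrCharacter G χ)
    (A : Subgroup G) [hA : A.Normal] (hAexp : ∀ x ∈ A, x ^ p = 1)
    {μ : A → ℂ}
    (T : Subgroup G) [hT : T.Normal] (hTdef : ∀ g : G, g ∈ T ↔ Helper5.conjFun A g μ = μ)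
    (hAT : A ≤ T) {ψ : T → ℂ} (hψ : IsIrrCharacter T ψ) (hind : indFun T ψ = χ)
    {f' : ℕ} (hf' : f' ≠ 0) (hres : Helper5.resFun hAT ψ = (f' : ℂ) • μ)
    {i : ℕ} (hi : Nat.Coprime i p) (htw : tw i χ = χ) : tw i ψ = ψ := by
  classical
  have hpp : p.Prime := hp.out
  letI : Fintype T := Fintype.ofFinite T
  letI : Fintype A := Fintype.ofFinite A
  letI : Fintype (IrrCharacter T) := irrFintype
  letI : Fintype (IrrCharacter G) := irrFintype
  have hGp : IsPGroup p G := IsPGroup.of_card hG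
  obtain ⟨b, hb⟩ := (IsPGroup.iff_card).mp (hGp.to_subgroup T)
  have hirr : IsIrrCharacter T (tw i ψ) := isIrrCharacter_tw hb hψ hi
  have hcop : Nat.Coprime (Nat.card G) i := by
    rw [hG]
    exact Nat.Coprime.pow_left a hi.symm
  have hindi : indFun T (tw i ψ) = χ := by
    rw [← tw_indFun T ψ hcop, hind, htw]
  have hcfχ := isClassFunction_of_isIrrCharacter hχ
  have hχχ : classInner χ χ = 1 := by
    have := irr_orthogonality hχ hχ
    rwa [if_pos rfl] at this
  have key : ∀ φ : T → ℂ, indFun T φ = χ → classInner (fun t : T => χ t) φ ≠ 0 := by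
    intro φ hφ
    have h1 := frobenius_reciprocity T φ hcfχ
    rw [hφ, hχχ] at h1
    have h2 := classInner_conj_symm φ (fun t : T => χ t)
    rw [← h1] at h2
    rw [← h2]
    simp
  have h1 := key ψ hind
  have h2 := key (tw i ψ) hindi
  obtain ⟨g, hg⟩ := Helper5.clifford_conj T hχ hψ hirr h1 h2
  -- restrict to A
  have hresx : ∀ x : A, ψ ⟨x, hAT x.2⟩ = (f' : ℂ) * μ x := by
    intro x
    have := congrFun hres x
    rw [Helper5.resFun_apply, Pi.smul_apply, smul_eq_mul] at this
    exact this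
  have hf'c : (f' : ℂ) ≠ 0 := by exact_mod_cast hf'
  have hμconj : Helper5.conjFun A g μ = tw i μ := by
    funext x
    have e1 := congrFun hg ⟨x, hAT x.2⟩
    rw [Helper5.conjFun_apply, tw_apply] at e1
    have e2 : (⟨g * ((⟨x, hAT x.2⟩ : T) : G) * g⁻¹, hT.conj_mem _ (hAT x.2) g⟩ : T) =
        ⟨((⟨g * x * g⁻¹, hA.conj_mem _ x.2 g⟩ : A) : G),
          hAT (⟨g * x * g⁻¹, hA.conj_mem _ x.2 g⟩ : A).2⟩ := rfl
    have e3 : (⟨x, hAT x.2⟩ : T) ^ i = ⟨((x ^ i : A) : G), hAT (x ^ i : A).2⟩ := by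
      apply Subtype.ext
      simp
    rw [e2, e3, hresx, hresx] at e1
    rw [Helper5.conjFun_apply, tw_apply]
    exact mul_left_cancel₀ hf'c e1
  have hpow := conjFun_pow_tw A g i μ hμconj (p ^ a)
  have hg1 : g ^ (p ^ a) = 1 := by
    rw [← hG]
    exact pow_card_eq_one'
  rw [hg1, Helper5.conjFun_one] at hpow
  have hAn : ∀ x : A, x ^ p = 1 := by
    intro x
    apply Subtype.ext
    simpa using hAexp x x.2
  have h3 : tw (i ^ (p ^ a)) μ = tw i μ := tw_congr hAn (pow_pow_modEq p i a) μ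
  have hgT : g ∈ T := by
    rw [hTdef, hμconj, ← h3, ← hpow]
  have hcfψ := isClassFunction_of_isIrrCharacter hψ
  have h4 : Helper5.conjFun T g ψ = ψ := by
    have := Helper18.le_inertia T hcfψ hgT
    exact (Helper18.mem_inertia T ψ g).mp this
  rw [← hg, h4]

end Stab

section Core

variable {G : Type u} [Group G] [Fintype G]

/-- If the faithful `χ` is induced from `ψ` on the normal subgroup `T`, then `T` embeds in the
product of `[G : T]` copies of `T / ker ψ`. -/
theorem card_le_index_pow {χ : G → ℂ} (hfaith : ∀ g : G, χ g = χ 1 → g = 1)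
    (T : Subgroup G) [hT : T.Normal] {ψ : T → ℂ} (hψ : IsCharacter T ψ)
    (hind : indFun T ψ = χ) :
    Nat.card T ≤ (charKer hψ).index ^ T.index := by
  classical
  letI : Fintype T := Fintype.ofFinite T
  letI : Fintype (G ⧸ T) := Fintype.ofFinite _
  letI : Fintype (IrrCharacter T) := irrFintype
  set N := charKer hψ with hN
  haveI hNn : N.Normal := charKer_normal hψ
  have hcfψ := isClassFunction_of_isCharacter hψ
  let c : G → (T →* T) := fun g => (MulAut.conjNormal g : MulAut T).toMonoidHom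
  let F : G ⧸ T → Subgroup T := fun q => N.comap (c q.out)
  have hidx : ∀ q, (F q).index = N.index := by
    intro q
    exact Subgroup.index_comap_of_surjective N (MulAut.conjNormal q.out : MulAut T).surjective
  have hbot : (⨅ q, F q) = ⊥ := by
    rw [eq_bot_iff]
    intro x hx
    rw [Subgroup.mem_iInf] at hx
    rw [Subgroup.mem_bot]
    -- all conjugates of x lie in the kernel
    have hall : ∀ g : G, ψ ⟨g * x * g⁻¹, hT.conj_mem _ x.2 g⟩ = ψ 1 := by
      intro g
      obtain ⟨h, hh⟩ := QuotientGroup.mk_out_eq_mul T g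
      have hq := hx (QuotientGroup.mk g)
      have hq' : ψ ⟨(QuotientGroup.mk g : G ⧸ T).out * x * ((QuotientGroup.mk g : G ⧸ T).out)⁻¹,
          hT.conj_mem _ x.2 _⟩ = ψ 1 := by
        have : c (QuotientGroup.mk g : G ⧸ T).out x ∈ N := hq
        rw [hN, mem_charKer] at this
        rw [← this]
        congr 1
      -- g = t * q.out with t ∈ T
      have htT : g * (h : G)⁻¹ * g⁻¹ ∈ T := hT.conj_mem _ (T.inv_mem h.2) g
      have hg : g = (g * (h : G)⁻¹ * g⁻¹) * (QuotientGroup.mk g : G ⧸ T).out := by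
        rw [hh]; group
      have e : (⟨g * x * g⁻¹, hT.conj_mem _ x.2 g⟩ : T) =
          ⟨g * (h : G)⁻¹ * g⁻¹, htT⟩ *
            ⟨(QuotientGroup.mk g : G ⧸ T).out * x * ((QuotientGroup.mk g : G ⧸ T).out)⁻¹,
              hT.conj_mem _ x.2 _⟩ * (⟨g * (h : G)⁻¹ * g⁻¹, htT⟩ : T)⁻¹ := by
        apply Subtype.ext
        simp only [Subgroup.coe_mul, Subgroup.coe_inv]
        rw [hh]
        group
      rw [e, hcfψ, hq']
    have hval : ∀ y : T, (∀ g : G, ψ ⟨g * y * g⁻¹, hT.conj_mem _ y.2 g⟩ = ψ 1) →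
        indFun T ψ y = (Nat.card T : ℂ)⁻¹ * ∑ _g : G, ψ 1 := by
      intro y hy
      have := congrFun (Helper5.indFun_normal_restrict T ψ) y
      rw [this, Pi.smul_apply, Finset.sum_apply, smul_eq_mul]
      congr 1
      refine Finset.sum_congr rfl fun g _ => ?_
      rw [Helper5.conjFun_apply]
      exact hy g
    have h1 : indFun T ψ x = indFun T ψ ((1 : T) : G) := by
      rw [hval x hall, hval 1]
      intro g
      congr 1
      apply Subtype.ext
      simp
    rw [hind] at h1
    have := hfaith x h1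
    exact Subtype.ext this
  have h2 := Subgroup.index_iInf_le F
  rw [hbot, Subgroup.index_bot] at h2
  simp only [hidx, Finset.prod_const, Finset.card_univ] at h2
  rw [← Nat.card_eq_fintype_card, ← Subgroup.index_eq_card] at h2
  exact h2

end Core

end Cfsg.Agent.Helper22.PFieldVal
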