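import Mathlib
import Cfsg.Prelude.Def_Blocks
import Cfsg.Agent.Lib.Helper22.PFV4

/-!
# The inductive step, assembled (helper22, for S4489)
-/

set_option autoImplicit false
set_option linter.style.haveILetI false

namespace Cfsg.Agent.Helper22.PFieldVal

open Cfsg Cfsg.Agent Cfsg.Agent.Helper24

universe u

section CaseOne

variable {G : Type u} [Group G] [Fintype G]

theorem case_one_aux {p a : ℕ} [hp : Fact p.Prime]
    (hG : Nat.card G = p ^ a) {χ : G → ℂ} (hχ : IsIrrCharacter G χ)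
    (hfaith : ∀ g : G, χ g = χ 1 → g = 1)
    (A : Subgroup G) [hA : A.Normal] (hAexp : ∀ x ∈ A, x ^ p = 1) {μ : A → ℂ}
    (T : Subgroup G) [hT : T.Normal] (hTdef : ∀ g : G, g ∈ T ↔ Helper5.conjFun A g μ = μ)
    (hAT : A ≤ T) (hTidx : T.index = p) {ψ : T → ℂ} (hψ : IsIrrCharacter T ψ)
    (hind : indFun T ψ = χ) {f' : ℕ} (hf' : f' ≠ 0)
    (hres : Helper5.resFun hAT ψ = (f' : ℂ) • μ) :
    ∃ (Q : Type u) (_ : Group Q) (_ : Finite Q) (ψ' : Q → ℂ),
      IsIrrCharacter Q ψ' ∧ (∀ q : Q, ψ' q = ψ' 1 → q = 1) ∧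
      p * charDegree ψ' = charDegree χ ∧ galCard p ψ' ≤ galCard p χ ∧
      Nat.card G ≤ p * (Nat.card Q) ^ p ∧ Nat.card Q < Nat.card G ∧
      Nat.card Q ∣ Nat.card G := by
  classical
  have hpp : p.Prime := hp.out
  letI : Fintype T := Fintype.ofFinite T
  have hGp : IsPGroup p G := IsPGroup.of_card hG
  have hTp : IsPGroup p T := hGp.to_subgroup T
  obtain ⟨b, hb⟩ := (IsPGroup.iff_card).mp hTp
  have hψc := isCharacter_of_isIrrCharacter hψ
  obtain ⟨N, hN⟩ : ∃ N : Subgroup T, N = charKer hψc := ⟨_, rfl⟩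
  haveI hNn : N.Normal := by rw [hN]; exact charKer_normal hψc
  have hmemN : ∀ t : T, t ∈ N ↔ ψ t = ψ 1 := by
    intro t; rw [hN]; exact mem_charKer hψc t
  obtain ⟨ψ', hψ', hcomp⟩ := exists_deflate N hψ (fun n hn => (hmemN n).mp hn)
  have hval : ∀ t : T, ψ' (QuotientGroup.mk t) = ψ t := fun t => (congrFun hcomp t).symm
  have hval1 : ψ' 1 = ψ 1 := by
    rw [← hval 1]
    rfl
  have hcop : ∀ j : ℕ, Nat.Coprime j p → Nat.Coprime (Nat.card G) j := by
    intro j hj
    rw [hG]
    exact Nat.Coprime.pow_left a hj.symm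
  have hGn : ∀ g : G, g ^ (p ^ a) = 1 := by
    intro g
    rw [← hG]
    exact pow_card_eq_one'
  have hTn : ∀ t : T, t ^ (p ^ a) = 1 := by
    intro t
    apply Subtype.ext
    simpa using hGn t
  have hNidx : Nat.card (T ⧸ N) = N.index := (Subgroup.index_eq_card N).symm
  have hTcard : Nat.card T * p = Nat.card G := by
    have := T.card_mul_index
    rwa [hTidx] at this
  refine ⟨T ⧸ N, inferInstance, inferInstance, ψ', hψ', ?_, ?_, ?_, ?_, ?_, ?_⟩
  · intro q hq
    obtain ⟨t, rfl⟩ := QuotientGroup.mk_surjective q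
    rw [hval, hval1] at hq
    exact (QuotientGroup.eq_one_iff t).mpr ((hmemN t).mpr hq)
  · have h1 : χ 1 = (T.index : ℂ) * ψ 1 := by rw [← hind, indFun_one]
    rw [hTidx, irr_one_eq_charDegree hχ, ← hval1, irr_one_eq_charDegree hψ'] at h1
    exact_mod_cast h1.symm
  · have hfinψ : (galSet p ψ).Finite := galSet_finite hb hψ
    have hfinχ : (galSet p χ).Finite := galSet_finite hG hχ
    have s1 : galCard p ψ' ≤ galCard p ψ := by
      unfold galCard
      apply Set.ncard_le_ncard_of_injOn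
        (fun φ : T ⧸ N → ℂ => φ ∘ (QuotientGroup.mk : T → T ⧸ N)) _ _ hfinψ
      · rintro φ ⟨j, hj, rfl⟩
        refine ⟨j, hj, ?_⟩
        rw [hcomp]
        rfl
      · intro φ₁ _ φ₂ _ h
        funext q
        obtain ⟨t, rfl⟩ := QuotientGroup.mk_surjective q
        exact congrFun h t
    have s2 : galCard p ψ ≤ galCard p χ := by
      unfold galCard
      apply Set.ncard_le_ncard_of_injOn (fun φ : T → ℂ => indFun T φ) _ _ hfinχ
      · rintro φ ⟨j, hj, rfl⟩
        refine ⟨j, hj, ?_⟩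
        rw [← hind]
        exact (tw_indFun T ψ (hcop j hj)).symm
      · rintro φ₁ ⟨j, hj, rfl⟩ φ₂ ⟨j', hj', rfl⟩ h
        have h' : tw j χ = tw j' χ := by
          rw [← hind, tw_indFun T ψ (hcop j hj), tw_indFun T ψ (hcop j' hj')]
          exact h
        exact tw_eq_of_stab hpp hGn hTn χ ψ
          (fun i hi htw => stab_claim hG hχ A hAexp T hTdef hAT hψ hind hf' hres hi htw)
          hj hj' h'
    exact s1.trans s2
  · have h1 := card_le_index_pow hfaith T hψc hind
    rw [hTidx, ← hN] at h1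
    rw [hNidx, ← hTcard, mul_comm]
    exact Nat.mul_le_mul_left p h1
  · rw [hNidx, ← hTcard]
    have h1 : N.index ≤ Nat.card T := Nat.le_of_dvd Nat.card_pos N.index_dvd_card
    have h2 : 0 < Nat.card T := Nat.card_pos
    have h3 : Nat.card T * 2 ≤ Nat.card T * p := Nat.mul_le_mul_left _ hpp.two_le
    omega
  · rw [hNidx, ← hTcard]
    exact Dvd.dvd.mul_right N.index_dvd_card p

theorem case_one {p a : ℕ} [hp : Fact p.Prime]
    (hG : Nat.card G = p ^ a) {χ : G → ℂ} (hχ : IsIrrCharacter G χ)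
    (hfaith : ∀ g : G, χ g = χ 1 → g = 1)
    (A : Subgroup G) [hA : A.Normal] (hAcard : Nat.card A = p ^ 2)
    (hAexp : ∀ x ∈ A, x ^ p = 1) :
    ∃ (Q : Type u) (_ : Group Q) (_ : Finite Q) (ψ' : Q → ℂ),
      IsIrrCharacter Q ψ' ∧ (∀ q : Q, ψ' q = ψ' 1 → q = 1) ∧
      p * charDegree ψ' = charDegree χ ∧ galCard p ψ' ≤ galCard p χ ∧
      Nat.card G ≤ p * (Nat.card Q) ^ p ∧ Nat.card Q < Nat.card G ∧
      Nat.card Q ∣ Nat.card G := by
  classical
  have hpp : p.Prime := hp.out
  letI : Fintype A := Fintype.ofFinite A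
  letI : Fintype (IrrCharacter A) := irrFintype
  letI : Fintype (IrrCharacter G) := irrFintype
  have hAcomm : ∀ x y : A, x * y = y * x :=
    (IsPGroup.isMulCommutative_of_card_eq_prime_sq hAcard).is_comm.comm
  obtain ⟨μ, hμ, hcon, hμ1⟩ := exists_linear_constituent hχ A hAcomm
  have hμc := isCharacter_of_isIrrCharacter hμ
  have hAn : ∀ x : A, x ^ p = 1 := by
    intro x
    apply Subtype.ext
    simpa using hAexp x x.2
  -- μ is not invariant
  have hninv : ¬ ∀ g : G, Helper5.conjFun A g μ = μ := by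
    intro hinv
    obtain ⟨e, he0, he, hres⟩ := Helper5.restrict_eq_smul_of_invariant A hχ hμ hinv hcon
    obtain ⟨z, hz1, hμz⟩ := exists_ne_one_of_linear hAcard hAn hμc hμ1
    have e1 := congrFun hres z
    have e2 := congrFun hres 1
    simp only [Pi.smul_apply, smul_eq_mul, hμz, hμ1, Subgroup.coe_one] at e1 e2
    have h1 : χ z = χ 1 := by rw [e1, e2]
    exact hz1 (Subtype.ext (hfaith z h1))
  -- the inertia group
  have hmemT : ∀ g : G, g ∈ Helper18.inertia A μ ↔ Helper5.conjFun A g μ = μ :=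
    fun g => Helper18.mem_inertia A μ g
  have hAT : A ≤ Helper18.inertia A μ :=
    Helper18.le_inertia A (isClassFunction_of_isIrrCharacter hμ)
  have hTne : Helper18.inertia A μ ≠ ⊤ := by
    intro h
    apply hninv
    intro g
    exact (hmemT g).mp (by rw [h]; trivial)
  -- index of T
  have hcc := Helper18.card_conjugates (G := G) A hμ
  have hprin : principalChar A ∉
      {φ : IrrCharacter A | ∃ g : G, Helper5.conjFun A g μ = (φ : A → ℂ)} := by
    rintro ⟨g, hg⟩
    apply hninv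
    have hμe : μ = fun _ => (1 : ℂ) := by
      have := Helper5.conjFun_inv_conjFun A g μ
      rw [hg] at this
      rw [← this]
      rfl
    intro g'
    rw [hμe]
    rfl
  have hfinS : {φ : IrrCharacter A | ∃ g : G, Helper5.conjFun A g μ = (φ : A → ℂ)}.Finite :=
    Set.toFinite _
  have hle : (Helper18.inertia A μ).index + 1 ≤ p ^ 2 := by
    rw [← hcc, ← Set.ncard_insert_of_notMem hprin hfinS, ← hAcard, ← card_irr_of_comm hAcomm]
    exact Set.ncard_le_card _
  have hdvd : (Helper18.inertia A μ).index ∣ p ^ a := by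
    rw [← hG]
    exact Subgroup.index_dvd_card _
  obtain ⟨s, -, hs⟩ := (Nat.dvd_prime_pow hpp).mp hdvd
  have hs0 : s ≠ 0 := by
    rintro rfl
    rw [pow_zero] at hs
    exact hTne (Subgroup.index_eq_one.mp hs)
  have hs2 : s < 2 := by
    rw [hs] at hle
    have : p ^ s < p ^ 2 := by omega
    exact (Nat.pow_lt_pow_iff_right hpp.one_lt).mp this
  have hs1 : s = 1 := by omega
  have hTidx : (Helper18.inertia A μ).index = p := by rw [hs, hs1, pow_one]
  have ha2 : 2 ≤ a := by
    have := A.card_subgroup_dvd_card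
    rw [hAcard, hG] at this
    exact (Nat.pow_dvd_pow_iff_le_right hpp.one_lt).mp this
  haveI hTn : (Helper18.inertia A μ).Normal := by
    apply Subgroup.normal_of_index_eq_minFac_card
    rw [hTidx, hG, Nat.Prime.pow_minFac hpp (by omega)]
  obtain ⟨ψ, hψ, hind, f', hf'0, hres⟩ := Helper18.clifford_correspondence A hχ hμ hcon
  exact case_one_aux hG hχ hfaith A hAexp (Helper18.inertia A μ) hmemT hAT hTidx hψ hind hf'0 hres

end CaseOne

end Cfsg.Agent.Helper22.PFieldVal
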