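import Mathlib
import Cfsg.Prelude.Def_Blocks
import Cfsg.Agent.Lib.Helper22.PFV3
import Cfsg.Agent.Lib.Helper22.OddCyclicMax

/-!
# The base case, part 1 (helper22, for S4489)

If a `p`-group has no normal subgroup of order `p ^ 2` and exponent `p`, then every linear
constituent of the restriction of a faithful irreducible character to a normal abelian subgroup
is injective; its inertia group is the centralizer.
-/

set_option autoImplicit false
set_option linter.style.haveILetI false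
set_option linter.unusedSectionVars false

namespace Cfsg.Agent.Helper22.PFieldVal

open Cfsg Cfsg.Agent Cfsg.Agent.Helper24

universe u

section BaseOne

variable {G : Type u} [Group G] [Fintype G]

/-- the subgroup of elements of order dividing `p` in an abelian subgroup -/
def omegaSub (p : ℕ) (B : Subgroup G) (hB : ∀ x y : B, x * y = y * x) : Subgroup G where
  carrier := {z | z ∈ B ∧ z ^ p = 1}
  one_mem' := ⟨B.one_mem, one_pow p⟩
  mul_mem' := by
    rintro z w ⟨hz, hzp⟩ ⟨hw, hwp⟩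
    refine ⟨B.mul_mem hz hw, ?_⟩
    have hc : Commute z w := congrArg Subtype.val (hB ⟨z, hz⟩ ⟨w, hw⟩)
    rw [hc.mul_pow, hzp, hwp, one_mul]
  inv_mem' := by
    rintro z ⟨hz, hzp⟩
    exact ⟨B.inv_mem hz, by rw [inv_pow, hzp, inv_one]⟩

theorem mem_omegaSub {p : ℕ} {B : Subgroup G} {hB : ∀ x y : B, x * y = y * x} {z : G} :
    z ∈ omegaSub p B hB ↔ z ∈ B ∧ z ^ p = 1 := Iff.rfl

theorem omegaSub_normal (p : ℕ) (B : Subgroup G) [hBn : B.Normal]
    (hB : ∀ x y : B, x * y = y * x) : (omegaSub p B hB).Normal := by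
  constructor
  rintro z ⟨hz, hzp⟩ g
  refine ⟨hBn.conj_mem z hz g, ?_⟩
  rw [conj_pow, hzp]
  group

theorem linear_injective_of_no_sq {p a : ℕ} [hp : Fact p.Prime]
    (hG : Nat.card G = p ^ a) {χ : G → ℂ} (hχ : IsIrrCharacter G χ)
    (hfaith : ∀ g : G, χ g = χ 1 → g = 1)
    (hno : ¬ ∃ A : Subgroup G, A.Normal ∧ Nat.card A = p ^ 2 ∧ ∀ x ∈ A, x ^ p = 1)
    (B : Subgroup G) [hBn : B.Normal] [Fintype B] (hB : ∀ x y : B, x * y = y * x)
    {μ : B → ℂ} (hμ : IsIrrCharacter B μ) (hμ1 : μ 1 = 1)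
    (hcon : classInner (fun x : B => χ x) μ ≠ 0) : ∀ x : B, μ x = 1 → x = 1 := by
  classical
  have hpp : p.Prime := hp.out
  letI : Fintype (IrrCharacter B) := irrFintype
  have hGp : IsPGroup p G := IsPGroup.of_card hG
  have hμc := isCharacter_of_isIrrCharacter hμ
  intro x hx
  by_contra hx1
  -- an element of order p in the kernel
  have hxo : ∃ k, orderOf x = p ^ k := by
    rw [exists_orderOf_eq_prime_pow_iff]
    exact (hGp.to_subgroup B) x
  obtain ⟨s, hs⟩ := hxo
  have hs0 : s ≠ 0 := by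
    rintro rfl
    rw [pow_zero, orderOf_eq_one_iff] at hs
    exact hx1 hs
  have hpdvd : p ∣ orderOf x := by
    rw [hs]
    exact dvd_pow_self p hs0
  have hox0 : orderOf x ≠ 0 := by
    rw [hs]
    exact pow_ne_zero _ hpp.ne_zero
  obtain ⟨y, hy⟩ : ∃ y : B, y = x ^ (orderOf x / p) := ⟨_, rfl⟩
  have hyo : orderOf y = p := by
    rw [hy]
    exact orderOf_pow_orderOf_div hox0 hpdvd
  have hμy : μ y = 1 := by
    rw [hy, linear_pow hμc hμ1, hx, one_pow]
  have hy1 : y ≠ 1 := by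
    intro h
    rw [h, orderOf_one] at hyo
    exact hpp.one_lt.ne hyo
  have hyp : (y : G) ^ p = 1 := by
    have : y ^ p = 1 := by rw [← hyo]; exact pow_orderOf_eq_one y
    have h2 := congrArg Subtype.val this
    simpa using h2
  -- the subgroup Ω
  haveI hΩn : (omegaSub p B hB).Normal := omegaSub_normal p B hB
  have hyΩ : (y : G) ∈ omegaSub p B hB := ⟨y.2, hyp⟩
  have hΩne : (⊥ : Subgroup G) ≠ omegaSub p B hB := by
    intro h
    rw [← h, Subgroup.mem_bot] at hyΩ
    exact hy1 (Subtype.ext hyΩ)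
  obtain ⟨K₁, hK₁n, -, hK₁Ω, hK₁card⟩ :=
    Cfsg.Agent.Helper22.exists_normal_step hGp (omegaSub p B hB) ⊥ bot_le hΩne
  rw [Subgroup.card_bot, mul_one] at hK₁card
  have hK₁eq : K₁ = omegaSub p B hB := by
    by_contra hne
    haveI := hK₁n
    obtain ⟨K₂, hK₂n, -, hK₂Ω, hK₂card⟩ :=
      Cfsg.Agent.Helper22.exists_normal_step hGp (omegaSub p B hB) K₁ hK₁Ω hne
    apply hno
    refine ⟨K₂, hK₂n, ?_, fun z hz => (hK₂Ω hz).2⟩
    rw [hK₂card, hK₁card, sq]
  have hΩcard : Nat.card (omegaSub p B hB) = p := by rw [← hK₁eq, hK₁card]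
  have hzp : Subgroup.zpowers (y : G) = omegaSub p B hB := by
    apply Subgroup.eq_of_le_of_card_ge
    · rw [Subgroup.zpowers_le]
      exact hyΩ
    · rw [hΩcard, Nat.card_zpowers, Subgroup.orderOf_coe, hyo]
  -- all conjugates of y lie in the kernel of μ
  let lam : B →* ℂˣ := linHom hμc hμ1
  have hlamy : lam y = 1 := by
    apply Units.ext
    exact hμy
  have hconj : ∀ g : G, μ ⟨g * y * g⁻¹, hBn.conj_mem _ y.2 g⟩ = 1 := by
    intro g
    have h1 : g * y * g⁻¹ ∈ omegaSub p B hB := hΩn.conj_mem _ hyΩ g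
    rw [← hzp, Subgroup.mem_zpowers_iff] at h1
    obtain ⟨k, hk⟩ := h1
    have h2 : (⟨g * y * g⁻¹, hBn.conj_mem _ y.2 g⟩ : B) = y ^ k := by
      apply Subtype.ext
      simp [hk]
    rw [h2]
    have h3 : lam (y ^ k) = 1 := by rw [map_zpow, hlamy, one_zpow]
    have h4 : ((lam (y ^ k) : ℂˣ) : ℂ) = 1 := by rw [h3]; rfl
    exact h4
  -- hence χ y = χ 1
  have hχB : IsCharacter B (fun b : B => χ b) :=
    isCharacter_restrict B (isCharacter_of_isIrrCharacter hχ)
  obtain ⟨-, hdec⟩ := isCharacter_decomp hχB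
  have hterm : ∀ φ : IrrCharacter B,
      classInner (fun b : B => χ b) (φ : B → ℂ) * (φ : B → ℂ) y =
        classInner (fun b : B => χ b) (φ : B → ℂ) * (φ : B → ℂ) 1 := by
    intro φ
    by_cases h0 : classInner (fun b : B => χ b) (φ : B → ℂ) = 0
    · rw [h0, zero_mul, zero_mul]
    · obtain ⟨g, hg⟩ := Helper5.clifford_conj B hχ hμ φ.2 hcon h0
      rw [← hg, Helper5.conjFun_apply, Helper5.conjFun_apply, hconj g]
      have : (⟨g * ((1 : B) : G) * g⁻¹, hBn.conj_mem _ (1 : B).2 g⟩ : B) = 1 := by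
        apply Subtype.ext
        simp
      rw [this, hμ1]
  have e1 := congrFun hdec y
  have e2 := congrFun hdec 1
  simp only [Finset.sum_apply, Pi.smul_apply, smul_eq_mul] at e1 e2
  have h5 : χ y = χ 1 := by
    have : χ ((1 : B) : G) = χ 1 := by rw [Subgroup.coe_one]
    rw [← this, e1, e2]
    exact Finset.sum_congr rfl fun φ _ => hterm φ
  exact hy1 (Subtype.ext (hfaith y h5))

/-- The inertia group of an injective linear character of a normal subgroup is its
centralizer. -/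
theorem inertia_le_centralizer (B : Subgroup G) [hBn : B.Normal]
    {μ : B → ℂ} (hμ : IsCharacter B μ) (hμ1 : μ 1 = 1) (hinj : ∀ x : B, μ x = 1 → x = 1) :
    Helper18.inertia B μ ≤ Subgroup.centralizer (B : Set G) := by
  intro g hg
  rw [Helper18.mem_inertia] at hg
  rw [Subgroup.mem_centralizer_iff]
  intro x hx
  have h1 := congrFun hg ⟨x, hx⟩
  rw [Helper5.conjFun_apply] at h1
  let lam : B →* ℂˣ := linHom hμ hμ1
  have h2 : lam ⟨g * x * g⁻¹, hBn.conj_mem _ hx g⟩ = lam ⟨x, hx⟩ := by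
    apply Units.ext
    exact h1
  have h3 : lam (⟨g * x * g⁻¹, hBn.conj_mem _ hx g⟩ * (⟨x, hx⟩ : B)⁻¹) = 1 := by
    rw [map_mul, map_inv, h2, mul_inv_cancel]
  have h4 : μ (⟨g * x * g⁻¹, hBn.conj_mem _ hx g⟩ * (⟨x, hx⟩ : B)⁻¹) = 1 := by
    have : ((lam (⟨g * x * g⁻¹, hBn.conj_mem _ hx g⟩ * (⟨x, hx⟩ : B)⁻¹) : ℂˣ) : ℂ) = 1 := by
      rw [h3]; rfl
    exact this
  have h5 := hinj _ h4
  have h6 := congrArg Subtype.val h5
  simp only [Subgroup.coe_mul, Subgroup.coe_inv, Subgroup.coe_one] at h6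
  have h7 : g * x * g⁻¹ = x := by
    rw [mul_inv_eq_one] at h6
    exact h6
  calc x * g = (g * x * g⁻¹) * g := by rw [h7]
    _ = g * x := by group

end BaseOne

end Cfsg.Agent.Helper22.PFieldVal
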