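import Mathlib
import Cfsg.Prelude.Def_Blocks
import Cfsg.Agent.Lib.Helper22.PFV6
import Cfsg.Agent.Lib.Helper8.PGroup

/-!
# The base case, part 2 (helper22, for S4489): counting and arithmetic
-/

set_option autoImplicit false
set_option linter.style.haveILetI false
set_option linter.unusedSectionVars false

namespace Cfsg.Agent.Helper22.PFieldVal

open Cfsg Cfsg.Agent Cfsg.Agent.Helper24

universe u

section Arith

theorem bernoulli_nat {p : ℕ} (hp : 1 ≤ p) (k : ℕ) : (p - 1) * k + 1 ≤ p ^ k := by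
  induction k with
  | zero => simp
  | succ k ih =>
    have h1 : 1 ≤ p ^ k := Nat.one_le_pow _ _ hp
    have h2 : p ^ (k + 1) = p ^ k + (p - 1) * p ^ k := by
      obtain ⟨q, rfl⟩ : ∃ q, p = q + 1 := ⟨p - 1, by omega⟩
      simp only [Nat.add_sub_cancel]
      ring
    have h3 : (p - 1) * 1 ≤ (p - 1) * p ^ k := Nat.mul_le_mul_left _ h1
    rw [h2, mul_add]
    omega

theorem base_arith {p : ℕ} (hp : p.Prime) {b k f d m : ℕ} (hf : p ^ k ≤ f) (hd : d < p ^ m)
    (hd0 : 0 < d) (htot : Nat.totient (p ^ b) ≤ d * f) :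
    (p - 1) * (b + k) ≤ (f - 1) + (p - 1) * m * f := by
  have hp2 : 2 ≤ p := hp.two_le
  have hf0 : 0 < f := lt_of_lt_of_le (pow_pos hp.pos k) hf
  have hm0 : m ≠ 0 := by
    rintro rfl
    simp at hd
    omega
  -- (p - 1) * k ≤ f - 1
  have h1 : (p - 1) * k ≤ f - 1 := by
    have := bernoulli_nat hp.one_lt.le k
    omega
  -- b ≤ m * f
  have h2 : b ≤ m * f := by
    rcases Nat.eq_zero_or_pos b with hb | hb
    · omega
    by_cases hbm : b ≤ m
    · calc b ≤ m := hbm
        _ = m * 1 := (mul_one m).symm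
        _ ≤ m * f := Nat.mul_le_mul_left m hf0
    push Not at hbm
    rw [Nat.totient_prime_pow hp hb] at htot
    have h3 : p ^ (b - 1) ≤ p ^ (b - 1) * (p - 1) := Nat.le_mul_of_pos_right _ (by omega)
    have h4 : d * f < p ^ m * f := Nat.mul_lt_mul_of_pos_right hd hf0
    have h5 : p ^ (b - 1) < p ^ m * f := by omega
    obtain ⟨c, hc⟩ : ∃ c, b - 1 = m + c := ⟨b - 1 - m, by omega⟩
    rw [hc, pow_add] at h5
    have h6 : p ^ c < f := Nat.lt_of_mul_lt_mul_left h5
    have h7 : c < 2 ^ c := Nat.lt_two_pow_self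
    have h8 : 2 ^ c ≤ p ^ c := Nat.pow_le_pow_left hp2 c
    have h9 : c + 2 ≤ f := by omega
    have hbc : b = m + c + 1 := by omega
    have h10 : m * (c + 2) ≤ m * f := Nat.mul_le_mul_left m h9
    have h11 : c ≤ m * c := Nat.le_mul_of_pos_left c (Nat.pos_of_ne_zero hm0)
    have h12 : m * (c + 2) = m * c + 2 * m := by ring
    omega
  calc (p - 1) * (b + k) = (p - 1) * k + (p - 1) * b := by ring
    _ ≤ (f - 1) + (p - 1) * (m * f) := Nat.add_le_add h1 (Nat.mul_le_mul_left _ h2)
    _ = (f - 1) + (p - 1) * m * f := by rw [mul_assoc]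

end Arith

section Count

/-- The number of distinct irreducible constituents of a character is at most its degree. -/
theorem card_constituents_le {B : Type u} [Group B] [Fintype B] [Fintype (IrrCharacter B)]
    [DecidableEq (IrrCharacter B)]
    {θ : B → ℂ} (hθ : IsCharacter B θ) :
    (Finset.univ.filter (fun φ : IrrCharacter B => classInner θ (φ : B → ℂ) ≠ 0)).card ≤
      charDegree θ := by
  classical
  obtain ⟨hm, hdec⟩ := isCharacter_decomp hθ
  choose mult hmult using hm
  have hdeg : ∀ φ : IrrCharacter B, ∃ n : ℕ, 0 < n ∧ (φ : B → ℂ) 1 = n := fun φ => irr_one_eq φ.2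
  choose deg hdegpos hdeg using hdeg
  have e1 := congrFun hdec 1
  simp only [Finset.sum_apply, Pi.smul_apply, smul_eq_mul, hmult, hdeg] at e1
  rw [char_one_eq_charDegree hθ] at e1
  have e2 : charDegree θ = ∑ φ : IrrCharacter B, mult φ * deg φ := by exact_mod_cast e1
  rw [e2]
  have hfilter : (Finset.univ.filter (fun φ : IrrCharacter B => classInner θ (φ : B → ℂ) ≠ 0)) =
      Finset.univ.filter (fun φ : IrrCharacter B => mult φ ≠ 0) := by
    ext φ
    simp only [Finset.mem_filter, Finset.mem_univ, true_and, hmult]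
    exact_mod_cast Iff.rfl
  rw [hfilter, Finset.card_eq_sum_ones]
  calc ∑ _φ ∈ Finset.univ.filter (fun φ : IrrCharacter B => mult φ ≠ 0), 1
      ≤ ∑ φ ∈ Finset.univ.filter (fun φ : IrrCharacter B => mult φ ≠ 0), mult φ * deg φ := by
        apply Finset.sum_le_sum
        intro φ hφ
        rw [Finset.mem_filter] at hφ
        have h1 : 1 ≤ mult φ := Nat.one_le_iff_ne_zero.mpr hφ.2
        have h2 : 1 ≤ deg φ := hdegpos φ
        calc 1 = 1 * 1 := rfl
          _ ≤ mult φ * deg φ := Nat.mul_le_mul h1 h2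
    _ ≤ ∑ φ : IrrCharacter B, mult φ * deg φ :=
        Finset.sum_le_sum_of_subset (Finset.filter_subset _ _)

variable {G : Type u} [Group G] [Fintype G]

theorem totient_le_galCard_mul {p a : ℕ} [hp : Fact p.Prime] (hG : Nat.card G = p ^ a)
    {χ : G → ℂ} (hχ : IsIrrCharacter G χ) (B : Subgroup G) [Fintype B] {b : ℕ}
    (hBcard : Nat.card B = p ^ b) {μ : B → ℂ} (hμ : IsIrrCharacter B μ) (hμ1 : μ 1 = 1)
    (hcon : classInner (fun x : B => χ x) μ ≠ 0) (hinj : ∀ x : B, μ x = 1 → x = 1) :
    Nat.totient (p ^ b) ≤ galCard p χ * charDegree χ := by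
  classical
  have hpp : p.Prime := hp.out
  letI : Fintype (IrrCharacter B) := irrFintype
  have hμc := isCharacter_of_isIrrCharacter hμ
  have hfinχ : (galSet p χ).Finite := galSet_finite hG hχ
  have hf0 : 0 < charDegree χ := charDegree_pos hχ
  rcases Nat.eq_zero_or_pos b with hb | hb
  · subst hb
    rw [pow_zero, Nat.totient_one]
    exact Nat.mul_pos (galCard_pos hG hχ) hf0
  -- a generator of B
  let lam : B →* ℂˣ := linHom hμc hμ1
  have hlaminj : Function.Injective lam := by
    rw [injective_iff_map_eq_one]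
    intro x hx
    apply hinj
    have : ((lam x : ℂˣ) : ℂ) = 1 := by rw [hx]; rfl
    exact this
  let lamC : B →* ℂ := (Units.coeHom ℂ).comp lam
  have hlamCinj : Function.Injective lamC := Units.val_injective.comp hlaminj
  haveI : IsCyclic B := isCyclic_of_injective_ringHom lamC hlamCinj
  obtain ⟨x₀, hx₀⟩ := IsCyclic.exists_generator (α := B)
  have hx₀o : orderOf x₀ = p ^ b := by
    rw [orderOf_eq_card_of_forall_mem_zpowers hx₀, hBcard]
  have hζo : orderOf (μ x₀) = p ^ b := by
    have := orderOf_injective lamC hlamCinj x₀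
    rw [hx₀o] at this
    exact this
  have hprim : IsPrimitiveRoot (μ x₀) (p ^ b) := by
    rw [← hζo]
    exact IsPrimitiveRoot.orderOf (μ x₀)
  -- the map j ↦ tw j μ
  let Φ : ℕ → IrrCharacter B := fun j =>
    if h : Nat.Coprime j p then ⟨tw j μ, isIrrCharacter_tw hBcard hμ h⟩ else principalChar B
  have hΦ : ∀ j (h : Nat.Coprime j p), ((Φ j : IrrCharacter B) : B → ℂ) = tw j μ := by
    intro j h
    simp only [Φ, dif_pos h]
  let C : (G → ℂ) → Finset (IrrCharacter B) := fun φ =>
    Finset.univ.filter (fun θ : IrrCharacter B => classInner (fun x : B => φ x) (θ : B → ℂ) ≠ 0)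
  let W : Finset (IrrCharacter B) := hfinχ.toFinset.biUnion C
  have hJ : ∀ j ∈ (Finset.range (p ^ b)).filter (fun j => (p ^ b).Coprime j), Nat.Coprime j p := by
    intro j hj
    rw [Finset.mem_filter] at hj
    exact (Nat.Coprime.coprime_dvd_left (dvd_pow_self p hb.ne') hj.2).symm
  have hmaps : ∀ j ∈ (Finset.range (p ^ b)).filter (fun j => (p ^ b).Coprime j), Φ j ∈ W := by
    intro j hj
    have hjp := hJ j hj
    rw [Finset.mem_biUnion]
    refine ⟨tw j χ, ?_, ?_⟩
    · rw [Set.Finite.mem_toFinset]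
      exact tw_mem_galSet hjp χ
    · rw [Finset.mem_filter]
      refine ⟨Finset.mem_univ _, ?_⟩
      rw [hΦ j hjp]
      have hcopB : Nat.Coprime (Nat.card B) j := by
        rw [hBcard]
        exact Nat.Coprime.pow_left b hjp.symm
      have := Cfsg.Agent.Helper18.classInner_comp_pow (fun x : B => χ x) μ hcopB
      have e : (fun x : B => tw j χ x) = fun g : B => (fun x : B => χ x) (g ^ j) := by
        funext x
        simp [tw_apply]
      rw [e]
      change classInner (fun g : B => (fun x : B => χ x) (g ^ j)) (fun g : B => μ (g ^ j)) ≠ 0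
      rw [this]
      exact hcon
  have hinjOn : Set.InjOn Φ ((Finset.range (p ^ b)).filter (fun j => (p ^ b).Coprime j) : Finset ℕ) := by
    intro j hj j' hj' h
    have hjp := hJ j hj
    have hjp' := hJ j' hj'
    have h1 : tw j μ = tw j' μ := by
      rw [← hΦ j hjp, ← hΦ j' hjp', h]
    have h2 := congrFun h1 x₀
    rw [tw_linear hμc hμ1, tw_linear hμc hμ1] at h2
    have hj1 := (Finset.mem_filter.mp hj).1
    have hj1' := (Finset.mem_filter.mp hj').1
    rw [Finset.mem_range] at hj1 hj1'
    exact hprim.pow_inj hj1 hj1' h2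
  have hcard1 := Finset.card_le_card_of_injOn Φ hmaps hinjOn
  have hcardC : ∀ φ ∈ hfinχ.toFinset, (C φ).card ≤ charDegree χ := by
    intro φ hφ
    rw [Set.Finite.mem_toFinset] at hφ
    obtain ⟨j, hj, rfl⟩ := hφ
    have hirr := isIrrCharacter_tw hG hχ hj
    have hres : IsCharacter B (fun x : B => tw j χ x) :=
      isCharacter_restrict B (isCharacter_of_isIrrCharacter hirr)
    have h1 := card_constituents_le hres
    have h2 : charDegree (fun x : B => tw j χ x) = charDegree χ := by
      unfold charDegree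
      simp [tw_apply]
    rw [h2] at h1
    exact h1
  have hcard2 : W.card ≤ hfinχ.toFinset.card * charDegree χ := by
    calc W.card ≤ ∑ φ ∈ hfinχ.toFinset, (C φ).card := Finset.card_biUnion_le
      _ ≤ ∑ _φ ∈ hfinχ.toFinset, charDegree χ := Finset.sum_le_sum hcardC
      _ = hfinχ.toFinset.card * charDegree χ := by rw [Finset.sum_const, smul_eq_mul]
  have hgal : galCard p χ = hfinχ.toFinset.card := Set.ncard_eq_toFinset_card _ hfinχ
  rw [Nat.totient_eq_card_coprime, hgal]
  exact hcard1.trans hcard2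

end Count

end Cfsg.Agent.Helper22.PFieldVal
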