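import Mathlib
import Cfsg.Prelude.Def_Blocks
import Cfsg.Agent.Lib.Helper22.PFV2
import Cfsg.Agent.Lib.Helper22.PFV5
import Cfsg.Agent.Lib.Helper22.PFV7

/-!
# The bound for faithful irreducible characters of `p`-groups (helper22, for S4489)

`main_bound`: if `χ` is a faithful irreducible character of degree `f` of a group of order `p ^ a`
with fewer than `p ^ m` distinct twists by exponents prime to `p`, then
`(p - 1) a ≤ (f - 1) + (p - 1) m f`.
-/

set_option autoImplicit false
set_option linter.style.haveILetI false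
set_option linter.unusedSectionVars false

namespace Cfsg.Agent.Helper22.PFieldVal

open Cfsg Cfsg.Agent Cfsg.Agent.Helper24

universe u

theorem case_two {G : Type u} [Group G] [Fintype G] {p a : ℕ} [hp : Fact p.Prime]
    (hG : Nat.card G = p ^ a) {χ : G → ℂ} (hχ : IsIrrCharacter G χ)
    (hfaith : ∀ g : G, χ g = χ 1 → g = 1)
    (hno : ¬ ∃ A : Subgroup G, A.Normal ∧ Nat.card A = p ^ 2 ∧ ∀ x ∈ A, x ^ p = 1)
    {m : ℕ} (hm : galCard p χ < p ^ m) :
    (p - 1) * a ≤ (charDegree χ - 1) + (p - 1) * m * charDegree χ := by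
  classical
  have hpp : p.Prime := hp.out
  have hGp : IsPGroup p G := IsPGroup.of_card hG
  obtain ⟨B, hBn, hBc, hCB⟩ := Cfsg.Agent.Helper8.exists_normal_abelian_self_centralizing hGp
  haveI := hBn
  letI : Fintype B := Fintype.ofFinite B
  letI : Fintype (IrrCharacter B) := irrFintype
  have hB : ∀ x y : B, x * y = y * x := hBc.is_comm.comm
  obtain ⟨μ, hμ, hcon, hμ1⟩ := exists_linear_constituent hχ B hB
  have hμc := isCharacter_of_isIrrCharacter hμ
  have hinj := linear_injective_of_no_sq hG hχ hfaith hno B hB hμ hμ1 hcon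
  obtain ⟨b, hb⟩ := (IsPGroup.iff_card).mp (hGp.to_subgroup B)
  have htot := totient_le_galCard_mul hG hχ B hb hμ hμ1 hcon hinj
  have hT : Helper18.inertia B μ = B := by
    apply le_antisymm
    · exact (inertia_le_centralizer B hμc hμ1 hinj).trans hCB
    · exact Helper18.le_inertia B (isClassFunction_of_isIrrCharacter hμ)
  have hdeg := Helper18.degree_eq_of_constituent B hχ hμ hcon
  rw [hT, hμ1, mul_one] at hdeg
  obtain ⟨e, he⟩ := classInner_char_nat
    (isCharacter_restrict B (isCharacter_of_isIrrCharacter hχ)) hμc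
  have he0 : e ≠ 0 := by
    rintro rfl
    exact hcon (by simpa using he)
  rw [he, irr_one_eq_charDegree hχ] at hdeg
  have hdeg' : charDegree χ = e * B.index := by exact_mod_cast hdeg
  have hdvd : B.index ∣ p ^ a := by
    rw [← hG]
    exact B.index_dvd_card
  obtain ⟨k, -, hk⟩ := (Nat.dvd_prime_pow hpp).mp hdvd
  have hab : a = b + k := by
    have := B.card_mul_index
    rw [hb, hk, hG, ← pow_add] at this
    exact (Nat.pow_right_injective hpp.two_le this).symm
  have hf : p ^ k ≤ charDegree χ := by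
    rw [hdeg', ← hk]
    exact Nat.le_mul_of_pos_left _ (Nat.pos_of_ne_zero he0)
  rw [hab]
  exact base_arith hpp hf hm (galCard_pos hG hχ) htot

theorem step_arith {p a a' f' m : ℕ} (hp : 1 ≤ p) (hf' : 0 < f') (h1 : a ≤ 1 + a' * p)
    (IH : (p - 1) * a' ≤ (f' - 1) + (p - 1) * m * f') :
    (p - 1) * a ≤ (p * f' - 1) + (p - 1) * m * (p * f') := by
  obtain ⟨q, rfl⟩ : ∃ q, f' = q + 1 := ⟨f' - 1, by omega⟩
  simp only [Nat.add_sub_cancel] at IH
  have e1 : (p - 1) * m * (p * (q + 1)) = p * ((p - 1) * m * (q + 1)) := by ring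
  have e2 : p * (q + 1) = p * q + p := by ring
  have h2 : (p - 1) * a ≤ (p - 1) * (1 + a' * p) := Nat.mul_le_mul_left _ h1
  have e3 : (p - 1) * (1 + a' * p) = (p - 1) + p * ((p - 1) * a') := by ring
  have h3 : p * ((p - 1) * a') ≤ p * (q + (p - 1) * m * (q + 1)) := Nat.mul_le_mul_left _ IH
  have e4 : p * (q + (p - 1) * m * (q + 1)) = p * q + p * ((p - 1) * m * (q + 1)) := by ring
  rw [e1, e2]
  omega

theorem main_bound (p : ℕ) [hp : Fact p.Prime] :
    ∀ (n : ℕ) (G : Type u) [Group G] [Finite G] (a : ℕ), Nat.card G = n → n = p ^ a →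
      ∀ χ : G → ℂ, IsIrrCharacter G χ → (∀ g : G, χ g = χ 1 → g = 1) →
        ∀ m : ℕ, galCard p χ < p ^ m →
          (p - 1) * a ≤ (charDegree χ - 1) + (p - 1) * m * charDegree χ := by
  intro n
  induction n using Nat.strong_induction_on with
  | _ n ih =>
    intro G _ _ a hcard hn χ hχ hfaith m hm
    have hpp : p.Prime := hp.out
    letI : Fintype G := Fintype.ofFinite G
    have hG : Nat.card G = p ^ a := by rw [hcard, hn]
    by_cases hex : ∃ A : Subgroup G, A.Normal ∧ Nat.card A = p ^ 2 ∧ ∀ x ∈ A, x ^ p = 1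
    · obtain ⟨A, hAn, hAcard, hAexp⟩ := hex
      haveI := hAn
      obtain ⟨Q, instQ, finQ, ψ', hψ', hfaith', hdeg, hgal, hle, hlt, hdvd⟩ :=
        case_one hG hχ hfaith A hAcard hAexp
      rw [hG] at hdvd
      obtain ⟨a', -, ha'⟩ := (Nat.dvd_prime_pow hpp).mp hdvd
      have IH := ih (Nat.card Q) (by rw [← hcard]; exact hlt) Q a' rfl ha' ψ' hψ' hfaith' m
        (lt_of_le_of_lt hgal hm)
      rw [hG, ha'] at hle
      have h1 : a ≤ 1 + a' * p := by
        rw [← pow_mul, ← pow_succ'] at hle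
        have := (Nat.pow_le_pow_iff_right hpp.one_lt).mp hle
        omega
      rw [← hdeg]
      exact step_arith hpp.one_lt.le (charDegree_pos hψ') h1 IH
    · exact case_two hG hχ hfaith hex hm

/-- The bound in terms of the degree of the field of values. -/
theorem field_bound {P : Type u} [Group P] [Finite P] (p a : ℕ) (hp : p.Prime) (ha : 0 < a)
    (hP : Nat.card P = p ^ a) {χ : P → ℂ} (hχ : IsIrrCharacter P χ)
    (hfaith : ∀ g : P, χ g = χ 1 → g = 1) (t : ℕ)
    (hfield : Module.finrank ℚ (IntermediateField.adjoin ℚ (Set.range χ)) = (p - 1) * p ^ t) :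
    (p - 1) * a ≤ (charDegree χ - 1) + (p - 1) * (t + 1) * charDegree χ := by
  haveI : Fact p.Prime := ⟨hp⟩
  have h1 := ncard_tw_le_finrank (isCharacter_of_isIrrCharacter hχ)
  rw [hfield] at h1
  have hset : {φ : P → ℂ | ∃ j : ℕ, Nat.Coprime j (Nat.card P) ∧ φ = tw j χ} = galSet p χ := by
    ext φ
    constructor
    · rintro ⟨j, hj, rfl⟩
      rw [hP, Nat.coprime_pow_right_iff ha] at hj
      exact ⟨j, hj, rfl⟩
    · rintro ⟨j, hj, rfl⟩
      refine ⟨j, ?_, rfl⟩
      rw [hP, Nat.coprime_pow_right_iff ha]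
      exact hj
  rw [hset] at h1
  have h3 : galCard p χ < p ^ (t + 1) := by
    have hp1 : p - 1 < p := Nat.sub_lt hp.pos Nat.one_pos
    calc galCard p χ ≤ (p - 1) * p ^ t := h1
      _ < p * p ^ t := Nat.mul_lt_mul_of_pos_right hp1 (pow_pos hp.pos t)
      _ = p ^ (t + 1) := (pow_succ' p t).symm
  exact main_bound p (Nat.card P) P a rfl hP χ hχ hfaith (t + 1) h3

end Cfsg.Agent.Helper22.PFieldVal
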