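import Mathlib

/-!
# The number of partitions of `n` is at most `2 ^ (n - 2)` for `n ≥ 5`
(helper22's library)
-/

set_option autoImplicit false

namespace Cfsg.Agent.Helper22.PartBound

open Multiset

/-- remove a part equal to one -/
def eraseOne {m : ℕ} (l : Nat.Partition (m + 2)) (h : 1 ∈ l.parts) : Nat.Partition (m + 1) where
  parts := l.parts.erase 1
  parts_pos := fun hi => l.parts_pos (Multiset.mem_of_mem_erase hi)
  parts_sum := by
    have := Multiset.sum_erase h
    rw [l.parts_sum] at this
    omega

theorem parts_ne_zero {m : ℕ} (l : Nat.Partition (m + 2)) : l.parts ≠ 0 := by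
  intro h
  have := l.parts_sum
  rw [h, Multiset.sum_zero] at this
  omega

/-- a chosen part -/
noncomputable def somePart {m : ℕ} (l : Nat.Partition (m + 2)) : ℕ :=
  Classical.choose (Multiset.exists_mem_of_ne_zero (parts_ne_zero l))

theorem somePart_mem {m : ℕ} (l : Nat.Partition (m + 2)) : somePart l ∈ l.parts :=
  Classical.choose_spec (Multiset.exists_mem_of_ne_zero (parts_ne_zero l))

/-- replace a part `a ≥ 2` by `a - 2` ones -/
noncomputable def splitPart {m : ℕ} (l : Nat.Partition (m + 2)) (h : 1 ∉ l.parts) :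
    Nat.Partition m where
  parts := l.parts.erase (somePart l) + Multiset.replicate (somePart l - 2) 1
  parts_pos := by
    intro i hi
    rcases Multiset.mem_add.mp hi with h1 | h1
    · exact l.parts_pos (Multiset.mem_of_mem_erase h1)
    · rw [Multiset.eq_of_mem_replicate h1]; norm_num
  parts_sum := by
    have h1 := Multiset.sum_erase (somePart_mem l)
    rw [l.parts_sum] at h1
    have h2 : 0 < somePart l := l.parts_pos (somePart_mem l)
    have h3 : somePart l ≠ 1 := fun e => h (e ▸ somePart_mem l)
    rw [Multiset.sum_add, Multiset.sum_replicate, smul_eq_mul, mul_one]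
    omega

/-- the injection behind `p (m + 2) ≤ p (m + 1) + p m` -/
noncomputable def step {m : ℕ} (l : Nat.Partition (m + 2)) :
    Nat.Partition (m + 1) ⊕ Nat.Partition m :=
  if h : 1 ∈ l.parts then Sum.inl (eraseOne l h) else Sum.inr (splitPart l h)

theorem step_injective (m : ℕ) : Function.Injective (step (m := m)) := by
  classical
  intro l l' hll'
  unfold step at hll'
  by_cases h : 1 ∈ l.parts <;> by_cases h' : 1 ∈ l'.parts
  · rw [dif_pos h, dif_pos h'] at hll'
    have h1 : l.parts.erase 1 = l'.parts.erase 1 :=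
      congrArg Nat.Partition.parts (Sum.inl_injective hll')
    apply Nat.Partition.ext
    rw [← Multiset.cons_erase h, ← Multiset.cons_erase h', h1]
  · rw [dif_pos h, dif_neg h'] at hll'
    exact absurd hll' (by simp)
  · rw [dif_neg h, dif_pos h'] at hll'
    exact absurd hll' (by simp)
  · rw [dif_neg h, dif_neg h'] at hll'
    have h1 : l.parts.erase (somePart l) + Multiset.replicate (somePart l - 2) 1 =
        l'.parts.erase (somePart l') + Multiset.replicate (somePart l' - 2) 1 :=
      congrArg Nat.Partition.parts (Sum.inr_injective hll')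
    have hno : ∀ (k : Nat.Partition (m + 2)), 1 ∉ k.parts → 1 ∉ k.parts.erase (somePart k) :=
      fun k hk hk' => hk (Multiset.mem_of_mem_erase hk')
    -- count of ones
    have hc := congrArg (Multiset.count 1) h1
    rw [Multiset.count_add, Multiset.count_add, Multiset.count_replicate_self,
      Multiset.count_replicate_self, Multiset.count_eq_zero_of_notMem (hno l h),
      Multiset.count_eq_zero_of_notMem (hno l' h'), zero_add, zero_add] at hc
    have h2 : 0 < somePart l := l.parts_pos (somePart_mem l)
    have h3 : somePart l ≠ 1 := fun e => h (e ▸ somePart_mem l)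
    have h2' : 0 < somePart l' := l'.parts_pos (somePart_mem l')
    have h3' : somePart l' ≠ 1 := fun e => h' (e ▸ somePart_mem l')
    have ha : somePart l = somePart l' := by omega
    rw [ha] at h1
    have h4 := add_right_cancel h1
    apply Nat.Partition.ext
    have e1 := Multiset.cons_erase (somePart_mem l)
    have e2 := Multiset.cons_erase (somePart_mem l')
    rw [ha] at e1
    rw [← e1, ← e2, h4]

/-- the number of partitions -/
noncomputable def p (m : ℕ) : ℕ := Fintype.card (Nat.Partition m)

theorem p_step (m : ℕ) : p (m + 2) ≤ p (m + 1) + p m := by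
  unfold p
  rw [← Fintype.card_sum]
  exact Fintype.card_le_of_injective _ (step_injective m)

theorem p_zero : p 0 = 1 := by
  unfold p
  exact Fintype.card_unique

theorem p_one : p 1 = 1 := by
  unfold p
  exact Fintype.card_unique

theorem p_le : ∀ m : ℕ, 5 ≤ m → p m ≤ 2 ^ (m - 2) ∧ p (m + 1) ≤ 2 ^ (m - 1) := by
  have h2 : p 2 ≤ 2 := by
    have : p 2 ≤ p 1 + p 0 := p_step 0
    rw [p_zero, p_one] at this; exact this
  have h3 : p 3 ≤ 3 := by
    have : p 3 ≤ p 2 + p 1 := p_step 1
    rw [p_one] at this; omega
  have h4 : p 4 ≤ 5 := by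
    have : p 4 ≤ p 3 + p 2 := p_step 2
    omega
  have h5 : p 5 ≤ 8 := by
    have : p 5 ≤ p 4 + p 3 := p_step 3
    omega
  have h6 : p 6 ≤ 13 := by
    have : p 6 ≤ p 5 + p 4 := p_step 4
    omega
  intro m hm
  induction m, hm using Nat.le_induction with
  | base => exact ⟨by norm_num; exact h5, by norm_num; omega⟩
  | succ k hk ih =>
    obtain ⟨ih1, ih2⟩ := ih
    refine ⟨?_, ?_⟩
    · have : k + 1 - 2 = k - 1 := by omega
      rw [this]; exact ih2
    · obtain ⟨j, rfl⟩ : ∃ j, k = j + 5 := ⟨k - 5, by omega⟩
      have := p_step (j + 5)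
      have e1 : j + 5 - 2 = j + 3 := by omega
      have e2 : j + 5 - 1 = j + 4 := by omega
      have e3 : j + 5 + 1 + 1 = j + 5 + 2 := by omega
      have e4 : j + 5 + 1 - 1 = j + 5 := by omega
      rw [e1] at ih1
      rw [e2] at ih2
      rw [e3, e4]
      have e5 : (2 : ℕ) ^ (j + 5) = 2 * 2 ^ (j + 4) := by ring
      have e6 : (2 : ℕ) ^ (j + 4) = 2 * 2 ^ (j + 3) := by ring
      omega

theorem card_partition_le (m : ℕ) (hm : 5 ≤ m) : Fintype.card (Nat.Partition m) ≤ 2 ^ (m - 2) :=
  (p_le m hm).1

end Cfsg.Agent.Helper22.PartBound
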