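import Mathlib

set_option autoImplicit false

namespace Cfsg.Agent.Helper22.PowGraph

open Subgroup

variable {G : Type*} [Group G]

/-- adjacency in the (undirected, reflexive) power graph -/
def Adj (x y : G) : Prop := x ∈ zpowers y ∨ y ∈ zpowers x

theorem adj_refl (x : G) : Adj x x := Or.inl (mem_zpowers x)

theorem Adj.symm {x y : G} (h : Adj x y) : Adj y x := Or.symm h

theorem adj_comm {x y : G} : Adj x y ↔ Adj y x := ⟨Adj.symm, Adj.symm⟩

theorem adj_iff_le {x y : G} : Adj x y ↔ zpowers x ≤ zpowers y ∨ zpowers y ≤ zpowers x := by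
  unfold Adj
  rw [zpowers_le, zpowers_le]

theorem adj_congr_left {x x' : G} (h : zpowers x = zpowers x') (y : G) : Adj x y ↔ Adj x' y := by
  rw [adj_iff_le, adj_iff_le, h]

/-- universal vertices -/
def Univ (x : G) : Prop := ∀ z, Adj x z

theorem univ_one : Univ (1 : G) := fun z => Or.inl (one_mem _)

/-- closed twins -/
def Twin (x y : G) : Prop := ∀ z, Adj x z ↔ Adj y z

theorem twin_refl (x : G) : Twin x x := fun _ => Iff.rfl

theorem Twin.symm {x y : G} (h : Twin x y) : Twin y x := fun z => (h z).symm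

theorem Twin.trans {x y z : G} (h : Twin x y) (h' : Twin y z) : Twin x z :=
  fun w => (h w).trans (h' w)

theorem Twin.adj {x y : G} (h : Twin x y) : Adj x y := (h y).mpr (adj_refl y)

theorem twin_of_zpowers_eq {x y : G} (h : zpowers x = zpowers y) : Twin x y :=
  fun z => adj_congr_left h z

theorem Twin.univ {x y : G} (h : Twin x y) (hx : Univ x) : Univ y := fun z => (h z).mp (hx z)

/-- size of the closed twin class -/
noncomputable def tw (x : G) : ℕ := {y | Twin x y}.ncard

theorem tw_congr {x y : G} (h : Twin x y) : tw x = tw y := by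
  unfold tw
  congr 1
  ext z
  exact ⟨fun hz => h.symm.trans hz, fun hz => h.trans hz⟩

/-- minimality of twin class size among the non-universal, non-twin neighbours -/
def TwMin (a : G) : Prop := ∀ y, Adj y a → ¬ Univ y → ¬ Twin y a → tw a ≤ tw y

section transfer

variable {H : Type*} [Group H] (e : G ≃ H) (he : ∀ x y : G, Adj x y ↔ Adj (e x) (e y))
include he

theorem twin_map {x y : G} : Twin x y ↔ Twin (e x) (e y) := by
  constructor
  · intro h w
    obtain ⟨z, rfl⟩ := e.surjective w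
    rw [← he, ← he]
    exact h z
  · intro h z
    rw [he, he y z]
    exact h (e z)

theorem univ_map {x : G} : Univ x ↔ Univ (e x) := by
  constructor
  · intro h w
    obtain ⟨z, rfl⟩ := e.surjective w
    rw [← he]
    exact h z
  · intro h z
    rw [he]
    exact h (e z)

theorem tw_map (x : G) : tw (e x) = tw x := by
  unfold tw
  have : {w | Twin (e x) w} = e '' {z | Twin x z} := by
    ext w
    constructor
    · intro hw
      refine ⟨e.symm w, ?_, by simp⟩
      show Twin x (e.symm w)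
      rw [twin_map e he]
      simpa using hw
    · rintro ⟨z, hz, rfl⟩
      exact (twin_map e he).mp hz
  rw [this, Set.ncard_image_of_injective _ e.injective]

theorem twMin_map {a : G} (h : TwMin a) : TwMin (e a) := by
  intro w hw1 hw2 hw3
  obtain ⟨y, rfl⟩ := e.surjective w
  rw [tw_map e he, tw_map e he]
  exact h y ((he y a).mpr hw1) (fun hu => hw2 ((univ_map e he).mp hu))
    (fun ht => hw3 ((twin_map e he).mp ht))

end transfer

theorem arith {n r k : ℕ} (hr : r.Prime) (hk : 0 < k) (hn : 0 < n) (hdvd : r ^ k ∣ n)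
    (hne : r ^ k ≠ n) (hmin : ∀ s : ℕ, s.Prime → s ∣ n → r ≤ s) : r ^ k ≤ Nat.totient n := by
  obtain ⟨t, rfl⟩ := hdvd
  have ht : 2 ≤ t := by
    rcases t with _ | _ | t
    · simp at hn
    · simp at hne
    · omega
  have hs : t.minFac.Prime := Nat.minFac_prime (by omega)
  have hst : t.minFac ∣ t := Nat.minFac_dvd t
  have hrs : r ≤ t.minFac := hmin _ hs (Dvd.dvd.mul_left hst _)
  have hdiv : r ^ k * t.minFac ∣ r ^ k * t := Nat.mul_dvd_mul_left _ hst
  have h1 : Nat.totient (r ^ k * t.minFac) ∣ Nat.totient (r ^ k * t) := Nat.totient_dvd_of_dvd hdiv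
  have h2 : Nat.totient (r ^ k * t.minFac) ≤ Nat.totient (r ^ k * t) :=
    Nat.le_of_dvd (Nat.totient_pos.mpr hn) h1
  refine le_trans ?_ h2
  have hr2 := hr.two_le
  by_cases hsr : t.minFac = r
  · rw [hsr, ← pow_succ, Nat.totient_prime_pow hr (Nat.succ_pos k)]
    show r ^ k ≤ r ^ (k + 1 - 1) * (r - 1)
    rw [Nat.add_sub_cancel]
    exact Nat.le_mul_of_pos_right _ (by omega)
  · have hcop : Nat.Coprime (r ^ k) t.minFac :=
      Nat.Coprime.pow_left k ((Nat.coprime_primes hr hs).mpr (Ne.symm hsr))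
    rw [Nat.totient_mul hcop, Nat.totient_prime_pow hr hk, Nat.totient_prime hs]
    have h4 : r ^ k = r ^ (k - 1) * r := by
      rw [← pow_succ]; congr 1; omega
    rw [h4]
    have h3 : r ≤ (r - 1) * (t.minFac - 1) := by
      have h5 : r + 1 ≤ t.minFac := by omega
      calc r ≤ 1 * (t.minFac - 1) := by omega
        _ ≤ (r - 1) * (t.minFac - 1) := Nat.mul_le_mul_right _ (by omega)
    rw [mul_assoc]; exact Nat.mul_le_mul_left _ h3

section finite

variable [Finite G]

theorem cyc {g x y : G} (hx : x ∈ zpowers g) (hy : y ∈ zpowers g)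
    (hd : orderOf x ∣ orderOf y) : x ∈ zpowers y := by
  classical
  have : Fintype (zpowers g) := Fintype.ofFinite _
  have hm : 0 < orderOf y := orderOf_pos y
  have h1 := IsCyclic.card_pow_eq_one_le (α := zpowers g) hm
  let y' : zpowers g := ⟨y, hy⟩
  let x' : zpowers g := ⟨x, hx⟩
  have hoy : orderOf y' = orderOf y := Subgroup.orderOf_mk y hy
  have hsub : (Finset.univ.filter (fun a : zpowers g => a ∈ zpowers y')) ⊆
      Finset.univ.filter (fun a : zpowers g => a ^ orderOf y = 1) := by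
    intro a ha
    simp only [Finset.mem_filter, Finset.mem_univ, true_and] at ha ⊢
    obtain ⟨k, rfl⟩ := ha
    rw [← zpow_natCast, ← zpow_mul, mul_comm, zpow_mul, zpow_natCast, ← hoy, pow_orderOf_eq_one,
      one_zpow]
  have hcard : (Finset.univ.filter (fun a : zpowers g => a ∈ zpowers y')).card = orderOf y := by
    rw [← hoy, ← Nat.card_zpowers, Nat.card_eq_fintype_card, Fintype.card_subtype]
  have heq := Finset.eq_of_subset_of_card_le hsub (by rw [hcard]; exact h1)
  have hx' : x' ∈ Finset.univ.filter (fun a : zpowers g => a ^ orderOf y = 1) := by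
    simp only [Finset.mem_filter, Finset.mem_univ, true_and]
    apply Subtype.ext
    simp only [x', SubmonoidClass.mk_pow, OneMemClass.coe_one]
    exact orderOf_dvd_iff_pow_eq_one.mp hd
  rw [← heq] at hx'
  simp only [Finset.mem_filter, Finset.mem_univ, true_and] at hx'
  obtain ⟨k, hk⟩ := hx'
  exact ⟨k, by simpa [x', y'] using congrArg Subtype.val hk⟩

theorem zpowers_eq_of_mem {x y : G} (hx : x ∈ zpowers y) (h : orderOf x = orderOf y) :
    zpowers x = zpowers y :=
  Subgroup.eq_of_le_of_card_ge (zpowers_le.mpr hx) (by rw [Nat.card_zpowers, Nat.card_zpowers, h])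

theorem mem_of_adj_prime {p : ℕ} (hp : p.Prime) {h u : G} (hu : orderOf u = p) (hh : h ≠ 1)
    (ha : Adj h u) : u ∈ zpowers h := by
  rcases ha with ha | ha
  · have h1 : orderOf h ∣ p := hu ▸ orderOf_dvd_of_mem_zpowers ha
    rcases (Nat.dvd_prime hp).mp h1 with h2 | h2
    · exact absurd (orderOf_eq_one_iff.mp h2) hh
    · exact cyc (mem_zpowers u) ha (by rw [hu, h2])
  · exact ha

theorem exists_orderOf_mul {p q : ℕ} (hp : p.Prime) (hq : q.Prime) (hpq : p ≠ q) {h u v : G}
    (hu : orderOf u = p) (hv : orderOf v = q) (hu' : u ∈ zpowers h) (hv' : v ∈ zpowers h) :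
    ∃ z : G, orderOf z = p * q := by
  have h1 : p ∣ orderOf h := hu ▸ orderOf_dvd_of_mem_zpowers hu'
  have h2 : q ∣ orderOf h := hv ▸ orderOf_dvd_of_mem_zpowers hv'
  have h3 : p * q ∣ orderOf h :=
    Nat.Coprime.mul_dvd_of_dvd_of_dvd ((Nat.coprime_primes hp hq).mpr hpq) h1 h2
  exact ⟨_, orderOf_pow_orderOf_div (orderOf_pos h).ne' h3⟩

theorem totient_le_tw (y : G) : Nat.totient (orderOf y) ≤ tw y := by
  classical
  have hn0 : 0 < orderOf y := orderOf_pos y
  let S : Finset ℕ := (Finset.range (orderOf y)).filter (fun k => (orderOf y).Coprime k)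
  have hcard : S.card = Nat.totient (orderOf y) := (Nat.totient_eq_card_coprime _).symm
  have hinj : Set.InjOn (fun k : ℕ => y ^ k) (S : Set ℕ) := by
    intro a ha b hb hab
    simp only [S, Finset.coe_filter, Finset.mem_range, Set.mem_ofPred_eq] at ha hb
    exact pow_injOn_Iio_orderOf ha.1 hb.1 hab
  have hsub : (fun k : ℕ => y ^ k) '' (S : Set ℕ) ⊆ {z | Twin y z} := by
    rintro _ ⟨k, hk, rfl⟩
    simp only [S, Finset.coe_filter, Finset.mem_range, Set.mem_ofPred_eq] at hk
    show Twin y (y ^ k)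
    apply Twin.symm
    apply twin_of_zpowers_eq
    apply zpowers_eq_of_mem (npow_mem_zpowers y k)
    exact Nat.Coprime.orderOf_pow hk.2
  calc Nat.totient (orderOf y) = S.card := hcard.symm
    _ = ((fun k : ℕ => y ^ k) '' (S : Set ℕ)).ncard := by
        rw [Set.InjOn.ncard_image hinj, Set.ncard_coe_finset]
    _ ≤ _ := Set.ncard_le_ncard hsub (Set.toFinite _)

theorem twin_class_prime (hS : ∀ s : G, Univ s → s = 1) {r : ℕ} (hr : r.Prime) {a₀ : G}
    (ha₀ : orderOf a₀ = r) :
    ∃ (ys : G) (k : ℕ), 0 < k ∧ orderOf ys = r ^ k ∧ a₀ ∈ zpowers ys ∧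
      ∀ y, Twin a₀ y ↔ (y ∈ zpowers ys ∧ y ≠ 1) := by
  have hne1 : ∀ y, Twin a₀ y → y ≠ 1 := by
    rintro y hy rfl
    have h1 : a₀ = 1 := hS a₀ (hy.symm.univ univ_one)
    rw [h1, orderOf_one] at ha₀
    exact hr.ne_one ha₀.symm
  have hmem : ∀ y, Twin a₀ y → a₀ ∈ zpowers y := fun y hy =>
    mem_of_adj_prime hr ha₀ (hne1 y hy) hy.adj.symm
  have hpow : ∀ y, Twin a₀ y → ∃ j, orderOf y = r ^ j := by
    intro y hy
    refine ⟨_, Nat.eq_prime_pow_of_unique_prime_dvd (orderOf_pos y).ne' ?_⟩
    intro s hs hsd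
    have hw : orderOf (y ^ (orderOf y / s)) = s := orderOf_pow_orderOf_div (orderOf_pos y).ne' hsd
    have h1 : Adj a₀ (y ^ (orderOf y / s)) := (hy _).mpr (Or.inr (npow_mem_zpowers y _))
    rcases h1 with h1 | h1
    · have := orderOf_dvd_of_mem_zpowers h1
      rw [ha₀, hw] at this
      exact ((Nat.prime_dvd_prime_iff_eq hr hs).mp this).symm
    · have := orderOf_dvd_of_mem_zpowers h1
      rw [ha₀, hw] at this
      exact (Nat.prime_dvd_prime_iff_eq hs hr).mp this
  obtain ⟨ys, hys, hmax⟩ := Set.exists_max_image {y | Twin a₀ y} (fun y => orderOf y)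
    (Set.toFinite _) ⟨a₀, twin_refl a₀⟩
  have hys : Twin a₀ ys := hys
  obtain ⟨k, hk⟩ := hpow ys hys
  have hk0 : 0 < k := by
    rcases Nat.eq_zero_or_pos k with h0 | h0
    · exfalso
      have := orderOf_dvd_of_mem_zpowers (hmem ys hys)
      rw [ha₀, hk, h0, pow_zero] at this
      exact hr.one_lt.ne' (Nat.dvd_one.mp this)
    · exact h0
  refine ⟨ys, k, hk0, hk, hmem ys hys, fun y => ⟨fun hy => ⟨?_, hne1 y hy⟩, ?_⟩⟩
  · have h1 : Adj y ys := (hy.symm.trans hys).adj
    rcases h1 with h1 | h1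
    · exact h1
    · have h2 : orderOf ys ∣ orderOf y := orderOf_dvd_of_mem_zpowers h1
      have h3 : orderOf y ≤ orderOf ys := hmax y hy
      have h4 : orderOf ys = orderOf y := le_antisymm (Nat.le_of_dvd (orderOf_pos y) h2) h3
      rw [zpowers_eq_of_mem h1 h4]
      exact mem_zpowers y
  · rintro ⟨hz, hz1⟩
    have hoz : orderOf y ∣ r ^ k := hk ▸ orderOf_dvd_of_mem_zpowers hz
    obtain ⟨i, _, hi⟩ := (Nat.dvd_prime_pow hr).mp hoz
    have hi0 : i ≠ 0 := by
      rintro rfl
      rw [pow_zero, orderOf_eq_one_iff] at hi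
      exact hz1 hi
    have hay : a₀ ∈ zpowers y := by
      apply cyc (hmem ys hys) hz
      rw [ha₀, hi]
      exact dvd_pow_self r hi0
    intro w
    constructor
    · intro h1
      have h2 : Adj ys w := (hys w).mp h1
      rcases h2 with h2 | h2
      · exact Or.inl (zpowers_le.mpr h2 hz)
      · have how : orderOf w ∣ r ^ k := hk ▸ orderOf_dvd_of_mem_zpowers h2
        obtain ⟨j, _, hj⟩ := (Nat.dvd_prime_pow hr).mp how
        rcases le_total i j with hij | hij
        · exact Or.inl (cyc hz h2 (by rw [hi, hj]; exact Nat.pow_dvd_pow r hij))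
        · exact Or.inr (cyc h2 hz (by rw [hi, hj]; exact Nat.pow_dvd_pow r hij))
    · intro h1
      rcases h1 with h1 | h1
      · exact Or.inl (zpowers_le.mpr h1 hay)
      · exact (hys w).mpr (Or.inr (zpowers_le.mpr hz h1))

theorem tw_eq_of_class {a₀ ys : G} (h : ∀ y, Twin a₀ y ↔ (y ∈ zpowers ys ∧ y ≠ 1)) :
    tw a₀ = orderOf ys - 1 := by
  unfold tw
  have : {y | Twin a₀ y} = (zpowers ys : Set G) \ {1} := by
    ext y
    simp only [Set.mem_ofPred_eq, Set.mem_sdiff, SetLike.mem_coe, Set.mem_singleton_iff]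
    exact h y
  rw [this, Set.ncard_sdiff (by simp), Set.ncard_singleton,
    ← Nat.card_coe_set_eq]
  congr 1
  exact Nat.card_zpowers ys

theorem orderOf_of_twMin (hS : ∀ s : G, Univ s → s = 1) {p : ℕ} (hp : p.Prime) {a : G}
    (ha : a ≠ 1) (hmin : TwMin a) (htw : tw a = p - 1) : orderOf a = p := by
  have hn0 : 0 < orderOf a := orderOf_pos a
  have hn1 : orderOf a ≠ 1 := fun h => ha (orderOf_eq_one_iff.mp h)
  have hr : (orderOf a).minFac.Prime := Nat.minFac_prime hn1
  have hrn : (orderOf a).minFac ∣ orderOf a := Nat.minFac_dvd _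
  have ha₀ : orderOf (a ^ (orderOf a / (orderOf a).minFac)) = (orderOf a).minFac :=
    orderOf_pow_orderOf_div hn0.ne' hrn
  have ha₀a : a ^ (orderOf a / (orderOf a).minFac) ∈ zpowers a := npow_mem_zpowers a _
  obtain ⟨ys, k, hk0, hk, hays, hT⟩ := twin_class_prime hS hr ha₀
  have htw0 : tw (a ^ (orderOf a / (orderOf a).minFac)) = (orderOf a).minFac ^ k - 1 := by
    rw [tw_eq_of_class hT, hk]
  have hpos : 0 < (orderOf a).minFac ^ k := pow_pos hr.pos k
  by_cases hays' : a ∈ zpowers ys
  · have h1 : Twin (a ^ (orderOf a / (orderOf a).minFac)) a := (hT a).mpr ⟨hays', ha⟩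
    have h2 : (orderOf a).minFac ^ k - 1 = p - 1 := by rw [← htw0, tw_congr h1, htw]
    have h3 : (orderOf a).minFac ^ k = p := by
      have := hp.one_lt
      omega
    have h4 : orderOf a ∣ p := by
      rw [← h3, ← hk]; exact orderOf_dvd_of_mem_zpowers hays'
    rcases (Nat.dvd_prime hp).mp h4 with h5 | h5
    · exact absurd h5 hn1
    · exact h5
  · exfalso
    have h1 : ¬ Twin (a ^ (orderOf a / (orderOf a).minFac)) a := fun h => hays' ((hT a).mp h).1
    have h2 : Adj (a ^ (orderOf a / (orderOf a).minFac)) a := Or.inl ha₀a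
    have hys1 : ys ≠ 1 := by
      rintro rfl
      rw [orderOf_one] at hk
      exact (Nat.one_lt_pow hk0.ne' hr.one_lt).ne hk
    have hys : Twin (a ^ (orderOf a / (orderOf a).minFac)) ys :=
      (hT ys).mpr ⟨mem_zpowers ys, hys1⟩
    have h3 : Adj ys a := (hys a).mp h2
    have h4 : ys ∈ zpowers a := by
      rcases h3 with h3 | h3
      · exact h3
      · exact absurd h3 hays'
    have h5 : (orderOf a).minFac ^ k ∣ orderOf a := hk ▸ orderOf_dvd_of_mem_zpowers h4
    have h6 : (orderOf a).minFac ^ k ≠ orderOf a := by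
      intro h
      have : zpowers ys = zpowers a := zpowers_eq_of_mem h4 (by rw [hk, h])
      exact hays' (this ▸ mem_zpowers a)
    have h7 : tw a ≤ tw (a ^ (orderOf a / (orderOf a).minFac)) := by
      refine hmin _ h2 (fun hu => ?_) h1
      have := hS _ hu
      rw [this, orderOf_one] at ha₀
      exact hr.ne_one ha₀.symm
    have h8 : (orderOf a).minFac ^ k ≤ Nat.totient (orderOf a) :=
      arith hr hk0 hn0 h5 h6 (fun s hs hsn => Nat.minFac_le_of_dvd hs.two_le hsn)
    have h9 := totient_le_tw a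
    omega

theorem twMin_of_orderOf_mul {p q : ℕ} (hp : p.Prime) (hq : q.Prime) (hpq : p ≠ q) {x : G}
    (hx : orderOf x = p * q) : orderOf (x ^ q) = p ∧ tw (x ^ q) = p - 1 ∧ TwMin (x ^ q) := by
  have hoa : orderOf (x ^ q) = p := by
    have h1 : orderOf x / p = q := by rw [hx]; exact Nat.mul_div_cancel_left q hp.pos
    have := orderOf_pow_orderOf_div (orderOf_pos x).ne' (hx ▸ Dvd.intro q rfl : p ∣ orderOf x)
    rwa [h1] at this
  have hob : orderOf (x ^ p) = q := by
    have h1 : orderOf x / q = p := by rw [hx]; exact Nat.mul_div_cancel p hq.pos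
    have := orderOf_pow_orderOf_div (orderOf_pos x).ne' (hx ▸ Dvd.intro_left p rfl : q ∣ orderOf x)
    rwa [h1] at this
  have hnab : ¬ Adj (x ^ q) (x ^ p) := by
    rintro (h | h)
    · have := orderOf_dvd_of_mem_zpowers h
      rw [hoa, hob] at this
      exact hpq ((Nat.prime_dvd_prime_iff_eq hp hq).mp this)
    · have := orderOf_dvd_of_mem_zpowers h
      rw [hoa, hob] at this
      exact hpq ((Nat.prime_dvd_prime_iff_eq hq hp).mp this).symm
  have hclass : ∀ y, Twin (x ^ q) y ↔ (y ∈ zpowers (x ^ q) ∧ y ≠ 1) := by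
    intro y
    constructor
    · intro h
      have hy1 : y ≠ 1 := by
        rintro rfl
        exact hnab (h.symm.univ univ_one _)
      refine ⟨?_, hy1⟩
      rcases h.adj with h1 | h1
      · have hyx : Adj y x := (h x).mp (Or.inl (npow_mem_zpowers x q))
        have hyb : ¬ Adj y (x ^ p) := fun h' => hnab ((h _).mpr h')
        rcases hyx with h2 | h2
        · have h3 : orderOf y ∣ p * q := hx ▸ orderOf_dvd_of_mem_zpowers h2
          have h4 : p ∣ orderOf y := hoa ▸ orderOf_dvd_of_mem_zpowers h1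
          obtain ⟨d, hd⟩ := h4
          rw [hd] at h3
          have h5 : d ∣ q := Nat.dvd_of_mul_dvd_mul_left hp.pos h3
          rcases (Nat.dvd_prime hq).mp h5 with h6 | h6
          · rw [h6, mul_one] at hd
            rw [zpowers_eq_of_mem h1 (by rw [hoa, hd])]
            exact mem_zpowers y
          · exfalso
            rw [h6] at hd
            have h7 : zpowers y = zpowers x := zpowers_eq_of_mem h2 (by rw [hd, hx])
            exact hyb (Or.inr (h7 ▸ npow_mem_zpowers x p))
        · exact absurd (Or.inr (zpowers_le.mpr h2 (npow_mem_zpowers x p))) hyb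
      · exact h1
    · rintro ⟨hy, hy1⟩
      have h1 : orderOf y ∣ p := hoa ▸ orderOf_dvd_of_mem_zpowers hy
      rcases (Nat.dvd_prime hp).mp h1 with h2 | h2
      · exact absurd (orderOf_eq_one_iff.mp h2) hy1
      · exact (twin_of_zpowers_eq (zpowers_eq_of_mem hy (by rw [h2, hoa]))).symm
  have htw : tw (x ^ q) = p - 1 := by rw [tw_eq_of_class hclass, hoa]
  refine ⟨hoa, htw, ?_⟩
  intro y hya hyu hyt
  have hy1 : y ≠ 1 := by
    rintro rfl
    exact hyu univ_one
  rcases hya with h1 | h1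
  · exact absurd ((hclass y).mpr ⟨h1, hy1⟩).symm hyt
  · have h2 : p ∣ orderOf y := hoa ▸ orderOf_dvd_of_mem_zpowers h1
    have h3 : Nat.totient p ∣ Nat.totient (orderOf y) := Nat.totient_dvd_of_dvd h2
    have h4 : Nat.totient p ≤ Nat.totient (orderOf y) :=
      Nat.le_of_dvd (Nat.totient_pos.mpr (orderOf_pos y)) h3
    rw [Nat.totient_prime hp] at h4
    rw [htw]
    exact h4.trans (totient_le_tw y)

theorem exists_orderOf_of_equiv {H : Type*} [Group H] [Finite H] (e : G ≃ H)
    (he : ∀ x y : G, Adj x y ↔ Adj (e x) (e y)) {p q : ℕ} (hp : p.Prime) (hq : q.Prime)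
    (hpq : p ≠ q) (hG : ∃ g : G, orderOf g = p * q) : ∃ h : H, orderOf h = p * q := by
  obtain ⟨x, hx⟩ := hG
  by_cases hS : ∃ s : H, s ≠ 1 ∧ Univ s
  · obtain ⟨s, hs1, hsu⟩ := hS
    have hcard : Nat.card G = Nat.card H := Nat.card_congr e
    have hdvd : p * q ∣ Nat.card H := hcard ▸ hx ▸ orderOf_dvd_natCard x
    have : Fact p.Prime := ⟨hp⟩
    have : Fact q.Prime := ⟨hq⟩
    obtain ⟨u, hu⟩ := exists_prime_orderOf_dvd_card' (G := H) p (dvd_of_mul_right_dvd hdvd)
    obtain ⟨v, hv⟩ := exists_prime_orderOf_dvd_card' (G := H) q (dvd_of_mul_left_dvd hdvd)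
    exact exists_orderOf_mul hp hq hpq hu hv (mem_of_adj_prime hp hu hs1 (hsu u))
      (mem_of_adj_prime hq hv hs1 (hsu v))
  · have hSH : ∀ s : H, Univ s → s = 1 := by
      intro s hs
      by_contra h
      exact hS ⟨s, h, hs⟩
    have he1 : e 1 = 1 := hSH _ ((univ_map e he).mp univ_one)
    obtain ⟨hoa, htwa, hmina⟩ := twMin_of_orderOf_mul hp hq hpq hx
    obtain ⟨hob, htwb, hminb⟩ := twMin_of_orderOf_mul hq hp hpq.symm
      (show orderOf x = q * p by rw [hx, mul_comm])
    have hne : ∀ z : G, z ≠ 1 → e z ≠ 1 := by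
      intro z hz h
      rw [← he1] at h
      exact hz (e.injective h)
    have ha1 : x ^ q ≠ 1 := by
      intro h
      rw [h, orderOf_one] at hoa
      exact hp.ne_one hoa.symm
    have hb1 : x ^ p ≠ 1 := by
      intro h
      rw [h, orderOf_one] at hob
      exact hq.ne_one hob.symm
    have hx1 : x ≠ 1 := by
      rintro rfl
      exact ha1 (one_pow q)
    have hoa' : orderOf (e (x ^ q)) = p :=
      orderOf_of_twMin hSH hp (hne _ ha1) (twMin_map e he hmina) (by rw [tw_map e he, htwa])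
    have hob' : orderOf (e (x ^ p)) = q :=
      orderOf_of_twMin hSH hq (hne _ hb1) (twMin_map e he hminb) (by rw [tw_map e he, htwb])
    have h1 : Adj (e x) (e (x ^ q)) := (he _ _).mp (Or.inr (npow_mem_zpowers x q))
    have h2 : Adj (e x) (e (x ^ p)) := (he _ _).mp (Or.inr (npow_mem_zpowers x p))
    exact exists_orderOf_mul hp hq hpq hoa' hob' (mem_of_adj_prime hp hoa' (hne _ hx1) h1)
      (mem_of_adj_prime hq hob' (hne _ hx1) h2)

end finite

end Cfsg.Agent.Helper22.PowGraph
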