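import Mathlib
import Cfsg.Agent.Lib.Helper22.QAutDefs

/-!
# S4411 piece CONJ
-/

set_option autoImplicit false
open Pointwise

namespace Cfsg.Agent.Helper22.QAut

variable {G : Type*} [Group G] [Finite G] {p q : ℕ} [Fact p.Prime]

theorem conj_mem_conj_smul {H : Subgroup G} {g x : G} :
    g * x * g⁻¹ ∈ MulAut.conj g • H ↔ x ∈ H := by
  rw [Subgroup.mem_pointwise_smul_iff_inv_smul_mem]
  simp only [MulAut.smul_def, MulAut.conj_inv_apply]
  have : g⁻¹ * (g * x * g⁻¹) * g = x := by group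
  rw [this]

theorem exists_of_mem_conj_smul {H : Subgroup G} {g y : G} (hy : y ∈ MulAut.conj g • H) :
    ∃ x ∈ H, y = g * x * g⁻¹ := by
  rw [Subgroup.mem_pointwise_smul_iff_inv_smul_mem] at hy
  simp only [MulAut.smul_def, MulAut.conj_inv_apply] at hy
  exact ⟨_, hy, by group⟩

/-- Piece CONJ. -/
theorem good_to_sylow (h : Good p q G) (P : Sylow p G) :
    ∃ K : Subgroup G, K ≤ (P : Subgroup G) ∧
      (P : Subgroup G) ≤ Subgroup.normalizer (K : Set G) ∧ QAct q K := by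
  obtain ⟨K, S, ⟨x₀, hx₀N, ⟨c, hc⟩, hx₀C⟩, hSp, hSidx, hKS, hSK⟩ := h
  obtain ⟨g, hg⟩ := MulAction.exists_smul_eq G (hSp.toSylow hSidx) P
  have hP : (P : Subgroup G) = MulAut.conj g • S := by
    rw [← hg, Sylow.coe_subgroup_smul]
    rfl
  refine ⟨MulAut.conj g • K, ?_, ?_, ?_⟩
  · rw [hP]
    intro y hy
    obtain ⟨x, hx, rfl⟩ := exists_of_mem_conj_smul hy
    exact conj_mem_conj_smul.mpr (hKS hx)
  · rw [hP]
    intro y hy
    obtain ⟨s, hs, rfl⟩ := exists_of_mem_conj_smul hy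
    have hsN := Subgroup.mem_normalizer_iff.mp (hSK hs)
    rw [Subgroup.mem_normalizer_iff]
    intro z
    have hz : z = g * (g⁻¹ * z * g) * g⁻¹ := by group
    have h2 : g * s * g⁻¹ * z * (g * s * g⁻¹)⁻¹ = g * (s * (g⁻¹ * z * g) * s⁻¹) * g⁻¹ := by group
    rw [h2, conj_mem_conj_smul]
    conv_lhs => rw [hz]
    rw [conj_mem_conj_smul]
    exact hsN _
  · refine ⟨g * x₀ * g⁻¹, ?_, ⟨c, ?_⟩, ?_⟩
    · have hxN := Subgroup.mem_normalizer_iff.mp hx₀N
      rw [Subgroup.mem_normalizer_iff]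
      intro z
      have hz : z = g * (g⁻¹ * z * g) * g⁻¹ := by group
      have h2 : g * x₀ * g⁻¹ * z * (g * x₀ * g⁻¹)⁻¹ = g * (x₀ * (g⁻¹ * z * g) * x₀⁻¹) * g⁻¹ := by
        group
      rw [h2, conj_mem_conj_smul]
      conv_lhs => rw [hz]
      rw [conj_mem_conj_smul]
      exact hxN _
    · rw [conj_pow, hc]
      group
    · intro hcen
      apply hx₀C
      rw [Subgroup.mem_centralizer_iff] at hcen ⊢
      intro k hk
      have := hcen (g * k * g⁻¹) (conj_mem_conj_smul.mpr hk)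
      have h3 : g⁻¹ * (g * k * g⁻¹ * (g * x₀ * g⁻¹)) * g = k * x₀ := by group
      have h4 : g⁻¹ * (g * x₀ * g⁻¹ * (g * k * g⁻¹)) * g = x₀ * k := by group
      rw [← h3, ← h4, this]

end Cfsg.Agent.Helper22.QAut
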