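import Mathlib
import Cfsg.Agent.Lib.Helper22.QAutDefs

/-!
# S4411 piece LIFTQ
-/

set_option autoImplicit false

namespace Cfsg.Agent.Helper22.QAut

variable {G : Type*} [Group G] [Finite G] {q : ℕ} [Fact q.Prime]

/-- Piece LIFTQ: a prime dividing a relative index gives a `q`-element outside. -/
theorem exists_qelt_not_mem (A B : Subgroup G) (hq : q ∣ A.relIndex B) :
    ∃ y : G, y ∈ B ∧ (∃ c : ℕ, y ^ q ^ c = 1) ∧ y ∉ A := by
  by_contra hcon
  push Not at hcon
  obtain ⟨Q⟩ := (inferInstance : Nonempty (Sylow q ↥B))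
  have hle : (Q : Subgroup ↥B) ≤ A.subgroupOf B := by
    intro x hx
    rw [Subgroup.mem_subgroupOf]
    obtain ⟨k, hk⟩ := Q.2 ⟨x, hx⟩
    apply hcon (x : G) x.2 ⟨k, ?_⟩
    have := congrArg Subtype.val hk
    have h2 := congrArg Subtype.val this
    simpa using h2
  have hdvd : (A.subgroupOf B).index ∣ (Q : Subgroup ↥B).index := Subgroup.index_dvd_of_le hle
  exact Q.not_dvd_index (dvd_trans hq hdvd)

end Cfsg.Agent.Helper22.QAut
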