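import Mathlib
import Cfsg.Agent.Lib.Helper22.QAutDefs
import Cfsg.Agent.Lib.Helper22.QAutLIFTQ

/-!
# S4411 piece EQV
-/

set_option autoImplicit false

namespace Cfsg.Agent.Helper22.QAut

variable {G : Type*} [Group G] [Finite G]

/-- Piece EQV. -/
theorem qact_iff (q : ℕ) [Fact q.Prime] (K : Subgroup G) :
    q ∣ ((Subgroup.centralizer (K : Set G)).subgroupOf (Subgroup.normalizer (K : Set G))).index ↔
      QAct q K := by
  have hqq : q.Prime := Fact.out
  constructor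
  · intro h
    obtain ⟨y, hyN, hyq, hyC⟩ := exists_qelt_not_mem (q := q) (Subgroup.centralizer (K : Set G))
      (Subgroup.normalizer (K : Set G)) h
    exact ⟨y, hyN, hyq, hyC⟩
  · rintro ⟨x, hxN, ⟨c, hc⟩, hxC⟩
    set N := Subgroup.normalizer (K : Set G) with hN
    set C' := (Subgroup.centralizer (K : Set G)).subgroupOf N with hC'
    have hne : ((⟨x, hxN⟩ : ↥N) : ↥N ⧸ C') ≠ 1 := by
      rw [Ne, QuotientGroup.eq_one_iff, hC', Subgroup.mem_subgroupOf]
      exact hxC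
    have hpow : ((⟨x, hxN⟩ : ↥N) : ↥N ⧸ C') ^ q ^ c = 1 := by
      rw [← QuotientGroup.mk_pow]
      have : (⟨x, hxN⟩ : ↥N) ^ q ^ c = 1 := Subtype.ext (by simpa using hc)
      rw [this, QuotientGroup.mk_one]
    obtain ⟨j, _, hj⟩ := (Nat.dvd_prime_pow hqq).mp (orderOf_dvd_of_pow_eq_one hpow)
    have hj0 : j ≠ 0 := by
      intro h0
      rw [h0, pow_zero, orderOf_eq_one_iff] at hj
      exact hne hj
    have hdvd : orderOf ((⟨x, hxN⟩ : ↥N) : ↥N ⧸ C') ∣ Nat.card (↥N ⧸ C') := orderOf_dvd_natCard _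
    have hcard : Nat.card (↥N ⧸ C') = C'.index := rfl
    rw [hj, hcard] at hdvd
    exact dvd_trans (dvd_pow_self q hj0) hdvd

end Cfsg.Agent.Helper22.QAut
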