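import Mathlib
import Cfsg.Agent.Lib.Helper22.QAutDefs
import Cfsg.Agent.Lib.Helper22.QAutLIFTQ
import Cfsg.Agent.Lib.Helper24.SylIn

/-!
# S4411 piece FRATQ
-/

set_option autoImplicit false
open Pointwise

namespace Cfsg.Agent.Helper22.QAut

open Cfsg.Agent.Helper24.SylIn

variable {G : Type*} [Group G] [Finite G] {p q : ℕ} [Fact p.Prime] [Fact q.Prime]

/-- `n R n⁻¹ ≤ R` for a finite subgroup `R` puts `n` in the normalizer. -/
theorem fratq_mem_normalizer (R : Subgroup G) (n : G) (h : ∀ r ∈ R, n * r * n⁻¹ ∈ R) :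
    n ∈ Subgroup.normalizer (R : Set G) := by
  have hinj : Function.Injective (fun r : ↥R => (⟨n * r * n⁻¹, h r r.2⟩ : ↥R)) := by
    intro a b hab
    have : n * (a : G) * n⁻¹ = n * (b : G) * n⁻¹ := congrArg Subtype.val hab
    exact Subtype.ext (mul_left_cancel (mul_right_cancel this))
  have hsurj := Finite.surjective_of_injective hinj
  rw [Subgroup.mem_normalizer_iff]
  intro x
  constructor
  · exact h x
  · intro hx
    obtain ⟨r, hr⟩ := hsurj ⟨_, hx⟩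
    have : n * (r : G) * n⁻¹ = n * x * n⁻¹ := congrArg Subtype.val hr
    have hxr : (r : G) = x := mul_left_cancel (mul_right_cancel this)
    rw [← hxr]
    exact r.2

/-- Piece FRATQ (Frattini + LIFTQ). -/
theorem exists_qelt_normalizing (N L T : Subgroup G) (hLN : L ≤ N)
    (hNL : N ≤ Subgroup.normalizer (L : Set G)) (hTN : T ≤ N) (hT : IsPGroup p ↥T)
    (hTsyl : ¬ p ∣ T.relIndex N) (hq : q ∣ L.relIndex N) :
    ∃ y : G, y ∈ N ∧ y ∈ Subgroup.normalizer ((T ⊓ L : Subgroup G) : Set G) ∧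
      (∃ c : ℕ, y ^ q ^ c = 1) ∧ y ∉ L := by
  have hqq : q.Prime := Fact.out
  -- `T` is a Sylow subgroup of `N`
  have hSyl : IsSylIn p N T := by
    have hT' : IsPGroup p ↥(T.subgroupOf N) := hT.comap_subtype
    have hidx' : ¬ p ∣ (T.subgroupOf N).index := hTsyl
    refine ⟨hT'.toSylow hidx', ?_⟩
    rw [IsPGroup.toSylow_coe, Subgroup.subgroupOf_map_subtype, inf_eq_left.mpr hTN]
  have hnorm : ∀ a ∈ N, ∀ n ∈ L, a * n * a⁻¹ ∈ L := by
    intro a ha n hn
    exact (Subgroup.mem_normalizer_iff.mp (hNL ha) n).mp hn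
  have hR : IsSylIn p L (T ⊓ L) := hSyl.inf_normal hLN hnorm
  obtain ⟨y₀, hy₀N, ⟨c, hc⟩, hy₀L⟩ := exists_qelt_not_mem (q := q) L N hq
  -- the conjugate of `R` by `y₀`
  have hconjL : MulAut.conj y₀ • (T ⊓ L) ≤ L := by
    intro z hz
    rw [Subgroup.mem_pointwise_smul_iff_inv_smul_mem] at hz
    simp only [MulAut.smul_def, MulAut.conj_inv_apply] at hz
    have := hnorm y₀ hy₀N _ hz.2
    have he : y₀ * (y₀⁻¹ * z * y₀) * y₀⁻¹ = z := by group
    rwa [he] at this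
  have hconjp : IsPGroup p ↥(MulAut.conj y₀ • (T ⊓ L)) :=
    (hT.to_le inf_le_left).map (MulAut.conj y₀).toMonoidHom
  obtain ⟨a, haL, ha⟩ := hR.exists_conj_le hconjL hconjp
  have hn₁ : a * y₀ ∈ Subgroup.normalizer ((T ⊓ L : Subgroup G) : Set G) := by
    apply fratq_mem_normalizer
    intro r hr
    have h1 : y₀ * r * y₀⁻¹ ∈ MulAut.conj y₀ • (T ⊓ L) := by
      rw [Subgroup.mem_pointwise_smul_iff_inv_smul_mem]
      simp only [MulAut.smul_def, MulAut.conj_inv_apply]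
      have he : y₀⁻¹ * (y₀ * r * y₀⁻¹) * y₀ = r := by group
      rwa [he]
    have := ha _ h1
    have he : a * y₀ * r * (a * y₀)⁻¹ = a * (y₀ * r * y₀⁻¹) * a⁻¹ := by group
    rwa [he]
  have hn₁N : a * y₀ ∈ N := N.mul_mem (hLN haL) hy₀N
  have hn₁L : a * y₀ ∉ L := by
    intro hcon
    apply hy₀L
    have := L.mul_mem (L.inv_mem haL) hcon
    have he : a⁻¹ * (a * y₀) = y₀ := by group
    rwa [he] at this
  -- powers of `a y₀` lie in `L y₀ ^ k`
  have hpow : ∀ k : ℕ, ∃ l ∈ L, (a * y₀) ^ k = l * y₀ ^ k := by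
    intro k
    induction k with
    | zero => exact ⟨1, L.one_mem, by simp⟩
    | succ k ih =>
      obtain ⟨l, hl, hk⟩ := ih
      refine ⟨l * (y₀ ^ k * a * (y₀ ^ k)⁻¹), L.mul_mem hl (hnorm _ (N.pow_mem hy₀N k) a haL), ?_⟩
      rw [pow_succ, hk, pow_succ]
      group
  have hpowL : (a * y₀) ^ q ^ c ∈ L := by
    obtain ⟨l, hl, hk⟩ := hpow (q ^ c)
    rw [hk, hc, mul_one]
    exact hl
  -- the `q`-part of `a y₀`
  set n₁ := a * y₀ with hn₁def
  obtain ⟨e, m', hm', hord⟩ := Nat.exists_eq_pow_mul_and_not_dvd (orderOf_pos n₁).ne' q hqq.ne_one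
  refine ⟨n₁ ^ m', N.pow_mem hn₁N _, Subgroup.pow_mem _ hn₁ _, ⟨e, ?_⟩, ?_⟩
  · rw [← pow_mul, mul_comm, ← hord, pow_orderOf_eq_one]
  · intro hcon
    apply hn₁L
    have hcop : (m').Coprime (q ^ c) :=
      Nat.Coprime.pow_right c ((Nat.Prime.coprime_iff_not_dvd hqq).mpr hm').symm
    have h4 : n₁ ^ (m'.gcd (q ^ c)) ∈ L := by
      -- Bezout in the quotient-free form: use the subgroup `L ⊓ zpowers`
      have hz : ∀ k : ℤ, n₁ ^ ((m' : ℤ) * k) ∈ L := fun k => by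
        rw [zpow_mul, zpow_natCast]; exact L.zpow_mem hcon k
      have hz2 : ∀ k : ℤ, n₁ ^ (((q ^ c : ℕ) : ℤ) * k) ∈ L := fun k => by
        rw [zpow_mul, zpow_natCast]; exact L.zpow_mem hpowL k
      have hb := Nat.gcd_eq_gcd_ab m' (q ^ c)
      have : n₁ ^ ((m'.gcd (q ^ c) : ℕ) : ℤ) ∈ L := by
        rw [hb, zpow_add]
        exact L.mul_mem (hz _) (hz2 _)
      rwa [zpow_natCast] at this
    rwa [Nat.Coprime.gcd_eq_one hcop, pow_one] at h4

end Cfsg.Agent.Helper22.QAut
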