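import Mathlib
import Cfsg.Agent.Lib.Helper22.QAutDefs

/-!
# S4411 piece NORMGROW
-/

set_option autoImplicit false

namespace Cfsg.Agent.Helper22.QAut

variable {G : Type*} [Group G] [Finite G] {p : ℕ} [Fact p.Prime]

/-- Piece NORMGROW: a `p`-subgroup of `N` that is not Sylow in `N` is properly contained in a
`p`-subgroup of `N` normalizing it. -/
theorem exists_normalizing_lt (T N : Subgroup G) (hTN : T ≤ N) (hT : IsPGroup p ↥T)
    (hidx : p ∣ T.relIndex N) :
    ∃ S : Subgroup G, IsPGroup p ↥S ∧ T < S ∧ S ≤ N ∧ S ≤ Subgroup.normalizer (T : Set G) := by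
  have hT' : IsPGroup p ↥(T.subgroupOf N) := hT.comap_subtype
  obtain ⟨P, hP⟩ := hT'.exists_le_sylow
  set P₀ : Subgroup G := (P : Subgroup ↥N).map N.subtype with hP₀
  have hP₀N : P₀ ≤ N := Subgroup.map_subtype_le _
  have hP₀p : IsPGroup p ↥P₀ := P.2.map N.subtype
  have hTP₀ : T ≤ P₀ := by
    intro t ht
    exact ⟨⟨t, hTN ht⟩, hP (by rw [Subgroup.mem_subgroupOf]; exact ht), rfl⟩
  have hne : T ≠ P₀ := by
    intro he
    have h1 : T.subgroupOf N = (P : Subgroup ↥N) := by
      apply le_antisymm hP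
      intro x hx
      rw [Subgroup.mem_subgroupOf, he]
      exact ⟨x, hx, rfl⟩
    apply P.not_dvd_index
    rw [← h1]
    exact hidx
  -- normalizer condition in the `p`-group `P₀`
  have hnil : Group.IsNilpotent ↥P₀ := hP₀p.isNilpotent
  have hnc := Group.normalizerCondition_of_isNilpotent (G := ↥P₀)
  have hlt : T.subgroupOf P₀ < ⊤ := by
    rw [lt_top_iff_ne_top]
    intro he
    rw [Subgroup.subgroupOf_eq_top] at he
    exact hne (le_antisymm hTP₀ he)
  have hlt2 := hnc _ hlt
  obtain ⟨x, hxn, hxT⟩ := SetLike.exists_of_lt hlt2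
  have hxT' : (x : G) ∉ T := by
    intro hc
    exact hxT (by rw [Subgroup.mem_subgroupOf]; exact hc)
  have hxnorm : (x : G) ∈ Subgroup.normalizer (T : Set G) := by
    rw [Subgroup.mem_normalizer_iff] at hxn ⊢
    intro g
    constructor
    · intro hg
      have := (hxn ⟨g, hTP₀ hg⟩).mp (by rw [Subgroup.mem_subgroupOf]; exact hg)
      rw [Subgroup.mem_subgroupOf] at this
      simpa using this
    · intro hg
      have hgP : g ∈ P₀ := by
        have h1 : (x : G)⁻¹ * ((x : G) * g * (x : G)⁻¹) * (x : G) ∈ P₀ :=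
          P₀.mul_mem (P₀.mul_mem (P₀.inv_mem x.2) (hTP₀ hg)) x.2
        have he : (x : G)⁻¹ * ((x : G) * g * (x : G)⁻¹) * (x : G) = g := by group
        rwa [he] at h1
      have := (hxn ⟨g, hgP⟩).mpr (by rw [Subgroup.mem_subgroupOf]; simpa using hg)
      rw [Subgroup.mem_subgroupOf] at this
      exact this
  refine ⟨P₀ ⊓ Subgroup.normalizer (T : Set G), hP₀p.to_le inf_le_left, ?_,
    inf_le_left.trans hP₀N, inf_le_right⟩
  apply lt_of_le_of_ne (le_inf hTP₀ Subgroup.le_normalizer)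
  intro he
  apply hxT'
  rw [he]
  exact ⟨x.2, hxnorm⟩

end Cfsg.Agent.Helper22.QAut
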