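import Mathlib
import Cfsg.Agent.Lib.Helper22.QAutDefs
import Cfsg.Agent.Lib.Helper22.QAutFRATQ

/-!
# S4411 piece SUBGOOD
-/

set_option autoImplicit false

namespace Cfsg.Agent.Helper22.QAut

variable {G : Type*} [Group G] [Finite G] {p q : ℕ} [Fact p.Prime]

/-- Piece SUBGOOD: the conclusion for `↥G₁` transported to `G`; `S` is a Sylow `p`-subgroup of `G₁`. -/
theorem good_subgroup (G₁ : Subgroup G) (h : Good p q ↥G₁) :
    ∃ K S : Subgroup G, QAct q K ∧ IsPGroup p ↥S ∧ K ≤ S ∧ S ≤ Subgroup.normalizer (K : Set G) ∧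
      ∀ S' : Subgroup G, S' ≤ G₁ → IsPGroup p ↥S' → Nat.card ↥S' ≤ Nat.card ↥S := by
  obtain ⟨K', S', ⟨x, hxN, ⟨c, hc⟩, hxC⟩, hSp, hSidx, hKS, hSK⟩ := h
  have hconj : ∀ s : ↥G₁, s ∈ Subgroup.normalizer (K' : Set ↥G₁) →
      (s : G) ∈ Subgroup.normalizer ((K'.map G₁.subtype : Subgroup G) : Set G) := by
    intro s hs
    apply fratq_mem_normalizer
    rintro r ⟨k, hk, rfl⟩
    refine ⟨s * k * s⁻¹, (Subgroup.mem_normalizer_iff.mp hs k).mp hk, ?_⟩
    simp
  refine ⟨K'.map G₁.subtype, S'.map G₁.subtype, ⟨(x : G), hconj x hxN, ⟨c, ?_⟩, ?_⟩,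
    hSp.map _, Subgroup.map_mono hKS, ?_, ?_⟩
  · have := congrArg Subtype.val hc
    simpa using this
  · intro hcon
    apply hxC
    rw [Subgroup.mem_centralizer_iff] at hcon ⊢
    intro k hk
    have := hcon (k : G) ⟨k, hk, rfl⟩
    exact Subtype.ext (by simpa using this)
  · rintro s ⟨s', hs', rfl⟩
    exact hconj s' (hSK hs')
  · intro S'' hS''G hS''p
    have h1 : IsPGroup p ↥(S''.subgroupOf G₁) := hS''p.comap_subtype
    obtain ⟨Q, hQ⟩ := h1.exists_le_sylow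
    have h2 : Nat.card ↥(S''.subgroupOf G₁) ≤ Nat.card ↥(Q : Subgroup ↥G₁) :=
      Subgroup.card_le_of_le hQ
    have h3 : Nat.card ↥(Q : Subgroup ↥G₁) = Nat.card ↥S' := by
      have e1 := Q.card_eq_multiplicity
      have e2 := (hSp.toSylow hSidx).card_eq_multiplicity
      rw [IsPGroup.toSylow_coe] at e2
      rw [e1, e2]
    have h4 : Nat.card ↥(S''.subgroupOf G₁) = Nat.card ↥S'' :=
      Nat.card_congr (Subgroup.subgroupOfEquivOfLe hS''G).toEquiv
    have h5 : Nat.card ↥(S'.map G₁.subtype) = Nat.card ↥S' :=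
      Nat.card_congr (Subgroup.equivMapOfInjective S' _ G₁.subtype_injective).symm.toEquiv
    omega

end Cfsg.Agent.Helper22.QAut
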