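import Mathlib
import Cfsg.Prelude.Def_Local
import Cfsg.Prelude.Def_LocalEven
import Cfsg.Prelude.Def_PLocal
import Cfsg.Prelude.Def_Transfer
import Cfsg.Agent.Lib.Helper22.QAutDefs
import Cfsg.Agent.Lib.Helper22.QAutFRATQ
import Cfsg.Agent.S2800
import Cfsg.Agent.S0071

/-!
# S4411 piece THOMA: Thompson's criterion and Frobenius' theorem in a `{p,q}`-group
-/

set_option autoImplicit false

namespace Cfsg.Agent.Helper22.QAut

open Cfsg

variable {M : Type*} [Group M] [Finite M] {p q : ℕ} [Fact p.Prime] [Fact q.Prime]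

theorem thoma_eq_one_of_pow {x : M} {k m : ℕ}
    (h1 : x ^ p ^ k = 1) (h2 : x ^ m = 1) (hm : m.Coprime p) : x = 1 := by
  have h3 : (m.gcd (p ^ k)) = 1 := Nat.Coprime.pow_right k hm
  have h4 := (pow_gcd_eq_one (a := x) (m := m) (n := p ^ k)).mpr ⟨h2, h1⟩
  rwa [h3, pow_one] at h4

theorem thoma_pow_card (U : Subgroup M) {x : M} (hx : x ∈ U) : x ^ Nat.card U = 1 := by
  have h : (⟨x, hx⟩ : U) ^ Nat.card U = 1 := pow_card_eq_one'
  have h2 : ((⟨x, hx⟩ : U) ^ Nat.card U : U).1 = (1 : U).1 := by rw [h]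
  rwa [Subgroup.coe_pow, Subgroup.coe_one] at h2

/-- no normal `p`-complement when a `q`-element acts nontrivially on a normal `p`-subgroup -/
theorem thoma_no_complement (hpq : p ≠ q) (H : Subgroup M) [hHn : H.Normal] (hH : IsPGroup p ↥H)
    (y : M) (hyq : ∃ c : ℕ, y ^ q ^ c = 1) (hyH : y ∉ Subgroup.centralizer (H : Set M)) :
    ¬ Cfsg.HasNormalPComplement p M := by
  have hpp : p.Prime := Fact.out
  have hqq : q.Prime := Fact.out
  rintro ⟨P, N', hN'n, hcompl⟩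
  obtain ⟨c, hc⟩ := hyq
  have hidx : N'.index = Nat.card ↥(P : Subgroup M) := hcompl.symm.index_eq_card
  have hcardN : Nat.card ↥N' = (P : Subgroup M).index := (hcompl.index_eq_card).symm
  have hNcop : (Nat.card ↥N').Coprime p := by
    rw [hcardN, Nat.coprime_comm, Nat.Prime.coprime_iff_not_dvd hpp]
    exact P.not_dvd_index
  -- `y ∈ N'`
  have hyN : y ∈ N' := by
    rw [← QuotientGroup.eq_one_iff]
    have h1 : ((y : M) : M ⧸ N') ^ q ^ c = 1 := by
      rw [← QuotientGroup.mk_pow, hc, QuotientGroup.mk_one]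
    have h2 : ((y : M) : M ⧸ N') ^ Nat.card (M ⧸ N') = 1 := pow_card_eq_one'
    have h3 : Nat.card (M ⧸ N') = N'.index := rfl
    obtain ⟨k, hk⟩ := IsPGroup.iff_card.mp P.2
    rw [h3, hidx, hk] at h2
    have hcop : (p ^ k).Coprime q :=
      Nat.Coprime.pow_left k ((Nat.coprime_primes hpp hqq).mpr hpq)
    exact thoma_eq_one_of_pow (p := q) h1 h2 hcop
  apply hyH
  rw [Subgroup.mem_centralizer_iff]
  intro h hh
  have hcN : y * h * y⁻¹ * h⁻¹ ∈ N' := by
    have h1 : h * y⁻¹ * h⁻¹ ∈ N' := hN'n.conj_mem _ (N'.inv_mem hyN) h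
    have h2 := N'.mul_mem hyN h1
    have he : y * (h * y⁻¹ * h⁻¹) = y * h * y⁻¹ * h⁻¹ := by group
    rwa [he] at h2
  have hcH : y * h * y⁻¹ * h⁻¹ ∈ H := H.mul_mem (hHn.conj_mem h hh y) (H.inv_mem hh)
  obtain ⟨k, hk⟩ := hH ⟨_, hcH⟩
  have hk' : (y * h * y⁻¹ * h⁻¹) ^ p ^ k = 1 := by
    have := congrArg Subtype.val hk
    simpa using this
  have h1 := thoma_eq_one_of_pow hk' (thoma_pow_card N' hcN) hNcop
  have : y * h = h * y := by
    have h3 : y * h * y⁻¹ * h⁻¹ * (h * y) = h * y := by rw [h1, one_mul]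
    rw [← h3]; group
  exact this.symm

/-- a `{2,q}`-group with `q ≠ 3` does not involve `S₄` -/
theorem thoma_not_involves (hq3 : q ≠ 3) (hcard : ∃ a b : ℕ, Nat.card M = 2 ^ a * q ^ b) :
    ¬ Cfsg.Involves (Equiv.Perm (Fin 4)) M := by
  have hqq : q.Prime := Fact.out
  rintro ⟨K, R, hR, ⟨e⟩⟩
  obtain ⟨a, b, hab⟩ := hcard
  have h1 : Nat.card (↥K ⧸ R.subgroupOf K) = 24 := by
    rw [Nat.card_congr e.toEquiv, Nat.card_eq_fintype_card, Fintype.card_perm, Fintype.card_fin]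
    rfl
  have h2 : Nat.card (↥K ⧸ R.subgroupOf K) ∣ Nat.card ↥K := by
    have := Subgroup.card_mul_index (R.subgroupOf K)
    have hidx : (R.subgroupOf K).index = Nat.card (↥K ⧸ R.subgroupOf K) := rfl
    rw [hidx] at this
    exact Dvd.intro_left _ this
  have h3 : Nat.card ↥K ∣ Nat.card M := Subgroup.card_subgroup_dvd_card K
  have h4 : 3 ∣ 2 ^ a * q ^ b := by
    rw [← hab]
    refine dvd_trans ?_ (dvd_trans h2 h3)
    rw [h1]
    norm_num
  have h5 : 3 ∣ q ^ b := by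
    rcases (Nat.Prime.dvd_mul Nat.prime_three).mp h4 with h | h
    · have := Nat.Prime.dvd_of_dvd_pow Nat.prime_three h
      omega
    · exact h
  have h6 := Nat.Prime.dvd_of_dvd_pow Nat.prime_three h5
  exact hq3 ((Nat.prime_dvd_prime_iff_eq Nat.prime_three hqq).mp h6).symm

/-- Frobenius in a subgroup without normal `p`-complement of a `{p,q}`-group -/
theorem thoma_frob (hpq : p ≠ q) (hcard : ∃ a b : ℕ, Nat.card M = p ^ a * q ^ b)
    (M₁ : Subgroup M) (hno : ¬ Cfsg.HasNormalPComplement p ↥M₁) :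
    ∃ (R : Subgroup M) (x : M), IsPGroup p ↥R ∧ R ≤ M₁ ∧ x ∈ M₁ ∧
      x ∈ Subgroup.normalizer (R : Set M) ∧ (∃ c : ℕ, x ^ q ^ c = 1) ∧
      x ∉ Subgroup.centralizer (R : Set M) := by
  have hpp : p.Prime := Fact.out
  obtain ⟨P₁⟩ := (inferInstance : Nonempty (Sylow p ↥M₁))
  have hfro := Cfsg.Agent.S0071.result P₁
  have hno' : ¬ ∃ N : Subgroup ↥M₁, N.Normal ∧ N.IsComplement' (P₁ : Subgroup ↥M₁) := by
    rintro ⟨N, hN, hc⟩
    exact hno ⟨P₁, N, hN, hc⟩
  rw [hfro] at hno'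
  push Not at hno'
  obtain ⟨Q, hQP, g, hgN, hgcop, hgC⟩ := hno'
  obtain ⟨a, b, hab⟩ := hcard
  refine ⟨Q.map M₁.subtype, (g : M), (P₁.2.to_le hQP).map _, Subgroup.map_subtype_le _, g.2,
    ?_, ⟨b, ?_⟩, ?_⟩
  · apply fratq_mem_normalizer
    rintro r ⟨k, hk, rfl⟩
    refine ⟨g * k * g⁻¹, (Subgroup.mem_normalizer_iff.mp hgN k).mp hk, ?_⟩
    simp
  · have h1 : orderOf g ∣ Nat.card ↥M₁ := orderOf_dvd_natCard g
    have h2 : orderOf g ∣ p ^ a * q ^ b := by
      rw [← hab]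
      exact dvd_trans h1 (Subgroup.card_subgroup_dvd_card M₁)
    have h3 : orderOf g ∣ q ^ b :=
      Nat.Coprime.dvd_of_dvd_mul_left (Nat.Coprime.pow_right a hgcop) h2
    have h4 : g ^ q ^ b = 1 := orderOf_dvd_iff_pow_eq_one.mp h3
    have := congrArg Subtype.val h4
    simpa using this
  · intro hcon
    apply hgC
    rw [Subgroup.mem_centralizer_iff] at hcon ⊢
    intro k hk
    have := hcon (k : M) ⟨k, hk, rfl⟩
    exact Subtype.ext (by simpa using this)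

/-- Piece THOMA (abstract): Thompson's criterion S2800 + Frobenius S0071 in a `{p,q}`-group `M`. -/
theorem thompson_abs
    (hpq : p ≠ q) (h23 : ¬ (p = 2 ∧ q = 3)) (hcard : ∃ a b : ℕ, Nat.card M = p ^ a * q ^ b)
    (S : Sylow p M) (H : Subgroup M) [H.Normal] (hH : IsPGroup p ↥H)
    (y : M) (hyq : ∃ c : ℕ, y ^ q ^ c = 1) (hyH : y ∉ Subgroup.centralizer (H : Set M)) :
    ∃ W : Subgroup M,
      (W = (S : Subgroup M) ⊓ Subgroup.centralizer ((S : Subgroup M) : Set M) ∨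
        W = Cfsg.thompsonSubgroupAOf (S : Subgroup M)) ∧
      ∃ (R : Subgroup M) (x : M), IsPGroup p ↥R ∧ R ≤ Subgroup.normalizer (W : Set M) ∧
        x ∈ Subgroup.normalizer (W : Set M) ∧ x ∈ Subgroup.normalizer (R : Set M) ∧
        (∃ c : ℕ, x ^ q ^ c = 1) ∧ x ∉ Subgroup.centralizer (R : Set M) := by
  have hno := thoma_no_complement hpq H hH y hyq hyH
  have hfree : p ≠ 2 ∨ ¬ Cfsg.Involves (Equiv.Perm (Fin 4)) M := by
    by_cases hp2 : p = 2
    · right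
      subst hp2
      exact thoma_not_involves (fun h3 => h23 ⟨rfl, h3⟩) hcard
    · left; exact hp2
  have hthom := Cfsg.Agent.S2800.result S hfree
  by_cases hC : Cfsg.HasNormalPComplement p ↥(Subgroup.centralizer
      (((S : Subgroup M) ⊓ Subgroup.centralizer ((S : Subgroup M) : Set M) : Subgroup M) : Set M))
  · have hN : ¬ Cfsg.HasNormalPComplement p
        ↥(Subgroup.normalizer ((Cfsg.thompsonSubgroupAOf (S : Subgroup M)) : Set M)) :=
      fun hN => hno (hthom hC hN)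
    obtain ⟨R, x, hRp, hRM, hxM, hxR, hxq, hxC⟩ := thoma_frob hpq hcard _ hN
    exact ⟨_, Or.inr rfl, R, x, hRp, hRM, hxM, hxR, hxq, hxC⟩
  · obtain ⟨R, x, hRp, hRM, hxM, hxR, hxq, hxC⟩ := thoma_frob hpq hcard _ hC
    exact ⟨_, Or.inl rfl, R, x, hRp, hRM.trans (Subgroup.centralizer_le_normalizer _),
      Subgroup.centralizer_le_normalizer _ hxM, hxR, hxq, hxC⟩

end Cfsg.Agent.Helper22.QAut
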