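import Mathlib
import Cfsg.Prelude.Def_Local
import Cfsg.Prelude.Def_PLocal
import Cfsg.Agent.Lib.Helper22.QAutDefs
import Cfsg.Agent.Lib.Helper22.QAutFRATQ
import Cfsg.Agent.Lib.Helper22.QAutTHOMA
import Cfsg.Agent.Lib.Helper14.ThompsonA

/-!
# S4411 piece THOMT: transport of THOMA to a subgroup of an ambient group
-/

set_option autoImplicit false

namespace Cfsg.Agent.Helper22.QAut

open Cfsg

/-- `Z(T)` as a subgroup of `G` is nontrivial for a nontrivial finite `p`-subgroup. -/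
theorem thomt_center_ne_bot {G : Type*} [Group G] [Finite G] {p : ℕ} [Fact p.Prime]
    (T : Subgroup G) (hT : IsPGroup p ↥T) (hT1 : T ≠ ⊥) :
    T ⊓ Subgroup.centralizer (T : Set G) ≠ ⊥ := by
  have : Nontrivial ↥T := (Subgroup.nontrivial_iff_ne_bot T).mpr hT1
  have hc := hT.center_nontrivial
  obtain ⟨z, hz⟩ := exists_ne (1 : ↥(Subgroup.center ↥T))
  intro hbot
  apply hz
  have hmem : ((z : ↥T) : G) ∈ T ⊓ Subgroup.centralizer (T : Set G) := by
    rw [Subgroup.mem_inf]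
    refine ⟨(z : ↥T).2, ?_⟩
    rw [Subgroup.mem_centralizer_iff]
    intro t ht
    have := Subgroup.mem_center_iff.mp z.2 ⟨t, ht⟩
    have h2 := congrArg Subtype.val this
    simpa using h2
  rw [hbot, Subgroup.mem_bot] at hmem
  exact Subtype.ext (Subtype.ext hmem)

theorem thomt_normalizer_le_center {G : Type*} [Group G] [Finite G] (T : Subgroup G) :
    Subgroup.normalizer (T : Set G) ≤
      Subgroup.normalizer ((T ⊓ Subgroup.centralizer (T : Set G) : Subgroup G) : Set G) := by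
  intro g hg
  apply fratq_mem_normalizer
  intro w hw
  obtain ⟨hwT, hwC⟩ := Subgroup.mem_inf.mp hw
  have hgT := Subgroup.mem_normalizer_iff.mp hg
  rw [Subgroup.mem_inf]
  refine ⟨(hgT w).mp hwT, ?_⟩
  rw [Subgroup.mem_centralizer_iff] at hwC ⊢
  intro t ht
  have ht' : g⁻¹ * t * g ∈ T := by
    rw [hgT (g⁻¹ * t * g)]
    have he : g * (g⁻¹ * t * g) * g⁻¹ = t := by group
    rw [he]; exact ht
  have h1 := hwC _ ht'
  have e1 : t * (g * w * g⁻¹) = g * ((g⁻¹ * t * g) * w) * g⁻¹ := by group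
  have e2 : g * w * g⁻¹ * t = g * (w * (g⁻¹ * t * g)) * g⁻¹ := by group
  rw [e1, e2, h1]

/-- Piece THOMT: transport of THOMA to a subgroup `M` of an ambient group `G`. -/
theorem thompson_step.{u} {G : Type u} [Group G] [Finite G] {p q : ℕ} [Fact p.Prime] [Fact q.Prime]
    (hpq : p ≠ q) (h23 : ¬ (p = 2 ∧ q = 3))
    (M T H : Subgroup G) (hcard : ∃ a b : ℕ, Nat.card ↥M = p ^ a * q ^ b)
    (hTM : T ≤ M) (hT : IsPGroup p ↥T) (hTsyl : ¬ p ∣ T.relIndex M)
    (hHT : H ≤ T) (hMH : M ≤ Subgroup.normalizer (H : Set G))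
    (y : G) (hyM : y ∈ M) (hyq : ∃ c : ℕ, y ^ q ^ c = 1)
    (hyH : y ∉ Subgroup.centralizer (H : Set G)) :
    ∃ W R : Subgroup G, W ≤ T ∧ W ≠ ⊥ ∧
      Subgroup.normalizer (T : Set G) ≤ Subgroup.normalizer (W : Set G) ∧
      IsPGroup p ↥R ∧ R ≤ Subgroup.normalizer (W : Set G) ∧
      ∃ x : G, x ∈ Subgroup.normalizer (W : Set G) ∧ x ∈ Subgroup.normalizer (R : Set G) ∧
        (∃ c : ℕ, x ^ q ^ c = 1) ∧ x ∉ Subgroup.centralizer (R : Set G) := by
  have hT' : IsPGroup p ↥(T.subgroupOf M) := hT.comap_subtype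
  have hidx' : ¬ p ∣ (T.subgroupOf M).index := hTsyl
  set S : Sylow p ↥M := hT'.toSylow hidx' with hS
  have hScoe : (S : Subgroup ↥M) = T.subgroupOf M := IsPGroup.toSylow_coe hT' hidx'
  have hSmap : (S : Subgroup ↥M).map M.subtype = T := by
    rw [hScoe, Subgroup.subgroupOf_map_subtype, inf_eq_left.mpr hTM]
  have hHM : H ≤ M := hHT.trans hTM
  have hHn : (H.subgroupOf M).Normal := (Subgroup.normal_subgroupOf_iff_le_normalizer hHM).mpr hMH
  have hH' : IsPGroup p ↥(H.subgroupOf M) := (hT.to_le hHT).comap_subtype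
  have hy' : (⟨y, hyM⟩ : ↥M) ∉ Subgroup.centralizer ((H.subgroupOf M : Subgroup ↥M) : Set ↥M) := by
    intro hcon
    apply hyH
    rw [Subgroup.mem_centralizer_iff] at hcon ⊢
    intro h hh
    have := hcon ⟨h, hHM hh⟩ (by
      show (⟨h, hHM hh⟩ : ↥M) ∈ H.subgroupOf M
      rw [Subgroup.mem_subgroupOf]; exact hh)
    have h2 := congrArg Subtype.val this
    simpa using h2
  have hyq' : ∃ c : ℕ, (⟨y, hyM⟩ : ↥M) ^ q ^ c = 1 := by
    obtain ⟨c, hc⟩ := hyq
    exact ⟨c, Subtype.ext (by simpa using hc)⟩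
  obtain ⟨W', hW', R', x', hR'p, hR'W, hx'W, hx'R, ⟨c, hc⟩, hx'C⟩ :=
    thompson_abs hpq h23 hcard S (H.subgroupOf M) hH' ⟨y, hyM⟩ hyq' hy'
  -- `T ≠ ⊥`
  have hT1 : T ≠ ⊥ := by
    intro hbot
    apply hyH
    rw [Subgroup.mem_centralizer_iff]
    intro h hh
    have : h ∈ T := hHT hh
    rw [hbot, Subgroup.mem_bot] at this
    rw [this]; simp
  -- identify `W`
  have hWG : W'.map M.subtype = T ⊓ Subgroup.centralizer (T : Set G) ∨
      W'.map M.subtype = Cfsg.thompsonSubgroupAOf T := by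
    rcases hW' with h | h
    · left
      rw [h, hScoe]
      ext z
      constructor
      · rintro ⟨m, hm, rfl⟩
        obtain ⟨hmT, hmC⟩ := Subgroup.mem_inf.mp hm
        rw [Subgroup.mem_inf]
        refine ⟨Subgroup.mem_subgroupOf.mp hmT, ?_⟩
        rw [Subgroup.mem_centralizer_iff] at hmC ⊢
        intro t ht
        have := hmC ⟨t, hTM ht⟩ (by
          show (⟨t, hTM ht⟩ : ↥M) ∈ T.subgroupOf M
          rw [Subgroup.mem_subgroupOf]; exact ht)
        have h2 := congrArg Subtype.val this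
        simpa using h2
      · intro hz
        obtain ⟨hzT, hzC⟩ := Subgroup.mem_inf.mp hz
        refine ⟨⟨z, hTM hzT⟩, Subgroup.mem_inf.mpr ⟨Subgroup.mem_subgroupOf.mpr hzT, ?_⟩, rfl⟩
        rw [Subgroup.mem_centralizer_iff] at hzC ⊢
        intro t ht
        have := hzC (t : G) (Subgroup.mem_subgroupOf.mp ht)
        exact Subtype.ext (by simpa using this)
    · right
      rw [h, ← Cfsg.Agent.Helper14.TNA.jA_map M.subtype (S : Subgroup ↥M)
        M.subtype_injective.injOn, hSmap]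
  have hnormW : ∀ s : ↥M, s ∈ Subgroup.normalizer (W' : Set ↥M) →
      (s : G) ∈ Subgroup.normalizer ((W'.map M.subtype : Subgroup G) : Set G) := by
    intro s hs
    apply fratq_mem_normalizer
    rintro r ⟨k, hk, rfl⟩
    refine ⟨s * k * s⁻¹, (Subgroup.mem_normalizer_iff.mp hs k).mp hk, ?_⟩
    simp
  refine ⟨W'.map M.subtype, R'.map M.subtype, ?_, ?_, ?_, hR'p.map _, ?_, (x' : G), hnormW x' hx'W,
    ?_, ⟨c, ?_⟩, ?_⟩
  · rcases hWG with h | h
    · rw [h]; exact inf_le_left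
    · rw [h]; exact Cfsg.Agent.Helper14.TNA.jA_le T
  · rcases hWG with h | h
    · rw [h]; exact thomt_center_ne_bot T hT hT1
    · rw [h]; exact Cfsg.Agent.Helper14.TNA.jA_ne_bot T hT1
  · rcases hWG with h | h
    · rw [h]; exact thomt_normalizer_le_center T
    · rw [h]; exact Cfsg.Agent.Helper14.TNA.normalizer_le_jA T
  · rintro r ⟨r', hr', rfl⟩
    exact hnormW r' (hR'W hr')
  · apply fratq_mem_normalizer
    rintro r ⟨k, hk, rfl⟩
    refine ⟨x' * k * x'⁻¹, (Subgroup.mem_normalizer_iff.mp hx'R k).mp hk, ?_⟩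
    simp
  · have := congrArg Subtype.val hc
    simpa using this
  · intro hcon
    apply hx'C
    rw [Subgroup.mem_centralizer_iff] at hcon ⊢
    intro k hk
    have := hcon (k : G) ⟨k, hk, rfl⟩
    exact Subtype.ext (by simpa using this)

end Cfsg.Agent.Helper22.QAut
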