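import Mathlib
import Cfsg.Prelude.Def_Local
import Cfsg.Agent.Lib.Helper22.QAutDefs
import Cfsg.Agent.Lib.Helper22.QAutEQV
import Cfsg.Agent.Lib.Helper22.QAutLIFTQ
import Cfsg.Agent.Lib.Helper22.QAutCONJ
import Cfsg.Agent.Lib.Helper23.QAutQ1
import Cfsg.Agent.Lib.Helper16.QAutQ2
import Cfsg.Agent.Lib.Helper16.QAutQ3
import Cfsg.Agent.Lib.Helper23.QAutSUBSOL
import Cfsg.Agent.Lib.Helper22.QAutSUBGOOD
import Cfsg.Agent.Lib.Helper22.QAutNORMGROW
import Cfsg.Agent.Lib.Helper22.QAutCARDSUP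
import Cfsg.Agent.Lib.Helper23.QAutCHAIN
import Cfsg.Agent.Lib.Helper22.QAutFRATQ
import Cfsg.Agent.Lib.Helper16.QAutSTEPB
import Cfsg.Agent.Lib.Helper22.QAutTHOMA
import Cfsg.Agent.Lib.Helper22.QAutTHOMT

/-!
# S4411: assembly
-/

set_option autoImplicit false
open Pointwise

namespace Cfsg.Agent.Helper22.QAut

open Cfsg

section
variable {G : Type*} [Group G] [Finite G] {p q : ℕ} [Fact p.Prime] [Fact q.Prime]

theorem asm_pow_card {H : Type*} [Group H] (U : Subgroup H) [Finite U] {x : H} (hx : x ∈ U) :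
    x ^ Nat.card U = 1 := by
  have h : (⟨x, hx⟩ : U) ^ Nat.card U = 1 := pow_card_eq_one'
  have h2 : ((⟨x, hx⟩ : U) ^ Nat.card U : U).1 = (1 : U).1 := by rw [h]
  rwa [Subgroup.coe_pow, Subgroup.coe_one] at h2

/-- a `p`-subgroup `X` of `B` lies in the `B`-invariant subgroup `L` of `p'`-index -/
theorem asm_le_of_relIndex (X L B : Subgroup G) (hX : IsPGroup p ↥X) (hXB : X ≤ B) (hLB : L ≤ B)
    (hBL : B ≤ Subgroup.normalizer (L : Set G)) (hidx : ¬ p ∣ L.relIndex B) : X ≤ L := by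
  have hpp : p.Prime := Fact.out
  have hn : (L.subgroupOf B).Normal := by
    constructor
    intro n hn g
    rw [Subgroup.mem_subgroupOf] at hn ⊢
    have := (Subgroup.mem_normalizer_iff.mp (hBL g.2) n).mp hn
    simpa using this
  intro x hx
  have hxB : x ∈ B := hXB hx
  obtain ⟨k, hk⟩ := hX ⟨x, hx⟩
  have hk' : x ^ p ^ k = 1 := by
    have := congrArg Subtype.val hk
    simpa using this
  have h1 : ((⟨x, hxB⟩ : ↥B) : ↥B ⧸ L.subgroupOf B) ^ p ^ k = 1 := by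
    rw [← QuotientGroup.mk_pow]
    have : (⟨x, hxB⟩ : ↥B) ^ p ^ k = 1 := Subtype.ext (by simpa using hk')
    rw [this, QuotientGroup.mk_one]
  have h2 : ((⟨x, hxB⟩ : ↥B) : ↥B ⧸ L.subgroupOf B) ^ Nat.card (↥B ⧸ L.subgroupOf B) = 1 :=
    pow_card_eq_one'
  have hc : Nat.card (↥B ⧸ L.subgroupOf B) = L.relIndex B := rfl
  have hcop : (L.relIndex B).Coprime (p ^ k) := by
    apply Nat.Coprime.pow_right
    rw [Nat.coprime_comm, Nat.Prime.coprime_iff_not_dvd hpp]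
    exact hidx
  rw [hc] at h2
  have h4 := (pow_gcd_eq_one (a := ((⟨x, hxB⟩ : ↥B) : ↥B ⧸ L.subgroupOf B))
    (m := L.relIndex B) (n := p ^ k)).mpr ⟨h2, h1⟩
  rw [Nat.Coprime.gcd_eq_one hcop, pow_one, QuotientGroup.eq_one_iff, Subgroup.mem_subgroupOf] at h4
  exact h4

theorem asm_le_normalizer_inf (T L : Subgroup G) (hTL : T ≤ Subgroup.normalizer (L : Set G)) :
    T ≤ Subgroup.normalizer ((T ⊓ L : Subgroup G) : Set G) := by
  intro t ht
  rw [Subgroup.mem_normalizer_iff]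
  intro x
  have h1 := Subgroup.mem_normalizer_iff.mp (hTL ht) x
  constructor
  · rintro ⟨hxT, hxL⟩
    exact ⟨T.mul_mem (T.mul_mem ht hxT) (T.inv_mem ht), h1.mp hxL⟩
  · rintro ⟨hxT, hxL⟩
    refine ⟨?_, h1.mpr hxL⟩
    have hxT' : t * x * t⁻¹ ∈ T := hxT
    have : t⁻¹ * (t * x * t⁻¹) * t ∈ T := T.mul_mem (T.mul_mem (T.inv_mem ht) hxT') ht
    have he : t⁻¹ * (t * x * t⁻¹) * t = x := by group
    rw [he] at this
    exact this

/-- LOCAL: the local analysis at an extremal pair `(H, T)`. -/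
theorem local_step (hpq : p ≠ q) (hsol : AutSolv p G) (H T : Subgroup G) (hH : IsPGroup p ↥H)
    (hT : IsPGroup p ↥T) (hHT : H ≤ T) (hTN : T ≤ Subgroup.normalizer (H : Set G))
    (hTsyl : ¬ p ∣ T.relIndex (Subgroup.normalizer (H : Set G))) (hq : QAct q H)
    (hmax : ∀ K : Subgroup G, IsPGroup p ↥K → H ≤ K → T ≤ Subgroup.normalizer (K : Set G) →
      QAct q K → K = H) :
    ∃ (Y T₀ : Subgroup G) (y : G), IsPGroup q ↥Y ∧ Y ≤ Subgroup.normalizer (H : Set G) ∧ y ∈ Y ∧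
      y ∉ Subgroup.centralizer (H : Set G) ∧ T₀ ≤ T ∧ T₀ ≤ Subgroup.normalizer (Y : Set G) ∧
      T₀ ⊔ H = T := by
  obtain ⟨L, B, hHL, hCL, hLB, hBN, hNL, hNB, hpLB, hqLB⟩ :=
    exists_chain_step hpq H hH (hsol H hH) ((qact_iff q H).mpr hq)
  have hqLN : q ∣ L.relIndex (Subgroup.normalizer (H : Set G)) := by
    rw [← Subgroup.relIndex_mul_relIndex L B _ hLB hBN]
    exact dvd_mul_of_dvd_left hqLB _
  obtain ⟨y₁, hy₁N, hy₁norm, hy₁q, hy₁L⟩ :=
    exists_qelt_normalizing (p := p) (Subgroup.normalizer (H : Set G)) L T (hLB.trans hBN) hNL hTN hT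
      hTsyl hqLN
  have hTL : T ⊓ L = H := by
    apply hmax (T ⊓ L) (hT.to_le inf_le_left) (le_inf hHT hHL)
      (asm_le_normalizer_inf T L (hTN.trans hNL))
    refine ⟨y₁, hy₁norm, hy₁q, fun hc => hy₁L (hCL ?_)⟩
    exact Subgroup.centralizer_le (show (H : Set G) ⊆ ((T ⊓ L : Subgroup G) : Set G) from
      le_inf hHT hHL) hc
  have hTB : T ⊓ B = H := by
    apply le_antisymm
    · have h1 : T ⊓ B ≤ L :=
        asm_le_of_relIndex (T ⊓ B) L B (hT.to_le inf_le_left) inf_le_right hLB (hBN.trans hNL) hpLB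
      rw [← hTL]
      exact le_inf inf_le_left h1
    · exact le_inf hHT (hHL.trans hLB)
  have hTsyl' : ¬ p ∣ T.relIndex (B ⊔ T) := by
    intro hc
    apply hTsyl
    have hle : B ⊔ T ≤ Subgroup.normalizer (H : Set G) := sup_le hBN hTN
    rw [← Subgroup.relIndex_mul_relIndex T (B ⊔ T) _ le_sup_right hle]
    exact dvd_mul_of_dvd_left hc _
  obtain ⟨Y, T₀, hYB, hYq, hYsyl, hT₀T, hT₀Y, hT₀H⟩ :=
    exists_invariant_sylow hpq T B H hT (hTN.trans hNB) hTsyl' hTB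
  have hYL : ¬ Y ≤ L := by
    intro hc
    apply hYsyl
    rw [← Subgroup.relIndex_mul_relIndex Y L B hc hLB]
    exact dvd_mul_of_dvd_right hqLB _
  obtain ⟨y, hyY, hyL⟩ := SetLike.not_le_iff_exists.mp hYL
  exact ⟨Y, T₀, y, hYq, hYB.trans hBN, hyY, fun hc => hyL (hCL hc), hT₀T, hT₀Y, hT₀H⟩

theorem asm_pCore_normal (p : ℕ) (G : Type*) [Group G] : (pCore p G).Normal :=
  Subgroup.sSup_normal _ (fun _ hK => hK.1)

theorem asm_pCore_isPGroup (p : ℕ) (G : Type*) [Group G] : IsPGroup p (pCore p G) :=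
  Sylow.sSup_of_normal _ (fun _ h => h.2) (fun _ h => h.1)

theorem asm_card_lt (H : Subgroup G) (hH : H ≠ ⊤) : Nat.card H < Nat.card G := by
  by_contra hc
  push Not at hc
  exact hH (Subgroup.eq_top_of_card_eq H (le_antisymm (Subgroup.card_le_card_group H) hc))

theorem asm_card_lt_of_lt {T S : Subgroup G} (h : T < S) : Nat.card ↥T < Nat.card ↥S := by
  by_contra hc
  push Not at hc
  have := Subgroup.eq_of_le_of_card_ge h.le hc
  exact (ne_of_lt h) this

/-- a divisor of `p ^ s * q ^ t` has the same shape -/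
theorem asm_dvd_pq (hpq : p ≠ q) {d s t : ℕ} (hd : d ∣ p ^ s * q ^ t) :
    ∃ a b : ℕ, d = p ^ a * q ^ b := by
  have hpp : p.Prime := Fact.out
  have hqq : q.Prime := Fact.out
  have hcop : (p ^ s).Coprime (q ^ t) :=
    Nat.Coprime.pow _ _ ((Nat.coprime_primes hpp hqq).mpr hpq)
  have h1 : d = d.gcd (p ^ s) * d.gcd (q ^ t) := by
    rw [← Nat.Coprime.gcd_mul _ hcop]
    exact (Nat.gcd_eq_left hd).symm
  obtain ⟨a, _, ha⟩ := (Nat.dvd_prime_pow hpp).mp (Nat.gcd_dvd_right d (p ^ s))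
  obtain ⟨b, _, hb⟩ := (Nat.dvd_prime_pow hqq).mp (Nat.gcd_dvd_right d (q ^ t))
  exact ⟨a, b, by rw [← ha, ← hb]; exact h1⟩

end

/-- MAIN: the induction. -/
theorem main.{u} (p q : ℕ) [Fact p.Prime] [Fact q.Prime] (hpq : p ≠ q) (h23 : ¬ (p = 2 ∧ q = 3)) :
    ∀ (n : ℕ) (G : Type u) [Group G] [Finite G], Nat.card G = n → AutSolv p G →
      (∃ H : Subgroup G, IsPGroup p ↥H ∧ QAct q H) → Good p q G := by
  intro n
  induction n using Nat.strong_induction_on with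
  | _ n ih =>
  intro G _ _ hn hsol hex
  obtain ⟨H₀, hH₀, hq₀⟩ := hex
  have hpp : p.Prime := Fact.out
  by_cases hO : pCore p G = ⊥
  swap
  · -- `O_p(G) ≠ 1`
    have hWn : (pCore p G).Normal := asm_pCore_normal p G
    have hWp : IsPGroup p ↥(pCore p G) := asm_pCore_isPGroup p G
    by_cases hW : QAct q (pCore p G)
    · obtain ⟨P⟩ := (inferInstance : Nonempty (Sylow p G))
      refine ⟨pCore p G, P, hW, P.2, P.not_dvd_index, ?_, ?_⟩
      · obtain ⟨R, hR⟩ := hWp.exists_le_sylow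
        obtain ⟨g, hg⟩ := MulAction.exists_smul_eq G R P
        intro x hx
        have hx' : g⁻¹ * x * g⁻¹⁻¹ ∈ pCore p G := hWn.conj_mem x hx g⁻¹
        have h1 : g⁻¹ * x * g⁻¹⁻¹ ∈ (R : Subgroup G) := hR hx'
        have h2 : g * (g⁻¹ * x * g⁻¹⁻¹) * g⁻¹ ∈ ((g • R : Sylow p G) : Subgroup G) := by
          rw [Sylow.coe_subgroup_smul, Subgroup.mem_pointwise_smul_iff_inv_smul_mem]
          simp only [MulAut.smul_def, MulAut.conj_inv_apply]
          convert h1 using 1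
          group
        rw [hg] at h2
        convert h2 using 1
        group
      · rw [Subgroup.normalizer_eq_top]
        exact le_top
    · have hlt : Nat.card (G ⧸ pCore p G) < n := by
        rw [← hn, ← Subgroup.card_mul_index (pCore p G)]
        have h1 : 1 < Nat.card (pCore p G) := by
          rw [Subgroup.one_lt_card_iff_ne_bot]; exact hO
        have h2 : 0 < (pCore p G).index := Nat.pos_of_ne_zero Subgroup.index_ne_zero_of_finite
        have : Nat.card (G ⧸ pCore p G) = (pCore p G).index := rfl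
        rw [this]
        nlinarith
      have hgood := ih _ hlt (G ⧸ pCore p G) rfl (autSolv_quotient (pCore p G) hWp hsol)
        (exists_qact_quotient hpq (pCore p G) hWp hW H₀ hH₀ hq₀)
      exact good_of_quotient hpq (pCore p G) hWp hgood
  -- `O_p(G) = 1`: extremal pair
  let α := {x : Subgroup G × Subgroup G // IsPGroup p ↥x.1 ∧ IsPGroup p ↥x.2 ∧ QAct q x.1 ∧
    x.2 ≤ Subgroup.normalizer (x.1 : Set G)}
  have hne : Nonempty α := ⟨⟨(H₀, H₀), hH₀, hH₀, hq₀, Subgroup.le_normalizer⟩⟩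
  let f : α → ℕ := fun x => Nat.card ↥x.1.2 * (Nat.card G + 1) + Nat.card ↥x.1.1
  obtain ⟨⟨⟨H, T⟩, hHp, hTp, hqH, hTN⟩, hmaxf⟩ := Finite.exists_max f
  have hHp : IsPGroup p ↥H := hHp
  have hTp : IsPGroup p ↥T := hTp
  have hqH : QAct q H := hqH
  have hTN : T ≤ Subgroup.normalizer (H : Set G) := hTN
  have m1 : ∀ K S : Subgroup G, IsPGroup p ↥K → IsPGroup p ↥S → QAct q K →
      S ≤ Subgroup.normalizer (K : Set G) →
      Nat.card ↥S ≤ Nat.card ↥T ∧ (Nat.card ↥S = Nat.card ↥T → Nat.card ↥K ≤ Nat.card ↥H) := by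
    intro K S hK hS hqK hSK
    have h := hmaxf ⟨(K, S), hK, hS, hqK, hSK⟩
    have h' : Nat.card ↥S * (Nat.card G + 1) + Nat.card ↥K ≤
        Nat.card ↥T * (Nat.card G + 1) + Nat.card ↥H := h
    have hHle : Nat.card ↥H ≤ Nat.card G := Subgroup.card_le_card_group H
    constructor
    · by_contra hc
      push Not at hc
      have : (Nat.card ↥T + 1) * (Nat.card G + 1) ≤ Nat.card ↥S * (Nat.card G + 1) :=
        Nat.mul_le_mul_right _ hc
      nlinarith
    · intro he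
      rw [he] at h'
      omega
  -- `H ≤ T`
  have hHT : H ≤ T := by
    have hp1 : IsPGroup p ↥(H ⊔ T) := IsPGroup.to_sup_of_normal_left' hHp hTp hTN
    have h1 := (m1 H (H ⊔ T) hHp hp1 hqH (sup_le Subgroup.le_normalizer hTN)).1
    have h2 : T = H ⊔ T := Subgroup.eq_of_le_of_card_ge le_sup_right h1
    rw [h2]
    exact le_sup_left
  -- `T` is Sylow in `N_G(H)`
  have hTsyl : ¬ p ∣ T.relIndex (Subgroup.normalizer (H : Set G)) := by
    intro hc
    obtain ⟨S, hSp, hTS, hSN, _⟩ := exists_normalizing_lt T _ hTN hTp hc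
    have h1 := (m1 H S hHp hSp hqH hSN).1
    have h2 : Nat.card ↥T < Nat.card ↥S := asm_card_lt_of_lt hTS
    omega
  by_cases hidx : p ∣ T.index
  swap
  · exact ⟨H, T, hqH, hTp, hidx, hHT, hTN⟩
  exfalso
  obtain ⟨Sx, hSxp, hTSx, _, hSxT⟩ :=
    exists_normalizing_lt T ⊤ le_top hTp (by rwa [Subgroup.relIndex_top_right])
  have hmaxK : ∀ K : Subgroup G, IsPGroup p ↥K → H ≤ K → T ≤ Subgroup.normalizer (K : Set G) →
      QAct q K → K = H := by
    intro K hK hHK hTK hqK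
    have h1 := (m1 K T hK hTp hqK hTK).2 rfl
    exact (Subgroup.eq_of_le_of_card_ge hHK h1).symm
  obtain ⟨Y, T₀, y, hYq, hYN, hyY, hyC, hT₀T, hT₀Y, hT₀H⟩ :=
    local_step hpq hsol H T hHp hTp hHT hTN hTsyl hqH hmaxK
  -- the `{p,q}`-group `M = T Y`
  have hMeq : T ⊔ Y = (T₀ ⊔ Y) ⊔ H := by
    rw [← hT₀H]
    rw [sup_assoc, sup_assoc, sup_comm H Y]
  have hMN : T ⊔ Y ≤ Subgroup.normalizer (H : Set G) := sup_le hTN hYN
  have hcard : ∃ a b : ℕ, Nat.card ↥(T ⊔ Y) = p ^ a * q ^ b := by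
    have d1 := card_sup_dvd_of_le_normalizer T₀ Y hT₀Y
    have hA : T₀ ⊔ Y ≤ Subgroup.normalizer (H : Set G) := sup_le (hT₀T.trans hTN) hYN
    have d2 := card_sup_dvd_of_le_normalizer (T₀ ⊔ Y) H hA
    obtain ⟨i, hi⟩ := IsPGroup.iff_card.mp (hTp.to_le hT₀T)
    obtain ⟨j, hj⟩ := IsPGroup.iff_card.mp hYq
    obtain ⟨k, hk⟩ := IsPGroup.iff_card.mp hHp
    have d3 : Nat.card ↥(T ⊔ Y) ∣ p ^ (i + k) * q ^ j := by
      rw [hMeq]
      refine dvd_trans d2 ?_
      rw [hk]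
      refine dvd_trans (Nat.mul_dvd_mul_right d1 _) ?_
      rw [hi, hj, pow_add]
      exact dvd_of_eq (by ring)
    exact asm_dvd_pq hpq d3
  have hTsylM : ¬ p ∣ T.relIndex (T ⊔ Y) := by
    intro hc
    apply hTsyl
    rw [← Subgroup.relIndex_mul_relIndex T (T ⊔ Y) _ le_sup_left hMN]
    exact dvd_mul_of_dvd_left hc _
  obtain ⟨W, R, hWT, hW1, hNTW, hRp, hRW, x, hxW, hxR, hxq, hxC⟩ :=
    thompson_step hpq h23 (T ⊔ Y) T H hcard le_sup_left hTp hTsylM hHT hMN y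
      (Subgroup.mem_sup_right hyY) (by
        obtain ⟨c, hc⟩ := hYq ⟨y, hyY⟩
        exact ⟨c, by simpa using congrArg Subtype.val hc⟩) hyC
  -- `G₁ = N_G(W) ≠ G`
  have hG₁ : Subgroup.normalizer (W : Set G) ≠ ⊤ := by
    intro hc
    rw [Subgroup.normalizer_eq_top_iff] at hc
    apply hW1
    rw [eq_bot_iff, ← hO]
    exact le_sSup ⟨hc, hTp.to_le hWT⟩
  have hlt : Nat.card ↥(Subgroup.normalizer (W : Set G)) < n := hn ▸ asm_card_lt _ hG₁
  have hex₁ : ∃ H' : Subgroup ↥(Subgroup.normalizer (W : Set G)), IsPGroup p ↥H' ∧ QAct q H' := by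
    refine ⟨R.subgroupOf _, hRp.comap_subtype, ⟨x, hxW⟩, ?_, ?_, ?_⟩
    · rw [Subgroup.mem_normalizer_iff]
      intro g
      rw [Subgroup.mem_subgroupOf, Subgroup.mem_subgroupOf]
      have := Subgroup.mem_normalizer_iff.mp hxR (g : G)
      simpa using this
    · obtain ⟨c, hc⟩ := hxq
      exact ⟨c, Subtype.ext (by simpa using hc)⟩
    · intro hc
      apply hxC
      rw [Subgroup.mem_centralizer_iff] at hc ⊢
      intro r hr
      have := hc ⟨r, hRW hr⟩ (by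
        show (⟨r, hRW hr⟩ : ↥(Subgroup.normalizer (W : Set G))) ∈ R.subgroupOf _
        rw [Subgroup.mem_subgroupOf]; exact hr)
      have h2 := congrArg Subtype.val this
      simpa using h2
  have hgood₁ := ih _ hlt ↥(Subgroup.normalizer (W : Set G)) rfl
    (autSolv_subgroup _ hsol) hex₁
  obtain ⟨K, S, hqK, hSp, hKS, hSK, hSmax⟩ := good_subgroup _ hgood₁
  have h1 := hSmax Sx (hSxT.trans hNTW) hSxp
  have h2 := (m1 K S (hSp.to_le hKS) hSp hqK hSK).1
  have h3 : Nat.card ↥T < Nat.card ↥Sx := asm_card_lt_of_lt hTSx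
  omega

end Cfsg.Agent.Helper22.QAut
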