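import Mathlib
import Cfsg.Agent.Lib.Helper6.QDFusion
import Cfsg.Agent.Lib.Helper16.QuatRecog

/-!
Standard four-subgroup and quaternion subgroup of a quasi-dihedral group (helper22).
-/

set_option autoImplicit false

namespace Cfsg.Agent.Helper22.QDS

section four

variable {G : Type*} [Group G]

/-- the four-group generated by two commuting involutions -/
def fourOf (a b : G) (ha : a * a = 1) (hb : b * b = 1) (hab : a * b = b * a) : Subgroup G where
  carrier := {s | s = 1 ∨ s = a ∨ s = b ∨ s = a * b}
  one_mem' := Or.inl rfl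
  mul_mem' := by
    have e1 : a * (a * b) = b := by rw [← mul_assoc, ha, one_mul]
    have e2 : b * (a * b) = a := by rw [hab, ← mul_assoc, hb, one_mul]
    have e3 : a * b * a = b := by rw [mul_assoc, ← hab, e1]
    have e4 : a * b * b = a := by rw [mul_assoc, hb, mul_one]
    have e5 : a * b * (a * b) = 1 := by rw [mul_assoc, e2, ha]
    rintro x y (rfl | rfl | rfl | rfl) (rfl | rfl | rfl | rfl)
    · left; exact one_mul 1
    · right; left; exact one_mul _
    · right; right; left; exact one_mul _
    · right; right; right; exact one_mul _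
    · right; left; exact mul_one _
    · left; exact ha
    · right; right; right; rfl
    · right; right; left; exact e1
    · right; right; left; exact mul_one _
    · right; right; right; exact hab.symm
    · left; exact hb
    · right; left; exact e2
    · right; right; right; exact mul_one _
    · right; right; left; exact e3
    · right; left; exact e4
    · left; exact e5
  inv_mem' := by
    have e5 : a * b * (a * b) = 1 := by
      rw [mul_assoc, hab, ← mul_assoc b, hb, one_mul, ha]
    rintro x (rfl | rfl | rfl | rfl)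
    · left; exact inv_one
    · right; left; exact inv_eq_of_mul_eq_one_left ha
    · right; right; left; exact inv_eq_of_mul_eq_one_left hb
    · right; right; right; exact inv_eq_of_mul_eq_one_left e5

theorem mem_fourOf (a b : G) (ha : a * a = 1) (hb : b * b = 1) (hab : a * b = b * a) (s : G) :
    s ∈ fourOf a b ha hb hab ↔ s = 1 ∨ s = a ∨ s = b ∨ s = a * b := Iff.rfl

theorem isKleinFour_fourOf (a b : G) (ha : a * a = 1) (hb : b * b = 1) (hab : a * b = b * a)
    (ha1 : a ≠ 1) (hb1 : b ≠ 1) (hne : a ≠ b) : IsKleinFour ↥(fourOf a b ha hb hab) := by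
  have hab1 : a * b ≠ 1 := by
    intro h
    apply hne
    have : a = b⁻¹ := eq_inv_of_mul_eq_one_left h
    rw [this]; exact inv_eq_of_mul_eq_one_left hb
  have haab : a ≠ a * b := by
    intro h; apply hb1
    have := congrArg (a⁻¹ * ·) h
    simpa using this.symm
  have hbab : b ≠ a * b := by
    intro h; apply ha1
    have := congrArg (· * b⁻¹) h
    simpa using this.symm
  have hcard : Nat.card ↥(fourOf a b ha hb hab) = 4 := by
    have hset : ((fourOf a b ha hb hab : Subgroup G) : Set G) = {1, a, b, a * b} := by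
      ext s
      simp only [Set.mem_insert_iff, Set.mem_singleton_iff]
      exact Iff.rfl
    have h1 : Nat.card ↥(fourOf a b ha hb hab) =
        ((fourOf a b ha hb hab : Subgroup G) : Set G).ncard :=
      Nat.card_coe_set_eq ((fourOf a b ha hb hab : Subgroup G) : Set G)
    rw [h1, hset]
    rw [Set.ncard_insert_of_notMem, Set.ncard_insert_of_notMem, Set.ncard_insert_of_notMem,
      Set.ncard_singleton]
    · simp only [Set.mem_singleton_iff]; exact hbab
    · simp only [Set.mem_insert_iff, Set.mem_singleton_iff, not_or]; exact ⟨hne, haab⟩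
    · simp only [Set.mem_insert_iff, Set.mem_singleton_iff, not_or]
      exact ⟨fun h => ha1 h.symm, fun h => hb1 h.symm, fun h => hab1 h.symm⟩
  refine ⟨hcard, ?_⟩
  have hd : Monoid.exponent ↥(fourOf a b ha hb hab) ∣ 2 := by
    apply Monoid.exponent_dvd_of_forall_pow_eq_one
    rintro ⟨x, hx⟩
    apply Subtype.ext
    rw [pow_two]
    show x * x = 1
    have e5 : a * b * (a * b) = 1 := by
      rw [mul_assoc, hab, ← mul_assoc b, hb, one_mul, ha]
    rcases hx with rfl | rfl | rfl | rfl
    · exact one_mul 1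
    · exact ha
    · exact hb
    · exact e5
  rcases (Nat.dvd_prime Nat.prime_two).1 hd with h1 | h1
  · exfalso
    rw [Monoid.exp_eq_one_iff] at h1
    have := Nat.card_eq_one_iff_unique.2 ⟨h1, ⟨1⟩⟩
    omega
  · exact h1

end four

open Cfsg.Agent.Helper6 Cfsg.Agent.Helper6.QD

variable {S : Type*} [Group S] (d : Data S)

/-- the standard four-subgroup `{1, z, y, zy}` -/
def TT : Subgroup S :=
  fourOf (z d) d.y (z_mul_z d) (y_mul_y d) (z_central d d.y).symm

theorem isKleinFour_TT : IsKleinFour ↥(TT d) :=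
  isKleinFour_fourOf _ _ _ _ _ (z_ne_one d) (y_ne_one d) (fun h => y_ne_xp d _ h.symm)

theorem z_mem_TT : z d ∈ TT d := Or.inr (Or.inl rfl)

/-- the standard quaternion subgroup `⟨x^(N/4), x y⟩` -/
def Q8 : Subgroup S where
  carrier := {s | G8 d 1 s}
  one_mem' := Or.inl ⟨0, by ring, (xp_zero d).symm⟩
  mul_mem' := by
    have h4h := four_mul_half d
    rintro _ _ (⟨k, hk, rfl⟩ | ⟨k, hk, rfl⟩) (⟨k', hk', rfl⟩ | ⟨k', hk', rfl⟩)
    · left
      exact ⟨k + k', by linear_combination hk + hk', xp_mul_xp d k k'⟩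
    · right
      refine ⟨k + k', by linear_combination hk + hk', ?_⟩
      rw [xp_mul_xpy]; congr 2; ring
    · right
      refine ⟨k + e d * k', by linear_combination hk + e d * hk', ?_⟩
      rw [xpy_mul_xp]; congr 2; ring
    · left
      refine ⟨half d + k + e d * k', by linear_combination h4h + hk + e d * hk', ?_⟩
      rw [xpy_mul_xpy]; congr 1
      unfold e; ring
  inv_mem' := by
    have h4h := four_mul_half d
    rintro _ (⟨k, hk, rfl⟩ | ⟨k, hk, rfl⟩)
    · left
      exact ⟨-k, by linear_combination -hk, xp_inv d k⟩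
    · right
      refine ⟨-half d - e d * k, by linear_combination -h4h - e d * hk, ?_⟩
      rw [xpy_inv]; congr 2
      unfold e; ring

theorem mem_Q8 (s : S) : s ∈ Q8 d ↔ G8 d 1 s := Iff.rfl

theorem Q8_equiv [Finite S] : Nonempty (Q8 d ≃* QuaternionGroup 2) := by
  have h4q := four_mul_quarter d
  have hq := two_mul_quarter d
  have hhh := half_add_half d
  have hxm : xp d (quarter d) ∈ Q8 d := Or.inl ⟨_, h4q, rfl⟩
  have htm : xp d 1 * d.y ∈ Q8 d := Or.inr ⟨0, by ring, by rw [add_zero]⟩
  have hxpow : ∀ s : ℕ, (xp d (quarter d)) ^ s = xp d (s * quarter d) := fun s => xp_pow d _ s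
  have hmul : ∀ m : ZMod (2 ^ d.n), 4 * m = 0 → ∃ s : ℕ, m = s * quarter d := by
    intro m hm
    rcases (four_mul_eq_zero_iff d m).mp hm with rfl | rfl | rfl | rfl
    · exact ⟨0, by simp⟩
    · exact ⟨1, by simp⟩
    · exact ⟨2, by push_cast; rw [hq]⟩
    · exact ⟨3, by push_cast; linear_combination -hq⟩
  apply Cfsg.Agent.Helper16.nonempty_mulEquiv_quaternion
    (⟨_, hxm⟩ : Q8 d) (⟨_, htm⟩ : Q8 d)
  · rw [Subgroup.orderOf_mk, orderOf_quarter]
  · apply Subtype.ext
    show (xp d 1 * d.y) ^ 2 = (xp d (quarter d)) ^ 2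
    rw [hxpow, pow_two, xpy_sq]
    congr 1
    push_cast
    linear_combination -hq
  · apply Subtype.ext
    show xp d 1 * d.y * xp d (quarter d) * (xp d 1 * d.y)⁻¹ = (xp d (quarter d))⁻¹
    rw [conj_xpy_xp, e_mul_quarter, xp_inv]
    congr 1
    linear_combination hq + hhh
  · intro h
    obtain ⟨j, hj⟩ := Subgroup.mem_zpowers_iff.mp h
    have h2 := congrArg Subtype.val hj
    rw [Subgroup.coe_zpow] at h2
    have h3 : (xp d (quarter d)) ^ j = xp d 1 * d.y := h2
    have h4 : (xp d (quarter d)) ^ j ∈ Subgroup.zpowers d.x := by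
      apply Subgroup.zpow_mem
      rw [mem_zpowers_iff]; exact ⟨_, rfl⟩
    rw [h3, mem_zpowers_iff] at h4
    obtain ⟨i, hi⟩ := h4
    exact xp_ne_xp_mul_y d _ _ hi.symm
  · rintro ⟨g, hg⟩
    rcases hg with ⟨m, hm, rfl⟩ | ⟨m, hm, rfl⟩
    · left
      obtain ⟨s, hs⟩ := hmul m hm
      rw [Subgroup.mem_zpowers_iff]
      refine ⟨(s : ℤ), ?_⟩
      apply Subtype.ext
      rw [zpow_natCast]
      show (xp d (quarter d)) ^ s = xp d m
      rw [hxpow, hs]
    · right
      have hem : 4 * (e d * m) = 0 := by linear_combination e d * hm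
      obtain ⟨s, hs⟩ := hmul (e d * m) hem
      refine ⟨s, ?_⟩
      apply Subtype.ext
      show xp d (1 + m) * d.y = xp d 1 * d.y * (xp d (quarter d)) ^ s
      rw [hxpow, xpy_mul_xp, ← hs]
      congr 2
      linear_combination (-m) * e_mul_e d

end Cfsg.Agent.Helper22.QDS
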