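import Mathlib
import Cfsg.Prelude.Def_Transfer

/-!
Transport of normalizers, centralizers and indices to a subgroup; subgroups of index two (helper22).
-/

set_option autoImplicit false

namespace Cfsg.Agent.Helper22.SubT

open Subgroup

variable {G : Type*} [Group G]

theorem normalizer_subgroupOf (C A : Subgroup G) (hA : A ≤ C) :
    normalizer ((A.subgroupOf C : Subgroup ↥C) : Set ↥C) =
      (normalizer (A : Set G)).subgroupOf C := by
  ext c
  rw [mem_subgroupOf, mem_normalizer_iff, mem_normalizer_iff]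
  constructor
  · intro h a
    by_cases haC : a ∈ C
    · have h1 := h ⟨a, haC⟩
      rw [mem_subgroupOf, mem_subgroupOf] at h1
      exact h1
    · constructor
      · intro ha; exact absurd (hA ha) haC
      · intro ha
        exfalso
        apply haC
        have h2 : (c : G) * a * (c : G)⁻¹ ∈ C := hA ha
        have e : a = (c : G)⁻¹ * ((c : G) * a * (c : G)⁻¹) * (c : G) := by group
        rw [e]
        exact C.mul_mem (C.mul_mem (C.inv_mem c.2) h2) c.2
  · intro h a
    rw [mem_subgroupOf, mem_subgroupOf]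
    exact h a

theorem centralizer_subgroupOf (C A : Subgroup G) (hA : A ≤ C) :
    centralizer ((A.subgroupOf C : Subgroup ↥C) : Set ↥C) =
      (centralizer (A : Set G)).subgroupOf C := by
  ext c
  rw [mem_subgroupOf, mem_centralizer_iff, mem_centralizer_iff]
  constructor
  · intro h a ha
    have h1 := h ⟨a, hA ha⟩ (mem_subgroupOf.mpr ha)
    exact congrArg Subtype.val h1
  · intro h a ha
    apply Subtype.ext
    exact h a (mem_subgroupOf.mp ha)

theorem center_map_subgroupOf (C S : Subgroup G) (hS : S ≤ C) :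
    (center ↥(S.subgroupOf C)).map (S.subgroupOf C).subtype =
      ((center ↥S).map S.subtype).subgroupOf C := by
  ext c
  rw [mem_subgroupOf, mem_map, mem_map]
  constructor
  · rintro ⟨r, hr, rfl⟩
    refine ⟨⟨((r : ↥C) : G), r.2⟩, ?_, rfl⟩
    rw [mem_center_iff]
    intro t
    have h1 := (mem_center_iff.mp hr) ⟨⟨(t : G), hS t.2⟩, t.2⟩
    apply Subtype.ext
    have h2 := congrArg (fun w : ↥(S.subgroupOf C) => ((w : ↥C) : G)) h1
    exact h2
  · rintro ⟨s, hs, hsc⟩
    have hcS : c ∈ S.subgroupOf C := by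
      rw [mem_subgroupOf]
      have : ((S.subtype s : G)) = (c : G) := hsc
      rw [← this]; exact s.2
    refine ⟨⟨c, hcS⟩, ?_, rfl⟩
    rw [mem_center_iff]
    intro t
    have h1 := (mem_center_iff.mp hs) ⟨((t : ↥C) : G), t.2⟩
    have h2 : ((t : ↥C) : G) * (s : G) = (s : G) * ((t : ↥C) : G) := congrArg Subtype.val h1
    have hsc' : (s : G) = (c : G) := hsc
    apply Subtype.ext
    apply Subtype.ext
    show ((t : ↥C) : G) * (c : G) = (c : G) * ((t : ↥C) : G)
    rw [← hsc']; exact h2

/-- relative index in a subgroup `C` -/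
theorem relIndex_subgroupOf_of_le (C H K : Subgroup G) (hK : K ≤ C) :
    (H.subgroupOf C).relIndex (K.subgroupOf C) = H.relIndex K :=
  Subgroup.relIndex_subgroupOf hK

theorem relIndex_subgroupOf_inf (C H K : Subgroup G) :
    (H.subgroupOf C).relIndex (K.subgroupOf C) = H.relIndex (K ⊓ C) := by
  rw [← Subgroup.inf_subgroupOf_right K C]
  exact Subgroup.relIndex_subgroupOf inf_le_right

variable [Finite G]

/-- a normal subgroup of index `2 ^ m`, `m ≥ 1`, lies in a subgroup of index two -/
theorem exists_index_two_of_normal (K : Subgroup G) [K.Normal] (m : ℕ) (hm : 1 ≤ m)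
    (hK : K.index = 2 ^ m) : ∃ H : Subgroup G, H.index = 2 := by
  haveI : Fact (Nat.Prime 2) := ⟨Nat.prime_two⟩
  have hcard : Nat.card (G ⧸ K) = 2 ^ m := hK
  have hdvd : 2 ^ (m - 1) ∣ Nat.card (G ⧸ K) := by
    rw [hcard]; exact pow_dvd_pow 2 (Nat.sub_le m 1)
  obtain ⟨Hb, hHb⟩ := Sylow.exists_subgroup_card_pow_prime 2 hdvd
  refine ⟨Hb.comap (QuotientGroup.mk' K), ?_⟩
  rw [Subgroup.index_comap_of_surjective Hb (QuotientGroup.mk'_surjective K)]
  have h1 := Subgroup.card_mul_index Hb
  rw [hHb, hcard] at h1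
  have h2 : (2 : ℕ) ^ m = 2 ^ (m - 1) * 2 := by
    rw [← pow_succ]; congr 1; omega
  rw [h2] at h1
  exact Nat.eq_of_mul_eq_mul_left (by positivity) h1

/-- a group with a normal `2`-complement and a nontrivial Sylow `2`-subgroup has a subgroup of
index two -/
theorem exists_index_two_of_complement (P : Sylow 2 G) (N : Subgroup G) [N.Normal]
    (hc : N.IsComplement' (P : Subgroup G)) (m : ℕ) (hm : 1 ≤ m)
    (hP : Nat.card (P : Subgroup G) = 2 ^ m) : ∃ H : Subgroup G, H.index = 2 := by
  apply exists_index_two_of_normal N m hm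
  rw [hc.symm.index_eq_card, hP]

/-- the conclusion of S1213 for the centralizer of an involution -/
def CentConcl {G : Type*} [Group G] (S : Sylow 2 G) (x : G) : Prop :=
  ∃ R : Sylow 2 ↥(Subgroup.centralizer ({x} : Set G)), Nat.card R = Nat.card S ∧
    (∃ K : Subgroup ↥(Subgroup.centralizer ({x} : Set G)), K.Normal ∧ (∃ a : ℕ, K.index = 2 ^ a) ∧
      (∀ H : Subgroup ↥K, H.index ≠ 2) ∧ (∀ P : Sylow 2 ↥K, ∃ m : ℕ, 1 ≤ m ∧
        Nonempty ((P : Subgroup ↥K) ≃* QuaternionGroup (2 ^ m)))) ∧
    (∀ Z₀ : Subgroup ↥(Subgroup.centralizer ({x} : Set G)),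
      Z₀ ≤ ((Subgroup.center (R : Subgroup ↥(Subgroup.centralizer ({x} : Set G)))).map
        (R : Subgroup ↥(Subgroup.centralizer ({x} : Set G))).subtype) →
      Cfsg.IsWeaklyClosed Z₀ (R : Subgroup ↥(Subgroup.centralizer ({x} : Set G))))


/-- isomorphic groups are Klein four-groups together -/
theorem isKleinFour_of_equiv {A B : Type*} [Group A] [Group B] (e : A ≃* B) (h : IsKleinFour A) :
    IsKleinFour B :=
  ⟨by rw [← Nat.card_congr e.toEquiv]; exact h.card_four,
    by rw [← Monoid.exponent_eq_of_mulEquiv e]; exact h.exponent_two⟩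

end Cfsg.Agent.Helper22.SubT
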