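import Mathlib
import Cfsg.Agent.Lib.Helper22.QDSubs
import Cfsg.Agent.Lib.Helper22.SubTransport
import Cfsg.Agent.Lib.Helper11.GU2Sylow
import Cfsg.Agent.S1203
import Cfsg.Agent.S1204
import Cfsg.Agent.S1205
import Cfsg.Agent.S1206
import Cfsg.Agent.S1207

/-!
Centralizers of involutions in groups with quasi-dihedral Sylow `2`-subgroups and no subgroup of
index two (helper22).
-/

set_option autoImplicit false

namespace Cfsg.Agent.Helper22.QDS

open Subgroup Cfsg.Agent.Helper6 Cfsg.Agent.Helper6.QD Cfsg.Agent.Helper22.SubT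

variable {G : Type*} [Group G] [Finite G] (S : Sylow 2 G) (d : Data ↥(S : Subgroup G))

/-- the standard four-subgroup in `G` -/
def TG : Subgroup G := (TT d).map (S : Subgroup G).subtype

/-- the standard quaternion subgroup in `G` -/
def QG : Subgroup G := (Q8 d).map (S : Subgroup G).subtype

theorem TG_le : TG S d ≤ (S : Subgroup G) := Subgroup.map_subtype_le _

theorem QG_le : QG S d ≤ (S : Subgroup G) := Subgroup.map_subtype_le _

theorem isKleinFour_TG : IsKleinFour ↥(TG S d) :=
  isKleinFour_of_equiv (Subgroup.equivMapOfInjective _ _ (Subgroup.subtype_injective _))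
    (isKleinFour_TT d)

theorem QG_equiv : Nonempty (↥(QG S d) ≃* QuaternionGroup 2) := by
  obtain ⟨e⟩ := Q8_equiv d
  exact ⟨(Subgroup.equivMapOfInjective _ _ (Subgroup.subtype_injective _)).symm.trans e⟩

theorem coe_z_mem_TG : ((z d : ↥(S : Subgroup G)) : G) ∈ TG S d :=
  ⟨z d, z_mem_TT d, rfl⟩

/-- an involution of the standard quaternion subgroup is `z` -/
theorem eq_z_of_mem_Q8 (q : ↥(S : Subgroup G)) (hq : q ∈ Q8 d) (h1 : q ≠ 1) (h2 : q * q = 1) :
    q = z d := by
  rcases invol_cases d q h1 h2 with h | ⟨j, rfl⟩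
  · exact h
  · exfalso
    rcases hq with ⟨k, -, hk⟩ | ⟨k, hk4, hk⟩
    · unfold inv2 at hk
      exact xp_ne_xp_mul_y d _ _ hk.symm
    · unfold inv2 at hk
      have h3 := xp_mul_y_injective d _ _ hk
      have h4 : half d * (2 * j) = half d * (1 + k) := by rw [h3]
      have h5 : half d * k = 0 := by
        rcases (four_mul_eq_zero_iff d k).mp hk4 with rfl | rfl | rfl | rfl
        · ring
        · exact half_mul_quarter d
        · exact half_mul_half d
        · rw [mul_add, half_mul_half, half_mul_quarter, add_zero]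
      apply half_ne_zero d
      linear_combination -h4 - h5 + j * two_mul_half d

/-- `N_G(Q)` centralizes `z` -/
theorem normalizer_QG_le_centralizer :
    normalizer (QG S d : Set G) ≤ centralizer ({((z d : ↥(S : Subgroup G)) : G)} : Set G) := by
  intro g hg
  rw [mem_centralizer_iff]
  intro h hh
  rw [Set.mem_singleton_iff] at hh
  rw [hh]
  have hzQ : ((z d : ↥(S : Subgroup G)) : G) ∈ QG S d := by
    refine ⟨z d, ?_, rfl⟩
    left
    refine ⟨half d, four_mul_half d, rfl⟩
  have h1 := (mem_normalizer_iff.mp hg _).mp hzQ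
  obtain ⟨q, hq, hqe⟩ := h1
  have hqe' : (q : G) = g * ((z d : ↥(S : Subgroup G)) : G) * g⁻¹ := hqe
  have hq1 : q ≠ 1 := by
    intro h0
    rw [h0] at hqe'
    have h3 : ((z d : ↥(S : Subgroup G)) : G) = 1 := by
      have : ((z d : ↥(S : Subgroup G)) : G) = g⁻¹ * (g * ((z d : ↥(S : Subgroup G)) : G) * g⁻¹) * g := by
        group
      rw [this, ← hqe']; simp
    exact coe_z_ne_one S d h3
  have hq2 : q * q = 1 := by
    apply Subtype.ext
    rw [Subgroup.coe_mul, hqe']
    have : g * ((z d : ↥(S : Subgroup G)) : G) * g⁻¹ * (g * ((z d : ↥(S : Subgroup G)) : G) * g⁻¹) =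
        g * (((z d : ↥(S : Subgroup G)) : G) * ((z d : ↥(S : Subgroup G)) : G)) * g⁻¹ := by group
    rw [this, coe_z_mul_self]; simp
  have h4 := eq_z_of_mem_Q8 S d q hq hq1 hq2
  rw [h4] at hqe'
  calc ((z d : ↥(S : Subgroup G)) : G) * g = (g * ((z d : ↥(S : Subgroup G)) : G) * g⁻¹) * g := by
        rw [← hqe']
    _ = g * ((z d : ↥(S : Subgroup G)) : G) := by group

/-- without subgroups of index two we are in the case `(6, 6)` -/
theorem six_six_of_no_index_two (hS : Cfsg.IsQuasiDihedral ↥(S : Subgroup G))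
    (hG : ∀ H : Subgroup G, H.index ≠ 2) :
    (centralizer (TG S d : Set G)).relIndex (normalizer (TG S d : Set G)) = 6 ∧
    (QG S d ⊔ centralizer (QG S d : Set G)).relIndex (normalizer (QG S d : Set G)) = 6 := by
  haveI : Fact (Nat.Prime 2) := ⟨Nat.prime_two⟩
  have hT := isKleinFour_TG S d
  obtain ⟨eQ⟩ := QG_equiv S d
  have hdich := Cfsg.Agent.S1203.result S hS (TG S d) hT (TG_le S d) (QG S d) (QG_le S d) eQ
  rcases hdich with ⟨h₁ | h₁, h₂ | h₂⟩
  · exfalso
    have h7 := (Cfsg.Agent.S1207.result S hS (TG S d) hT (TG_le S d) (QG S d) (QG_le S d) eQ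
      h₁ h₂).1
    obtain ⟨P, N, hN, hc⟩ := h7
    haveI := hN
    have hP : Nat.card (P : Subgroup G) = 2 ^ (d.n + 1) := by
      rw [P.card_eq_multiplicity, ← S.card_eq_multiplicity]; exact d.card
    obtain ⟨H, hH⟩ := exists_index_two_of_complement P N hc (d.n + 1) (by omega) hP
    exact hG H hH
  · exfalso
    have h5 := (Cfsg.Agent.S1205.result S hS (TG S d) hT (TG_le S d) (QG S d) (QG_le S d) eQ
      h₁ h₂).1
    obtain ⟨K, -, hKi, -, -⟩ := h5
    exact hG K hKi
  · exfalso
    have h6 := (Cfsg.Agent.S1206.result S hS (TG S d) hT (TG_le S d) (QG S d) (QG_le S d) eQ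
      h₁ h₂).1
    obtain ⟨K, -, hKi, -, -⟩ := h6
    exact hG K hKi
  · exact ⟨h₁, h₂⟩

/-- the centralizer of the central involution of `S` -/
theorem centConcl_z (hS : Cfsg.IsQuasiDihedral ↥(S : Subgroup G))
    (hG : ∀ H : Subgroup G, H.index ≠ 2) (x : G) (hxd : x = ((z d : ↥(S : Subgroup G)) : G)) :
    CentConcl S x := by
  haveI : Fact (Nat.Prime 2) := ⟨Nat.prime_two⟩
  obtain ⟨h₁, h₂⟩ := six_six_of_no_index_two S d hS hG
  set C : Subgroup G := Subgroup.centralizer ({x} : Set G) with hC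
  have hSC : (S : Subgroup G) ≤ C := by
    intro s hs
    rw [hC, mem_centralizer_iff]
    intro h hh
    rw [Set.mem_singleton_iff] at hh
    rw [hh, hxd]
    exact coe_z_comm S d s hs
  have hxT : x ∈ TG S d := by rw [hxd]; exact coe_z_mem_TG S d
  set R : Sylow 2 ↥C := S.subtype hSC with hR
  have hRS : (R : Subgroup ↥C) = (S : Subgroup G).subgroupOf C := rfl
  have eRS : ↥(R : Subgroup ↥C) ≃* ↥(S : Subgroup G) := Subgroup.subgroupOfEquivOfLe hSC
  have hRq : Cfsg.IsQuasiDihedral ↥(R : Subgroup ↥C) :=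
    Cfsg.Agent.Helper11.GU2Sylow.isQuasiDihedral_of_equiv eRS.symm hS
  have hTC : TG S d ≤ C := (TG_le S d).trans hSC
  have hQC : QG S d ≤ C := (QG_le S d).trans hSC
  have hTR : (TG S d).subgroupOf C ≤ (R : Subgroup ↥C) := by
    rw [hRS]; exact Subgroup.comap_mono (TG_le S d)
  have hQR : (QG S d).subgroupOf C ≤ (R : Subgroup ↥C) := by
    rw [hRS]; exact Subgroup.comap_mono (QG_le S d)
  have hTk : IsKleinFour ↥((TG S d).subgroupOf C) :=
    isKleinFour_of_equiv (Subgroup.subgroupOfEquivOfLe hTC).symm (isKleinFour_TG S d)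
  obtain ⟨eQ⟩ := QG_equiv S d
  have eQR : ↥((QG S d).subgroupOf C) ≃* QuaternionGroup 2 :=
    (Subgroup.subgroupOfEquivOfLe hQC).trans eQ
  -- `N_G(Q) ≤ C`
  have hNQC : normalizer (QG S d : Set G) ≤ C := by
    rw [hC, hxd]; exact normalizer_QG_le_centralizer S d
  have hCQC : centralizer (QG S d : Set G) ≤ C :=
    (Subgroup.centralizer_le_normalizer _).trans hNQC
  have h₂C : ((QG S d).subgroupOf C ⊔
      centralizer (((QG S d).subgroupOf C : Subgroup ↥C) : Set ↥C)).relIndex
      (normalizer (((QG S d).subgroupOf C : Subgroup ↥C) : Set ↥C)) = 6 := by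
    rw [normalizer_subgroupOf C _ hQC, centralizer_subgroupOf C _ hQC,
      ← Subgroup.subgroupOf_sup hQC hCQC, relIndex_subgroupOf_of_le C _ _ hNQC]
    exact h₂
  -- `|N_C(T) : C_C(T)| = 2`
  have hdich := (Cfsg.Agent.S1203.result R hRq _ hTk hTR _ hQR eQR).1
  have hCTC : centralizer (TG S d : Set G) ≤ C := by
    rw [hC]
    apply Subgroup.centralizer_le
    intro y hy
    rw [Set.mem_singleton_iff] at hy
    rw [hy]; exact hxT
  have h₁C : (centralizer (((TG S d).subgroupOf C : Subgroup ↥C) : Set ↥C)).relIndex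
      (normalizer (((TG S d).subgroupOf C : Subgroup ↥C) : Set ↥C)) = 2 := by
    rcases hdich with h | h
    · exact h
    · exfalso
      rw [normalizer_subgroupOf C _ hTC, centralizer_subgroupOf C _ hTC,
        relIndex_subgroupOf_inf] at h
      have hle1 : centralizer (TG S d : Set G) ≤ normalizer (TG S d : Set G) ⊓ C :=
        le_inf (Subgroup.centralizer_le_normalizer _) hCTC
      have hmul := Subgroup.relIndex_mul_relIndex (H := centralizer (TG S d : Set G))
        (K := normalizer (TG S d : Set G) ⊓ C) (L := normalizer (TG S d : Set G))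
        hle1 inf_le_left
      rw [h, h₁] at hmul
      have h1 : (normalizer (TG S d : Set G) ⊓ C).relIndex
          (normalizer (TG S d : Set G)) = 1 := by omega
      have hNC : normalizer (TG S d : Set G) ≤ C :=
        (Subgroup.relIndex_eq_one.mp h1).trans inf_le_right
      obtain ⟨g, hgN, j, hgj⟩ := exists_fusion_z S d (TG S d) (isKleinFour_TG S d) (TG_le S d)
        (by rw [h₁]; norm_num) (by rw [h₁]; norm_num)
      have hgC := hNC hgN
      rw [hC, mem_centralizer_iff] at hgC
      have h4 := hgC x rfl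
      have h5 : g * x * g⁻¹ = x := by
        calc g * x * g⁻¹ = (g * x) * g⁻¹ := rfl
          _ = (x * g) * g⁻¹ := by rw [h4]
          _ = x := by group
      rw [hxd, hgj] at h5
      exact inv2_ne_z d j (Subtype.ext h5)
  -- apply S1205 in `C`
  have h5 := Cfsg.Agent.S1205.result R hRq _ hTk hTR _ hQR eQR h₁C h₂C
  obtain ⟨⟨K, hK, hKi, hKq, hKn⟩, -, -⟩ := h5
  refine ⟨R, Nat.card_congr eRS.toEquiv, ⟨K, hK, ⟨1, by rw [hKi, pow_one]⟩, hKn, hKq⟩, ?_⟩
  -- weak closure: the centre of `R` is central in `C`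
  intro Z₀ hZ₀
  have hcen : ∀ c ∈ Z₀, ∀ g : ↥C, g * c * g⁻¹ = c := by
    intro c hc g
    have h3 : (Subgroup.center ↥(R : Subgroup ↥C)).map (R : Subgroup ↥C).subtype =
        ((Subgroup.center ↥(S : Subgroup G)).map (S : Subgroup G).subtype).subgroupOf C :=
      center_map_subgroupOf C (S : Subgroup G) hSC
    have h4 := hZ₀ hc
    rw [h3, mem_subgroupOf] at h4
    obtain ⟨s, hs, hsc⟩ := h4
    have hsc' : (s : G) = (c : G) := hsc
    apply Subtype.ext
    show (g : G) * (c : G) * (g : G)⁻¹ = (c : G)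
    rcases (QD.mem_center_iff d s).mp hs with h0 | h0
    · rw [← hsc', h0]; simp
    · rw [← hsc', h0, ← hxd]
      have hg : (g : G) ∈ Subgroup.centralizer ({x} : Set G) := g.2
      rw [mem_centralizer_iff] at hg
      have h6 := hg x rfl
      calc (g : G) * x * (g : G)⁻¹ = ((g : G) * x) * (g : G)⁻¹ := rfl
        _ = (x * (g : G)) * (g : G)⁻¹ := by rw [h6]
        _ = x := by group
  refine ⟨hZ₀.trans (Subgroup.map_subtype_le _), ?_⟩
  intro g _
  ext w
  rw [Subgroup.mem_map]
  constructor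
  · rintro ⟨c, hc, rfl⟩
    show g * c * g⁻¹ ∈ Z₀
    rw [hcen c hc g]; exact hc
  · intro hw
    exact ⟨w, hw, hcen w hw g⟩

end Cfsg.Agent.Helper22.QDS
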