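import Mathlib

set_option autoImplicit false

namespace Cfsg.Agent.Helper22

variable {α : Type*}

/-- A permutation commuting with a transitive set of permutations and fixing a point is trivial. -/
theorem perm_eq_one_of_commute_of_fixed {H : Subgroup (Equiv.Perm α)} {a : α}
    (ht : ∀ b, ∃ h ∈ H, h a = b) {c : Equiv.Perm α} (hc : ∀ h ∈ H, c * h = h * c)
    (ha : c a = a) : c = 1 := by
  ext b
  obtain ⟨h, hh, rfl⟩ := ht b
  have h1 : (c * h) a = (h * c) a := by rw [hc h hh]
  simp only [Equiv.Perm.coe_mul, Function.comp_apply] at h1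
  rw [h1, ha]
  rfl

/-- If `K` centralizes `H` and both are transitive then `K` is the full centralizer of `H`. -/
theorem centralizer_eq_of_le_of_transitive {H K : Subgroup (Equiv.Perm α)} (a : α)
    (hH : ∀ b, ∃ h ∈ H, h a = b) (hK : ∀ b, ∃ k ∈ K, k a = b)
    (hKH : K ≤ Subgroup.centralizer (H : Set (Equiv.Perm α))) :
    Subgroup.centralizer (H : Set (Equiv.Perm α)) = K := by
  refine le_antisymm ?_ hKH
  intro c hc
  obtain ⟨k, hk, hka⟩ := hK (c a)
  have h1 : k⁻¹ * c ∈ Subgroup.centralizer (H : Set (Equiv.Perm α)) :=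
    Subgroup.mul_mem _ (Subgroup.inv_mem _ (hKH hk)) hc
  have h2 : k⁻¹ * c = 1 := by
    apply perm_eq_one_of_commute_of_fixed hH
    · intro h hh
      exact (Subgroup.mem_centralizer_iff.mp h1 h hh).symm
    · simp only [Equiv.Perm.coe_mul, Function.comp_apply]
      rw [← hka]
      simp
  have h3 : c = k := by
    have := congrArg (fun x => k * x) h2
    simpa using this
  rw [h3]
  exact hk

section sub

variable (G : Subgroup (Equiv.Perm α)) (M : Subgroup G)

/-- Transitivity of a subgroup of a permutation group, read in `Equiv.Perm α`. -/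
theorem exists_mem_map_apply_eq [hMt : MulAction.IsPretransitive M α] (a b : α) :
    ∃ h ∈ (M.map G.subtype : Subgroup (Equiv.Perm α)), h a = b := by
  obtain ⟨m, hm⟩ := hMt.exists_smul_eq a b
  exact ⟨((m : G) : Equiv.Perm α), ⟨(m : G), m.2, rfl⟩, hm⟩

/-- Two normal subgroups with trivial intersection: images in `Perm α` centralize each other. -/
theorem map_le_centralizer_map_of_disjoint (N : Subgroup G) [hM : M.Normal] [hN : N.Normal]
    (hd : M ⊓ N = ⊥) :
    (N.map G.subtype : Subgroup (Equiv.Perm α)) ≤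
      Subgroup.centralizer ((M.map G.subtype : Subgroup (Equiv.Perm α)) : Set (Equiv.Perm α)) := by
  rintro _ ⟨n, hn, rfl⟩
  rw [Subgroup.mem_centralizer_iff]
  rintro _ ⟨m, hm, rfl⟩
  have hc : Commute m n :=
    Subgroup.commute_of_normal_of_disjoint M N hM hN (disjoint_iff.mpr hd) m n hm hn
  have := congrArg G.subtype hc.eq
  simpa using this

/-- If the image of `N` in `Perm α` lies in the image of `M`, then `N ≤ M`. -/
theorem le_of_map_subtype_le (N : Subgroup G)
    (h : (N.map G.subtype : Subgroup (Equiv.Perm α)) ≤ M.map G.subtype) : N ≤ M := by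
  intro n hn
  obtain ⟨m, hm, hmn⟩ := h ⟨n, hn, rfl⟩
  have : m = n := G.subtype_injective hmn
  rw [← this]
  exact hm

/-- Semiregularity of a subgroup whose image centralizes a transitive subgroup. -/
theorem stabilizer_eq_bot_of_le_centralizer (N : Subgroup G) [hMt : MulAction.IsPretransitive M α]
    (hNM : (N.map G.subtype : Subgroup (Equiv.Perm α)) ≤
      Subgroup.centralizer ((M.map G.subtype : Subgroup (Equiv.Perm α)) : Set (Equiv.Perm α)))
    (a : α) : MulAction.stabilizer N a = ⊥ := by
  rw [eq_bot_iff]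
  intro n hn
  rw [MulAction.mem_stabilizer_iff] at hn
  have hn' : ((n : G) : Equiv.Perm α) a = a := hn
  have h1 : ((n : G) : Equiv.Perm α) ∈
      Subgroup.centralizer ((M.map G.subtype : Subgroup (Equiv.Perm α)) : Set (Equiv.Perm α)) :=
    hNM ⟨(n : G), n.2, rfl⟩
  have h2 : ((n : G) : Equiv.Perm α) = 1 := by
    apply perm_eq_one_of_commute_of_fixed (exists_mem_map_apply_eq G M a)
    · intro h hh
      exact (Subgroup.mem_centralizer_iff.mp h1 h hh).symm
    · exact hn'
  rw [Subgroup.mem_bot]
  apply Subtype.ext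
  apply Subtype.ext
  exact h2

end sub

end Cfsg.Agent.Helper22
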