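import Mathlib
import Cfsg.Agent.Lib.Helper24.S3ADefs

/-!
# S2858, chapter F3 (helper22): the definitions used by the F3 skeleton
(on top of helper24's `S3ADefs`).
-/

set_option autoImplicit false

namespace Cfsg.Agent.Helper22.S3A

open MulAction Cfsg.Agent.Helper24.S3A

variable (G : Type*) [Group G] {V : Type*} [MulAction G V] (Γ : SimpleGraph V)

/-- `|Z_δ : Ω₁Z(G_δμ)| = 2` for all neighbours `μ` of `δ` -/
def IdxTwoAt (δ : V) : Prop :=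
  ∀ μ : V, Γ.Adj δ μ → (OZ (Ge G δ μ)).relIndex (Zv G Γ δ) = 2

/-- `R(δ→μ) = [Z_δ, G_δμ]` (of order 2 once `IdxTwoAt δ`; its generator is `w(δ→μ)`) -/
def Rk (δ μ : V) : Subgroup G := ⁅Zv G Γ δ, Ge G δ μ⁆

/-- Case 2 at `α`: `V_α = Z_α Z_μ` for every neighbour `μ` -/
def Case2 (α : V) : Prop :=
  ∀ μ ν : V, Γ.Adj α μ → Γ.Adj α ν → Zv G Γ ν ≤ Zv G Γ α ⊔ Zv G Γ μ

/-- `δ` is thin: `Q_δ ∩ Q_μ` does not depend on the neighbour `μ` -/
def Thin (δ : V) : Prop :=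
  ∀ μ ν : V, Γ.Adj δ μ → Γ.Adj δ ν → Qk G Γ δ ⊓ Qk G Γ μ = Qk G Γ δ ⊓ Qk G Γ ν

/-- (G1): Case 1 at every critical pair -/
def AllCase1 : Prop :=
  ∀ (α α' : V) (p : ℕ → V), IsCrit G Γ α α' → IsGeo Γ (critDist G Γ) p → p 0 = α → p (critDist G Γ) = α' →
    ∀ l : V, Γ.Adj α l → l ≠ p 1 → IsCrit G Γ l (p (critDist G Γ - 1))

/-- (G2): Case 2 on the whole class of `α`, and no critical pair starts in the class of the neighbour `l` -/
def AllCase2 (α l : V) : Prop :=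
  Γ.Adj α l ∧ (∃ x : V, IsCrit G Γ α x) ∧ (∀ g : G, Case2 G Γ (g • α)) ∧
    ∀ (g : G) (x : V), ¬ IsCrit G Γ (g • l) x

end Cfsg.Agent.Helper22.S3A
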