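import Cfsg.Agent.Lib.Helper24.S3AG2TB

/-! # S2858, piece G2TB: SHIM (helper22)

helper24 landed `Cfsg/Agent/Lib/Helper24/S3AG2TB.lean` (`tyB_layer_single`, `tyB_layer_prod`) a minute before my
independent proof of the same two theorems under the same names.  To exclude any name clash this file now only
re-exports helper24's file: importing either path gives the same declarations. -/
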