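import Mathlib
import Cfsg.Agent.Lib.Helper23.S63Defs

/-!
# S63-COMM core (helper22): `[A, A] ≤ C_Y(L)`, with the statements of S63-PROD and S63-INTER
(for one `g ∈ L ∖ N(Y)`) as hypotheses.
-/

set_option autoImplicit false
set_option linter.unusedVariables false

namespace Cfsg.Agent.Helper23.S63

open Cfsg
open scoped Pointwise

/-- If `A = Z Z'` with `Z` normal in `A` and `Z'` abelian, then `[A, A] ≤ Z`. -/
theorem s63_comm_aux {G : Type*} [Group G] (A Z Z' : Subgroup G) (hZA : Z ≤ A) (hZ'A : Z' ≤ A)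
    (hZn : ∀ a ∈ A, ∀ z ∈ Z, a * z * a⁻¹ ∈ Z)
    (hZ'c : ∀ x ∈ Z', ∀ y ∈ Z', x * y = y * x)
    (hprod : ∀ a ∈ A, ∃ z ∈ Z, ∃ z' ∈ Z', a = z * z') :
    ∀ a ∈ A, ∀ b ∈ A, a * b * a⁻¹ * b⁻¹ ∈ Z := by
  have hN : (Z.subgroupOf A).Normal := by
    constructor
    intro n hn g
    rw [Subgroup.mem_subgroupOf] at hn ⊢
    simpa using hZn g g.2 n hn
  intro a ha b hb
  obtain ⟨z1, hz1, z1', hz1', rfl⟩ := hprod a ha
  obtain ⟨z2, hz2, z2', hz2', rfl⟩ := hprod b hb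
  have hπ : ∀ (z : G) (hz : z ∈ Z) (z' : G) (hz' : z' ∈ Z'),
      (QuotientGroup.mk (⟨z * z', A.mul_mem (hZA hz) (hZ'A hz')⟩ : ↥A) : ↥A ⧸ Z.subgroupOf A) =
        QuotientGroup.mk (⟨z', hZ'A hz'⟩ : ↥A) := by
    intro z hz z' hz'
    have e : (⟨z * z', A.mul_mem (hZA hz) (hZ'A hz')⟩ : ↥A) =
        (⟨z, hZA hz⟩ : ↥A) * ⟨z', hZ'A hz'⟩ := rfl
    rw [e, QuotientGroup.mk_mul]
    have : (QuotientGroup.mk (⟨z, hZA hz⟩ : ↥A) : ↥A ⧸ Z.subgroupOf A) = 1 := by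
      rw [QuotientGroup.eq_one_iff, Subgroup.mem_subgroupOf]
      exact hz
    rw [this, one_mul]
  have h1 := hπ z1 hz1 z1' hz1'
  have h2 := hπ z2 hz2 z2' hz2'
  set x : ↥A := ⟨z1 * z1', A.mul_mem (hZA hz1) (hZ'A hz1')⟩ with hx
  set y : ↥A := ⟨z2 * z2', A.mul_mem (hZA hz2) (hZ'A hz2')⟩ with hy
  set x' : ↥A := ⟨z1', hZ'A hz1'⟩ with hx'
  set y' : ↥A := ⟨z2', hZ'A hz2'⟩ with hy'
  have hcomm : x' * y' = y' * x' := Subtype.ext (hZ'c z1' hz1' z2' hz2')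
  have hq : (QuotientGroup.mk (x * y * x⁻¹ * y⁻¹) : ↥A ⧸ Z.subgroupOf A) = 1 := by
    rw [QuotientGroup.mk_mul, QuotientGroup.mk_mul, QuotientGroup.mk_mul, QuotientGroup.mk_inv,
      QuotientGroup.mk_inv, h1, h2, ← QuotientGroup.mk_mul, hcomm, QuotientGroup.mk_mul]
    group
  rw [QuotientGroup.eq_one_iff, Subgroup.mem_subgroupOf] at hq
  exact hq

theorem s63_comm_mem_conj {G : Type*} [Group G] (Y : Subgroup G) (g x : G) :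
    x ∈ (MulAut.conj g • Y : Subgroup G) ↔ g⁻¹ * x * g ∈ Y := by
  rw [Subgroup.mem_pointwise_smul_iff_inv_smul_mem]
  simp [MulAut.smul_def]

/-- S63-COMM with PROD and INTER (for the element `g`) as hypotheses. -/
theorem comm_mem_core {G : Type*} [Group G] [Finite G] {L Y A : Subgroup G} (h : Ctx L Y A)
    (g : G) (hg : g ∈ L)
    (hprod : ∀ a ∈ A, ∃ z ∈ Y ⊓ A, ∃ z' ∈ (MulAut.conj g • Y : Subgroup G) ⊓ A, a = z * z')
    (hint : (Y ⊓ A) ⊓ ((MulAut.conj g • Y : Subgroup G) ⊓ A) = Cc L Y) :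
    ∀ a ∈ A, ∀ b ∈ A, a * b * a⁻¹ * b⁻¹ ∈ Cc L Y := by
  have hginv : g⁻¹ ∈ L := L.inv_mem hg
  -- `Z` and `Z'` are normal in `A`
  have hZn : ∀ a ∈ A, ∀ z ∈ Y ⊓ A, a * z * a⁻¹ ∈ Y ⊓ A := by
    intro a ha z hz
    exact ⟨h.AY a ha z hz.1, A.mul_mem (A.mul_mem ha hz.2) (A.inv_mem ha)⟩
  have hZ'n : ∀ a ∈ A, ∀ z ∈ (MulAut.conj g • Y : Subgroup G) ⊓ A,
      a * z * a⁻¹ ∈ (MulAut.conj g • Y : Subgroup G) ⊓ A := by
    intro a ha z hz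
    refine Subgroup.mem_inf.mpr ⟨?_, A.mul_mem (A.mul_mem ha hz.2) (A.inv_mem ha)⟩
    have hz1 := (s63_comm_mem_conj Y g z).mp hz.1
    rw [s63_comm_mem_conj]
    have ha' : g⁻¹ * a * g ∈ A := by
      have := h.Anorm g⁻¹ hginv a ha
      simpa using this
    have := h.AY _ ha' _ hz1
    have e : g⁻¹ * (a * z * a⁻¹) * g = g⁻¹ * a * g * (g⁻¹ * z * g) * (g⁻¹ * a * g)⁻¹ := by group
    rw [e]
    exact this
  -- both are abelian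
  have hZc : ∀ x ∈ Y ⊓ A, ∀ y ∈ Y ⊓ A, x * y = y * x := fun x hx y hy => h.Ycomm x hx.1 y hy.1
  have hZ'c : ∀ x ∈ (MulAut.conj g • Y : Subgroup G) ⊓ A,
      ∀ y ∈ (MulAut.conj g • Y : Subgroup G) ⊓ A, x * y = y * x := by
    intro x hx y hy
    have hx1 := (s63_comm_mem_conj Y g x).mp hx.1
    have hy1 := (s63_comm_mem_conj Y g y).mp hy.1
    have := h.Ycomm _ hx1 _ hy1
    have e1 : x * y = g * ((g⁻¹ * x * g) * (g⁻¹ * y * g)) * g⁻¹ := by group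
    have e2 : y * x = g * ((g⁻¹ * y * g) * (g⁻¹ * x * g)) * g⁻¹ := by group
    rw [e1, e2, this]
  -- the product in the other order
  have hprod' : ∀ a ∈ A, ∃ z' ∈ (MulAut.conj g • Y : Subgroup G) ⊓ A, ∃ z ∈ Y ⊓ A, a = z' * z := by
    intro a ha
    obtain ⟨z, hz, z', hz', e⟩ := hprod a⁻¹ (A.inv_mem ha)
    refine ⟨z'⁻¹, Subgroup.inv_mem _ hz', z⁻¹, Subgroup.inv_mem _ hz, ?_⟩
    rw [← mul_inv_rev, ← e, inv_inv]
  intro a ha b hb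
  rw [← hint]
  exact ⟨s63_comm_aux A (Y ⊓ A) ((MulAut.conj g • Y : Subgroup G) ⊓ A) inf_le_right inf_le_right
      hZn hZ'c hprod a ha b hb,
    s63_comm_aux A ((MulAut.conj g • Y : Subgroup G) ⊓ A) (Y ⊓ A) inf_le_right inf_le_right
      hZ'n hZc hprod' a ha b hb⟩

end Cfsg.Agent.Helper23.S63
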