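import Mathlib
import Cfsg.Agent.Lib.Helper23.S63Defs
import Cfsg.Agent.Lib.Helper22.S63COMMCore
import Cfsg.Agent.Lib.Helper25.S63PROD
import Cfsg.Agent.Lib.Helper1.S63INTER

/-!
# S2863 piece S63-COMM (helper22): `[A, A] ≤ C_Y(L)`
(wrapper of `comm_mem_core` with S63-PROD `prod_eq` and S63-INTER `inter_eq`)
-/

set_option autoImplicit false
set_option linter.unusedVariables false

namespace Cfsg.Agent.Helper23.S63

open Cfsg
open scoped Pointwise

/-- PIECE S63-COMM -/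
theorem comm_mem {G : Type*} [Group G] [Finite G] {L Y A : Subgroup G} (h : Ctx L Y A) :
    ∀ a ∈ A, ∀ b ∈ A, a * b * a⁻¹ * b⁻¹ ∈ Cc L Y := by
  obtain ⟨g, hg, hgN⟩ := SetLike.not_le_iff_exists.mp h.Nlt
  exact comm_mem_core h g hg (prod_eq h g hg hgN) (inter_eq h g hg hgN)

end Cfsg.Agent.Helper23.S63
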