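import Mathlib
import Cfsg.Agent.Lib.Helper23.SlhDefs

/-!
# S3050 PIECE SLH-MFIN: coordinates for the module (exists_phi)
-/

set_option autoImplicit false
set_option linter.unusedSectionVars false
set_option linter.unusedVariables false

namespace Cfsg.Agent.Helper23.Slh

open Cfsg.Agent.Helper12.NatMod

local notation "SL2" => Matrix.SpecialLinearGroup (Fin 2)

section ModuleM

variable {F : Type*} [Field F] [CharP F 2] {M : Type*} [AddCommGroup M] [DistribMulAction (SL2 F) M]

/-- swap of the two index types, as an additive equivalence -/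
def slh_mfin_swap (k : ℕ) (F : Type*) [Field F] : (Fin 2 → Fin k → F) ≃+ (Fin k → Fin 2 → F) where
  toFun f i j := f j i
  invFun f j i := f i j
  left_inv _ := rfl
  right_inv _ := rfl
  map_add' _ _ := rfl

/-- the set of elements acting on the coordinates by the matrix is a subgroup -/
def slh_mfin_good {k : ℕ} (φ : M ≃+ (Fin k → Fin 2 → F)) : Subgroup (SL2 F) where
  carrier := {g | ∀ (m : M) (i : Fin k),
    φ (g • m) i = (g : Matrix (Fin 2) (Fin 2) F).mulVec (φ m i)}
  one_mem' := by
    intro m i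
    rw [one_smul, Matrix.SpecialLinearGroup.coe_one, Matrix.one_mulVec]
  mul_mem' := by
    intro g h hg hh m i
    rw [mul_smul, hg, hh, Matrix.SpecialLinearGroup.coe_mul, Matrix.mulVec_mulVec]
  inv_mem' := by
    intro g hg m i
    have h1 := hg (g⁻¹ • m) i
    rw [smul_inv_smul] at h1
    rw [h1, Matrix.mulVec_mulVec, ← Matrix.SpecialLinearGroup.coe_mul, inv_mul_cancel,
      Matrix.SpecialLinearGroup.coe_one, Matrix.one_mulVec]

/-- PIECE SLH-MFIN. -/
theorem exists_phi {W : Type*} [AddCommGroup W] [Finite W] (θ : M ≃+ (Fin 2 → W))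
    (b : F →+* AddMonoid.End W)
    (hu : ∀ (c : F) (m : M), θ (uu c • m) 0 = θ m 0 + b c (θ m 1) ∧ θ (uu c • m) 1 = θ m 1)
    (hl : ∀ (c : F) (m : M), θ (ll c • m) 0 = θ m 0 ∧ θ (ll c • m) 1 = b c (θ m 0) + θ m 1) :
    ∃ (k : ℕ) (φ : M ≃+ (Fin k → Fin 2 → F)), ∀ (g : SL2 F) (m : M) (i : Fin k),
      φ (g • m) i = (g : Matrix (Fin 2) (Fin 2) F).mulVec (φ m i) := by
  let _ : Module F W := Module.compHom W b
  have hsm : ∀ (c : F) (w : W), c • w = b c w := fun c w => rfl
  have : Module.Finite F W := Module.Finite.of_finite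
  let e : W ≃ₗ[F] (Fin (Module.finrank F W) → F) := (Module.finBasis F W).equivFun
  let φ : M ≃+ (Fin (Module.finrank F W) → Fin 2 → F) :=
    (θ.trans (AddEquiv.piCongrRight (fun _ : Fin 2 => e.toAddEquiv))).trans
      (slh_mfin_swap (Module.finrank F W) F)
  have hφ : ∀ (m : M) (i : Fin (Module.finrank F W)) (j : Fin 2), φ m i j = e (θ m j) i :=
    fun m i j => rfl
  refine ⟨Module.finrank F W, φ, ?_⟩
  have htop : slh_mfin_good φ = ⊤ := by
    apply eq_top_of_uu_ll
    · intro c m i
      funext j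
      rw [hφ]
      fin_cases j
      · show e (θ (uu c • m) 0) i = _
        rw [(hu c m).1, map_add, ← hsm, map_smul]
        simp [Matrix.mulVec, dotProduct, hφ, Fin.sum_univ_two]
      · show e (θ (uu c • m) 1) i = _
        rw [(hu c m).2]
        simp [Matrix.mulVec, dotProduct, hφ, Fin.sum_univ_two]
    · intro c m i
      funext j
      rw [hφ]
      fin_cases j
      · show e (θ (ll c • m) 0) i = _
        rw [(hl c m).1]
        simp [Matrix.mulVec, dotProduct, hφ, Fin.sum_univ_two]
      · show e (θ (ll c • m) 1) i = _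
        rw [(hl c m).2, map_add, ← hsm, map_smul]
        simp [Matrix.mulVec, dotProduct, hφ, Fin.sum_univ_two]
  intro g m i
  have hg : g ∈ slh_mfin_good φ := by rw [htop]; exact Subgroup.mem_top g
  exact hg m i

end ModuleM

end Cfsg.Agent.Helper23.Slh
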