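import Mathlib
import Cfsg.Prelude.Def_Local
import Cfsg.Prelude.Def_SolvableStructure
import Cfsg.Agent.Lib.Helper22.SchPLDefs
import Cfsg.Agent.Lib.Helper22.PPrimeCore
import Cfsg.Agent.Lib.Helper23.PSolvable
import Cfsg.Agent.Lib.Helper19.PLength
import Cfsg.Agent.Lib.Helper5.PLenOneA

/-!
# S4394 piece IND: the induction on the order
-/

set_option autoImplicit false
open Pointwise

namespace Cfsg.Agent.Helper22.SchPL

open Cfsg

theorem ind_eq_one_of_pow {G : Type*} [Group G] {p : ℕ} {x : G} {k m : ℕ}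
    (h1 : x ^ p ^ k = 1) (h2 : x ^ m = 1) (hm : m.Coprime p) : x = 1 := by
  have h3 : (m.gcd (p ^ k)) = 1 := Nat.Coprime.pow_right k hm
  have h4 := (pow_gcd_eq_one (a := x) (m := m) (n := p ^ k)).mpr ⟨h2, h1⟩
  rwa [h3, pow_one] at h4

theorem ind_pow_card {G : Type*} [Group G] (U : Subgroup G) [Finite U] {x : G} (hx : x ∈ U) :
    x ^ Nat.card U = 1 := by
  have h : (⟨x, hx⟩ : U) ^ Nat.card U = 1 := pow_card_eq_one'
  have h2 : ((⟨x, hx⟩ : U) ^ Nat.card U : U).1 = (1 : U).1 := by rw [h]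
  rwa [Subgroup.coe_pow, Subgroup.coe_one] at h2

theorem ind_pCore_isPGroup (p : ℕ) (G : Type*) [Group G] : IsPGroup p (pCore p G) :=
  Sylow.sSup_of_normal _ (fun _ h => h.2) (fun _ h => h.1)

theorem ind_pCore_normal (p : ℕ) (G : Type*) [Group G] : (pCore p G).Normal :=
  Subgroup.sSup_normal _ (fun _ hK => hK.1)

/-- a normal subgroup `U` of `H ≥ O_p(G)` of order prime to `p` is trivial, if `C_G(O_p(G)) ≤ O_p(G)`. -/
theorem ind_normal_coprime_eq_bot {G : Type*} [Group G] [Finite G] {p : ℕ} [Fact p.Prime]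
    (hcen : Subgroup.centralizer (pCore p G : Set G) ≤ pCore p G)
    (H : Subgroup G) (hFH : pCore p G ≤ H) (U : Subgroup ↥H) [hU : U.Normal]
    (hcop : (Nat.card U).Coprime p) : U = ⊥ := by
  have hFp := ind_pCore_isPGroup p G
  have hFn := ind_pCore_normal p G
  rw [eq_bot_iff]
  intro u hu
  rw [Subgroup.mem_bot]
  have hupow : u ^ Nat.card U = 1 := ind_pow_card U hu
  -- `u` centralizes `F`
  have hucen : (u : G) ∈ Subgroup.centralizer (pCore p G : Set G) := by
    rw [Subgroup.mem_centralizer_iff]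
    intro f hf
    -- commutator c = u f u⁻¹ f⁻¹
    have hcF : (u : G) * f * (u : G)⁻¹ * f⁻¹ ∈ pCore p G :=
      (pCore p G).mul_mem (hFn.conj_mem f hf u) ((pCore p G).inv_mem hf)
    have hcU : u * ⟨f, hFH hf⟩ * u⁻¹ * (⟨f, hFH hf⟩ : ↥H)⁻¹ ∈ U := by
      have h1 : (⟨f, hFH hf⟩ : ↥H) * u⁻¹ * (⟨f, hFH hf⟩ : ↥H)⁻¹ ∈ U :=
        hU.conj_mem _ (U.inv_mem hu) _
      have h2 := U.mul_mem hu h1
      convert h2 using 1
      group
    have hcpow : ((u : G) * f * (u : G)⁻¹ * f⁻¹) ^ Nat.card U = 1 := by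
      have h5 := ind_pow_card U hcU
      have := congrArg Subtype.val h5
      simpa using this
    obtain ⟨k, hk⟩ := hFp ⟨_, hcF⟩
    have hk' : ((u : G) * f * (u : G)⁻¹ * f⁻¹) ^ p ^ k = 1 := by
      have := congrArg Subtype.val hk
      simpa using this
    have hc1 := ind_eq_one_of_pow hk' hcpow hcop
    have : (u : G) * f = f * u := by
      have h3 : (u : G) * f * (u : G)⁻¹ * f⁻¹ * (f * u) = f * u := by rw [hc1, one_mul]
      rw [← h3]; group
    exact this.symm
  have huF := hcen hucen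
  obtain ⟨k, hk⟩ := hFp ⟨_, huF⟩
  have hk' : (u : G) ^ p ^ k = 1 := by
    have := congrArg Subtype.val hk
    simpa using this
  have hupow' : (u : G) ^ Nat.card U = 1 := by
    have := congrArg Subtype.val hupow
    simpa using this
  have := ind_eq_one_of_pow hk' hupow' hcop
  exact Subtype.ext this

theorem ind_card_lt {G : Type*} [Group G] [Finite G] (H : Subgroup G) (hH : H ≠ ⊤) :
    Nat.card H < Nat.card G := by
  by_contra hc
  push Not at hc
  exact hH (Subgroup.eq_top_of_card_eq H (le_antisymm (Subgroup.card_le_card_group H) hc))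

/-- Piece IND. -/
theorem plength_main.{u} (p : ℕ) [Fact p.Prime]
    (hcore : ∀ (G : Type u) [Group G] [Finite G], IsPSolvable p G → pPrimeCore p G = ⊥ →
      ∀ Q : Sylow p G, SEData p ↥(Q : Subgroup G) →
      (∀ H : Subgroup G, (Q : Subgroup G) ≤ H → H ≠ ⊤ →
        H ≤ Subgroup.normalizer ((Q : Subgroup G) : Set G)) → (Q : Subgroup G).Normal)
    (htrans : ∀ (A B : Type u) [Group A] [Group B], (A ≃* B) → SEData p A → SEData p B) :
    ∀ (n : ℕ) (G : Type u) [Group G] [Finite G], Nat.card G = n → IsPSolvable p G →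
      ∀ Q : Sylow p G, SEData p ↥(Q : Subgroup G) → PLengthLE p 1 G := by
  intro n
  induction n using Nat.strong_induction_on with
  | _ n ih =>
  intro G _ _ hn hG Q hse
  by_cases hO : pPrimeCore p G = ⊥
  · -- `O_{p'}(G) = 1`
    have hcen : Subgroup.centralizer (pCore p G : Set G) ≤ pCore p G :=
      Cfsg.Agent.Helper23.PSolv.centralizer_pCore_le hG hO
    have hFQ : pCore p G ≤ (Q : Subgroup G) := Cfsg.Agent.Helper23.PSolv.pCore_le_sylow Q
    have hmin : ∀ H : Subgroup G, (Q : Subgroup G) ≤ H → H ≠ ⊤ →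
        H ≤ Subgroup.normalizer ((Q : Subgroup G) : Set G) := by
      intro H hQH hHtop
      have hlt : Nat.card H < n := hn ▸ ind_card_lt H hHtop
      have hHsol : IsPSolvable p H := Cfsg.Agent.Helper23.PSolv.isPSolvable_subgroup H hG
      have hse' : SEData p ↥((Q.subtype hQH : Sylow p H) : Subgroup H) :=
        htrans _ _ (Subgroup.subgroupOfEquivOfLe hQH).symm hse
      have hpl : PLengthLE p 1 H := ih (Nat.card H) hlt H rfl hHsol (Q.subtype hQH) hse'
      have hsup := Cfsg.Agent.Helper5.PLenOne.normalizer_sup_eq_top_of_plengthLE (Q.subtype hQH) hpl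
      have hU1 : (upperPSeries p H 1).1 = ⊥ :=
        ind_normal_coprime_eq_bot hcen H (le_trans hFQ hQH) _
          (Cfsg.Agent.Helper19.PLen.card_upperPSeries_one_coprime p)
      rw [hU1, sup_bot_eq] at hsup
      intro h hh
      have hmem : (⟨h, hh⟩ : ↥H) ∈
          Subgroup.normalizer (((Q.subtype hQH : Sylow p H) : Subgroup H) : Set H) := by
        rw [hsup]; exact Subgroup.mem_top _
      rw [Subgroup.mem_normalizer_iff] at hmem ⊢
      intro x
      constructor
      · intro hx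
        have := (hmem ⟨x, hQH hx⟩).mp (by
          show (⟨x, hQH hx⟩ : ↥H) ∈ (Q : Subgroup G).subgroupOf H
          rw [Subgroup.mem_subgroupOf]; exact hx)
        have h2 : (⟨h, hh⟩ * ⟨x, hQH hx⟩ * (⟨h, hh⟩ : ↥H)⁻¹ : ↥H) ∈ (Q : Subgroup G).subgroupOf H :=
          this
        rw [Subgroup.mem_subgroupOf] at h2
        simpa using h2
      · intro hx
        have hxH : x ∈ H := by
          have h1 : h⁻¹ * (h * x * h⁻¹) * h ∈ H :=
            H.mul_mem (H.mul_mem (H.inv_mem hh) (hQH hx)) hh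
          convert h1 using 1
          group
        have h2 : (⟨h, hh⟩ * ⟨x, hxH⟩ * (⟨h, hh⟩ : ↥H)⁻¹ : ↥H) ∈ (Q : Subgroup G).subgroupOf H := by
          rw [Subgroup.mem_subgroupOf]
          simpa using hx
        have := (hmem ⟨x, hxH⟩).mpr h2
        have h3 : (⟨x, hxH⟩ : ↥H) ∈ (Q : Subgroup G).subgroupOf H := this
        rw [Subgroup.mem_subgroupOf] at h3
        exact h3
    have hQn : (Q : Subgroup G).Normal := hcore G hG hO Q hse hmin
    have h1 : PLengthLE p 1 ↥(Q : Subgroup G) :=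
      Cfsg.Agent.Helper19.PLen.plengthLE_one_of_isPGroup Q.2
    have h0 : PLengthLE p 0 (G ⧸ (Q : Subgroup G)) := by
      apply Cfsg.Agent.Helper19.PLen.plengthLE_zero_of_coprime
      have : Nat.card (G ⧸ (Q : Subgroup G)) = (Q : Subgroup G).index := rfl
      rw [this, Nat.coprime_comm, Nat.Prime.coprime_iff_not_dvd Fact.out]
      exact Q.not_dvd_index
    exact Cfsg.Agent.Helper19.PLen.plengthLE_add (Q : Subgroup G) h1 h0
  · -- `O_{p'}(G) ≠ 1`: pass to the quotient
    have hNn : (pPrimeCore p G).Normal := Cfsg.Agent.Helper22.pPrimeCore_normal p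
    have hNc : (Nat.card (pPrimeCore p G)).Coprime p := Cfsg.Agent.Helper22.card_pPrimeCore_coprime p
    have hlt : Nat.card (G ⧸ pPrimeCore p G) < n := by
      rw [← hn, ← Subgroup.card_mul_index (pPrimeCore p G)]
      have h1 : 1 < Nat.card (pPrimeCore p G) := by
        rw [Subgroup.one_lt_card_iff_ne_bot]; exact hO
      have h2 : 0 < (pPrimeCore p G).index := Nat.pos_of_ne_zero Subgroup.index_ne_zero_of_finite
      have : Nat.card (G ⧸ pPrimeCore p G) = (pPrimeCore p G).index := rfl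
      rw [this]
      nlinarith
    have hsurj := QuotientGroup.mk'_surjective (pPrimeCore p G)
    have hsol : IsPSolvable p (G ⧸ pPrimeCore p G) :=
      Cfsg.Agent.Helper23.PSolv.isPSolvable_quotient _ hG
    -- the isomorphism `Q ≃* image of Q`
    let f : ↥(Q : Subgroup G) →* ↥((Q : Subgroup G).map (QuotientGroup.mk' (pPrimeCore p G))) :=
      (QuotientGroup.mk' (pPrimeCore p G)).subgroupMap (Q : Subgroup G)
    have hfs : Function.Surjective f := MonoidHom.subgroupMap_surjective _ _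
    have hfi : Function.Injective f := by
      rw [injective_iff_map_eq_one]
      intro x hx
      have h1 : ((f x : G ⧸ pPrimeCore p G)) = 1 := by rw [hx]; rfl
      have h2 : (QuotientGroup.mk' (pPrimeCore p G)) (x : G) = 1 := h1
      rw [QuotientGroup.mk'_apply, QuotientGroup.eq_one_iff] at h2
      have hpw : (x : G) ^ Nat.card (pPrimeCore p G) = 1 := ind_pow_card _ h2
      obtain ⟨k, hk⟩ := Q.2 x
      have hk' : (x : G) ^ p ^ k = 1 := by
        have := congrArg Subtype.val hk
        simpa using this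
      exact Subtype.ext (ind_eq_one_of_pow hk' hpw hNc)
    let e : ↥(Q : Subgroup G) ≃* ↥((Q : Subgroup G).map (QuotientGroup.mk' (pPrimeCore p G))) :=
      MulEquiv.ofBijective f ⟨hfi, hfs⟩
    have hse' : SEData p ↥((Q.mapSurjective hsurj : Sylow p (G ⧸ pPrimeCore p G)) :
        Subgroup (G ⧸ pPrimeCore p G)) := htrans _ _ e hse
    have hpl := ih _ hlt (G ⧸ pPrimeCore p G) rfl hsol (Q.mapSurjective hsurj) hse'
    have h0 : PLengthLE p 0 ↥(pPrimeCore p G) :=
      Cfsg.Agent.Helper19.PLen.plengthLE_zero_of_coprime hNc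
    have := Cfsg.Agent.Helper19.PLen.plengthLE_add (pPrimeCore p G) h0 hpl
    simpa using this

end Cfsg.Agent.Helper22.SchPL
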