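import Mathlib
import Cfsg.Agent.Lib.Helper22.SchPLDefs

/-!
# S4394 piece TRANS: transport of `SEData` along a group isomorphism
-/

set_option autoImplicit false

namespace Cfsg.Agent.Helper22.SchPL

theorem trans_mem_center_iff {Q Q' : Type*} [Group Q] [Group Q'] (e : Q ≃* Q') (x : Q) :
    e x ∈ Subgroup.center Q' ↔ x ∈ Subgroup.center Q := by
  rw [Subgroup.mem_center_iff, Subgroup.mem_center_iff]
  constructor
  · intro h g
    apply e.injective
    rw [map_mul, map_mul]
    exact h (e g)
  · intro h g
    obtain ⟨g, rfl⟩ := e.surjective g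
    rw [← map_mul, ← map_mul, h g]

/-- Piece TRANS. -/
theorem SEData.of_mulEquiv {p : ℕ} {Q Q' : Type*} [Group Q] [Group Q'] (e : Q ≃* Q')
    (h : SEData p Q) : SEData p Q' := by
  refine ⟨?_, ?_, ?_, ?_, ?_, ?_⟩
  · obtain ⟨a, b, hab⟩ := h.nonab
    refine ⟨e a, e b, fun hc => hab ?_⟩
    apply e.injective
    rw [map_mul, map_mul]
    exact hc
  · intro a b
    obtain ⟨a, rfl⟩ := e.surjective a
    obtain ⟨b, rfl⟩ := e.surjective b
    have := h.comm_mem a b
    rw [← trans_mem_center_iff e] at this
    simpa using this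
  · intro u hu z hz
    obtain ⟨u, rfl⟩ := e.surjective u
    obtain ⟨z, rfl⟩ := e.surjective z
    rw [trans_mem_center_iff] at hu hz
    obtain ⟨v, hv⟩ := h.camina u hu z hz
    refine ⟨e v, ?_⟩
    rw [← hv]
    simp
  · intro v
    obtain ⟨v, rfl⟩ := e.surjective v
    have := h.pow_mem v
    rw [← trans_mem_center_iff e] at this
    simpa using this
  · intro hc
    apply h.small3
    rw [← hc]
    exact Nat.card_congr e.toEquiv
  · intro hc hp H hH
    have hc' : Nat.card Q = p ^ 3 := by
      rw [← hc]
      exact Nat.card_congr e.toEquiv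
    have hidx : (H.comap e.toMonoidHom).index = 2 := by
      rw [Subgroup.index_comap_of_surjective _ e.surjective]
      exact hH
    have hcyc := h.small2 hc' hp (H.comap e.toMonoidHom) hidx
    exact isCyclic_of_surjective (e.toMonoidHom.subgroupComap H)
      (MonoidHom.subgroupComap_surjective_of_surjective e.toMonoidHom H e.surjective)
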