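import Mathlib
import Cfsg.Prelude.Def_Local
import Cfsg.Prelude.Def_SolvableStructure
import Cfsg.Agent.Lib.Helper22.SchPLDefs
import Cfsg.Agent.Lib.Helper7.SchPLSCHA
import Cfsg.Agent.Lib.Helper21.SchPLB0
import Cfsg.Agent.Lib.Helper21.SchPLB1
import Cfsg.Agent.Lib.Helper16.SchPLB2
import Cfsg.Agent.Lib.Helper21.SchPLB3A
import Cfsg.Agent.Lib.Helper16.SchPLB3B
import Cfsg.Agent.Lib.Helper25.SchPLB4
import Cfsg.Agent.Lib.Helper22.SchPLTRANS
import Cfsg.Agent.Lib.Helper22.SchPLBRIDGE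
import Cfsg.Agent.Lib.Helper21.SchPLP5
import Cfsg.Agent.Lib.Helper20.SchPLZ
import Cfsg.Agent.Lib.Helper20.SchPLTI
import Cfsg.Agent.Lib.Helper20.SchPLCYC
import Cfsg.Agent.Lib.Helper7.SchPLQUOT
import Cfsg.Agent.Lib.Helper25.SchPLDER
import Cfsg.Agent.Lib.Helper16.SchPLSMALL
import Cfsg.Agent.Lib.Helper22.SchPLIND
import Cfsg.Agent.Lib.Helper23.PSolvable
import Cfsg.Agent.Lib.Helper18.PSolvLin2

/-!
# S4394: assemblies
-/

set_option autoImplicit false
open Pointwise

namespace Cfsg.Agent.Helper22.SchPL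

open Cfsg

section abstract
variable {p q : ℕ} [Fact p.Prime] {P : Type*} [Group P] [Finite P] {α : MulAut P}

theorem SchAct.seData (h : SchAct p q P α) (hP : IsPGroup p P) :
    (∀ a b : P, a * b = b * a) ∨ SEData p P := by
  by_cases hab : ∀ a b : P, a * b = b * a
  · left; exact hab
  · right
    push Not at hab
    obtain ⟨a, b, hab⟩ := hab
    have hnab : ∃ a b : P, a * b ≠ b * a := ⟨a, b, hab⟩
    have hgen := h.closure_eq_top hP
    have hB1 : ∀ (A : Subgroup P) [A.Normal], A ≠ ⊤ → (∀ a ∈ A, α a ∈ A) →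
        A ≤ Subgroup.center P :=
      fun A _ hA hinv => h.le_center hP hgen A hA hinv
    obtain ⟨hcomm, hpow⟩ := h.comm_pow_mem hP hB1
    have hZ := h.center_le_commutator hP hgen hnab
    exact ⟨hnab, hcomm, fun u hu z hz => h.camina hP hB1 hcomm hZ u hu z hz, hpow,
      fun hc => (h.small hP hnab hB1 hcomm hc).1, fun hc => (h.small hP hnab hB1 hcomm hc).2⟩

end abstract

section group
variable {G : Type*} [Group G] [Finite G] {p : ℕ} [Fact p.Prime]

theorem pCore_normal_aux (p : ℕ) (G : Type*) [Group G] : (pCore p G).Normal :=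
  Subgroup.sSup_normal _ (fun _ hK => hK.1)

theorem pCore_isPGroup_aux (p : ℕ) (G : Type*) [Group G] : IsPGroup p (pCore p G) :=
  Sylow.sSup_of_normal _ (fun _ h => h.2) (fun _ h => h.1)

theorem pCore_le_sylow_aux (Q : Sylow p G) : pCore p G ≤ (Q : Subgroup G) := by
  have hn := pCore_normal_aux p G
  obtain ⟨R, hR⟩ := (pCore_isPGroup_aux p G).exists_le_sylow
  obtain ⟨g, hg⟩ := MulAction.exists_smul_eq G R Q
  intro x hx
  have hx' : g⁻¹ * x * g⁻¹⁻¹ ∈ pCore p G := hn.conj_mem x hx g⁻¹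
  have h1 : g⁻¹ * x * g⁻¹⁻¹ ∈ (R : Subgroup G) := hR hx'
  have h2 : g * (g⁻¹ * x * g⁻¹⁻¹) * g⁻¹ ∈ ((g • R : Sylow p G) : Subgroup G) := by
    rw [Sylow.coe_subgroup_smul, Subgroup.mem_pointwise_smul_iff_inv_smul_mem]
    simp only [MulAut.smul_def, MulAut.conj_inv_apply]
    convert h1 using 1
    group
  rw [hg] at h2
  convert h2 using 1
  group

/-- With `O_{p'}(G) = 1` and the minimality hypothesis, `Q ⊴ G`. -/
theorem sylow_normal_core (hG : IsPSolvable p G) (hO : pPrimeCore p G = ⊥)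
    (Q : Sylow p G) (Z : Subgroup G) (h : SESub p (Q : Subgroup G) Z)
    (hmin : ∀ H : Subgroup G, (Q : Subgroup G) ≤ H → H ≠ ⊤ →
      H ≤ Subgroup.normalizer ((Q : Subgroup G) : Set G)) :
    (Q : Subgroup G).Normal := by
  by_cases hp5 : 5 ≤ p
  · exact normal_of_five_le hp5 hG hO Q Z h
  by_contra hnn
  have hcen : Subgroup.centralizer (pCore p G : Set G) ≤ pCore p G :=
    Cfsg.Agent.Helper23.PSolv.centralizer_pCore_le hG hO
  have hFn : (pCore p G).Normal := pCore_normal_aux p G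
  have hFQ : pCore p G ≤ (Q : Subgroup G) := pCore_le_sylow_aux Q
  have hZF : Z ≤ pCore p G := by
    intro z hz
    apply hcen
    rw [Subgroup.mem_centralizer_iff]
    intro f hf
    exact (h.central z hz f (hFQ hf)).symm
  have hTI := fun g hg => inf_conj_eq_pCore hcen Q Z h hmin g hg
  have hcyc : ∀ (S : Sylow p (G ⧸ pCore p G)),
      (∀ a ∈ (S : Subgroup (G ⧸ pCore p G)), ∀ b ∈ (S : Subgroup (G ⧸ pCore p G)),
        a * b = b * a) →
      (∀ a ∈ (S : Subgroup (G ⧸ pCore p G)), a ^ p = 1) →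
      (∀ g : G ⧸ pCore p G, MulAut.conj g • (S : Subgroup (G ⧸ pCore p G)) ≠ S →
        (S : Subgroup (G ⧸ pCore p G)) ⊓ MulAut.conj g • (S : Subgroup (G ⧸ pCore p G)) = ⊥) →
      Nat.card ↥(S : Subgroup (G ⧸ pCore p G)) ∣ p := by
    intro S hab hexp hTI'
    exact card_sylow_dvd_of_TI
      (Cfsg.Agent.Helper23.PSolv.isPSolvable_quotient (pCore p G) hG)
      (Cfsg.Agent.Helper18.PSolvLin.pCore_quotient_pCore_bot p) S hab hexp hTI'
  have hidx := relIndex_pCore_eq hG Q Z h hZF hnn hTI hcyc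
  have hp23 : p = 2 ∨ p = 3 := by
    have hpp : p.Prime := Fact.out
    have h2 : 2 ≤ p := hpp.two_le
    have hlt : p < 5 := lt_of_not_ge hp5
    interval_cases p
    · left; rfl
    · right; rfl
    · exact absurd hpp (by decide)
  by_cases hbig : p ^ 2 ≤ Z.relIndex (pCore p G)
  · have hder := commutator_eq_of_big (Q : Subgroup G) Z (pCore p G) Q.2 h hZF hFQ hidx hbig
    have hZn : Z.Normal := by
      rw [← hder]
      exact Subgroup.commutator_normal _ _
    have hle := le_pCore_of_center_normal hcen Q Z h hZn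
    have : (Q : Subgroup G) = pCore p G := le_antisymm hle hFQ
    exact hnn (this ▸ hFn)
  · exact small_false hp23 hcen Q Z h hZF hnn hidx (lt_of_not_ge hbig)

end group

end Cfsg.Agent.Helper22.SchPL
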