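import Mathlib
import Cfsg.Agent.Lib.Helper22.SchPLDefs

/-!
# S4394 piece BRIDGE: from the abstract data on `↥Q` to the data inside the ambient group
-/

set_option autoImplicit false

namespace Cfsg.Agent.Helper22.SchPL

theorem bridge_mem_iff {G : Type*} [Group G] (Q : Subgroup G) (x : ↥Q) :
    (x : G) ∈ (Subgroup.center ↥Q).map Q.subtype ↔ x ∈ Subgroup.center ↥Q := by
  constructor
  · rintro ⟨y, hy, hyx⟩
    have : y = x := Subtype.ext hyx
    rwa [← this]
  · intro hx
    exact ⟨x, hx, rfl⟩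

/-- Piece BRIDGE. -/
theorem SEData.toSESub {p : ℕ} {G : Type*} [Group G] (Q : Subgroup G) (h : SEData p ↥Q) :
    SESub p Q ((Subgroup.center ↥Q).map Q.subtype) := by
  refine ⟨Subgroup.map_subtype_le _, ?_, ?_, ?_, ?_, ?_, h.small3, ?_⟩
  · rintro z ⟨z', hz', rfl⟩ a ha
    have := Subgroup.mem_center_iff.mp hz' ⟨a, ha⟩
    have h2 := congrArg (Subtype.val) this
    simpa using h2.symm
  · obtain ⟨a, b, hab⟩ := h.nonab
    refine ⟨a, a.2, b, b.2, fun hc => hab ?_⟩
    exact Subtype.ext hc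
  · intro a ha b hb
    have := h.comm_mem ⟨a, ha⟩ ⟨b, hb⟩
    rw [← bridge_mem_iff] at this
    simpa using this
  · intro u hu hunot z hz
    have hunot' : (⟨u, hu⟩ : ↥Q) ∉ Subgroup.center ↥Q := by
      rw [← bridge_mem_iff]
      exact hunot
    obtain ⟨z', hz', rfl⟩ := hz
    obtain ⟨v, hv⟩ := h.camina ⟨u, hu⟩ hunot' z' hz'
    refine ⟨v, v.2, ?_⟩
    have := congrArg Subtype.val hv
    simpa using this
  · intro a ha
    have := h.pow_mem ⟨a, ha⟩
    rw [← bridge_mem_iff] at this
    simpa using this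
  · intro hc hp H hHQ hH
    have hidx : (H.subgroupOf Q).index = 2 := hH
    have hcyc := h.small2 hc hp (H.subgroupOf Q) hidx
    have e := Subgroup.subgroupOfEquivOfLe hHQ
    exact isCyclic_of_surjective e.toMonoidHom e.surjective
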