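import Mathlib
import Cfsg.Agent.Lib.Helper22.SelfCent

/-!
# Counting classes of elements of order `p` (helper22 library)

Setting: `G` a finite group, `x : G` of prime order `p` with `C_G(x) = ⟨x⟩`.
Main result: `t * [N_G(⟨x⟩) : ⟨x⟩] = p - 1`, `t` the number of classes of elements of order `p`.
-/

set_option autoImplicit false

namespace Cfsg.Agent.Helper22

open Subgroup
open scoped Pointwise commutatorElement

variable {G : Type*} [Group G] [Finite G] {p : ℕ} [hp : Fact p.Prime] {x : G}

/-- Every element of order `p` is conjugate into `⟨x⟩`. -/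
theorem exists_conj_mem_zpowers (hx : orderOf x = p) (hC : centralizer ({x} : Set G) = zpowers x)
    (g : G) (hg : orderOf g = p) : ∃ h : G, h * g * h⁻¹ ∈ zpowers x := by
  obtain ⟨Q, hQ⟩ := (isPGroup_zpowers (p := p) hg).exists_le_sylow
  have hQg : (Q : Subgroup G) = zpowers g :=
    eq_zpowers_of_card_eq g hg Q (card_sylow hx hC Q) (hQ (mem_zpowers _))
  obtain ⟨P, hP⟩ := exists_sylow_eq_zpowers hx hC
  obtain ⟨h, hh⟩ := MulAction.exists_smul_eq G Q P
  refine ⟨h, ?_⟩
  rw [← hP, ← hh, Sylow.coe_subgroup_smul, mem_conj_smul_iff, hQg]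
  have : h⁻¹ * (h * g * h⁻¹) * h = g := by group
  rw [this]
  exact mem_zpowers g

/-- A nontrivial element of `⟨x⟩` generates `⟨x⟩`. -/
theorem zpowers_eq_of_mem (hx : orderOf x = p) (y : G) (hy : y ∈ zpowers x) (hy1 : y ≠ 1) :
    zpowers y = zpowers x := by
  have hle : zpowers y ≤ zpowers x := zpowers_le.2 hy
  apply Subgroup.eq_of_le_of_card_ge hle
  have h0 : Nat.card (zpowers y) ∣ Nat.card (zpowers x) := Subgroup.card_dvd_of_le hle
  rw [Nat.card_zpowers, Nat.card_zpowers, hx] at h0 ⊢
  rcases (Nat.dvd_prime hp.out).1 h0 with h1 | h1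
  · exact absurd (orderOf_eq_one_iff.1 h1) hy1
  · exact h1.ge

theorem orderOf_eq_of_mem (hx : orderOf x = p) (y : G) (hy : y ∈ zpowers x) (hy1 : y ≠ 1) :
    orderOf y = p := by
  rw [← Nat.card_zpowers, zpowers_eq_of_mem hx y hy hy1, Nat.card_zpowers, hx]

theorem centralizer_eq_of_mem (hx : orderOf x = p) (hC : centralizer ({x} : Set G) = zpowers x)
    (y : G) (hy : y ∈ zpowers x) (hy1 : y ≠ 1) : centralizer ({y} : Set G) = zpowers x := by
  rw [← centralizer_zpowers_eq, zpowers_eq_of_mem hx y hy hy1, centralizer_zpowers_eq, hC]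

theorem mem_zpowers_iff_conj_eq (hx : orderOf x = p) (hC : centralizer ({x} : Set G) = zpowers x)
    (y : G) (hy : y ∈ zpowers x) (hy1 : y ≠ 1) (g : G) : g ∈ zpowers x ↔ g * y * g⁻¹ = y := by
  rw [← centralizer_eq_of_mem hx hC y hy hy1, mem_centralizer_iff]
  constructor
  · intro h
    have := h y rfl
    rw [← this]; group
  · intro h z hz
    rw [Set.mem_singleton_iff] at hz
    subst hz
    calc z * g = (g * z * g⁻¹) * g := by rw [h]
      _ = g * z := by group

/-- If `g` conjugates a nontrivial element of `⟨x⟩` into `⟨x⟩`, then `g` normalizes `⟨x⟩`. -/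
theorem mem_normalizer_of_conj_mem (hx : orderOf x = p) (g y : G) (hy : y ∈ zpowers x) (hy1 : y ≠ 1)
    (h : g * y * g⁻¹ ∈ zpowers x) : g ∈ normalizer (zpowers x : Set G) := by
  have h1 : g * y * g⁻¹ ≠ 1 := by
    intro h0
    apply hy1
    have : y = g⁻¹ * (g * y * g⁻¹) * g := by group
    rw [this, h0]; group
  have hz : zpowers (g * y * g⁻¹) = zpowers x := zpowers_eq_of_mem hx _ h h1
  have hzy : zpowers y = zpowers x := zpowers_eq_of_mem hx y hy hy1
  -- g z g⁻¹ ∈ zpowers x for z ∈ zpowers x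
  have key : ∀ z ∈ zpowers x, g * z * g⁻¹ ∈ zpowers x := by
    intro z hz'
    rw [← hzy] at hz'
    obtain ⟨k, rfl⟩ := mem_zpowers_iff.1 hz'
    rw [← hz]
    have : g * y ^ k * g⁻¹ = (g * y * g⁻¹) ^ k := by
      rw [conj_zpow]
    rw [this]
    exact zpow_mem (mem_zpowers _) k
  have hfin : Finite ((zpowers x : Subgroup G) : Set G) := inferInstance
  exact mem_normalizer_fintype key

theorem card_ne_one_zpowers (hx : orderOf x = p) :
    Nat.card {y : G // y ∈ zpowers x ∧ y ≠ 1} = p - 1 := by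
  classical
  have : Fintype (zpowers x) := Fintype.ofFinite _
  have e : {y : G // y ∈ zpowers x ∧ y ≠ 1} ≃ {y : zpowers x // ¬ (y = 1)} :=
    { toFun := fun y => ⟨⟨y.1, y.2.1⟩, fun h => y.2.2 (congrArg Subtype.val h)⟩
      invFun := fun y => ⟨y.1.1, y.1.2, fun h => y.2 (Subtype.ext h)⟩
      left_inv := fun y => rfl
      right_inv := fun y => rfl }
  rw [Nat.card_congr e, Nat.card_eq_fintype_card, Fintype.card_subtype_compl, Fintype.card_subtype_eq,
    ← Nat.card_eq_fintype_card, Nat.card_zpowers, hx]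

/-- The number `t` of classes of elements of order `p` satisfies `t * [N(⟨x⟩) : ⟨x⟩] = p - 1`. -/
theorem card_classes_mul_relIndex (hx : orderOf x = p) (hC : centralizer ({x} : Set G) = zpowers x) :
    Nat.card {C : ConjClasses G // ∃ g ∈ C.carrier, orderOf g = p} *
      (zpowers x).relIndex (normalizer (zpowers x : Set G)) = p - 1 := by
  classical
  set T := {C : ConjClasses G // ∃ g ∈ C.carrier, orderOf g = p} with hT
  set X := {y : G // y ∈ zpowers x ∧ y ≠ 1} with hX
  have : Fintype T := Fintype.ofFinite _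
  let φ : X → T := fun y => ⟨ConjClasses.mk y.1, y.1, ConjClasses.mem_carrier_mk,
    orderOf_eq_of_mem hx y.1 y.2.1 y.2.2⟩
  have hφsurj : Function.Surjective φ := by
    rintro ⟨C, g, hgC, hg⟩
    obtain ⟨h, hh⟩ := exists_conj_mem_zpowers hx hC g hg
    have h1 : h * g * h⁻¹ ≠ 1 := by
      intro h0
      have : g = h⁻¹ * (h * g * h⁻¹) * h := by group
      rw [h0] at this
      have hg1 : g = 1 := by rw [this]; group
      rw [hg1, orderOf_one] at hg
      exact hp.out.one_lt.ne hg
    refine ⟨⟨h * g * h⁻¹, hh, h1⟩, ?_⟩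
    apply Subtype.ext
    show ConjClasses.mk (h * g * h⁻¹) = C
    rw [← ConjClasses.mem_carrier_iff_mk_eq.1 hgC, ConjClasses.mk_eq_mk_iff_isConj]
    exact (isConj_iff.2 ⟨h, rfl⟩).symm
  -- every fibre has the same size
  have hfib : ∀ c : T, Nat.card {y : X // φ y = c} = (zpowers x).relIndex (normalizer (zpowers x : Set G)) := by
    intro c
    obtain ⟨y₀, rfl⟩ := hφsurj c
    let y₀' : zpowers x := ⟨y₀.1, y₀.2.1⟩
    have hstab : MulAction.stabilizer (normalizer (zpowers x : Set G)) y₀' =
        (zpowers x).subgroupOf (normalizer (zpowers x : Set G)) := by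
      ext n
      rw [MulAction.mem_stabilizer_iff, mem_subgroupOf]
      have hsm : ((n • y₀' : zpowers x) : G) = (n : G) * y₀.1 * (n : G)⁻¹ := rfl
      rw [mem_zpowers_iff_conj_eq hx hC y₀.1 y₀.2.1 y₀.2.2 (n : G)]
      constructor
      · intro h
        rw [← hsm, h]
      · intro h
        apply Subtype.ext
        rw [hsm]
        exact h
    have e : {y : X // φ y = φ y₀} ≃ MulAction.orbit (normalizer (zpowers x : Set G)) y₀' := by
      refine Equiv.ofBijective (fun y => ⟨⟨y.1.1, y.1.2.1⟩, ?_⟩) ⟨?_, ?_⟩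
      · have hy : φ y.1 = φ y₀ := y.2
        have hy' : ConjClasses.mk y.1.1 = ConjClasses.mk y₀.1 := congrArg Subtype.val hy
        rw [ConjClasses.mk_eq_mk_iff_isConj, isConj_comm, isConj_iff] at hy'
        obtain ⟨g, hg⟩ := hy'
        have hgN : g ∈ normalizer (zpowers x : Set G) :=
          mem_normalizer_of_conj_mem hx g y₀.1 y₀.2.1 y₀.2.2 (hg ▸ y.1.2.1)
        refine ⟨⟨g, hgN⟩, ?_⟩
        apply Subtype.ext
        exact hg
      · intro a b hab
        apply Subtype.ext
        apply Subtype.ext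
        have := congrArg (fun z : MulAction.orbit (normalizer (zpowers x : Set G)) y₀' => ((z : zpowers x) : G)) hab
        exact this
      · rintro ⟨z, n, hn⟩
        have hzG : (z : G) = (n : G) * y₀.1 * (n : G)⁻¹ := by
          rw [← hn]; rfl
        have hz1 : (z : G) ≠ 1 := by
          intro h0
          rw [hzG] at h0
          apply y₀.2.2
          have : y₀.1 = (n : G)⁻¹ * ((n : G) * y₀.1 * (n : G)⁻¹) * (n : G) := by group
          rw [this, h0]; group
        refine ⟨⟨⟨z.1, z.2, hz1⟩, ?_⟩, ?_⟩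
        · apply Subtype.ext
          show ConjClasses.mk (z : G) = ConjClasses.mk y₀.1
          rw [ConjClasses.mk_eq_mk_iff_isConj, isConj_comm, isConj_iff]
          exact ⟨n, hzG.symm⟩
        · rfl
    rw [Nat.card_congr e, Nat.card_congr (MulAction.orbitEquivQuotientStabilizer _ y₀'), hstab]
    rfl
  have hsum : Nat.card X = ∑ c : T, Nat.card {y : X // φ y = c} := by
    rw [← Nat.card_sigma]
    exact Nat.card_congr (Equiv.sigmaFiberEquiv φ).symm
  rw [card_ne_one_zpowers hx] at hsum
  rw [hsum]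
  simp only [hfib, Finset.sum_const, Finset.card_univ, smul_eq_mul]
  rw [Nat.card_eq_fintype_card]

end Cfsg.Agent.Helper22
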