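import Mathlib
import Cfsg.Agent.Lib.Helper22.SelfCent
import Cfsg.Agent.Lib.Helper22.SelfCentCount
import Cfsg.Agent.Lib.Helper22.PPrimeCore

/-!
# Structure of groups with a self-centralizing element of prime order (helper22 library)
-/

set_option autoImplicit false

namespace Cfsg.Agent.Helper22

open Subgroup
open scoped Pointwise commutatorElement

variable {G : Type*} [Group G] [Finite G] {p : ℕ} [hp : Fact p.Prime] {x : G}

theorem normalizer_le_of_card_classes (hx : orderOf x = p) (hC : centralizer ({x} : Set G) = zpowers x)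
    (ht : Nat.card {C : ConjClasses G // ∃ g ∈ C.carrier, orderOf g = p} = p - 1) :
    normalizer (zpowers x : Set G) ≤ zpowers x := by
  have h := card_classes_mul_relIndex hx hC
  rw [ht] at h
  have hp1 : 0 < p - 1 := by have := hp.out.two_le; omega
  have : (zpowers x).relIndex (normalizer (zpowers x : Set G)) = 1 := by
    have h2 : (p - 1) * (zpowers x).relIndex (normalizer (zpowers x : Set G)) = (p - 1) * 1 := by
      rw [h, mul_one]
    exact Nat.eq_of_mul_eq_mul_left hp1 h2
  exact relIndex_eq_one.1 this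

theorem exists_normalizer_not_commute (hx : orderOf x = p) (hC : centralizer ({x} : Set G) = zpowers x)
    (ht : Nat.card {C : ConjClasses G // ∃ g ∈ C.carrier, orderOf g = p} ≠ p - 1) :
    ∃ n ∈ normalizer (zpowers x : Set G), n * x * n⁻¹ ≠ x := by
  have h := card_classes_mul_relIndex hx hC
  have hne : ¬ normalizer (zpowers x : Set G) ≤ zpowers x := by
    intro hle
    rw [relIndex_eq_one.2 hle, mul_one] at h
    exact ht h
  rw [SetLike.not_le_iff_exists] at hne
  obtain ⟨n, hn, hnx⟩ := hne
  refine ⟨n, hn, ?_⟩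
  intro h1
  apply hnx
  have hx1 : x ≠ 1 := by
    intro h0
    rw [h0, orderOf_one] at hx
    exact hp.out.one_lt.ne hx
  exact (mem_zpowers_iff_conj_eq hx hC x (mem_zpowers x) hx1 n).2 h1

/-- A normal `p'`-subgroup lies in the commutator subgroup: all its elements are commutators
with `x`. More precisely every `n ∈ N` is `⁅m, x⁆` for some `m ∈ N`. -/
theorem exists_commutator_eq_of_selfCent (hx : orderOf x = p) (hC : centralizer ({x} : Set G) = zpowers x)
    (N : Subgroup G) [hN : N.Normal] (hpN : ¬ p ∣ Nat.card N) (n : G) (hn : n ∈ N) :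
    ∃ m ∈ N, ⁅m, x⁆ = n := by
  let f : N → N := fun m => ⟨⁅(m : G), x⁆, by
    rw [commutatorElement_def]
    have : (m : G) * x * (m : G)⁻¹ * x⁻¹ = (m : G) * (x * (m : G)⁻¹ * x⁻¹) := by group
    rw [this]
    exact N.mul_mem m.2 (hN.conj_mem _ (N.inv_mem m.2) x)⟩
  have hinj : Function.Injective f := by
    intro a b hab
    have h1 : ⁅(a : G), x⁆ = ⁅(b : G), x⁆ := congrArg Subtype.val hab
    rw [commutatorElement_def, commutatorElement_def] at h1
    -- (b⁻¹ a) commutes with x
    have h2 : ((b : G)⁻¹ * (a : G)) * x * ((b : G)⁻¹ * (a : G))⁻¹ = x := by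
      have h3 : (a : G) * x * (a : G)⁻¹ = (b : G) * x * (b : G)⁻¹ := by
        have := congrArg (fun z => z * x) h1
        simpa using this
      calc ((b : G)⁻¹ * (a : G)) * x * ((b : G)⁻¹ * (a : G))⁻¹
          = (b : G)⁻¹ * ((a : G) * x * (a : G)⁻¹) * (b : G) := by group
        _ = (b : G)⁻¹ * ((b : G) * x * (b : G)⁻¹) * (b : G) := by rw [h3]
        _ = x := by group
    have hx1 : x ≠ 1 := by
      intro h0
      rw [h0, orderOf_one] at hx
      exact hp.out.one_lt.ne hx
    have h4 : (b : G)⁻¹ * (a : G) ∈ zpowers x :=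
      (mem_zpowers_iff_conj_eq hx hC x (mem_zpowers x) hx1 _).2 h2
    have h5 : (b : G)⁻¹ * (a : G) ∈ N ⊓ zpowers x := ⟨N.mul_mem (N.inv_mem b.2) a.2, h4⟩
    rw [inf_zpowers_eq_bot hx N hpN, mem_bot] at h5
    apply Subtype.ext
    have : (a : G) = (b : G) * ((b : G)⁻¹ * (a : G)) := by group
    rw [this, h5, mul_one]
  obtain ⟨m, hm⟩ := (Finite.injective_iff_surjective.1 hinj) ⟨n, hn⟩
  exact ⟨m, m.2, congrArg Subtype.val hm⟩

theorem le_commutator_of_normal_not_dvd (hx : orderOf x = p) (hC : centralizer ({x} : Set G) = zpowers x)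
    (N : Subgroup G) [hN : N.Normal] (hpN : ¬ p ∣ Nat.card N) : N ≤ commutator G := by
  intro n hn
  obtain ⟨m, _, rfl⟩ := exists_commutator_eq_of_selfCent hx hC N hpN n hn
  rw [_root_.commutator_def]
  exact Subgroup.commutator_mem_commutator (mem_top _) (mem_top _)

theorem pPrimeCore_le_commutator (hx : orderOf x = p) (hC : centralizer ({x} : Set G) = zpowers x) :
    Cfsg.pPrimeCore p G ≤ commutator G := by
  haveI := pPrimeCore_normal (G := G) p
  exact le_commutator_of_normal_not_dvd hx hC _ (not_dvd_card_pPrimeCore p hp.out)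

/-- Burnside case: if `N_G(⟨x⟩) = ⟨x⟩` then `G' = O_{p'}(G)` has index `p`. -/
theorem commutator_eq_pPrimeCore_of_normalizer_le (hx : orderOf x = p)
    (hC : centralizer ({x} : Set G) = zpowers x)
    (hN : normalizer (zpowers x : Set G) ≤ zpowers x) :
    commutator G = Cfsg.pPrimeCore p G ∧ (commutator G).index = p := by
  obtain ⟨P, hP⟩ := exists_sylow_eq_zpowers hx hC
  have hPN : normalizer (P : Set G) ≤ centralizer (P : Set G) := by
    show normalizer ((P : Subgroup G) : Set G) ≤ centralizer ((P : Subgroup G) : Set G)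
    rw [hP, centralizer_zpowers_eq, hC]
    exact hN
  have hcompl := MonoidHom.ker_transferSylow_isComplement' P hPN
  set K := (MonoidHom.transferSylow P hPN).ker with hK
  have hKnd : ¬ p ∣ Nat.card K := MonoidHom.not_dvd_card_ker_transferSylow P hPN
  have hKidx : K.index = p := by
    have := hcompl.symm.index_eq_card
    rw [this]
    show Nat.card (P : Subgroup G) = p
    rw [hP, Nat.card_zpowers, hx]
  have hK1 : K ≤ Cfsg.pPrimeCore p G :=
    le_pPrimeCore p K inferInstance ((Nat.Prime.coprime_iff_not_dvd hp.out).2 hKnd).symm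
  have hK2 : commutator G ≤ K := by
    rw [_root_.commutator_def, Subgroup.commutator_le]
    intro g _ h _
    rw [hK, MonoidHom.mem_ker, map_commutatorElement, commutatorElement_eq_one_iff_mul_comm]
    -- P is commutative
    have hcomm : ∀ a b : P, a * b = b * a := by
      intro a b
      apply Subtype.ext
      have ha : (a : G) ∈ zpowers x := hP ▸ a.2
      have hb : (b : G) ∈ zpowers x := hP ▸ b.2
      obtain ⟨i, hi⟩ := mem_zpowers_iff.1 ha
      obtain ⟨j, hj⟩ := mem_zpowers_iff.1 hb
      show (a : G) * (b : G) = (b : G) * (a : G)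
      rw [← hi, ← hj, ← zpow_add, ← zpow_add, add_comm]
    exact hcomm _ _
  have h3 := pPrimeCore_le_commutator hx hC
  have heq : commutator G = K := le_antisymm hK2 (hK1.trans h3)
  refine ⟨le_antisymm (heq ▸ hK1) h3, ?_⟩
  rw [heq, hKidx]

/-- If some element of `N_G(⟨x⟩)` does not centralize `x`, then `x ∈ G'`. -/
theorem mem_commutator_of_not_commute (hx : orderOf x = p)
    (n : G) (hn : n ∈ normalizer (zpowers x : Set G)) (hnx : n * x * n⁻¹ ≠ x) : x ∈ commutator G := by
  have h1 : n * x * n⁻¹ ∈ zpowers x := (mem_normalizer_iff.1 hn x).1 (mem_zpowers x)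
  have h2 : ⁅n, x⁆ ∈ zpowers x := by
    rw [commutatorElement_def]
    exact (zpowers x).mul_mem h1 ((zpowers x).inv_mem (mem_zpowers x))
  have h3 : ⁅n, x⁆ ≠ 1 := by
    intro h0
    apply hnx
    rw [commutatorElement_def] at h0
    have := congrArg (fun z => z * x) h0
    simpa using this
  have h4 : zpowers ⁅n, x⁆ = zpowers x := zpowers_eq_of_mem hx _ h2 h3
  have h5 : ⁅n, x⁆ ∈ commutator G := by
    rw [_root_.commutator_def]
    exact Subgroup.commutator_mem_commutator (mem_top _) (mem_top _)
  have h6 : zpowers ⁅n, x⁆ ≤ commutator G := zpowers_le.2 h5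
  rw [h4] at h6
  exact h6 (mem_zpowers x)

/-- If `x ∈ G'` then `[G : G']` divides `[N_G(⟨x⟩) : ⟨x⟩]`. -/
theorem index_commutator_dvd_relIndex (hx : orderOf x = p) (hC : centralizer ({x} : Set G) = zpowers x)
    (hxM : x ∈ commutator G) :
    (commutator G).index ∣ (zpowers x).relIndex (normalizer (zpowers x : Set G)) := by
  obtain ⟨P, hP⟩ := exists_sylow_eq_zpowers hx hC
  have hPM : (P : Subgroup G) ≤ commutator G := by rw [hP]; exact zpowers_le.2 hxM
  have hfr : normalizer ((zpowers x : Subgroup G) : Set G) ⊔ commutator G = ⊤ := by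
    rw [← hP]
    exact Sylow.normalizer_sup_eq_top' P hPM
  have h1 : (commutator G).index = (commutator G).relIndex (normalizer (zpowers x : Set G)) := by
    rw [← relIndex_top_right, ← hfr, relIndex_sup_right]
  rw [h1, ← inf_relIndex_right]
  apply relIndex_dvd_of_le_left
  exact le_inf (zpowers_le.2 hxM) le_normalizer

end Cfsg.Agent.Helper22
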