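import Mathlib
import Cfsg.Agent.Lib.Helper22.SelfCentStruct

/-!
# Simplicity of `G'/O_{p'}(G)` for groups with a self-centralizing element of prime order
(helper22 library)
-/

set_option autoImplicit false

namespace Cfsg.Agent.Helper22

open Subgroup
open scoped Pointwise commutatorElement

variable {G : Type*} [Group G] [Finite G] {p : ℕ} [hp : Fact p.Prime] {x : G}

/-- The self-centralizing hypothesis passes to a subgroup containing `x`. -/
theorem centralizer_in_subgroup (hC : centralizer ({x} : Set G) = zpowers x) (M : Subgroup G)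
    (hxM : x ∈ M) :
    centralizer ({(⟨x, hxM⟩ : M)} : Set M) = zpowers (⟨x, hxM⟩ : M) := by
  ext m
  rw [mem_centralizer_iff]
  constructor
  · intro h
    have h1 : (m : G) ∈ centralizer ({x} : Set G) := by
      rw [mem_centralizer_iff]
      intro z hz
      rw [Set.mem_singleton_iff] at hz
      subst hz
      have := h ⟨z, hxM⟩ rfl
      exact congrArg Subtype.val this
    rw [hC] at h1
    obtain ⟨k, hk⟩ := mem_zpowers_iff.1 h1
    rw [mem_zpowers_iff]
    refine ⟨k, ?_⟩
    apply Subtype.ext
    rw [Subgroup.coe_zpow]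
    exact hk
  · intro h z hz
    rw [Set.mem_singleton_iff] at hz
    subst hz
    obtain ⟨k, rfl⟩ := mem_zpowers_iff.1 h
    exact ((Commute.refl (⟨x, hxM⟩ : M)).zpow_right k).eq

theorem orderOf_in_subgroup (hx : orderOf x = p) (M : Subgroup G) (hxM : x ∈ M) :
    orderOf (⟨x, hxM⟩ : M) = p := by
  rw [← hx, ← Subgroup.orderOf_coe]

/-- Key dichotomy: a normal subgroup `L'` of `M = G'` (with `x ∈ G'`) either has order prime to `p`
and lies in `O_{p'}(G)`, or is all of `M`. -/
theorem normal_subgroup_commutator_dichotomy (hx : orderOf x = p)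
    (hC : centralizer ({x} : Set G) = zpowers x) (hxM : x ∈ commutator G)
    (L' : Subgroup (commutator G)) [hL : L'.Normal] :
    L' ≤ (Cfsg.pPrimeCore p G).subgroupOf (commutator G) ∨ L' = ⊤ := by
  have hx' := orderOf_in_subgroup hx (commutator G) hxM
  have hC' := centralizer_in_subgroup hC (commutator G) hxM
  by_cases hpL : p ∣ Nat.card L'
  · right
    -- x' ∈ L'
    have hxL : (⟨x, hxM⟩ : commutator G) ∈ L' := mem_of_normal_of_dvd hx' hC' L' hpL
    -- all G-conjugates of x lie in L
    have hconj : ∀ g : G, g * x * g⁻¹ ∈ L'.map (commutator G).subtype := by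
      intro g
      have hgM : g * x * g⁻¹ ∈ commutator G := (inferInstance : (commutator G).Normal).conj_mem x hxM g
      have hord : orderOf (⟨g * x * g⁻¹, hgM⟩ : commutator G) = p := by
        rw [← Subgroup.orderOf_coe]
        show orderOf (g * x * g⁻¹) = p
        rw [← hx]
        exact (MulAut.conj g).orderOf_eq x
      obtain ⟨h', hh'⟩ := exists_conj_mem_zpowers hx' hC' (⟨g * x * g⁻¹, hgM⟩ : commutator G) hord
      have h1 : h' * (⟨g * x * g⁻¹, hgM⟩ : commutator G) * h'⁻¹ ∈ L' := (zpowers_le.2 hxL) hh'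
      have h2 := hL.conj_mem _ h1 h'⁻¹
      have h3 : h'⁻¹ * (h' * (⟨g * x * g⁻¹, hgM⟩ : commutator G) * h'⁻¹) * h'⁻¹⁻¹ = ⟨g * x * g⁻¹, hgM⟩ := by group
      rw [h3] at h2
      exact ⟨_, h2, rfl⟩
    have hncl : normalClosure ({x} : Set G) ≤ L'.map (commutator G).subtype := by
      unfold normalClosure
      rw [closure_le]
      intro y hy
      rw [Group.mem_conjugatesOfSet_iff] at hy
      obtain ⟨a, ha, hay⟩ := hy
      rw [Set.mem_singleton_iff] at ha
      subst ha
      obtain ⟨g, hg⟩ := isConj_iff.1 hay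
      rw [← hg]
      exact hconj g
    have hxcl : x ∈ normalClosure ({x} : Set G) := subset_normalClosure (Set.mem_singleton x)
    have hpcl : p ∣ Nat.card (normalClosure ({x} : Set G)) := by
      have : orderOf (⟨x, hxcl⟩ : normalClosure ({x} : Set G)) = p := orderOf_in_subgroup hx _ hxcl
      rw [← this]
      exact orderOf_dvd_natCard _
    have hMle := commutator_le_of_dvd hx hC (normalClosure ({x} : Set G)) hpcl
    rw [eq_top_iff]
    intro m _
    obtain ⟨m', hm', hmm⟩ := hncl (hMle m.2)
    have : m' = m := Subtype.ext hmm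
    rw [← this]
    exact hm'
  · left
    have h1 : L' ≤ Cfsg.pPrimeCore p (commutator G) :=
      le_pPrimeCore p L' hL ((Nat.Prime.coprime_iff_not_dvd hp.out).2 hpL).symm
    intro m hm
    rw [mem_subgroupOf]
    exact pPrimeCore_subgroup_le p (commutator G) ⟨m, h1 hm, rfl⟩

/-- If `x ∈ G'`, then `G'/O_{p'}(G)` is simple. -/
theorem isSimpleGroup_commutator_quotient (hx : orderOf x = p)
    (hC : centralizer ({x} : Set G) = zpowers x) (hxM : x ∈ commutator G)
    (h : ((Cfsg.pPrimeCore p G).subgroupOf (commutator G)).Normal) :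
    IsSimpleGroup (↥(commutator G) ⧸ (Cfsg.pPrimeCore p G).subgroupOf (commutator G)) := by
  set M := commutator G with hM
  set S' := (Cfsg.pPrimeCore p G).subgroupOf M with hS'
  have hnt : Nontrivial (M ⧸ S') := by
    refine ⟨⟨((⟨x, hxM⟩ : M) : M ⧸ S'), 1, ?_⟩⟩
    intro h0
    rw [QuotientGroup.eq_one_iff, hS', mem_subgroupOf] at h0
    exact not_mem_of_not_dvd hx _ (not_dvd_card_pPrimeCore p hp.out) h0
  refine { toNontrivial := hnt, eq_bot_or_eq_top_of_normal := ?_ }
  intro H' hH'
  have hsurj : Function.Surjective (QuotientGroup.mk' S') := QuotientGroup.mk'_surjective S'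
  have hmap := map_comap_eq_self_of_surjective hsurj H'
  have hLn : (H'.comap (QuotientGroup.mk' S')).Normal := hH'.comap _
  rcases normal_subgroup_commutator_dichotomy hx hC hxM (H'.comap (QuotientGroup.mk' S')) with h1 | h1
  · left
    rw [← hmap, eq_bot_iff]
    rintro q ⟨m, hm, rfl⟩
    rw [mem_bot]
    exact (QuotientGroup.eq_one_iff m).2 (h1 hm)
  · right
    rw [← hmap, h1, ← MonoidHom.range_eq_map, MonoidHom.range_eq_top]
    exact hsurj

end Cfsg.Agent.Helper22
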