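import Mathlib
import Cfsg.Agent.Lib.Helper22.SelfCentSimple

/-!
# The derived series of a group with a self-centralizing element of prime order
(helper22 library)
-/

set_option autoImplicit false

namespace Cfsg.Agent.Helper22

open Subgroup
open scoped Pointwise commutatorElement

variable {G : Type*} [Group G] [Finite G] {p : ℕ} [hp : Fact p.Prime] {x : G}

/-- The number of subgroups of order `p` is the index of `N_G(⟨x⟩)`. -/
theorem card_subgroups_eq_index (hx : orderOf x = p) (hC : centralizer ({x} : Set G) = zpowers x) :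
    Nat.card {H : Subgroup G // Nat.card H = p} = (normalizer (zpowers x : Set G)).index := by
  obtain ⟨P, hP⟩ := exists_sylow_eq_zpowers hx hC
  rw [card_subgroups_eq_card_sylow hx hC, Sylow.card_eq_index_normalizer P]
  show (normalizer ((P : Subgroup G) : Set G)).index = _
  rw [hP]

/-- Case `N_G(⟨x⟩) = ⟨x⟩`: the commutator subgroup has order `[G : N_G(⟨x⟩)]`. -/
theorem card_commutator_of_normalizer_le (hx : orderOf x = p)
    (hC : centralizer ({x} : Set G) = zpowers x)
    (hN : normalizer (zpowers x : Set G) ≤ zpowers x) :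
    Nat.card (commutator G) = (normalizer (zpowers x : Set G)).index := by
  have hNeq : normalizer (zpowers x : Set G) = zpowers x := le_antisymm hN le_normalizer
  rw [hNeq]
  have h1 := (commutator_eq_pPrimeCore_of_normalizer_le hx hC hN).2
  have h2 := (commutator G).card_mul_index
  have h3 := (zpowers x).card_mul_index
  rw [h1] at h2
  rw [Nat.card_zpowers, hx, ← h2, mul_comm] at h3
  exact (Nat.eq_of_mul_eq_mul_right hp.out.pos h3).symm

/-- `O_{p'}(G)` has order dividing `[G : N_G(⟨x⟩)]`. -/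
theorem card_pPrimeCore_dvd_index (hx : orderOf x = p) (hC : centralizer ({x} : Set G) = zpowers x) :
    Nat.card (Cfsg.pPrimeCore p G) ∣ (normalizer (zpowers x : Set G)).index := by
  have := pPrimeCore_normal (G := G) p
  rw [← card_subgroups_eq_index hx hC]
  exact card_dvd_card_subgroups hx hC _ (not_dvd_card_pPrimeCore p hp.out)

theorem mem_derivedSeries_two {a b : G} (ha : a ∈ commutator G) (hb : b ∈ commutator G) :
    ⁅a, b⁆ ∈ derivedSeries G 2 := by
  show ⁅a, b⁆ ∈ ⁅derivedSeries G 1, derivedSeries G 1⁆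
  exact Subgroup.commutator_mem_commutator ha hb

/-- Case `x ∈ G'` and `G'' ≠ G'`. -/
theorem derived_structure (hx : orderOf x = p) (hC : centralizer ({x} : Set G) = zpowers x)
    (hxM : x ∈ commutator G) (hne : derivedSeries G 2 ≠ derivedSeries G 1) :
    derivedSeries G 2 = Cfsg.pPrimeCore p G ∧
      Nat.card (Cfsg.pPrimeCore p G) = (normalizer (zpowers x : Set G)).index ∧
      Nat.card (commutator G) = p * (normalizer (zpowers x : Set G)).index := by
  have hSn := pPrimeCore_normal (G := G) p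
  have hSnd : ¬ p ∣ Nat.card (Cfsg.pPrimeCore p G) := not_dvd_card_pPrimeCore p hp.out
  have hSM : Cfsg.pPrimeCore p G ≤ commutator G := pPrimeCore_le_commutator hx hC
  have hDM : derivedSeries G 2 ≤ commutator G := derivedSeries_antitone (G := G) (by norm_num : 1 ≤ 2)
  have hDn : (derivedSeries G 2).Normal := derivedSeries_normal G 2
  have hxS : x ∉ Cfsg.pPrimeCore p G := not_mem_of_not_dvd hx _ hSnd
  -- G'' ≤ S*
  have hDS : derivedSeries G 2 ≤ Cfsg.pPrimeCore p G := by
    have hDn' : ((derivedSeries G 2).subgroupOf (commutator G)).Normal := hDn.subgroupOf _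
    rcases normal_subgroup_commutator_dichotomy hx hC hxM ((derivedSeries G 2).subgroupOf (commutator G)) with h1 | h1
    · intro d hd
      have : (⟨d, hDM hd⟩ : commutator G) ∈ (derivedSeries G 2).subgroupOf (commutator G) := by
        rw [mem_subgroupOf]; exact hd
      have := h1 this
      rw [mem_subgroupOf] at this
      exact this
    · exfalso
      apply hne
      apply le_antisymm hDM
      intro m hm
      have : (⟨m, hm⟩ : commutator G) ∈ (derivedSeries G 2).subgroupOf (commutator G) := by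
        rw [h1]; exact mem_top _
      rw [mem_subgroupOf] at this
      exact this
  -- S* ≤ G''
  have hSD : Cfsg.pPrimeCore p G ≤ derivedSeries G 2 := by
    intro n hn
    obtain ⟨m, hm, rfl⟩ := exists_commutator_eq_of_selfCent hx hC _ hSnd n hn
    exact mem_derivedSeries_two (hSM hm) hxM
  have hDeq : derivedSeries G 2 = Cfsg.pPrimeCore p G := le_antisymm hDS hSD
  -- G' = S* ⊔ P
  have hsup_le : zpowers x ⊔ Cfsg.pPrimeCore p G ≤ commutator G := sup_le (zpowers_le.2 hxM) hSM
  have hMle : commutator G ≤ zpowers x ⊔ Cfsg.pPrimeCore p G := by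
    have hLn : ((zpowers x ⊔ Cfsg.pPrimeCore p G).subgroupOf (commutator G)).Normal := by
      constructor
      intro l hl m
      rw [mem_subgroupOf] at hl ⊢
      have h1 : ((m * l * m⁻¹ : commutator G) : G) = ⁅(m : G), (l : G)⁆ * (l : G) := by
        rw [commutatorElement_def]
        simp
      rw [h1]
      apply Subgroup.mul_mem _ _ hl
      apply (le_sup_right : Cfsg.pPrimeCore p G ≤ zpowers x ⊔ Cfsg.pPrimeCore p G)
      apply hDS
      exact mem_derivedSeries_two m.2 l.2
    rcases normal_subgroup_commutator_dichotomy hx hC hxM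
      ((zpowers x ⊔ Cfsg.pPrimeCore p G).subgroupOf (commutator G)) with h1 | h1
    · exfalso
      apply hxS
      have : (⟨x, hxM⟩ : commutator G) ∈ (zpowers x ⊔ Cfsg.pPrimeCore p G).subgroupOf (commutator G) := by
        rw [mem_subgroupOf]
        exact (le_sup_left : zpowers x ≤ zpowers x ⊔ Cfsg.pPrimeCore p G) (mem_zpowers x)
      have := h1 this
      rw [mem_subgroupOf] at this
      exact this
    · intro m hm
      have : (⟨m, hm⟩ : commutator G) ∈ (zpowers x ⊔ Cfsg.pPrimeCore p G).subgroupOf (commutator G) := by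
        rw [h1]; exact mem_top _
      rw [mem_subgroupOf] at this
      exact this
  have hMeq : commutator G = zpowers x ⊔ Cfsg.pPrimeCore p G := le_antisymm hMle hsup_le
  have hcardM : Nat.card (commutator G) = p * Nat.card (Cfsg.pPrimeCore p G) := by
    rw [hMeq, card_sup_eq_mul _ _ (by rw [inf_comm]; exact inf_zpowers_eq_bot hx _ hSnd), Nat.card_zpowers, hx]
  -- the counting
  set N := normalizer (zpowers x : Set G) with hN
  obtain ⟨P, hP⟩ := exists_sylow_eq_zpowers hx hC
  have hPM : (P : Subgroup G) ≤ commutator G := by rw [hP]; exact zpowers_le.2 hxM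
  have hfr : N ⊔ commutator G = ⊤ := by
    rw [hN, ← hP]
    exact Sylow.normalizer_sup_eq_top' P hPM
  have h1 : (commutator G).index = (commutator G ⊓ N).relIndex N := by
    rw [← relIndex_top_right, ← hfr, relIndex_sup_right, inf_relIndex_right]
  have h2 : Nat.card (commutator G ⊓ N : Subgroup G) * (commutator G ⊓ N).relIndex N = Nat.card N := by
    have := relIndex_mul_relIndex (⊥ : Subgroup G) (commutator G ⊓ N) N bot_le inf_le_right
    rw [relIndex_bot_left, relIndex_bot_left] at this
    exact this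
  have h3 := N.card_mul_index
  have h4 := (commutator G).card_mul_index
  have hPle : zpowers x ≤ commutator G ⊓ N := le_inf (zpowers_le.2 hxM) le_normalizer
  obtain ⟨k, hk⟩ : p ∣ Nat.card (commutator G ⊓ N : Subgroup G) := by
    have := Subgroup.card_dvd_of_le hPle
    rwa [Nat.card_zpowers, hx] at this
  have hrpos : 0 < (commutator G ⊓ N).relIndex N := by
    apply Nat.pos_of_ne_zero
    intro h0
    rw [h0, mul_zero] at h2
    exact (Nat.card_pos (α := N)).ne' h2.symm
  -- s * |M ⊓ N| = |M|
  have h5 : N.index * Nat.card (commutator G ⊓ N : Subgroup G) = Nat.card (commutator G) := by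
    have : N.index * Nat.card (commutator G ⊓ N : Subgroup G) * (commutator G ⊓ N).relIndex N
        = Nat.card (commutator G) * (commutator G ⊓ N).relIndex N := by
      rw [mul_assoc, h2, mul_comm, h3, ← h1, h4]
    exact Nat.eq_of_mul_eq_mul_right hrpos this
  rw [hk, hcardM] at h5
  have h6 : N.index * k = Nat.card (Cfsg.pPrimeCore p G) := by
    have : p * (N.index * k) = p * Nat.card (Cfsg.pPrimeCore p G) := by
      rw [← h5]; ring
    exact Nat.eq_of_mul_eq_mul_left hp.out.pos this
  have h7 : Nat.card (Cfsg.pPrimeCore p G) = N.index :=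
    Nat.dvd_antisymm (card_pPrimeCore_dvd_index hx hC) ⟨k, h6.symm⟩
  exact ⟨hDeq, h7, by rw [hcardM, h7]⟩

/-- Converse: if `x ∈ G'` and there is a normal `p'`-subgroup of order `[G : N_G(⟨x⟩)]`, then `G'' ≠ G'`. -/
theorem derived_ne_of_exists_normal (hx : orderOf x = p) (hC : centralizer ({x} : Set G) = zpowers x)
    (hxM : x ∈ commutator G) (S : Subgroup G) [hS : S.Normal] (hpS : ¬ p ∣ Nat.card S)
    (hcard : Nat.card S = (normalizer (zpowers x : Set G)).index) :
    derivedSeries G 2 ≠ derivedSeries G 1 := by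
  have hSn := pPrimeCore_normal (G := G) p
  have hSnd : ¬ p ∣ Nat.card (Cfsg.pPrimeCore p G) := not_dvd_card_pPrimeCore p hp.out
  have hxS : x ∉ Cfsg.pPrimeCore p G := not_mem_of_not_dvd hx _ hSnd
  set N := normalizer (zpowers x : Set G) with hN
  have hSle : S ≤ Cfsg.pPrimeCore p G :=
    le_pPrimeCore p S hS ((Nat.Prime.coprime_iff_not_dvd hp.out).2 hpS).symm
  have hcardS : Nat.card (Cfsg.pPrimeCore p G) = N.index := by
    apply Nat.dvd_antisymm (card_pPrimeCore_dvd_index hx hC)
    rw [← hcard]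
    exact Subgroup.card_dvd_of_le hSle
  -- N ⊔ S* = ⊤
  have htop : N ⊔ Cfsg.pPrimeCore p G = ⊤ := by
    apply Subgroup.eq_top_of_card_eq
    rw [card_sup_eq_mul _ _ (by rw [inf_comm]; exact inf_normalizer_eq_bot hx hC _ hSnd), hcardS]
    exact N.card_mul_index
  -- G' ≤ P ⊔ S*
  have hMle : commutator G ≤ zpowers x ⊔ Cfsg.pPrimeCore p G := by
    rw [_root_.commutator_def, Subgroup.commutator_le]
    intro g _ h _
    have hg : g ∈ N ⊔ Cfsg.pPrimeCore p G := htop ▸ mem_top g
    have hh : h ∈ N ⊔ Cfsg.pPrimeCore p G := htop ▸ mem_top h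
    obtain ⟨n₁, hn₁, s₁, hs₁, rfl⟩ := mem_sup_of_normal_right.1 hg
    obtain ⟨n₂, hn₂, s₂, hs₂, rfl⟩ := mem_sup_of_normal_right.1 hh
    have h1 := commutator_mul_div_mem (Cfsg.pPrimeCore p G) n₁ n₂ s₁ s₂ hs₁ hs₂
    have h2 : ⁅n₁, n₂⁆ ∈ zpowers x := commutator_normalizer_mem hC n₁ n₂ hn₁ hn₂
    have h3 : ⁅n₁ * s₁, n₂ * s₂⁆ = (⁅n₁ * s₁, n₂ * s₂⁆ * ⁅n₁, n₂⁆⁻¹) * ⁅n₁, n₂⁆ := by group
    rw [h3]
    exact Subgroup.mul_mem _ ((le_sup_right : Cfsg.pPrimeCore p G ≤ _) h1) ((le_sup_left : zpowers x ≤ _) h2)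
  -- G'' ≤ S*
  have hDS : derivedSeries G 2 ≤ Cfsg.pPrimeCore p G := by
    show ⁅derivedSeries G 1, derivedSeries G 1⁆ ≤ _
    rw [derivedSeries_one, Subgroup.commutator_le]
    intro a ha b hb
    obtain ⟨u₁, hu₁, s₁, hs₁, rfl⟩ := mem_sup_of_normal_right.1 (hMle ha)
    obtain ⟨u₂, hu₂, s₂, hs₂, rfl⟩ := mem_sup_of_normal_right.1 (hMle hb)
    have h1 := commutator_mul_div_mem (Cfsg.pPrimeCore p G) u₁ u₂ s₁ s₂ hs₁ hs₂
    have h2 : ⁅u₁, u₂⁆ = 1 := by
      rw [commutatorElement_eq_one_iff_mul_comm]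
      obtain ⟨i, rfl⟩ := mem_zpowers_iff.1 hu₁
      obtain ⟨j, rfl⟩ := mem_zpowers_iff.1 hu₂
      rw [← zpow_add, ← zpow_add, add_comm]
    rw [h2, inv_one, mul_one] at h1
    exact h1
  intro heq
  apply hxS
  apply hDS
  rw [heq, derivedSeries_one]
  exact hxM

end Cfsg.Agent.Helper22
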