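import Mathlib
import Cfsg.Agent.Lib.Helper22.SharpSylow
import Cfsg.Agent.Lib.Helper22.StabAction

/-!
# Sharply 4-transitive groups of degree 11 and sharply 5-transitive groups of degree 12 are simple
(helper22's library)
-/

set_option autoImplicit false

namespace Cfsg.Agent.Helper22.SharpK

open MulAction SubMulAction

universe u v

variable {G : Type*} [Group G] {α : Type*} [MulAction G α]

/-- a nontrivial normal subgroup of a sharply `k`-transitive group (`k ≥ 2`) is transitive -/
theorem Sharp.normal_pretransitive [Finite α] {k : ℕ} (h : Sharp G α k) (hk : 2 ≤ k)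
    (hcard : k ≤ Nat.card α) (N : Subgroup G) [N.Normal] (hN : N ≠ ⊥) : IsPretransitive N α := by
  haveI := h.faithful hcard
  haveI := isPreprimitive_of_is_two_pretransitive (h.two hk hcard)
  exact Cfsg.Agent.Helper22.isPretransitive_of_normal_of_ne_bot N hN

theorem Sharp.card_dvd_of_normal [Finite α] {k : ℕ} (h : Sharp G α k) (hk : 2 ≤ k)
    (hcard : k ≤ Nat.card α) (N : Subgroup G) [N.Normal] (hN : N ≠ ⊥) :
    Nat.card α ∣ Nat.card N := by
  haveI := h.normal_pretransitive hk hcard N hN
  have hne : Nonempty α := by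
    rw [← Finite.card_pos_iff]; omega
  obtain ⟨a⟩ := hne
  rw [← index_stabilizer_of_transitive N a]
  exact Subgroup.index_dvd_card _

/-- a sharply 4-transitive group of degree 11 is simple of order 7920 -/
theorem simple_of_sharp_four_eleven [Finite α] (h : Sharp G α 4) (h11 : Nat.card α = 11) :
    IsSimpleGroup G ∧ Nat.card G = 7920 := by
  haveI : Finite G := h.finite (by omega)
  have hcard : Nat.card G = 7920 := by
    rw [h.card_eq (by omega), h11]; decide
  haveI : Fact (Nat.Prime 11) := ⟨by norm_num⟩
  haveI := h.isPretransitive (by norm_num) (by omega)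
  -- the normaliser of any Sylow 11-subgroup has order 55
  have hnorm : ∀ P : Sylow 11 G,
      Nat.card (Subgroup.normalizer ((P : Subgroup G) : Set G)) = 55 := by
    intro P
    have hP : Nat.card (P : Subgroup G) = 11 :=
      card_sylow_of_exact (m := 720) hcard (by norm_num) P
    obtain ⟨d, hd, hN⟩ := card_normalizer_of_prime_degree (h.eq_one_of_forall (by omega)) h11 P hP
    have h1 : Nat.card (Sylow 11 G) = (Subgroup.normalizer ((P : Subgroup G) : Set G)).index :=
      Sylow.card_eq_index_normalizer P
    have h2 : Nat.card (Sylow 11 G) ≡ 1 [MOD 11] := card_sylow_modEq_one 11 G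
    have h3 := Subgroup.card_mul_index (Subgroup.normalizer ((P : Subgroup G) : Set G))
    rw [hN, hcard, ← h1] at h3
    have hd10 : d ≤ 10 := Nat.le_of_dvd (by norm_num) hd
    have hmod : Nat.card (Sylow 11 G) % 11 = 1 := h2
    have hd' : d ∣ 10 := hd
    rw [hN]
    interval_cases d <;> omega
  refine ⟨?_, hcard⟩
  haveI : Nontrivial G := by
    rw [← Finite.one_lt_card_iff_nontrivial, hcard]; norm_num
  refine { eq_bot_or_eq_top_of_normal := fun N hNn => ?_ }
  by_contra hcon
  push Not at hcon
  obtain ⟨hNbot, hNtop⟩ := hcon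
  haveI := hNn
  have hdvd : 11 ∣ Nat.card N := by
    rw [← h11]; exact h.card_dvd_of_normal (by norm_num) (by omega) N hNbot
  obtain ⟨Q⟩ := (inferInstance : Nonempty (Sylow 11 N))
  have hNdvd : Nat.card N ∣ 7920 := hcard ▸ Subgroup.card_subgroup_dvd_card N
  obtain ⟨m, hm⟩ := hdvd
  have hm11 : ¬ 11 ∣ m := by
    rintro ⟨m', rfl⟩
    rw [hm] at hNdvd
    have : 121 ∣ 7920 := Dvd.dvd.trans ⟨m', by ring⟩ hNdvd
    norm_num at this
  have hQ : Nat.card (Q : Subgroup N) = 11 := card_sylow_of_exact hm hm11 Q
  set P₀ : Subgroup G := Subgroup.map N.subtype (Q : Subgroup N) with hP₀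
  have hP₀card : Nat.card P₀ = 11 := by
    rw [hP₀, Subgroup.card_map_of_injective N.subtype_injective, hQ]
  have hP₀N : P₀ ≤ N := by
    rw [hP₀]
    exact Subgroup.map_subtype_le _
  have hfac : (Nat.card G).factorization 11 = 1 := by
    have h720 : (7920 : ℕ) = 11 * 720 := by norm_num
    rw [hcard, h720, Nat.factorization_mul (by norm_num) (by norm_num), Finsupp.add_apply,
      Nat.Prime.factorization_self (by norm_num),
      Nat.factorization_eq_zero_of_not_dvd (by norm_num)]
  have h55 := hnorm (Sylow.ofCard P₀ (by rw [hP₀card, hfac, pow_one]))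
  rw [Sylow.coe_ofCard] at h55
  have hfrat : Subgroup.normalizer (P₀ : Set G) ⊔ N = ⊤ := Sylow.normalizer_sup_eq_top Q
  set L := Subgroup.normalizer (P₀ : Set G) with hL
  have h1 : N.relIndex (L ⊔ N) = N.relIndex L := Subgroup.relIndex_sup_right _ _
  rw [hfrat, Subgroup.relIndex_top_right] at h1
  have h2 : N.relIndex L ∣ P₀.relIndex L := Subgroup.relIndex_dvd_of_le_left L hP₀N
  have hP₀L : P₀ ≤ L := Subgroup.le_normalizer
  have h3 : P₀.relIndex L * L.index = P₀.index := Subgroup.relIndex_mul_index hP₀L
  have h4 := Subgroup.card_mul_index P₀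
  have h5 := Subgroup.card_mul_index L
  rw [hP₀card, hcard] at h4
  rw [h55, hcard] at h5
  have h6 : P₀.relIndex L = 5 := by
    have e1 : P₀.index = 720 := by omega
    have e2 : L.index = 144 := by omega
    rw [e1, e2] at h3
    omega
  rw [← h1, h6] at h2
  have h7 : N.index = 1 ∨ N.index = 5 := (Nat.dvd_prime (by norm_num)).mp h2
  rcases h7 with h7 | h7
  · exact hNtop (Subgroup.index_eq_one.mp h7)
  -- the case of index 5
  have hNcard : Nat.card N = 1584 := by
    have := Subgroup.card_mul_index N
    rw [h7, hcard] at this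
    omega
  have hne : Nonempty α := by
    rw [← Finite.card_pos_iff]; omega
  obtain ⟨a⟩ := hne
  have h' := h.stab a
  have hc := nat_card_ofStabilizer_eq G a
  rw [h11] at hc
  have hHidx : (stabilizer G a).index = 11 := by
    rw [index_stabilizer_of_transitive G a, h11]
  have hN₁ : N.subgroupOf (stabilizer G a) ≠ ⊥ := by
    intro hbot
    rw [Subgroup.subgroupOf_eq_bot, disjoint_iff] at hbot
    have e1 := Subgroup.index_inf_le (H := N) (K := stabilizer G a)
    rw [hbot, Subgroup.index_bot, hcard, h7, hHidx] at e1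
    omega
  have h10 := h'.card_dvd_of_normal (by norm_num) (by rw [hc]; norm_num)
    (N.subgroupOf (stabilizer G a)) hN₁
  rw [hc] at h10
  have h11' : Nat.card (N.subgroupOf (stabilizer G a)) ∣ Nat.card N := by
    rw [← Subgroup.card_map_of_injective (stabilizer G a).subtype_injective,
      Subgroup.subgroupOf_map_subtype]
    exact Subgroup.card_dvd_of_le inf_le_left
  rw [hNcard] at h11'
  have := h10.trans h11'
  norm_num at this

/-- a sharply 5-transitive group of degree 12 is simple of order 95040 -/
theorem simple_of_sharp_five_twelve [Finite α] (h : Sharp G α 5) (h12 : Nat.card α = 12) :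
    IsSimpleGroup G ∧ Nat.card G = 95040 := by
  haveI : Finite G := h.finite (by omega)
  have hcard : Nat.card G = 95040 := by
    rw [h.card_eq (by omega), h12]; decide
  haveI := h.isPretransitive (by norm_num) (by omega)
  refine ⟨?_, hcard⟩
  haveI : Nontrivial G := by
    rw [← Finite.one_lt_card_iff_nontrivial, hcard]; norm_num
  refine { eq_bot_or_eq_top_of_normal := fun N hNn => ?_ }
  by_contra hcon
  push Not at hcon
  obtain ⟨hNbot, hNtop⟩ := hcon
  haveI := hNn
  haveI hNtr := h.normal_pretransitive (by norm_num) (by omega) N hNbot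
  have hne : Nonempty α := by
    rw [← Finite.card_pos_iff]; omega
  obtain ⟨a⟩ := hne
  have h' := h.stab a
  have hc := nat_card_ofStabilizer_eq G a
  rw [h12] at hc
  obtain ⟨hsimple, -⟩ := simple_of_sharp_four_eleven h' hc
  haveI hHtr := h'.isPretransitive (by norm_num) (by rw [hc]; norm_num)
  rcases hsimple.eq_bot_or_eq_top_of_normal (N.subgroupOf (stabilizer G a)) inferInstance
    with h0 | h0
  · -- `N` meets the stabiliser trivially: all its nonidentity elements are conjugate
    rw [Subgroup.subgroupOf_eq_bot, disjoint_iff] at h0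
    have hfree : ∀ n : G, n ∈ N → n • a = a → n = 1 := by
      intro n hn hna
      have : n ∈ N ⊓ stabilizer G a := Subgroup.mem_inf.mpr ⟨hn, mem_stabilizer_iff.mpr hna⟩
      rw [h0, Subgroup.mem_bot] at this
      exact this
    have hconj : ∀ n n' : G, n ∈ N → n' ∈ N → n ≠ 1 → n' ≠ 1 → orderOf n = orderOf n' := by
      intro n n' hn hn' hn1 hn'1
      have e1 : n • a ≠ a := fun e => hn1 (hfree n hn e)
      have e2 : n' • a ≠ a := fun e => hn'1 (hfree n' hn' e)
      obtain ⟨t, ht⟩ := exists_smul_eq (stabilizer G a)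
        (⟨n • a, (mem_ofStabilizer_iff G a).mpr e1⟩ : ofStabilizer G a)
        ⟨n' • a, (mem_ofStabilizer_iff G a).mpr e2⟩
      have ht' : (t : G) • n • a = n' • a := congrArg Subtype.val ht
      have hta : (t : G)⁻¹ • a = a := by
        have : (t : G) • a = a := t.2
        rw [inv_smul_eq_iff, this]
      have e3 : (n'⁻¹ * ((t : G) * n * (t : G)⁻¹)) • a = a := by
        rw [mul_smul, mul_smul, mul_smul, hta, ht', inv_smul_smul]
      have e4 : n'⁻¹ * ((t : G) * n * (t : G)⁻¹) = 1 :=
        hfree _ (N.mul_mem (N.inv_mem hn') (hNn.conj_mem n hn t)) e3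
      have e5 : (t : G) * n * (t : G)⁻¹ = n' := (inv_mul_eq_one.mp e4).symm
      rw [← e5]
      have := MulEquiv.orderOf_eq (MulAut.conj (t : G)) n
      rw [MulAut.conj_apply] at this
      exact this.symm
    have h12' : 12 ∣ Nat.card N := by
      rw [← h12]; exact h.card_dvd_of_normal (by norm_num) (by omega) N hNbot
    haveI : Fact (Nat.Prime 2) := ⟨by norm_num⟩
    haveI : Fact (Nat.Prime 3) := ⟨by norm_num⟩
    obtain ⟨x, hx⟩ := exists_prime_orderOf_dvd_card' (G := N) 2 (Dvd.dvd.trans (by norm_num) h12')
    obtain ⟨y, hy⟩ := exists_prime_orderOf_dvd_card' (G := N) 3 (Dvd.dvd.trans (by norm_num) h12')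
    rw [← Subgroup.orderOf_coe] at hx hy
    have hx1 : (x : G) ≠ 1 := by
      intro e
      rw [e, orderOf_one] at hx
      omega
    have hy1 : (y : G) ≠ 1 := by
      intro e
      rw [e, orderOf_one] at hy
      omega
    have := hconj x y x.2 y.2 hx1 hy1
    omega
  · -- the stabiliser lies in `N`, and `N` is transitive
    rw [Subgroup.subgroupOf_eq_top] at h0
    apply hNtop
    rw [eq_top_iff]
    intro g _
    obtain ⟨n, hn⟩ := exists_smul_eq N a (g • a)
    have hn' : (n : G) • a = g • a := hn
    have e1 : ((n : G)⁻¹ * g) ∈ stabilizer G a := by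
      rw [mem_stabilizer_iff, mul_smul, ← hn', inv_smul_smul]
    have e2 : g = (n : G) * ((n : G)⁻¹ * g) := by group
    rw [e2]
    exact N.mul_mem n.2 (h0 e1)

end Cfsg.Agent.Helper22.SharpK
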