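import Mathlib
import Cfsg.Agent.Lib.Helper23.SlhDefs

/-!
# S3050 PIECE SLH-E4ADD (core): the exponent-4 case, with the pieces E4RING / E4NF / E4RQ as hypotheses
-/

set_option autoImplicit false
set_option linter.unusedSectionVars false
set_option linter.unusedVariables false

namespace Cfsg.Agent.Helper23.Slh

open Cfsg.Agent.Helper12.NatMod

local notation "SL2" => Matrix.SpecialLinearGroup (Fin 2)

section PartN

variable {F : Type*} [Field F] [CharP F 2]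

theorem slh_e4add_two_mul_apply {Q : Type*} [AddCommGroup Q] (f : AddMonoid.End Q) (y : Q) :
    (2 * f) y = f y + f y := by
  rw [two_mul]; rfl

theorem slh_e4add_sq {E : Type*} [Ring E] (t : E) (ht : t * t = 1) :
    (t - 1) * (t - 1) = -(2 * (t - 1)) := by
  have h : (t - 1) * (t - 1) = t * t - 2 * t + 1 := by noncomm_ring
  rw [h, ht]; noncomm_ring

theorem slh_e4add_comm {E : Type*} [Ring E] (t b : E) (h : t * b = b * t) :
    (t - 1) * (b - 1) = (b - 1) * (t - 1) := by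
  have h1 : (t - 1) * (b - 1) = t * b - t - b + 1 := by noncomm_ring
  have h2 : (b - 1) * (t - 1) = b * t - b - t + 1 := by noncomm_ring
  rw [h1, h2, h]; abel

/-- the swap `uu 1 * ll 1 * uu 1` in coordinates (char 2) -/
theorem slh_e4add_swap (v : Fin 2 → F) :
    (((uu (1 : F) : SL2 F) : Matrix (Fin 2) (Fin 2) F).mulVec
      (((ll (1 : F) : SL2 F) : Matrix (Fin 2) (Fin 2) F).mulVec
        (((uu (1 : F) : SL2 F) : Matrix (Fin 2) (Fin 2) F).mulVec v))) 1 = v 0 := by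
  simp [Matrix.mulVec, dotProduct, Fin.sum_univ_two]
  have h : v 1 + v 1 = 0 := CharTwo.add_self_eq_zero (v 1)
  rw [add_assoc, h, add_zero]


/-- PIECE SLH-E4ADD, core: the three pieces SLH-E4RQ (`res`, `quo`), SLH-E4NF (at `Z` and at `Q / Z`) and
SLH-E4RING (at `AddMonoid.End Q`) are hypotheses. -/
theorem slh_e4add_core [Fintype F] (c : F) (hc0 : c ≠ 0) (hc1 : c ≠ 1)
    {Q : Type*} [AddCommGroup Q] (Z : AddSubgroup Q) (hZ : ∀ y, y ∈ Z ↔ y + y = 0)
    (T B T' : Q ≃+ Q) (hTT : ∀ y, T (T y) = y) (hBB : ∀ y, B (B y) = y) (hTB : ∀ y, T (B y) = B (T y))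
    {kz : ℕ} (ψZ : Z ≃+ (Fin kz → Fin 2 → F)) {kq : ℕ} (ψQ : Q →+ (Fin kq → Fin 2 → F))
    (hψQ : Function.Surjective ψQ) (hker : ∀ y, ψQ y = 0 ↔ y ∈ Z)
    (hZT : ∀ z z' : Z, (z' : Q) = T z → ∀ i,
      ψZ z' i = ((uu (1 : F) : SL2 F) : Matrix (Fin 2) (Fin 2) F).mulVec (ψZ z i))
    (hZB : ∀ z z' : Z, (z' : Q) = B z → ∀ i,
      ψZ z' i = ((uu c : SL2 F) : Matrix (Fin 2) (Fin 2) F).mulVec (ψZ z i))
    (hZT' : ∀ z z' : Z, (z' : Q) = T' z → ∀ i,
      ψZ z' i = ((ll (1 : F) : SL2 F) : Matrix (Fin 2) (Fin 2) F).mulVec (ψZ z i))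
    (hQT : ∀ y i, ψQ (T y) i = ((uu (1 : F) : SL2 F) : Matrix (Fin 2) (Fin 2) F).mulVec (ψQ y i))
    (hQB : ∀ y i, ψQ (B y) i = ((uu c : SL2 F) : Matrix (Fin 2) (Fin 2) F).mulVec (ψQ y i))
    (hQT' : ∀ y i, ψQ (T' y) i = ((ll (1 : F) : SL2 F) : Matrix (Fin 2) (Fin 2) F).mulVec (ψQ y i))
    (hRQ : ∃ (res : AddMonoid.End Q →+* AddMonoid.End Z)
      (quo : AddMonoid.End Q →+* AddMonoid.End (Fin kq → Fin 2 → F)),
      (∀ (f : AddMonoid.End Q) (z : Z), ((res f z : Z) : Q) = f (z : Q)) ∧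
      (∀ (f : AddMonoid.End Q) (y : Q), quo f (ψQ y) = ψQ (f y)))
    (hNFZ : ∀ (T B T' : AddMonoid.End Z)
      (hT : ∀ v i, ψZ (T v) i = ((uu (1 : F) : SL2 F) : Matrix (Fin 2) (Fin 2) F).mulVec (ψZ v i))
      (hB : ∀ v i, ψZ (B v) i = ((uu c : SL2 F) : Matrix (Fin 2) (Fin 2) F).mulVec (ψZ v i))
      (hT' : ∀ v i, ψZ (T' v) i = ((ll (1 : F) : SL2 F) : Matrix (Fin 2) (Fin 2) F).mulVec (ψZ v i))
      (a b a' C : AddMonoid.End Z) (ha : a = T - 1) (hb : b = B - 1) (ha' : a' = T' - 1)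
      (hC : C = b * a' + a' * b),
      b - a * C = 0 ∧ a * C - C * a = 0 ∧ C ^ (Fintype.card F - 1) - 1 = 0 ∧
        ∀ v i, ψZ ((a * (C - 1)) v) i = ![(c - 1) * ψZ v i 1, 0])
    (hNFV : ∀ (T B T' : AddMonoid.End (Fin kq → Fin 2 → F))
      (hT : ∀ v i, (AddEquiv.refl (Fin kq → Fin 2 → F)) (T v) i =
        ((uu (1 : F) : SL2 F) : Matrix (Fin 2) (Fin 2) F).mulVec ((AddEquiv.refl (Fin kq → Fin 2 → F)) v i))
      (hB : ∀ v i, (AddEquiv.refl (Fin kq → Fin 2 → F)) (B v) i =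
        ((uu c : SL2 F) : Matrix (Fin 2) (Fin 2) F).mulVec ((AddEquiv.refl (Fin kq → Fin 2 → F)) v i))
      (hT' : ∀ v i, (AddEquiv.refl (Fin kq → Fin 2 → F)) (T' v) i =
        ((ll (1 : F) : SL2 F) : Matrix (Fin 2) (Fin 2) F).mulVec ((AddEquiv.refl (Fin kq → Fin 2 → F)) v i))
      (a b a' C : AddMonoid.End (Fin kq → Fin 2 → F)) (ha : a = T - 1) (hb : b = B - 1) (ha' : a' = T' - 1)
      (hC : C = b * a' + a' * b),
      b - a * C = 0 ∧ a * C - C * a = 0 ∧ C ^ (Fintype.card F - 1) - 1 = 0 ∧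
        ∀ v i, (AddEquiv.refl (Fin kq → Fin 2 → F)) ((a * (C - 1)) v) i =
          ![(c - 1) * (AddEquiv.refl (Fin kq → Fin 2 → F)) v i 1, 0])
    (hRING : ∀ (J : AddSubgroup (AddMonoid.End Q)) (h4 : (4 : AddMonoid.End Q) = 0)
      (hJL : ∀ f g : AddMonoid.End Q, f ∈ J → g * f ∈ J) (hJR : ∀ f g : AddMonoid.End Q, f ∈ J → f * g ∈ J)
      (hJJ : ∀ f g : AddMonoid.End Q, f ∈ J → g ∈ J → f * g = 0)
      (hJ2 : ∀ f : AddMonoid.End Q, f ∈ J → 2 * f = 0)
      (a b C : AddMonoid.End Q) (ha : a * a = -(2 * a)) (hb : b * b = -(2 * b)) (hab : a * b = b * a)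
      (hP : b - a * C ∈ J) (hC : a * C - C * a ∈ J) (m : ℕ) (hm : Odd m) (hCm : C ^ m - 1 ∈ J),
      2 * (a * (C - 1)) = 0) :
    ∀ y : Q, y + y = 0 := by
  obtain ⟨res, quo, hres, hquo⟩ := hRQ
  -- basic facts
  have hVV : ∀ v : Fin kq → Fin 2 → F, v + v = 0 := by
    intro v; funext i j; exact CharTwo.add_self_eq_zero (v i j)
  have hdbl : ∀ y : Q, y + y ∈ Z := by
    intro y
    rw [← hker, map_add]; exact hVV _
  -- the endomorphisms
  let tE : AddMonoid.End Q := T.toAddMonoidHom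
  let bE : AddMonoid.End Q := B.toAddMonoidHom
  let tE' : AddMonoid.End Q := T'.toAddMonoidHom
  have htE : ∀ y, tE y = T y := fun y => rfl
  have hbE : ∀ y, bE y = B y := fun y => rfl
  have htE' : ∀ y, tE' y = T' y := fun y => rfl
  have htt : tE * tE = 1 := by
    apply AddMonoidHom.ext; intro y
    show tE (tE y) = y
    rw [htE, htE, hTT]
  have hbb : bE * bE = 1 := by
    apply AddMonoidHom.ext; intro y
    show bE (bE y) = y
    rw [hbE, hbE, hBB]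
  have htb : tE * bE = bE * tE := by
    apply AddMonoidHom.ext; intro y
    show tE (bE y) = bE (tE y)
    rw [htE, hbE, hbE, htE, hTB]
  -- the ideal J
  let J : AddSubgroup (AddMonoid.End Q) :=
    { carrier := {f | res f = 0 ∧ quo f = 0}
      zero_mem' := ⟨map_zero _, map_zero _⟩
      add_mem' := by
        rintro f g ⟨hf1, hf2⟩ ⟨hg1, hg2⟩
        exact ⟨by rw [map_add, hf1, hg1, add_zero], by rw [map_add, hf2, hg2, add_zero]⟩
      neg_mem' := by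
        rintro f ⟨hf1, hf2⟩
        exact ⟨by rw [map_neg, hf1, neg_zero], by rw [map_neg, hf2, neg_zero]⟩ }
  have hJmem : ∀ f : AddMonoid.End Q, f ∈ J ↔ res f = 0 ∧ quo f = 0 := fun f => Iff.rfl
  have hJim : ∀ f : AddMonoid.End Q, f ∈ J → ∀ y : Q, f y ∈ Z := by
    intro f hf y
    rw [← hker, ← hquo, ((hJmem f).1 hf).2]; rfl
  have hJker : ∀ f : AddMonoid.End Q, f ∈ J → ∀ z : Q, z ∈ Z → f z = 0 := by
    intro f hf z hz
    have h1 := hres f ⟨z, hz⟩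
    rw [((hJmem f).1 hf).1] at h1
    exact h1.symm
  have h4 : (4 : AddMonoid.End Q) = 0 := by
    have h : (4 : AddMonoid.End Q) = 2 * (2 * 1) := by norm_num
    rw [h]
    apply AddMonoidHom.ext; intro y
    show (2 * (2 * 1) : AddMonoid.End Q) y = 0
    rw [slh_e4add_two_mul_apply, slh_e4add_two_mul_apply]
    exact (hZ _).1 (hdbl y)
  have hJL : ∀ f g : AddMonoid.End Q, f ∈ J → g * f ∈ J := by
    intro f g hf
    exact ⟨by rw [map_mul, ((hJmem f).1 hf).1, mul_zero], by rw [map_mul, ((hJmem f).1 hf).2, mul_zero]⟩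
  have hJR : ∀ f g : AddMonoid.End Q, f ∈ J → f * g ∈ J := by
    intro f g hf
    exact ⟨by rw [map_mul, ((hJmem f).1 hf).1, zero_mul], by rw [map_mul, ((hJmem f).1 hf).2, zero_mul]⟩
  have hJJ : ∀ f g : AddMonoid.End Q, f ∈ J → g ∈ J → f * g = 0 := by
    intro f g hf hg
    apply AddMonoidHom.ext; intro y
    show f (g y) = 0
    exact hJker f hf _ (hJim g hg y)
  have hJ2 : ∀ f : AddMonoid.End Q, f ∈ J → 2 * f = 0 := by
    intro f hf
    apply AddMonoidHom.ext; intro y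
    show (2 * f : AddMonoid.End Q) y = 0
    rw [slh_e4add_two_mul_apply]
    exact (hZ _).1 (hJim f hf y)
  -- the elements
  obtain ⟨a, ha⟩ : ∃ a : AddMonoid.End Q, a = tE - 1 := ⟨_, rfl⟩
  obtain ⟨b, hb⟩ : ∃ b : AddMonoid.End Q, b = bE - 1 := ⟨_, rfl⟩
  obtain ⟨a', ha'⟩ : ∃ a' : AddMonoid.End Q, a' = tE' - 1 := ⟨_, rfl⟩
  obtain ⟨C, hC⟩ : ∃ C : AddMonoid.End Q, C = b * a' + a' * b := ⟨_, rfl⟩
  have haa : a * a = -(2 * a) := by rw [ha]; exact slh_e4add_sq tE htt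
  have hbb' : b * b = -(2 * b) := by rw [hb]; exact slh_e4add_sq bE hbb
  have hab : a * b = b * a := by rw [ha, hb]; exact slh_e4add_comm tE bE htb
  -- normal form relations on Z
  have hZ1 : ∀ v i, ψZ ((res tE) v) i =
      ((uu (1 : F) : SL2 F) : Matrix (Fin 2) (Fin 2) F).mulVec (ψZ v i) := by
    intro v i
    exact hZT v (res tE v) (by rw [hres]; rfl) i
  have hZ2 : ∀ v i, ψZ ((res bE) v) i =
      ((uu c : SL2 F) : Matrix (Fin 2) (Fin 2) F).mulVec (ψZ v i) := by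
    intro v i
    exact hZB v (res bE v) (by rw [hres]; rfl) i
  have hZ3 : ∀ v i, ψZ ((res tE') v) i =
      ((ll (1 : F) : SL2 F) : Matrix (Fin 2) (Fin 2) F).mulVec (ψZ v i) := by
    intro v i
    exact hZT' v (res tE' v) (by rw [hres]; rfl) i
  obtain ⟨nz1, nz2, nz3, nz4⟩ := hNFZ (res tE) (res bE) (res tE') hZ1 hZ2 hZ3 (res a) (res b) (res a') (res C)
    (by rw [ha, map_sub, map_one]) (by rw [hb, map_sub, map_one]) (by rw [ha', map_sub, map_one])
    (by rw [hC, map_add, map_mul, map_mul])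
  -- normal form relations on Q / Z
  have hV1 : ∀ v i, (AddEquiv.refl (Fin kq → Fin 2 → F)) ((quo tE) v) i =
      ((uu (1 : F) : SL2 F) : Matrix (Fin 2) (Fin 2) F).mulVec ((AddEquiv.refl (Fin kq → Fin 2 → F)) v i) := by
    intro v i
    obtain ⟨y, rfl⟩ := hψQ v
    show (quo tE (ψQ y)) i = _
    rw [hquo]; exact hQT y i
  have hV2 : ∀ v i, (AddEquiv.refl (Fin kq → Fin 2 → F)) ((quo bE) v) i =
      ((uu c : SL2 F) : Matrix (Fin 2) (Fin 2) F).mulVec ((AddEquiv.refl (Fin kq → Fin 2 → F)) v i) := by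
    intro v i
    obtain ⟨y, rfl⟩ := hψQ v
    show (quo bE (ψQ y)) i = _
    rw [hquo]; exact hQB y i
  have hV3 : ∀ v i, (AddEquiv.refl (Fin kq → Fin 2 → F)) ((quo tE') v) i =
      ((ll (1 : F) : SL2 F) : Matrix (Fin 2) (Fin 2) F).mulVec ((AddEquiv.refl (Fin kq → Fin 2 → F)) v i) := by
    intro v i
    obtain ⟨y, rfl⟩ := hψQ v
    show (quo tE' (ψQ y)) i = _
    rw [hquo]; exact hQT' y i
  obtain ⟨nv1, nv2, nv3, -⟩ := hNFV (quo tE) (quo bE) (quo tE') hV1 hV2 hV3 (quo a) (quo b) (quo a') (quo C)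
    (by rw [ha, map_sub, map_one]) (by rw [hb, map_sub, map_one]) (by rw [ha', map_sub, map_one])
    (by rw [hC, map_add, map_mul, map_mul])
  have hP : b - a * C ∈ J :=
    ⟨by rw [map_sub, map_mul]; exact nz1, by rw [map_sub, map_mul]; exact nv1⟩
  have hCJ : a * C - C * a ∈ J :=
    ⟨by rw [map_sub, map_mul, map_mul]; exact nz2, by rw [map_sub, map_mul, map_mul]; exact nv2⟩
  have hCm : C ^ (Fintype.card F - 1) - 1 ∈ J :=
    ⟨by rw [map_sub, map_pow, map_one]; exact nz3, by rw [map_sub, map_pow, map_one]; exact nv3⟩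
  have hodd : Odd (Fintype.card F - 1) := by
    have h1 : Fintype.card F % 2 = 0 := FiniteField.even_card_of_char_two (ringChar.eq F 2)
    have h2 : 0 < Fintype.card F := Fintype.card_pos
    rw [Nat.odd_iff]; omega
  have hmain := hRING J h4 hJL hJR hJJ hJ2 a b C haa hbb' hab hP hCJ (Fintype.card F - 1) hodd hCm
  -- second coordinates of 2Q vanish
  have key1 : ∀ (y : Q) (hz : y + y ∈ Z) (i : Fin kz), ψZ ⟨y + y, hz⟩ i 1 = 0 := by
    intro y hz i
    have h1 : (a * (C - 1)) (y + y) = 0 := by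
      have h2 := slh_e4add_two_mul_apply (a * (C - 1)) y
      rw [hmain] at h2
      rw [map_add]; exact h2.symm
    have h3 : (res a * (res C - 1)) ⟨y + y, hz⟩ = 0 := by
      apply Subtype.ext
      have h4 := hres (a * (C - 1)) ⟨y + y, hz⟩
      rw [map_mul, map_sub, map_one] at h4
      rw [h4]; exact h1
    have h5 := nz4 ⟨y + y, hz⟩ i
    rw [h3, map_zero] at h5
    have h6 := congrFun h5 0
    have h7 : (c - 1) * ψZ ⟨y + y, hz⟩ i 1 = 0 := by
      simpa using h6.symm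
    rcases mul_eq_zero.1 h7 with h8 | h8
    · exact absurd (sub_eq_zero.1 h8) hc1
    · exact h8
  -- the swap
  have hTZ : ∀ z : Q, z ∈ Z → T z ∈ Z := by
    intro z hz
    rw [hZ, ← map_add, (hZ z).1 hz, map_zero]
  have hTZ' : ∀ z : Q, z ∈ Z → T' z ∈ Z := by
    intro z hz
    rw [hZ, ← map_add, (hZ z).1 hz, map_zero]
  intro y
  have hz := hdbl y
  have hz1 := hTZ _ hz
  have hz2 := hTZ' _ hz1
  have hz3 := hTZ _ hz2
  have e1 := hZT ⟨y + y, hz⟩ ⟨T (y + y), hz1⟩ rfl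
  have e2 := hZT' ⟨T (y + y), hz1⟩ ⟨T' (T (y + y)), hz2⟩ rfl
  have e3 := hZT ⟨T' (T (y + y)), hz2⟩ ⟨T (T' (T (y + y))), hz3⟩ rfl
  have hsw : ∀ i, ψZ ⟨T (T' (T (y + y))), hz3⟩ i 1 = ψZ ⟨y + y, hz⟩ i 0 := by
    intro i
    rw [e3 i, e2 i, e1 i]
    exact slh_e4add_swap _
  have hz3' : T (T' (T y)) + T (T' (T y)) ∈ Z := hdbl _
  have heq3 : (⟨T (T' (T (y + y))), hz3⟩ : Z) = ⟨T (T' (T y)) + T (T' (T y)), hz3'⟩ := by
    apply Subtype.ext
    show T (T' (T (y + y))) = T (T' (T y)) + T (T' (T y))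
    rw [map_add, map_add, map_add]
  have hzero : ψZ ⟨y + y, hz⟩ = 0 := by
    funext i j
    fin_cases j
    · show ψZ ⟨y + y, hz⟩ i 0 = 0
      rw [← hsw i, heq3]
      exact key1 _ hz3' i
    · exact key1 y hz i
  have h9 : (⟨y + y, hz⟩ : Z) = 0 := by
    have := ψZ.injective (hzero.trans (map_zero ψZ).symm)
    exact this
  exact congrArg Subtype.val h9

end PartN

end Cfsg.Agent.Helper23.Slh
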