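import Mathlib
import Cfsg.Agent.Lib.Helper23.SlhDefs
import Cfsg.Agent.Lib.Helper22.SlhE4ADDCore
import Cfsg.Agent.Lib.Helper11.SlhE4RING
import Cfsg.Agent.Lib.Helper24.SLHE4RQ
import Cfsg.Agent.Lib.Helper12.SlhE4NF

/-!
# S3050 PIECE SLH-E4ADD: the exponent-4 case (exact-name wrapper of `slh_e4add_core`)
-/

set_option autoImplicit false
set_option linter.unusedSectionVars false
set_option linter.unusedVariables false

namespace Cfsg.Agent.Helper23.Slh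

open Cfsg.Agent.Helper12.NatMod

local notation "SL2" => Matrix.SpecialLinearGroup (Fin 2)

section PartN

variable {F : Type*} [Field F] [CharP F 2]

/-- PIECE SLH-E4ADD.  The exponent-4 case, additively (plan EXP4). -/
theorem exp4_add [Fintype F] (c : F) (hc0 : c ≠ 0) (hc1 : c ≠ 1)
    {Q : Type*} [AddCommGroup Q] (Z : AddSubgroup Q) (hZ : ∀ y, y ∈ Z ↔ y + y = 0)
    (T B T' : Q ≃+ Q) (hTT : ∀ y, T (T y) = y) (hBB : ∀ y, B (B y) = y) (hTB : ∀ y, T (B y) = B (T y))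
    {kz : ℕ} (ψZ : Z ≃+ (Fin kz → Fin 2 → F)) {kq : ℕ} (ψQ : Q →+ (Fin kq → Fin 2 → F))
    (hψQ : Function.Surjective ψQ) (hker : ∀ y, ψQ y = 0 ↔ y ∈ Z)
    (hZT : ∀ z z' : Z, (z' : Q) = T z → ∀ i,
      ψZ z' i = ((uu (1 : F) : SL2 F) : Matrix (Fin 2) (Fin 2) F).mulVec (ψZ z i))
    (hZB : ∀ z z' : Z, (z' : Q) = B z → ∀ i,
      ψZ z' i = ((uu c : SL2 F) : Matrix (Fin 2) (Fin 2) F).mulVec (ψZ z i))
    (hZT' : ∀ z z' : Z, (z' : Q) = T' z → ∀ i,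
      ψZ z' i = ((ll (1 : F) : SL2 F) : Matrix (Fin 2) (Fin 2) F).mulVec (ψZ z i))
    (hQT : ∀ y i, ψQ (T y) i = ((uu (1 : F) : SL2 F) : Matrix (Fin 2) (Fin 2) F).mulVec (ψQ y i))
    (hQB : ∀ y i, ψQ (B y) i = ((uu c : SL2 F) : Matrix (Fin 2) (Fin 2) F).mulVec (ψQ y i))
    (hQT' : ∀ y i, ψQ (T' y) i = ((ll (1 : F) : SL2 F) : Matrix (Fin 2) (Fin 2) F).mulVec (ψQ y i)) :
    ∀ y : Q, y + y = 0 :=
  slh_e4add_core c hc0 hc1 Z hZ T B T' hTT hBB hTB ψZ ψQ hψQ hker hZT hZB hZT' hQT hQB hQT'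
    (exists_res_quo Z hZ ψQ hψQ hker)
    (fun T B T' hT hB hT' a b a' C ha hb ha' hC =>
      nf_relations ψZ c hc0 T B T' hT hB hT' a b a' C ha hb ha' hC)
    (fun T B T' hT hB hT' a b a' C ha hb ha' hC =>
      nf_relations (AddEquiv.refl (Fin kq → Fin 2 → F)) c hc0 T B T' hT hB hT' a b a' C ha hb ha' hC)
    (fun J h4 hJL hJR hJJ hJ2 a b C ha hb hab hP hC m hm hCm =>
      exp4_ring J h4 hJL hJR hJJ hJ2 a b C ha hb hab hP hC m hm hCm)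

end PartN

end Cfsg.Agent.Helper23.Slh
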