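import Mathlib

set_option autoImplicit false

/-!
Transvection calculus over the field with two elements, without functionals:
`Tv g c` says that `g v ∈ {v, v + c}` for all `v` and `g c = c`.
-/

namespace Cfsg.Agent.Helper22.TvSolv

variable {V : Type*} [AddCommGroup V] [Module (ZMod 2) V]

theorem add_self_z2 (x : V) : x + x = 0 := by
  have h : (2 : ZMod 2) • x = 0 := by
    rw [show (2 : ZMod 2) = 0 from rfl, zero_smul]
  rwa [two_smul] at h

/-- `g` moves every vector by `0` or `c`, and fixes `c` -/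
def Tv (g : V ≃ₗ[ZMod 2] V) (c : V) : Prop :=
  (∀ v, g v = v ∨ g v = v + c) ∧ g c = c

theorem Tv.conj {g : V ≃ₗ[ZMod 2] V} {c : V} (h : Tv g c) (y : V ≃ₗ[ZMod 2] V) :
    Tv (y⁻¹ * g * y) (y⁻¹ c) := by
  have hyy : ∀ v, y⁻¹ (y v) = v := by
    intro v
    rw [← LinearEquiv.mul_apply, inv_mul_cancel]; rfl
  have hyy' : ∀ v, y (y⁻¹ v) = v := by
    intro v
    rw [← LinearEquiv.mul_apply, mul_inv_cancel]; rfl
  constructor
  · intro v
    rcases h.1 (y v) with h1 | h1
    · left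
      rw [LinearEquiv.mul_apply, LinearEquiv.mul_apply, h1, hyy]
    · right
      rw [LinearEquiv.mul_apply, LinearEquiv.mul_apply, h1, map_add, hyy]
  · rw [LinearEquiv.mul_apply, LinearEquiv.mul_apply, hyy', h.2]

/-- two such maps with the same centre: the product squares to one -/
theorem sq_eq_one_of_same {g₁ g₂ : V ≃ₗ[ZMod 2] V} {c : V} (h₁ : Tv g₁ c) (h₂ : Tv g₂ c) :
    (g₁ * g₂) * (g₁ * g₂) = 1 := by
  have key : ∀ v, (g₁ * g₂) v = v ∨ (g₁ * g₂) v = v + c := by
    intro v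
    rw [LinearEquiv.mul_apply]
    rcases h₂.1 v with h | h
    · rw [h]
      exact h₁.1 v
    · rw [h, map_add, h₁.2]
      rcases h₁.1 v with h' | h'
      · right
        rw [h']
      · left
        rw [h', add_assoc, add_self_z2, add_zero]
  have hc : (g₁ * g₂) c = c := by
    rw [LinearEquiv.mul_apply, h₂.2, h₁.2]
  ext v
  rw [LinearEquiv.mul_apply]
  show (g₁ * g₂) ((g₁ * g₂) v) = v
  rcases key v with h | h
  · rw [h, h]
  · rw [h, map_add, hc, h, add_assoc, add_self_z2, add_zero]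

/-- if `g₁` fixes the centre of `g₂` then `(g₁ g₂)⁴ = 1` -/
theorem pow_four_of_fix {g₁ g₂ : V ≃ₗ[ZMod 2] V} {c₁ c₂ : V} (_h₁ : Tv g₁ c₁) (h₂ : Tv g₂ c₂)
    (hg₁ : g₁ * g₁ = 1) (hfix : g₁ c₂ = c₂) : (g₁ * g₂) ^ 4 = 1 := by
  have hinv : g₁⁻¹ = g₁ := inv_eq_of_mul_eq_one_left hg₁
  have h₂' : Tv (g₁ * g₂ * g₁) c₂ := by
    have := h₂.conj g₁
    rw [hinv, hfix] at this
    exact this
  have h := sq_eq_one_of_same h₂' h₂
  calc (g₁ * g₂) ^ 4 = (g₁ * g₂ * g₁ * g₂) * (g₁ * g₂ * g₁ * g₂) := by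
        rw [show (4 : ℕ) = 2 + 2 from rfl, pow_add, pow_two]
        simp only [mul_assoc]
    _ = 1 := h

theorem eq_one_of_pow_four {G : Type*} [Group G] {g : G} {n : ℕ} (hn : Odd n) (h1 : g ^ n = 1)
    (h4 : g ^ 4 = 1) : g = 1 := by
  have hd1 : orderOf g ∣ n := orderOf_dvd_of_pow_eq_one h1
  have hd4 : orderOf g ∣ 4 := orderOf_dvd_of_pow_eq_one h4
  have hcop : Nat.Coprime n 4 := by
    have : Nat.Coprime n 2 := Nat.coprime_two_right.mpr hn
    exact Nat.Coprime.pow_right 2 this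
  have : orderOf g ∣ 1 := by
    have := Nat.dvd_gcd hd1 hd4
    rwa [hcop.gcd_eq_one] at this
  exact orderOf_eq_one_iff.mp (Nat.dvd_one.mp this)

/-- two distinct involutory transvections with product of odd order move each other's centre -/
theorem moves_of_odd {d e : V ≃ₗ[ZMod 2] V} {cd ce : V} (hd : Tv d cd) (he : Tv e ce)
    (hd2 : d * d = 1) (he2 : e * e = 1) {n : ℕ} (hn : Odd n) (hde : (d * e) ^ n = 1)
    (hne : d ≠ e) : d ce ≠ ce ∧ e cd ≠ cd := by
  have hdinv : d⁻¹ = d := inv_eq_of_mul_eq_one_left hd2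
  have heinv : e⁻¹ = e := inv_eq_of_mul_eq_one_left he2
  constructor
  · intro hfix
    have h4 := pow_four_of_fix hd he hd2 hfix
    have h1 := eq_one_of_pow_four hn hde h4
    apply hne
    calc d = (d * e) * e⁻¹ := by group
      _ = e := by rw [h1, one_mul, heinv]
  · intro hfix
    have h4 := pow_four_of_fix he hd he2 hfix
    have hed : (e * d) ^ n = 1 := by
      have : e * d = d⁻¹ * (d * e) * d := by group
      have h2 : (d⁻¹ * (d * e) * d) ^ n = d⁻¹ * (d * e) ^ n * d := by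
        have := conj_pow (i := n) (a := d⁻¹) (b := d * e)
        rwa [inv_inv] at this
      rw [this, h2, hde]
      group
    have h1 := eq_one_of_pow_four hn hed h4
    apply hne
    calc d = e⁻¹ * (e * d) := by group
      _ = e := by rw [h1, mul_one, heinv]

/-- a class of involutory transvections with pairwise products of odd order, closed under
conjugation, has at most three elements -/
theorem three {d e f : V ≃ₗ[ZMod 2] V} {cd ce cf : V} (hd : Tv d cd) (he : Tv e ce)
    (hf : Tv f cf) (hd2 : d * d = 1) (he2 : e * e = 1) (hf2 : f * f = 1)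
    {n₁ n₂ n₃ n₄ : ℕ} (hn₁ : Odd n₁) (hn₂ : Odd n₂) (hn₃ : Odd n₃) (hn₄ : Odd n₄)
    (hde : (d * e) ^ n₁ = 1) (hdf : (d * f) ^ n₂ = 1) (hef : (e * f) ^ n₃ = 1)
    (hedef : ((e * d * e) * f) ^ n₄ = 1)
    (hne : d ≠ e) : f = d ∨ f = e ∨ f = e * d * e := by
  by_contra hcon
  push Not at hcon
  obtain ⟨hfd, hfe, hfede⟩ := hcon
  have heinv : e⁻¹ = e := inv_eq_of_mul_eq_one_left he2
  have h1 := moves_of_odd hd he hd2 he2 hn₁ hde hne
  have h2 := moves_of_odd hd hf hd2 hf2 hn₂ hdf (Ne.symm hfd)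
  have h3 := moves_of_odd he hf he2 hf2 hn₃ hef (Ne.symm hfe)
  have hede : Tv (e * d * e) (e cd) := by
    have := hd.conj e
    rwa [heinv] at this
  have hede2 : (e * d * e) * (e * d * e) = 1 := by
    calc (e * d * e) * (e * d * e) = e * d * (e * e) * d * e := by simp only [mul_assoc]
      _ = e * (d * d) * e := by rw [he2, mul_one]; simp only [mul_assoc]
      _ = 1 := by rw [hd2, mul_one, he2]
  have h4 := moves_of_odd hede hf hede2 hf2 hn₄ hedef (Ne.symm hfede)
  -- compute `e d e cf`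
  have e_cf : e cf = cf + ce := (he.1 cf).resolve_left h3.1
  have d_cf : d cf = cf + cd := (hd.1 cf).resolve_left h2.1
  have d_ce : d ce = ce + cd := (hd.1 ce).resolve_left h1.1
  apply h4.1
  rw [LinearEquiv.mul_apply, LinearEquiv.mul_apply, e_cf, map_add, d_cf, d_ce, map_add, map_add,
    map_add, e_cf, he.2]
  have : cf + ce + e cd + (ce + e cd) = cf + (ce + ce) + (e cd + e cd) := by abel
  rw [this, add_self_z2, add_self_z2, add_zero, add_zero]

end Cfsg.Agent.Helper22.TvSolv
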