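import Mathlib

/-!
# A counting lemma: all orbits except a fixed point have size divisible by `m`
-/

set_option autoImplicit false

namespace Cfsg.Agent.Helper22.TwoMax

theorem dvd_card_sub_one_of_orbits {H X : Type*} [Group H] [MulAction H X] [Finite X] (m : ℕ)
    (x₀ : X) (hfix : ∀ g : H, g • x₀ = x₀)
    (hdvd : ∀ x : X, x ≠ x₀ → m ∣ Nat.card (MulAction.orbit H x)) : m ∣ Nat.card X - 1 := by
  classical
  have : Fintype (MulAction.orbitRel.Quotient H X) := Fintype.ofFinite _
  have hcard : Nat.card X = ∑ ω : MulAction.orbitRel.Quotient H X,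
      Nat.card (MulAction.orbit H ω.out) := by
    rw [Nat.card_congr (MulAction.selfEquivSigmaOrbits H X), Nat.card_sigma]
  set ω₀ : MulAction.orbitRel.Quotient H X := Quotient.mk'' x₀ with hω₀
  have horb : MulAction.orbit H x₀ = {x₀} := by
    ext y
    constructor
    · rintro ⟨g, rfl⟩
      exact hfix g
    · rintro rfl
      exact MulAction.mem_orbit_self _
  have hout : ω₀.out = x₀ := by
    have h1 : (Quotient.mk'' ω₀.out : MulAction.orbitRel.Quotient H X) = Quotient.mk'' x₀ :=
      Quotient.out_eq' ω₀
    have h2 : ω₀.out ∈ MulAction.orbit H x₀ := by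
      have := Quotient.exact' h1
      exact this
    rw [horb] at h2
    exact h2
  have h0 : Nat.card (MulAction.orbit H ω₀.out) = 1 := by
    rw [hout, horb]
    simp
  have hrest : ∀ ω : MulAction.orbitRel.Quotient H X, ω ≠ ω₀ →
      m ∣ Nat.card (MulAction.orbit H ω.out) := by
    intro ω hω
    apply hdvd
    intro he
    apply hω
    rw [← Quotient.out_eq' ω, he]
  rw [hcard, ← Finset.add_sum_erase Finset.univ _ (Finset.mem_univ ω₀), h0, Nat.add_sub_cancel_left]
  apply Finset.dvd_sum
  intro ω hω
  exact hrest ω (Finset.ne_of_mem_erase hω)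

end Cfsg.Agent.Helper22.TwoMax
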