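import Mathlib
import Cfsg.Agent.Lib.Helper22.TwoMaxDefs
import Cfsg.Agent.Lib.Helper22.TwoMaxOrb

/-!
# Two classes of maximal subgroups: basic facts in the simple case
-/

set_option autoImplicit false
open Pointwise

namespace Cfsg.Agent.Helper22.TwoMax

variable {G : Type*} [Group G] [Finite G]

section simple
variable {M₁ M₂ : Subgroup G} (h : TwoCls M₁ M₂)
  (hs : ∀ N : Subgroup G, N.Normal → N = ⊥ ∨ N = ⊤)
include h hs

theorem not_normal_left : ¬ M₁.Normal := by
  intro hn
  rcases hs M₁ hn with h0 | h0
  · exact h.ne_bot_left h0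
  · exact h.h1.1 h0

theorem normalizer_left : Subgroup.normalizer (M₁ : Set G) = M₁ := by
  by_contra hne
  have hlt : M₁ < Subgroup.normalizer (M₁ : Set G) :=
    lt_of_le_of_ne Subgroup.le_normalizer (Ne.symm hne)
  have htop := h.h1.2 _ hlt
  exact not_normal_left h hs (Subgroup.normalizer_eq_top_iff.1 htop)

theorem not_isPGroup (p : ℕ) [Fact p.Prime] : ¬ IsPGroup p G := by
  intro hp
  have hnil : Group.IsNilpotent G := hp.isNilpotent
  exact not_normal_left h hs (Subgroup.NormalizerCondition.normal_of_coatom (H := M₁) Group.normalizerCondition_of_isNilpotent h.h1)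

theorem coprime_index : Nat.Coprime M₁.index M₂.index := by
  apply Nat.coprime_of_dvd
  intro p hp hp1 hp2
  have : Fact p.Prime := ⟨hp⟩
  obtain P : Sylow p G := default
  have hPtop : (P : Subgroup G) ≠ ⊤ := by
    intro htop
    apply not_isPGroup h hs p
    obtain ⟨n, hn⟩ := IsPGroup.iff_card.1 P.isPGroup'
    apply IsPGroup.of_card (n := n)
    rw [← hn, htop, Subgroup.card_top]
  rcases eq_top_or_exists_le_coatom (P : Subgroup G) with h0 | ⟨L, hL, hPL⟩
  · exact hPtop h0
  · have hd : L.index ∣ (P : Subgroup G).index := Subgroup.index_dvd_of_le hPL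
    have hnd : ¬ p ∣ (P : Subgroup G).index := P.not_dvd_index
    rcases h.index_coatom hL with he | he
    · exact hnd (dvd_trans (he ▸ hp1) hd)
    · exact hnd (dvd_trans (he ▸ hp2) hd)

theorem card_inf_conj (a b : G) :
    Nat.card ↥(MulAut.conj a • M₁ ⊓ MulAut.conj b • M₂) * (M₁.index * M₂.index) = Nat.card G := by
  set A := MulAut.conj a • M₁ with hA
  set B := MulAut.conj b • M₂ with hB
  have hiA : A.index = M₁.index := index_conj_smul _ _
  have hiB : B.index = M₂.index := index_conj_smul _ _
  have hcop : Nat.Coprime A.index B.index := by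
    rw [hiA, hiB]; exact coprime_index h hs
  have h1 : A.index ∣ (A ⊓ B).index := Subgroup.index_dvd_of_le inf_le_left
  have h2 : B.index ∣ (A ⊓ B).index := Subgroup.index_dvd_of_le inf_le_right
  have h3 : A.index * B.index ∣ (A ⊓ B).index := hcop.mul_dvd_of_dvd_of_dvd h1 h2
  have h4 : (A ⊓ B).index ≤ A.index * B.index := Subgroup.index_inf_le
  have h5 : (A ⊓ B).index ≠ 0 := Subgroup.index_ne_zero_of_finite
  have h6 : (A ⊓ B).index = A.index * B.index :=
    le_antisymm h4 (Nat.le_of_dvd (Nat.pos_of_ne_zero h5) h3)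
  rw [← hiA, ← hiB, ← h6]
  exact Subgroup.card_mul_index _

/-- Orbit counting for `M₁` acting on `G ⧸ M₁`. -/
theorem index_dvd_pred_of
    (hrel : ∀ g : G, MulAut.conj g • M₁ ≠ M₁ →
      M₂.index ∣ (MulAut.conj g • M₁).relIndex M₁) : M₂.index ∣ M₁.index - 1 := by
  have key := dvd_card_sub_one_of_orbits (H := ↥M₁) (X := G ⧸ M₁) M₂.index
    ((1 : G) : G ⧸ M₁) ?_ ?_
  · exact key
  · rintro ⟨m, hm⟩
    show (((m * 1 : G)) : G ⧸ M₁) = ((1 : G) : G ⧸ M₁)
    rw [QuotientGroup.eq]
    simpa using hm
  · intro x hx
    induction x using QuotientGroup.induction_on with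
    | H g =>
      have hg : g ∉ M₁ := by
        intro hg
        apply hx
        rw [QuotientGroup.eq]
        simpa using hg
      have hconj : MulAut.conj g • M₁ ≠ M₁ := by
        intro he
        apply hg
        rw [← normalizer_left h hs]
        rw [Subgroup.mem_normalizer_iff]
        intro y
        constructor
        · intro hy
          have : g * y * g⁻¹ ∈ MulAut.conj g • M₁ := by
            rw [mem_conj_smul]
            simpa [mul_assoc] using hy
          rwa [he] at this
        · intro hy
          rw [← he, mem_conj_smul] at hy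
          simpa [mul_assoc] using hy
      have hstab : MulAction.stabilizer ↥M₁ ((g : G) : G ⧸ M₁) =
          (MulAut.conj g • M₁).subgroupOf M₁ := by
        ext ⟨m, hm⟩
        rw [MulAction.mem_stabilizer_iff, Subgroup.mem_subgroupOf, mem_conj_smul]
        show (((m * g : G)) : G ⧸ M₁) = ((g : G) : G ⧸ M₁) ↔ _
        rw [QuotientGroup.eq]
        constructor
        · intro hh
          have := M₁.inv_mem hh
          simpa [mul_assoc] using this
        · intro hh
          have := M₁.inv_mem hh
          simpa [mul_assoc] using this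
      have hcard : Nat.card (MulAction.orbit ↥M₁ ((g : G) : G ⧸ M₁)) =
          (MulAut.conj g • M₁).relIndex M₁ := by
        rw [Nat.card_coe_set_eq, ← MulAction.index_stabilizer, hstab]
        rfl
      rw [hcard]
      exact hrel g hconj

end simple

end Cfsg.Agent.Helper22.TwoMax
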