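import Mathlib
import Cfsg.Agent.Lib.Helper6.UniDefs
import Cfsg.Agent.Lib.Helper6.ChevLLevi
import Cfsg.Agent.Lib.Helper17.ChevSt2
import Cfsg.Agent.Lib.Lead.ChevBruhat2
import Cfsg.Agent.Lib.Lead.ChevUw
import Cfsg.Agent.S1027
import Cfsg.Agent.S1036
import Cfsg.Agent.S1048
import Cfsg.Agent.S2326

/-!
# S2314 PIECE UNI-CHEVDATA, core: `uni_chevdata_core`

The split data of a Chevalley group (`SplitData hF.bnPair p`), with the pieces UNI-WJ, UNI-RJ, UNI-NDESC taken as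
hypotheses in the exact form of `plans/S2314_SkelChev.lean.txt`.
-/

set_option autoImplicit false
set_option linter.unusedSectionVars false
set_option linter.unusedVariables false

namespace Cfsg.Agent.Helper6.Uni

open Cfsg Cfsg.Lie Cfsg.Agent.Lead.Chev Cfsg.Agent.Helper6.ChevL Cfsg.Agent.Helper17.ChevSt
  Cfsg.Agent.Helper2.WordLen Cfsg.Agent.Helper2.BN Cfsg.Agent.Helper17.BNCox

variable {F : Type*} [Field F] {D : ChevalleyDatum} (hF : ChevFacts D F)

/-- the set of indices of fundamental roots attached to a set of distinguished generators -/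
def uni_chevdata_J (A : Finset ↥(hF.bnPair.S)) : Set ℕ :=
  {i | ∃ h : i < D.rank, sEquiv hF ⟨i, h⟩ ∈ A}

theorem uni_chevdata_coe_sEquiv (i : Fin D.rank) :
    (((sEquiv hF i : ↥(hF.bnPair.S)) : ↥(D.group F)) : GL D.Idx F) = nGL D hF.xadd (D.simple i) := rfl

/-- `U_J ≤ U` -/
theorem uni_chevdata_radical_le (J : Set ℕ) : D.unipotentRadical F J ≤ D.posUnipotent F := by
  unfold ChevalleyDatum.unipotentRadical ChevalleyDatum.posUnipotent
  apply Subgroup.closure_mono
  rintro g ⟨r, t, hr, _, hg⟩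
  exact ⟨r, t, hr, hg⟩

/-- `U_J = 1` when `J` contains all fundamental roots -/
theorem uni_chevdata_radical_bot (J : Set ℕ) (hJ : ∀ i < D.rank, i ∈ J) :
    D.unipotentRadical F J = ⊥ := by
  unfold ChevalleyDatum.unipotentRadical
  rw [Subgroup.closure_eq_bot_iff]
  rintro g ⟨r, t, hr, hnr, _⟩
  exfalso
  apply hnr
  refine ⟨hr.1, fun i hi hiJ => ?_⟩
  exact absurd (hJ i hi) hiJ

/-- a word in `J_A` is a product of elements of `A` -/
theorem uni_chevdata_word_mem (A : Finset ↥(hF.bnPair.S)) (w : List ℕ)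
    (hw : ∀ i ∈ w, i ∈ uni_chevdata_J hF A ∧ i < D.rank) :
    (⟨nWordGL D hF.xadd w, nWordGL_mem_group D hF.xadd w⟩ : ↥(D.group F)) ∈
      Subgroup.closure (Subtype.val '' (↑A : Set ↥(hF.bnPair.S))) := by
  induction w with
  | nil =>
    have : (⟨nWordGL D hF.xadd [], nWordGL_mem_group D hF.xadd []⟩ : ↥(D.group F)) = 1 := by
      apply Subtype.ext
      exact nWordGL_nil D hF.xadd
    rw [this]
    exact one_mem _
  | cons i w ih =>
    obtain ⟨⟨h, hiA⟩, _⟩ := hw i List.mem_cons_self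
    have hrest := ih (fun j hj => hw j (List.mem_cons_of_mem _ hj))
    have heq : (⟨nWordGL D hF.xadd (i :: w), nWordGL_mem_group D hF.xadd (i :: w)⟩ : ↥(D.group F)) =
        ((sEquiv hF ⟨i, h⟩ : ↥(hF.bnPair.S)) : ↥(D.group F)) *
          ⟨nWordGL D hF.xadd w, nWordGL_mem_group D hF.xadd w⟩ := by
      apply Subtype.ext
      rw [Subgroup.coe_mul]
      show nWordGL D hF.xadd (i :: w) = nGL D hF.xadd (D.simple i) * nWordGL D hF.xadd w
      exact nWordGL_cons D hF.xadd i w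
    rw [heq]
    refine mul_mem (Subgroup.subset_closure ?_) hrest
    exact ⟨sEquiv hF ⟨i, h⟩, hiA, rfl⟩

/-- PIECE UNI-CHEVDATA, core version: WJ, RJ, NDESC as hypotheses. -/
theorem uni_chevdata_core [Fintype F] (p : ℕ) [Fact p.Prime] [CharP F p]
    (hD : D ∈ [chevG2, chevB2, chevD4, chevF4, chevE6, chevE7, chevE8])
    (hWJ : ∀ J : Set ℕ, ∃ w : List ℕ, (∀ i ∈ w, i ∈ J ∧ i < D.rank) ∧
      ∀ j ∈ J, j < D.rank → D.IsNegRoot (reflWord D w (D.simple j)))
    (hRJ : ∀ (J : Set ℕ) (w : List ℕ), (∀ i ∈ w, i ∈ J ∧ i < D.rank) →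
      (∀ j ∈ J, j < D.rank → D.IsNegRoot (reflWord D w (D.simple j))) →
      ∀ x : GL D.Idx F, x ∈ D.posUnipotent F →
      (nWordGL D hF.xadd w * x * (nWordGL D hF.xadd w)⁻¹ ∈ D.borelSubgroup F ↔
        x ∈ D.unipotentRadical F J))
    (hNDESC : ∀ (J : Set ℕ) (w : List ℕ), (∀ i ∈ w, i ∈ J ∧ i < D.rank) →
      (∀ j ∈ J, j < D.rank → D.IsNegRoot (reflWord D w (D.simple j))) →
      ∀ j : ℕ, j ∈ J → j < D.rank →
      ∃ b ∈ D.borelSubgroup F, ∃ b' ∈ D.borelSubgroup F, ∃ b'' ∈ D.borelSubgroup F,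
        nGL D hF.xadd (D.simple j) * b * (nWordGL D hF.xadd w)⁻¹ =
          b' * (nWordGL D hF.xadd w)⁻¹ * b'') :
    ∃ S : SplitData hF.bnPair p,
      S.U = (D.posUnipotent F).subgroupOf (D.group F) ∧ S.R Finset.univ = ⊥ := by
  classical
  -- the words
  choose wJ hwJ hneg using hWJ
  let J : Finset ↥(hF.bnPair.S) → Set ℕ := uni_chevdata_J hF
  let nw : Finset ↥(hF.bnPair.S) → GL D.Idx F := fun A => nWordGL D hF.xadd (wJ (J A))
  have hnwG : ∀ A, nw A ∈ D.group F := fun A => nWordGL_mem_group D hF.xadd _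
  have hnwN : ∀ A, nw A ∈ D.monomialSubgroup F := fun A =>
    nWordGL_mem_monomial D hF.xadd hF.simple_lt _ (fun i hi => (hwJ (J A) i hi).2)
  have hB : hF.bnPair.B = (D.borelSubgroup F).subgroupOf (D.group F) := rfl
  have hS1036 := Cfsg.Agent.S1036.result (F := F) D hD
  have hBnorm : D.borelSubgroup F ≤ Subgroup.normalizer (D.posUnipotent F : Set (GL D.Idx F)) :=
    sup_le Subgroup.le_normalizer hS1036.1
  obtain ⟨Psyl, hPsyl⟩ := Cfsg.Agent.S2326.result (F := F) p D hD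
  have hfinG : Finite ↥(D.group F) := inferInstance
  refine ⟨{
    U := (D.posUnipotent F).subgroupOf (D.group F)
    T := (D.diagonalSubgroup F).subgroupOf (D.group F)
    n := fun A => ⟨(nw A)⁻¹, inv_mem (hnwG A)⟩
    R := fun A => (D.unipotentRadical F (J A)).subgroupOf (D.group F)
    U_le := ?_
    U_norm := ?_
    U_pgroup := ?_
    U_index := ?_
    T_le := ?_
    T_conj := ?_
    B_eq := ?_
    n_mem := ?_
    n_desc := ?_
    R_mem := ?_
    R_norm := ?_ }, rfl, ?_⟩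
  · -- U_le
    intro x hx
    rw [hB, Subgroup.mem_subgroupOf]
    exact posUnipotent_le_borel D (Subgroup.mem_subgroupOf.1 hx)
  · -- U_norm
    intro b hb u hu
    rw [hB, Subgroup.mem_subgroupOf] at hb
    rw [Subgroup.mem_subgroupOf] at hu ⊢
    have := (Subgroup.mem_normalizer_iff.1 (hBnorm hb) (u : GL D.Idx F)).1 hu
    simpa using this
  · -- U_pgroup
    rw [← hPsyl]
    exact Psyl.isPGroup'
  · -- U_index
    rw [← hPsyl]
    exact Psyl.not_dvd_index
  · -- T_le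
    intro x hx
    rw [hB, Subgroup.mem_subgroupOf]
    exact diagonal_le_borel D (Subgroup.mem_subgroupOf.1 hx)
  · -- T_conj
    intro A t ht
    rw [hB, Subgroup.mem_subgroupOf]
    rw [Subgroup.mem_subgroupOf] at ht
    have h1 := hF.monomial_conj_mem_diagonal (nw A) (hnwN A) (t : GL D.Idx F) ht
    have h2 : (((⟨(nw A)⁻¹, inv_mem (hnwG A)⟩ : ↥(D.group F))⁻¹ * t *
        ⟨(nw A)⁻¹, inv_mem (hnwG A)⟩ : ↥(D.group F)) : GL D.Idx F) =
        nw A * (t : GL D.Idx F) * (nw A)⁻¹ := by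
      simp
    rw [h2]
    exact diagonal_le_borel D h1
  · -- B_eq
    intro b hb
    rw [hB, Subgroup.mem_subgroupOf] at hb
    obtain ⟨u, hu, h, hh, hbe⟩ := (hF.mem_borel_iff _).1 hb
    refine ⟨⟨u, hF.posUnipotent_le_group hu⟩, ?_, ⟨h, hF.diagonal_le_group hh⟩, ?_, ?_⟩
    · rw [Subgroup.mem_subgroupOf]; exact hu
    · rw [Subgroup.mem_subgroupOf]; exact hh
    · apply Subtype.ext
      rw [Subgroup.coe_mul]
      exact hbe
  · -- n_mem
    intro A
    unfold NA
    apply Subgroup.mem_sup_left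
    have h1 := uni_chevdata_word_mem hF A (wJ (J A)) (hwJ (J A))
    have h2 : (⟨(nw A)⁻¹, inv_mem (hnwG A)⟩ : ↥(D.group F)) =
        (⟨nWordGL D hF.xadd (wJ (J A)), nWordGL_mem_group D hF.xadd (wJ (J A))⟩ : ↥(D.group F))⁻¹ := by
      apply Subtype.ext
      rfl
    rw [h2]
    exact inv_mem h1
  · -- n_desc
    intro A s hs
    obtain ⟨⟨j, hj⟩, rfl⟩ := (sEquiv hF).surjective s
    have hjJ : j ∈ J A := ⟨hj, hs⟩
    obtain ⟨b, hb, b', hb', b'', hb'', heq⟩ := hNDESC (J A) (wJ (J A)) (hwJ (J A)) (hneg (J A)) j hjJ hj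
    refine ⟨⟨b, hF.borel_le_group hb⟩, ?_, ⟨b', hF.borel_le_group hb'⟩, ?_,
      ⟨b'', hF.borel_le_group hb''⟩, ?_, ?_⟩
    · rw [hB, Subgroup.mem_subgroupOf]; exact hb
    · rw [hB, Subgroup.mem_subgroupOf]; exact hb'
    · rw [hB, Subgroup.mem_subgroupOf]; exact hb''
    · apply Subtype.ext
      simp only [Subgroup.coe_mul]
      rw [uni_chevdata_coe_sEquiv]
      exact heq
  · -- R_mem
    intro A x
    rw [hB, Subgroup.mem_subgroupOf, Subgroup.mem_subgroupOf, Subgroup.mem_subgroupOf]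
    have h2 : (((⟨(nw A)⁻¹, inv_mem (hnwG A)⟩ : ↥(D.group F))⁻¹ * x *
        ⟨(nw A)⁻¹, inv_mem (hnwG A)⟩ : ↥(D.group F)) : GL D.Idx F) =
        nw A * (x : GL D.Idx F) * (nw A)⁻¹ := by
      simp
    rw [h2]
    constructor
    · intro hx
      have hxU := uni_chevdata_radical_le (F := F) (D := D) (J A) hx
      exact ⟨hxU, (hRJ (J A) (wJ (J A)) (hwJ (J A)) (hneg (J A)) _ hxU).2 hx⟩
    · rintro ⟨hxU, hxB⟩
      exact (hRJ (J A) (wJ (J A)) (hwJ (J A)) (hneg (J A)) _ hxU).1 hxB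
  · -- R_norm
    intro A g hg x hx
    have hS1048 := (Cfsg.Agent.S1048.result (F := F) D hD (J A)).1
    have hle : par hF.bnPair (↑A : Set ↥(hF.bnPair.S)) ≤
        (D.parabolicSubgroup F (J A)).subgroupOf (D.group F) := by
      unfold par BNPair.parabolic
      apply sup_le
      · intro y hy
        rw [hB, Subgroup.mem_subgroupOf] at hy
        rw [Subgroup.mem_subgroupOf]
        exact Subgroup.mem_sup_left hy
      · rw [Subgroup.closure_le]
        rintro _ ⟨s, hs, rfl⟩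
        obtain ⟨⟨j, hj⟩, rfl⟩ := (sEquiv hF).surjective s
        show (((sEquiv hF ⟨j, hj⟩ : ↥(hF.bnPair.S)) : ↥(D.group F)) : GL D.Idx F) ∈
          D.parabolicSubgroup F (J A)
        rw [uni_chevdata_coe_sEquiv]
        apply Subgroup.mem_sup_right
        apply Subgroup.subset_closure
        exact ⟨j, ⟨hj, hs⟩, hj, nGL_val D hF.xadd _⟩
    have hgP : (g : GL D.Idx F) ∈ D.parabolicSubgroup F (J A) := Subgroup.mem_subgroupOf.1 (hle hg)
    rw [Subgroup.mem_subgroupOf] at hx ⊢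
    have := (Subgroup.mem_normalizer_iff.1 (hS1048 hgP) (x : GL D.Idx F)).1 hx
    simpa using this
  · -- R univ = ⊥
    show (D.unipotentRadical F (J Finset.univ)).subgroupOf (D.group F) = ⊥
    rw [uni_chevdata_radical_bot (F := F) (D := D) (J Finset.univ)]
    · exact Subgroup.bot_subgroupOf _
    · intro i hi
      exact ⟨hi, Finset.mem_univ _⟩

end Cfsg.Agent.Helper6.Uni
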