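import Mathlib
import Cfsg.Agent.Lib.Helper22.UniCHEVDATACore
import Cfsg.Agent.Lib.Helper13.UNIWJ
import Cfsg.Agent.Lib.Helper6.UniNDESC
import Cfsg.Agent.Lib.Helper6.UniDefsChev
import Cfsg.Agent.Lib.Helper6.UniRJ

/-!
# S2314 PIECE UNI-CHEVDATA: `exists_splitData` (exact signature of `plans/S2314_SkelChev.lean.txt`)

`SplitData` for the `(B, N)`-pair of a Chevalley group of type G₂, B₂, D₄, F₄, E₆, E₇, E₈:
`U = posUnipotent`, `T = diagonal`, `n A = (n_{w_J})⁻¹`, `R A = U_J` with `J = J(A)`.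
-/

set_option autoImplicit false
set_option linter.unusedSectionVars false
set_option linter.unusedVariables false

namespace Cfsg.Agent.Helper6.Uni

open Cfsg Cfsg.Lie Cfsg.Agent.Lead.Chev Cfsg.Agent.Helper6.ChevL Cfsg.Agent.Helper17.ChevSt
  Cfsg.Agent.Helper2.WordLen Cfsg.Agent.Helper2.BN Cfsg.Agent.Helper17.BNCox

variable {F : Type*} [Field F]

/-- PIECE UNI-CHEVDATA: the split data of a Chevalley group. -/
theorem exists_splitData [Fintype F] (p : ℕ) [Fact p.Prime] [CharP F p] (D : ChevalleyDatum)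
    (hD : D ∈ [chevG2, chevB2, chevD4, chevF4, chevE6, chevE7, chevE8]) :
    ∃ S : SplitData (chevFacts_of_mem (F := F) D hD).bnPair p,
      S.U = (D.posUnipotent F).subgroupOf (D.group F) ∧ S.R Finset.univ = ⊥ :=
  uni_chevdata_core (chevFacts_of_mem (F := F) D hD) p hD
    (fun J => exists_wJ (chevFacts_of_mem (F := F) D hD) J)
    (fun J w hw hneg x hx => mem_radical_iff (chevFacts_of_mem (F := F) D hD)
      (parFacts_of_mem D hD) (commJ_of_mem D hD) (corSize_of_mem D hD) J w hw hneg x hx)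
    (fun J w hw hneg j hjJ hj => nWord_desc (chevFacts_of_mem (F := F) D hD) J w hw hneg j hjJ hj)

end Cfsg.Agent.Helper6.Uni
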