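import Mathlib
import Cfsg.Agent.Lib.Helper6.UniDefs
import Cfsg.Agent.Lib.Helper6.ChevLLevi
import Cfsg.Agent.Lib.Helper6.UniDefsChev

/-!
# S2314 PIECE UNI-USPLIT: `posUnipotent_split`

`U = U_J · ⟨X_r : r ∈ Φ_J⁺⟩`: every element of `U` is `y z` with `y ∈ U_J` and `z` in the subgroup generated by the
root elements of the positive roots of `Φ_J`.
-/

set_option autoImplicit false
set_option linter.unusedSectionVars false
set_option linter.unusedVariables false

namespace Cfsg.Agent.Helper6.Uni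

open Cfsg Cfsg.Lie Cfsg.Agent.Lead.Chev Cfsg.Agent.Helper6.ChevL

variable {F : Type*} [Field F] {D : ChevalleyDatum} (hF : ChevFacts D F)

include hF

/-- PIECE UNI-USPLIT: `U = U_J · ⟨X_r : r ∈ Φ_J⁺⟩`. -/
theorem posUnipotent_split (hC : CommJ D) (J : Set ℕ) (x : GL D.Idx F) (hx : x ∈ D.posUnipotent F) :
    ∃ y ∈ D.unipotentRadical F J, ∃ z ∈ rootGen D F (PJ D J), x = y * z := by
  have hReq : D.unipotentRadical F J = rootGen D F (QJ D J) := unipotentRadical_eq J
  have hZle : rootGen D F (PJ D J) ≤ D.posUnipotent F := by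
    unfold rootGen ChevalleyDatum.posUnipotent
    apply Subgroup.closure_mono
    rintro g ⟨r, t, hr, hg⟩
    exact ⟨r, t, hr.1, hg⟩
  have hnorm : rootGen D F (PJ D J) ≤
      Subgroup.normalizer (D.unipotentRadical F J : Set (GL D.Idx F)) := by
    rw [hReq]
    exact le_trans hZle (posUnipotent_le_normalizer_radical hF hC J)
  have hcoe := Subgroup.coe_mul_of_right_le_normalizer_left (D.unipotentRadical F J)
    (rootGen D F (PJ D J)) hnorm
  have hle : D.posUnipotent F ≤ D.unipotentRadical F J ⊔ rootGen D F (PJ D J) := by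
    unfold ChevalleyDatum.posUnipotent
    rw [Subgroup.closure_le]
    rintro g ⟨r, t, hr, hg⟩
    by_cases hrJ : D.InRootSub J r
    · apply Subgroup.mem_sup_right
      apply Subgroup.subset_closure
      exact ⟨r, t, ⟨hr, hrJ⟩, hg⟩
    · apply Subgroup.mem_sup_left
      unfold ChevalleyDatum.unipotentRadical
      apply Subgroup.subset_closure
      exact ⟨r, t, hr, hrJ, hg⟩
  have hx' : x ∈ ((D.unipotentRadical F J ⊔ rootGen D F (PJ D J) : Subgroup (GL D.Idx F)) :
      Set (GL D.Idx F)) := hle hx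
  rw [hcoe] at hx'
  obtain ⟨y, hy, z, hz, rfl⟩ := hx'
  exact ⟨y, hy, z, hz, rfl⟩

end Cfsg.Agent.Helper6.Uni
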