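import Mathlib
import Cfsg.Agent.Lib.Helper17.MonoAut1
import Cfsg.Agent.Lib.Helper25.AutTwoGroup

/-!
Odd-order automorphisms of `2`-groups acting along chains with cyclic factors (helper22).
-/

set_option autoImplicit false

namespace Cfsg.Agent.Helper22.WrAut

open Cfsg.Agent.Helper17.MonoAut

variable {G : Type*} [Group G]

/-- the cyclic step: an odd-order automorphism fixing the normal `2`-subgroup `M` pointwise and
mapping `g` into `⟨g⟩ M`, where a `2`-power of `g` lies in `M`, fixes `g` -/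
theorem cyc_step (φ : MulAut G) {q : ℕ} (hq : Odd q) (hφ : φ ^ q = 1) (M : Subgroup G) [M.Normal]
    (hM : ∀ μ ∈ M, φ μ = μ) (h2 : ∀ μ ∈ M, ∃ t : ℕ, μ ^ (2 ^ t) = 1) (g : G) (s : ℕ)
    (hg : g ^ (2 ^ s) ∈ M) (j : ℕ) (μ : G) (hμ : μ ∈ M) (hφg : φ g = g ^ j * μ) : φ g = g := by
  have hπφ : ∀ h h' : G, (h : G ⧸ M) = (h' : G ⧸ M) → ((φ h : G) : G ⧸ M) = ((φ h' : G) : G ⧸ M) := by
    intro h h' hh
    rw [QuotientGroup.eq] at hh ⊢
    have := hM _ hh
    rw [map_mul, map_inv] at this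
    rw [this]; exact hh
  have hπg : ((φ g : G) : G ⧸ M) = ((g : G) : G ⧸ M) ^ j := by
    rw [hφg, QuotientGroup.mk_mul, QuotientGroup.mk_pow, (QuotientGroup.eq_one_iff μ).mpr hμ, mul_one]
  have key : ∀ t : ℕ, (((φ ^ t) g : G) : G ⧸ M) = ((g : G) : G ⧸ M) ^ (j ^ t) := by
    intro t
    induction t with
    | zero => simp
    | succ t ih =>
      rw [pow_succ', MulAut.mul_apply]
      have h1 : (((φ ^ t) g : G) : G ⧸ M) = ((g ^ (j ^ t) : G) : G ⧸ M) := by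
        rw [ih, QuotientGroup.mk_pow]
      rw [hπφ _ _ h1, map_pow, QuotientGroup.mk_pow, hπg, ← pow_mul, pow_succ']
  have h1 := key q
  rw [hφ, MulAut.one_apply] at h1
  have hord : orderOf ((g : G) : G ⧸ M) ∣ 2 ^ s := by
    apply orderOf_dvd_of_pow_eq_one
    rw [← QuotientGroup.mk_pow]
    exact (QuotientGroup.eq_one_iff _).mpr hg
  obtain ⟨s', -, hs'⟩ := (Nat.dvd_prime_pow Nat.prime_two).mp hord
  have h3 : ((g : G) : G ⧸ M) ^ (j ^ q) = ((g : G) : G ⧸ M) ^ 1 := by rw [pow_one]; exact h1.symm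
  have h4 : j ^ q ≡ 1 [MOD 2 ^ s'] := by rw [← hs']; exact pow_eq_pow_iff_modEq.mp h3
  have h5 : j ≡ 1 [MOD 2 ^ s'] := Cfsg.Agent.Helper25.modEq_one_of_pow_modEq_one hq h4
  have h6 : ((g : G) : G ⧸ M) ^ j = ((g : G) : G ⧸ M) ^ 1 :=
    pow_eq_pow_iff_modEq.mpr (by rw [hs']; exact h5)
  rw [pow_one] at h6
  have h7 : ((g : G) : G ⧸ M) = ((φ g : G) : G ⧸ M) := by rw [hπg, h6]
  rw [QuotientGroup.eq] at h7
  obtain ⟨t, ht⟩ := h2 _ h7
  have h8 : φ g = g * (g⁻¹ * φ g) := by group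
  exact fix_of_mul_fixed φ hq hφ h8 (hM _ h7) ht

/-- an automorphism which is trivial on a set of elements through which everything factors -/
theorem eq_one_of_forall (φ : MulAut G) (h : ∀ g : G, φ g = g) : φ = 1 := by
  ext g; exact h g

/-- groups `⟨u⟩ Ω` with `Ω = {1, c, v, vc}` the set of all elements of square one -/
theorem typeM (c v u : G) (hc1 : c ≠ 1) (hv : v = 1 ∨ (v ≠ 1 ∧ v ≠ c)) (hcc : c * c = 1)
    (hvv : v * v = 1) (hcv : c * v = v * c)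
    (hsq : ∀ g : G, g * g * (g * g) = 1 → g * g = 1 ∨ g * g = c) (hc0 : ∃ g0 : G, g0 * g0 = c)
    (hΩ : ∀ g : G, g * g = 1 → g = 1 ∨ g = c ∨ g = v ∨ g = v * c)
    (hgen : ∀ g : G, ∃ i : ℕ, ∃ ω : G, ω * ω = 1 ∧ g = u ^ i * ω)
    (hu : ∃ s : ℕ, u ^ (2 ^ s) * u ^ (2 ^ s) = 1)
    (φ : MulAut G) {q : ℕ} (hq : Odd q) (hφ : φ ^ q = 1) : φ = 1 := by
  -- `φ c = c`
  have hφc : φ c = c := by
    obtain ⟨g0, hg0⟩ := hc0
    have h1 : φ g0 * φ g0 * (φ g0 * φ g0) = 1 := by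
      rw [← map_mul, hg0, ← map_mul, hcc, map_one]
    rcases hsq _ h1 with h2 | h2
    · exfalso
      rw [← map_mul, hg0] at h2
      exact hc1 (φ.injective (by rw [h2, map_one]))
    · rw [← map_mul, hg0] at h2; exact h2
  -- `φ v = v`
  have hφv : φ v = v := by
    rcases hv with rfl | ⟨hv1, hvc⟩
    · exact map_one φ
    · have h1 : φ v * φ v = 1 := by rw [← map_mul, hvv, map_one]
      rcases hΩ _ h1 with h2 | h2 | h2 | h2
      · exact absurd (φ.injective (by rw [h2, map_one])) hv1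
      · exact absurd (φ.injective (by rw [h2, hφc])) hvc
      · exact h2
      · exact fix_of_mul_fixed φ hq hφ h2 hφc (k := 1) (by rw [pow_one, pow_two]; exact hcc)
  -- elements of square one commute with `c` and `v`
  have hcomm : ∀ g : G, g * g = 1 → g * c = c * g ∧ g * v = v * g := by
    intro g hg
    rcases hΩ g hg with rfl | rfl | rfl | rfl
    · simp
    · exact ⟨rfl, hcv⟩
    · exact ⟨hcv.symm, rfl⟩
    · constructor
      · rw [mul_assoc, ← mul_assoc c v c, hcv, mul_assoc]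
      · rw [mul_assoc, hcv, ← mul_assoc]
  have hcomm2 : ∀ g h : G, g * g = 1 → h * h = 1 → g * h = h * g := by
    intro g h hg hh
    obtain ⟨h1, h2⟩ := hcomm g hg
    rcases hΩ h hh with rfl | rfl | rfl | rfl
    · simp
    · exact h1
    · exact h2
    · rw [← mul_assoc, h2, mul_assoc, h1, ← mul_assoc]
  let Ω : Subgroup G :=
    { carrier := {g | g * g = 1}
      mul_mem' := by
        intro g h hg hh
        have hg' : g * g = 1 := hg
        have hh' : h * h = 1 := hh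
        show g * h * (g * h) = 1
        calc g * h * (g * h) = g * (h * g) * h := by group
          _ = g * (g * h) * h := by rw [hcomm2 h g hh' hg']
          _ = (g * g) * (h * h) := by group
          _ = 1 := by rw [hg', hh', one_mul]
      one_mem' := by show (1 : G) * 1 = 1; simp
      inv_mem' := by
        intro g hg
        have hg' : g * g = 1 := hg
        show g⁻¹ * g⁻¹ = 1
        rw [← mul_inv_rev, hg', inv_one] }
  have hΩmem : ∀ g : G, g ∈ Ω ↔ g * g = 1 := fun g => Iff.rfl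
  haveI : Ω.Normal := ⟨by
    intro n hn g
    rw [hΩmem] at hn ⊢
    calc g * n * g⁻¹ * (g * n * g⁻¹) = g * (n * n) * g⁻¹ := by group
      _ = 1 := by rw [hn]; group⟩
  have hM : ∀ μ ∈ Ω, φ μ = μ := by
    intro μ hμ
    rcases hΩ μ ((hΩmem μ).mp hμ) with rfl | rfl | rfl | rfl
    · exact map_one φ
    · exact hφc
    · exact hφv
    · rw [map_mul, hφv, hφc]
  have h2 : ∀ μ ∈ Ω, ∃ t : ℕ, μ ^ (2 ^ t) = 1 := by
    intro μ hμ
    exact ⟨1, by rw [pow_one, pow_two]; exact (hΩmem μ).mp hμ⟩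
  obtain ⟨s, hs⟩ := hu
  obtain ⟨i, ω, hω, hi⟩ := hgen (φ u)
  have hφu : φ u = u := cyc_step φ hq hφ Ω hM h2 u s ((hΩmem _).mpr hs) i ω ((hΩmem _).mpr hω) hi
  apply eq_one_of_forall
  intro g
  obtain ⟨i, ω, hω, rfl⟩ := hgen g
  rw [map_mul, map_pow, hφu, hM ω ((hΩmem _).mpr hω)]

/-- groups `B ∪ wB` with `B = ⟨b⟩⟨ζ⟩` abelian, `⟨ζ⟩` the centre, and some square in `B` centralized by
nothing outside `B` -/
theorem typeD (ζ b w : G) (B : Subgroup G)
    (hcen : ∀ g : G, (∀ h : G, g * h = h * g) → ∃ i : ℕ, g = ζ ^ i)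
    (hζc : ∀ h : G, ζ * h = h * ζ)
    (hBab : ∀ g ∈ B, ∀ h ∈ B, g * h = h * g)
    (hsqB : ∀ g : G, g * g ∈ B)
    (hb0 : ∃ b0 ∈ B, ∀ g : G, g ∉ B → b0 * b0 * g ≠ g * (b0 * b0))
    (hBgen : ∀ g ∈ B, ∃ i j : ℕ, g = b ^ i * ζ ^ j)
    (hwB : ∀ g : G, g ∈ B ∨ ∃ β ∈ B, g = w * β)
    (hBnorm : ∀ g : G, ∀ β ∈ B, g * β * g⁻¹ ∈ B)
    (h2 : ∀ g : G, ∃ t : ℕ, g ^ (2 ^ t) = 1)
    (φ : MulAut G) {q : ℕ} (hq : Odd q) (hφ : φ ^ q = 1) : φ = 1 := by
  -- `φ ζ = ζ`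
  have hφζ : φ ζ = ζ := by
    have h1 : ∀ h : G, φ ζ * h = h * φ ζ := by
      intro h
      obtain ⟨h', rfl⟩ := φ.surjective h
      rw [← map_mul, ← map_mul, hζc]
    obtain ⟨i, hi⟩ := hcen _ h1
    obtain ⟨t, ht⟩ := h2 ζ
    refine cyc_step φ hq hφ ⊥ ?_ ?_ ζ t ?_ i 1 (Subgroup.one_mem _) (by rw [mul_one]; exact hi)
    · intro μ hμ; rw [Subgroup.mem_bot] at hμ; rw [hμ, map_one]
    · intro μ hμ; rw [Subgroup.mem_bot] at hμ; exact ⟨0, by rw [hμ, one_pow]⟩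
    · rw [ht]; exact Subgroup.one_mem _
  -- `φ B ⊆ B`
  have hφB : ∀ g ∈ B, φ g ∈ B := by
    intro g hg
    by_contra hcon
    obtain ⟨b0, hb0B, hb0⟩ := hb0
    have h1 := hsqB (φ.symm b0)
    have h3 := hBab _ h1 g hg
    have h4 := congrArg φ h3
    simp only [map_mul, MulEquiv.apply_symm_apply] at h4
    exact hb0 _ hcon h4
  have hζB : ζ ∈ B := by
    have := hsqB ζ
    obtain ⟨b0, hb0B, hb0⟩ := hb0
    by_contra hcon
    exact hb0 ζ hcon (hζc _).symm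
  -- `φ b = b`
  have hbB : b ∈ B := by
    by_contra hcon
    obtain ⟨b0, hb0B, hb0⟩ := hb0
    -- then `b0 = b^i ζ^j` commutes with `b`
    obtain ⟨i, j, hij⟩ := hBgen b0 hb0B
    apply hb0 b hcon
    have hc1 : ∀ k : ℕ, ζ ^ k * b = b * ζ ^ k := by
      intro k
      induction k with
      | zero => simp
      | succ k ih => rw [pow_succ, mul_assoc, hζc b, ← mul_assoc, ih, mul_assoc]
    have hc2 : b0 * b = b * b0 := by
      rw [hij, mul_assoc, hc1 j, ← mul_assoc, ← mul_assoc, ← pow_succ, ← pow_succ']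
    rw [mul_assoc, hc2, ← mul_assoc, hc2, mul_assoc]
  let Z : Subgroup G := Subgroup.zpowers ζ
  haveI : Z.Normal := ⟨by
    intro n hn g
    obtain ⟨k, rfl⟩ := Subgroup.mem_zpowers_iff.mp hn
    have hc : Commute ζ g := hζc g
    have : g * ζ ^ k * g⁻¹ = ζ ^ k := by
      rw [(hc.zpow_left k).eq.symm, mul_assoc, mul_inv_cancel, mul_one]
    rw [this]; exact hn⟩
  have hφb : φ b = b := by
    obtain ⟨i, j, hij⟩ := hBgen _ (hφB b hbB)
    obtain ⟨t, ht⟩ := h2 b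
    refine cyc_step φ hq hφ Z ?_ ?_ b t ?_ i (ζ ^ j) (Subgroup.pow_mem _ (Subgroup.mem_zpowers ζ) j) hij
    · intro μ hμ
      obtain ⟨k, rfl⟩ := Subgroup.mem_zpowers_iff.mp hμ
      rw [map_zpow, hφζ]
    · intro μ hμ
      obtain ⟨k, rfl⟩ := Subgroup.mem_zpowers_iff.mp hμ
      obtain ⟨t, ht⟩ := h2 ζ
      exact ⟨t, by rw [← zpow_natCast, ← zpow_mul, mul_comm, zpow_mul, zpow_natCast, ht, one_zpow]⟩
    · rw [ht]; exact Subgroup.one_mem _
  have hφBfix : ∀ g ∈ B, φ g = g := by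
    intro g hg
    obtain ⟨i, j, rfl⟩ := hBgen g hg
    rw [map_mul, map_pow, map_pow, hφb, hφζ]
  haveI : B.Normal := ⟨fun n hn g => hBnorm g n hn⟩
  have hφw : φ w = w := by
    rcases hwB (φ w) with h1 | ⟨β, hβ, h1⟩
    · exact φ.injective (hφBfix _ h1)
    · refine cyc_step φ hq hφ B hφBfix (fun μ _ => h2 μ) w 1 ?_ 1 β hβ (by rw [pow_one]; exact h1)
      rw [pow_one, pow_two]; exact hsqB w
  apply eq_one_of_forall
  intro g
  rcases hwB g with h1 | ⟨β, hβ, rfl⟩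
  · exact hφBfix g h1
  · rw [map_mul, hφw, hφBfix β hβ]

end Cfsg.Agent.Helper22.WrAut
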