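import Mathlib
import Cfsg.Agent.Lib.Helper6.Wreathed
import Cfsg.Agent.Lib.Helper6.WreathedSub
import Cfsg.Agent.Lib.Helper6.WreathedQ8
import Cfsg.Agent.Lib.Helper22.WrAut

/-!
Self-centralizing subgroups of a wreathed `2`-group whose automorphism group is not a `2`-group (helper22).
-/

set_option autoImplicit false

namespace Cfsg.Agent.Helper22.WrSC

open Cfsg.Agent.Helper6.Wr Cfsg.Agent.Helper6.Z2 Cfsg.Agent.Helper22.WrAut

variable {S : Type*} [Group S] (d : Data S)

/-- the additive subgroup of the `a` with `x^a ∈ X` -/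
def KK (X : Subgroup S) : AddSubgroup (ZMod (2 ^ d.n)) where
  carrier := {a | el d a 0 ∈ X}
  zero_mem' := by
    show el d 0 0 ∈ X
    rw [el_zero]; exact X.one_mem
  add_mem' := by
    intro a b ha hb
    show el d (a + b) 0 ∈ X
    have := X.mul_mem ha hb
    rwa [el_mul_el, add_zero] at this
  neg_mem' := by
    intro a ha
    show el d (-a) 0 ∈ X
    have := X.inv_mem ha
    rwa [el_inv, neg_zero] at this

theorem mem_KK (X : Subgroup S) (a : ZMod (2 ^ d.n)) : a ∈ KK d X ↔ el d a 0 ∈ X := Iff.rfl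

section
variable [Finite S]

theorem center_le (X : Subgroup S) (hC : Subgroup.centralizer (X : Set S) ≤ X) :
    Subgroup.center S ≤ X :=
  le_trans (Subgroup.center_le_centralizer _) hC

theorem el_mem_iff (X : Subgroup S) (hZ : Subgroup.center S ≤ X) (a b : ZMod (2 ^ d.n)) :
    el d a b ∈ X ↔ a - b ∈ KK d X := by
  have hc : el d b b ∈ X := hZ ((mem_center_iff d _).mpr ⟨b, rfl⟩)
  have h1 : el d a b = el d (a - b) 0 * el d b b := by
    rw [el_mul_el]; congr 1 <;> ring
  rw [mem_KK]
  constructor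
  · intro h
    have : el d (a - b) 0 = el d a b * (el d b b)⁻¹ := by rw [h1]; group
    rw [this]; exact X.mul_mem h (X.inv_mem hc)
  · intro h; rw [h1]; exact X.mul_mem h hc

theorem elz_mem_iff (X : Subgroup S) (hZ : Subgroup.center S ≤ X) (k : ZMod (2 ^ d.n))
    (hw : el d k 0 * d.z ∈ X) (a b : ZMod (2 ^ d.n)) :
    el d a b * d.z ∈ X ↔ a - b - k ∈ KK d X := by
  have h1 : el d a b * d.z = el d (a - k) b * (el d k 0 * d.z) := by
    rw [el_mul_elz]; congr 2 <;> ring
  have h2 : a - b - k = a - k - b := by ring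
  rw [h2, ← el_mem_iff d X hZ (a - k) b]
  constructor
  · intro h
    have : el d (a - k) b = el d a b * d.z * (el d k 0 * d.z)⁻¹ := by rw [h1]; group
    rw [this]; exact X.mul_mem h (X.inv_mem hw)
  · intro h; rw [h1]; exact X.mul_mem h hw

/-- a self-centralizing subgroup inside `A` is `A` -/
theorem eq_A_of_le (X : Subgroup S) (hC : Subgroup.centralizer (X : Set S) ≤ X) (h : X ≤ A d) :
    X = A d := by
  apply le_antisymm h
  intro a ha
  apply hC
  rw [Subgroup.mem_centralizer_iff]
  intro g hg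
  obtain ⟨i, j, rfl⟩ := h hg
  obtain ⟨k, l, rfl⟩ := ha
  rw [el_mul_el, el_mul_el, add_comm i k, add_comm j l]

theorem exists_w (X : Subgroup S) (hZ : Subgroup.center S ≤ X) (h : ¬ X ≤ A d) :
    ∃ k, el d k 0 * d.z ∈ X := by
  obtain ⟨g, hgX, hgA⟩ := SetLike.not_le_iff_exists.mp h
  rcases cases d g with ⟨i, j, rfl⟩ | ⟨i, j, rfl⟩
  · exact absurd (el_mem_A d i j) hgA
  · refine ⟨i - j, ?_⟩
    have hc : el d (-j) (-j) ∈ X := hZ ((mem_center_iff d _).mpr ⟨-j, rfl⟩)
    have := X.mul_mem hc hgX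
    rw [el_mul_elz] at this
    have h2 : -j + i = i - j := by ring
    have h3 : -j + j = 0 := by ring
    rwa [h2, h3] at this

end

/-- odd elements of `ZMod (2^n)` are invertible -/
theorem exists_mul_odd (n : ℕ) (k' b : ZMod (2 ^ n)) : ∃ m : ZMod (2 ^ n), m * (2 * k' + 1) = b := by
  have hinj : Function.Injective (fun m : ZMod (2 ^ n) => m * (2 * k' + 1)) := by
    intro a c hac
    have h0 : (a - c) * (2 * k' + 1) = 0 := by
      have : a * (2 * k' + 1) = c * (2 * k' + 1) := hac
      linear_combination this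
    have h1 : ∀ j : ℕ, a - c = (-2 * k') ^ j * (a - c) := by
      intro j
      induction j with
      | zero => simp
      | succ j ih =>
        have : a - c = (-2 * k') * (a - c) := by linear_combination h0
        rw [pow_succ, mul_assoc, ← this]; exact ih
    have h2 := h1 n
    have h3 : (-2 * k') ^ n = ((2 ^ n : ℕ) : ZMod (2 ^ n)) * (-k') ^ n := by
      push_cast
      rw [← mul_pow]; congr 1; ring
    rw [h3, ZMod.natCast_self, zero_mul, zero_mul] at h2
    linear_combination h2
  exact (Finite.injective_iff_surjective.mp hinj) b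

section
variable [Finite S]

theorem el_half_half_mem (X : Subgroup S) (hZ : Subgroup.center S ≤ X) (i : ZMod (2 ^ d.n)) :
    el d i i ∈ X := hZ ((mem_center_iff d _).mpr ⟨i, rfl⟩)

/-- squares of elements of `X` when `2 K = 0` -/
theorem sq_form (X : Subgroup S) (hZ : Subgroup.center S ≤ X) (k : ZMod (2 ^ d.n))
    (hw : el d k 0 * d.z ∈ X) (hK2 : ∀ a ∈ KK d X, 2 * a = 0) (g : S) (hg : g ∈ X) :
    ∃ s, g * g = el d s s := by
  rcases cases d g with ⟨a, b, rfl⟩ | ⟨a, b, rfl⟩
  · have h1 := hK2 _ ((el_mem_iff d X hZ a b).mp hg)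
    refine ⟨2 * a, ?_⟩
    rw [el_sq]; congr 1; linear_combination -h1
  · exact ⟨a + b, elz_sq d a b⟩

theorem sq_cases (X : Subgroup S) (hZ : Subgroup.center S ≤ X) (k : ZMod (2 ^ d.n))
    (hw : el d k 0 * d.z ∈ X) (hK2 : ∀ a ∈ KK d X, 2 * a = 0) (g : S) (hg : g ∈ X)
    (h : g * g * (g * g) = 1) : g * g = 1 ∨ g * g = el d (half d.n) (half d.n) := by
  obtain ⟨s, hs⟩ := sq_form d X hZ k hw hK2 g hg
  rw [hs, el_sq, el_eq_one_iff] at h
  rw [hs]
  rcases (two_mul_eq_zero_iff d.n (hn1 d) s).mp h.1 with rfl | rfl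
  · left; exact el_zero d
  · right; rfl

/-- the case of odd `k` -/
theorem aut_trivial_odd (X : Subgroup S) (hZ : Subgroup.center S ≤ X) (k' : ZMod (2 ^ d.n))
    (hw : el d (2 * k' + 1) 0 * d.z ∈ X) (v0 : ZMod (2 ^ d.n)) (hv0 : 2 * v0 = 0)
    (hK : ∀ a, a ∈ KK d X ↔ a = 0 ∨ a = v0)
    (φ : MulAut X) {q : ℕ} (hq : Odd q) (hφ : φ ^ q = 1) : φ = 1 := by
  have hn1 := hn1 d
  have hh := two_mul_half d.n hn1
  have hh0 := half_ne_zero d.n hn1
  have hnh := neg_half d.n hn1
  have hq2 := two_mul_quarter d.n d.hn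
  set k : ZMod (2 ^ d.n) := 2 * k' + 1 with hk
  have hK2 : ∀ a ∈ KK d X, 2 * a = 0 := by
    intro a ha
    rcases (hK a).mp ha with rfl | rfl
    · ring
    · exact hv0
  have hv0K : v0 ∈ KK d X := (hK v0).mpr (Or.inr rfl)
  have hvX : el d v0 0 ∈ X := hv0K
  refine typeM (⟨el d (half d.n) (half d.n), el_half_half_mem d X hZ _⟩ : X) ⟨el d v0 0, hvX⟩
    ⟨el d k 0 * d.z, hw⟩ ?_ ?_ ?_ ?_ ?_ ?_ ?_ ?_ ?_ ?_ φ hq hφ
  · -- c ≠ 1
    intro h
    have h1 : el d (half d.n) (half d.n) = 1 := congrArg Subtype.val h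
    exact hh0 ((el_eq_one_iff d _ _).mp h1).1
  · -- v
    rcases (two_mul_eq_zero_iff d.n hn1 v0).mp hv0 with h0 | h0
    · left
      apply Subtype.ext
      show el d v0 0 = 1
      rw [h0, el_zero]
    · right
      constructor
      · intro h
        have h1 : el d v0 0 = 1 := congrArg Subtype.val h
        rw [h0] at h1
        exact hh0 ((el_eq_one_iff d _ _).mp h1).1
      · intro h
        have h1 : el d v0 0 = el d (half d.n) (half d.n) := congrArg Subtype.val h
        exact hh0 (el_injective d _ _ _ _ h1).2.symm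
  · apply Subtype.ext
    show el d (half d.n) (half d.n) * el d (half d.n) (half d.n) = 1
    rw [el_sq, hh, el_zero]
  · apply Subtype.ext
    show el d v0 0 * el d v0 0 = 1
    rw [el_sq, hv0, mul_zero, el_zero]
  · apply Subtype.ext
    show el d (half d.n) (half d.n) * el d v0 0 = el d v0 0 * el d (half d.n) (half d.n)
    rw [el_mul_el, el_mul_el, add_comm v0, add_comm (0 : ZMod (2 ^ d.n))]
  · -- squares
    rintro ⟨g, hg⟩ h
    have h' : g * g * (g * g) = 1 := congrArg Subtype.val h
    rcases sq_cases d X hZ k hw hK2 g hg h' with h1 | h1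
    · left; exact Subtype.ext h1
    · right; exact Subtype.ext h1
  · refine ⟨⟨el d (quarter d.n) (quarter d.n), el_half_half_mem d X hZ _⟩, ?_⟩
    apply Subtype.ext
    show el d (quarter d.n) (quarter d.n) * el d (quarter d.n) (quarter d.n) = _
    rw [el_sq, hq2]
  · -- involutions
    rintro ⟨g, hg⟩ h
    have h' : g * g = 1 := congrArg Subtype.val h
    rcases cases d g with ⟨a, b, rfl⟩ | ⟨a, b, rfl⟩
    · rw [el_sq, el_eq_one_iff] at h'
      have hab := (hK _).mp ((el_mem_iff d X hZ a b).mp hg)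
      rcases (two_mul_eq_zero_iff d.n hn1 a).mp h'.1 with ha | ha <;>
        rcases (two_mul_eq_zero_iff d.n hn1 b).mp h'.2 with hb | hb
      · left; apply Subtype.ext; show el d a b = 1; rw [ha, hb, el_zero]
      · right; right; right
        apply Subtype.ext
        show el d a b = el d v0 0 * el d (half d.n) (half d.n)
        have hv : v0 = half d.n := by
          rcases hab with h1 | h1
          · exfalso; apply hh0; rw [ha, hb] at h1; linear_combination -h1
          · rw [ha, hb] at h1; linear_combination -h1 + hnh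
        rw [el_mul_el, ha, hb, hv]
        congr 1
        · linear_combination -hh
        · ring
      · right; right; left
        apply Subtype.ext
        show el d a b = el d v0 0
        have hv : v0 = half d.n := by
          rcases hab with h1 | h1
          · exfalso; apply hh0; rw [ha, hb] at h1; linear_combination h1
          · rw [ha, hb] at h1; linear_combination -h1
        rw [ha, hb, hv]
      · right; left; apply Subtype.ext; show el d a b = el d (half d.n) (half d.n); rw [ha, hb]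
    · exfalso
      rw [elz_sq, el_eq_one_iff] at h'
      have h1 := hK2 _ ((elz_mem_iff d X hZ k hw a b).mp hg)
      have h2 : 2 * (2 * (a - k') - 1) = 0 := by
        rw [hk] at h1
        linear_combination h1 + 2 * h'.1
      rcases (two_mul_eq_zero_iff d.n hn1 _).mp h2 with h3 | h3
      · exact even_ne_odd d.n hn1 (a - k') 0 (by linear_combination h3)
      · exact even_ne_odd d.n hn1 (a - k') (quarter d.n) (by linear_combination h3 - hq2)
  · -- generation
    have hww : (el d k 0 * d.z) * (el d k 0 * d.z) = el d k k := by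
      rw [elz_sq]; congr 1 <;> ring
    have hw2 : ∀ m : ℕ, (el d k 0 * d.z) ^ (2 * m) =
        el d ((m : ZMod (2 ^ d.n)) * k) ((m : ZMod (2 ^ d.n)) * k) := by
      intro m
      rw [pow_mul, pow_two, hww, el_pow]
    rintro ⟨g, hg⟩
    rcases cases d g with ⟨a, b, rfl⟩ | ⟨a, b, rfl⟩
    · obtain ⟨m, hm⟩ := exists_mul_odd d.n k' b
      have hab := (el_mem_iff d X hZ a b).mp hg
      refine ⟨2 * m.val, ⟨el d (a - b) 0, hab⟩, ?_, ?_⟩
      · apply Subtype.ext
        show el d (a - b) 0 * el d (a - b) 0 = 1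
        rw [el_sq, hK2 _ hab, mul_zero, el_zero]
      · apply Subtype.ext
        show el d a b = (el d k 0 * d.z) ^ (2 * m.val) * el d (a - b) 0
        rw [hw2, ZMod.natCast_zmod_val, el_mul_el, hm]
        congr 1 <;> ring
    · obtain ⟨m, hm⟩ := exists_mul_odd d.n k' b
      have hab := (elz_mem_iff d X hZ k hw a b).mp hg
      have hab' : el d 0 (a - b - k) ∈ X := by
        rw [el_mem_iff d X hZ]
        have := (KK d X).neg_mem hab
        have h0 : (0 : ZMod (2 ^ d.n)) - (a - b - k) = -(a - b - k) := by ring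
        rw [h0]; exact this
      refine ⟨2 * m.val + 1, ⟨el d 0 (a - b - k), hab'⟩, ?_, ?_⟩
      · apply Subtype.ext
        show el d 0 (a - b - k) * el d 0 (a - b - k) = 1
        rw [el_sq, hK2 _ hab, mul_zero, el_zero]
      · apply Subtype.ext
        show el d a b * d.z = (el d k 0 * d.z) ^ (2 * m.val + 1) * el d 0 (a - b - k)
        rw [pow_succ, hw2, ZMod.natCast_zmod_val, hm, mul_assoc, elz_mul_el, el_mul_elz]
        congr 2 <;> ring
  · refine ⟨d.n + 1, ?_⟩
    apply Subtype.ext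
    have hww : (el d k 0 * d.z) * (el d k 0 * d.z) = el d k k := by
      rw [elz_sq]; congr 1 <;> ring
    have h1 : (el d k 0 * d.z) ^ (2 ^ (d.n + 1)) = 1 := by
      rw [pow_succ', pow_mul, pow_two, hww, el_pow, ZMod.natCast_self, zero_mul, el_zero]
    show (el d k 0 * d.z) ^ (2 ^ (d.n + 1)) * (el d k 0 * d.z) ^ (2 ^ (d.n + 1)) = 1
    rw [h1, one_mul]

/-- the case of even `k` and trivial `K` -/
theorem aut_trivial_even (X : Subgroup S) (hZ : Subgroup.center S ≤ X) (k' : ZMod (2 ^ d.n))
    (hw : el d (2 * k') 0 * d.z ∈ X) (hK : ∀ a ∈ KK d X, a = 0)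
    (φ : MulAut X) {q : ℕ} (hq : Odd q) (hφ : φ ^ q = 1) : φ = 1 := by
  have hn1 := hn1 d
  have hh := two_mul_half d.n hn1
  have hh0 := half_ne_zero d.n hn1
  have hnh := neg_half d.n hn1
  have hq2 := two_mul_quarter d.n d.hn
  set k : ZMod (2 ^ d.n) := 2 * k' with hk
  have hK2 : ∀ a ∈ KK d X, 2 * a = 0 := by
    intro a ha
    rw [hK a ha]; ring
  have hvX : el d k' (-k') * d.z ∈ X := by
    rw [elz_mem_iff d X hZ k hw]
    have : k' - -k' - k = 0 := by rw [hk]; ring
    rw [this]; exact (KK d X).zero_mem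
  refine typeM (⟨el d (half d.n) (half d.n), el_half_half_mem d X hZ _⟩ : X)
    ⟨el d k' (-k') * d.z, hvX⟩ ⟨el d 1 1, el_half_half_mem d X hZ _⟩
    ?_ ?_ ?_ ?_ ?_ ?_ ?_ ?_ ?_ ?_ φ hq hφ
  · intro h
    have h1 : el d (half d.n) (half d.n) = 1 := congrArg Subtype.val h
    exact hh0 ((el_eq_one_iff d _ _).mp h1).1
  · right
    constructor
    · intro h
      have h1 : el d k' (-k') * d.z = 1 := congrArg Subtype.val h
      exact elz_ne_one d _ _ h1
    · intro h
      have h1 : el d k' (-k') * d.z = el d (half d.n) (half d.n) := congrArg Subtype.val h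
      exact el_ne_elz d _ _ _ _ h1.symm
  · apply Subtype.ext
    show el d (half d.n) (half d.n) * el d (half d.n) (half d.n) = 1
    rw [el_sq, hh, el_zero]
  · apply Subtype.ext
    show el d k' (-k') * d.z * (el d k' (-k') * d.z) = 1
    rw [elz_sq, add_neg_cancel, el_zero]
  · apply Subtype.ext
    show el d (half d.n) (half d.n) * (el d k' (-k') * d.z) =
      el d k' (-k') * d.z * el d (half d.n) (half d.n)
    rw [el_mul_elz, elz_mul_el]
    congr 2 <;> ring
  · rintro ⟨g, hg⟩ h
    have h' : g * g * (g * g) = 1 := congrArg Subtype.val h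
    rcases sq_cases d X hZ k hw hK2 g hg h' with h1 | h1
    · left; exact Subtype.ext h1
    · right; exact Subtype.ext h1
  · refine ⟨⟨el d (quarter d.n) (quarter d.n), el_half_half_mem d X hZ _⟩, ?_⟩
    apply Subtype.ext
    show el d (quarter d.n) (quarter d.n) * el d (quarter d.n) (quarter d.n) = _
    rw [el_sq, hq2]
  · rintro ⟨g, hg⟩ h
    have h' : g * g = 1 := congrArg Subtype.val h
    rcases cases d g with ⟨a, b, rfl⟩ | ⟨a, b, rfl⟩
    · rw [el_sq, el_eq_one_iff] at h'
      have hab := hK _ ((el_mem_iff d X hZ a b).mp hg)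
      have hab' : b = a := by linear_combination -hab
      subst hab'
      rcases (two_mul_eq_zero_iff d.n hn1 b).mp h'.1 with ha | ha
      · left; apply Subtype.ext; show el d b b = 1; rw [ha, el_zero]
      · right; left; apply Subtype.ext; show el d b b = el d (half d.n) (half d.n); rw [ha]
    · rw [elz_sq, el_eq_one_iff] at h'
      have h1 := hK _ ((elz_mem_iff d X hZ k hw a b).mp hg)
      have h2 : 2 * (a - k') = 0 := by
        rw [hk] at h1
        linear_combination h1 + h'.1
      have hb : b = -a := by linear_combination h'.1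
      rcases (two_mul_eq_zero_iff d.n hn1 _).mp h2 with h3 | h3
      · right; right; left
        apply Subtype.ext
        show el d a b * d.z = el d k' (-k') * d.z
        have : a = k' := by linear_combination h3
        rw [hb, this]
      · right; right; right
        apply Subtype.ext
        show el d a b * d.z = el d k' (-k') * d.z * el d (half d.n) (half d.n)
        rw [elz_mul_el, hb]
        congr 2
        · linear_combination h3
        · linear_combination -h3 + hnh
  · rintro ⟨g, hg⟩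
    rcases cases d g with ⟨a, b, rfl⟩ | ⟨a, b, rfl⟩
    · have hab := hK _ ((el_mem_iff d X hZ a b).mp hg)
      refine ⟨a.val, 1, by rw [mul_one], ?_⟩
      apply Subtype.ext
      show el d a b = (el d 1 1) ^ a.val * 1
      rw [el_pow, ZMod.natCast_zmod_val, mul_one, mul_one]
      congr 1
      linear_combination -hab
    · have hab := hK _ ((elz_mem_iff d X hZ k hw a b).mp hg)
      refine ⟨(a - k').val, ⟨el d k' (-k') * d.z, hvX⟩, ?_, ?_⟩
      · apply Subtype.ext
        show el d k' (-k') * d.z * (el d k' (-k') * d.z) = 1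
        rw [elz_sq, add_neg_cancel, el_zero]
      · apply Subtype.ext
        show el d a b * d.z = (el d 1 1) ^ (a - k').val * (el d k' (-k') * d.z)
        rw [el_pow, ZMod.natCast_zmod_val, mul_one, el_mul_elz]
        congr 2
        · ring
        · rw [hk] at hab; linear_combination -hab
  · refine ⟨d.n, ?_⟩
    apply Subtype.ext
    have h1 : (el d 1 1) ^ (2 ^ d.n) = 1 := by
      rw [el_pow, ZMod.natCast_self, zero_mul, el_zero]
    show (el d 1 1) ^ (2 ^ d.n) * (el d 1 1) ^ (2 ^ d.n) = 1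
    rw [h1, one_mul]

/-- the case of large `K` -/
theorem aut_trivial_big (X : Subgroup S) (hZ : Subgroup.center S ≤ X) (k : ZMod (2 ^ d.n))
    (hw : el d k 0 * d.z ∈ X) (a0 : ZMod (2 ^ d.n)) (ha0 : a0 ∈ KK d X) (h2a0 : 2 * a0 ≠ 0)
    (φ : MulAut X) {q : ℕ} (hq : Odd q) (hφ : φ ^ q = 1) : φ = 1 := by
  have hn1 := hn1 d
  obtain ⟨⟨a1, ha1⟩, hgen⟩ := IsAddCyclic.exists_generator (α := KK d X)
  have hgenK : ∀ a ∈ KK d X, ∃ m : ZMod (2 ^ d.n), a = m * a1 := by
    intro a ha
    obtain ⟨m, hm⟩ := AddSubgroup.mem_zmultiples_iff.mp (hgen ⟨a, ha⟩)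
    have h1 : m • a1 = a := by
      have := congrArg Subtype.val hm
      simpa using this
    refine ⟨(m : ZMod (2 ^ d.n)), ?_⟩
    rw [← h1, zsmul_eq_mul]
  haveI : (A d).Normal := Subgroup.normal_of_index_eq_two (index_A d)
  refine typeD (⟨el d 1 1, el_half_half_mem d X hZ _⟩ : X) ⟨el d a1 0, ha1⟩ ⟨el d k 0 * d.z, hw⟩
    ((A d).subgroupOf X) ?_ ?_ ?_ ?_ ?_ ?_ ?_ ?_ ?_ φ hq hφ
  · -- centre
    rintro ⟨g, hg⟩ hc
    have h1 : g * (el d k 0 * d.z) = el d k 0 * d.z * g :=
      congrArg Subtype.val (hc ⟨el d k 0 * d.z, hw⟩)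
    have h2 : g * el d a0 0 = el d a0 0 * g := congrArg Subtype.val (hc ⟨el d a0 0, ha0⟩)
    rcases cases d g with ⟨a, b, rfl⟩ | ⟨a, b, rfl⟩
    · rw [el_mul_elz, elz_mul_el] at h1
      have h3 := (elz_injective d _ _ _ _ h1).1
      have hab : b = a := by linear_combination -h3
      refine ⟨a.val, ?_⟩
      apply Subtype.ext
      show el d a b = (el d 1 1) ^ a.val
      rw [el_pow, ZMod.natCast_zmod_val, mul_one, hab]
    · exfalso
      rw [elz_mul_el, el_mul_elz] at h2
      have h3 := (elz_injective d _ _ _ _ h2).1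
      apply h2a0
      linear_combination -2 * h3
  · rintro ⟨h, hh⟩
    apply Subtype.ext
    show el d 1 1 * h = h * el d 1 1
    exact (Subgroup.mem_center_iff.mp ((mem_center_iff d _).mpr ⟨1, rfl⟩) h).symm
  · rintro ⟨g, hg⟩ hgB ⟨h, hh⟩ hhB
    rw [Subgroup.mem_subgroupOf] at hgB hhB
    obtain ⟨i, j, hij⟩ := hgB
    obtain ⟨k1, l, hkl⟩ := hhB
    apply Subtype.ext
    show g * h = h * g
    have h1 : g = el d i j := hij
    have h2 : h = el d k1 l := hkl
    rw [h1, h2, el_mul_el, el_mul_el, add_comm i k1, add_comm j l]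
  · rintro ⟨g, hg⟩
    rw [Subgroup.mem_subgroupOf]
    exact sq_mem_A d g
  · refine ⟨⟨el d a0 0, ha0⟩, ?_, ?_⟩
    · rw [Subgroup.mem_subgroupOf]; exact el_mem_A d _ _
    · rintro ⟨g, hg⟩ hgB h
      rw [Subgroup.mem_subgroupOf] at hgB
      have h' : el d a0 0 * el d a0 0 * g = g * (el d a0 0 * el d a0 0) := congrArg Subtype.val h
      rcases cases d g with ⟨a, b, rfl⟩ | ⟨a, b, rfl⟩
      · exact hgB (el_mem_A d a b)
      · rw [el_sq, el_mul_elz, elz_mul_el] at h'
        have h3 := (elz_injective d _ _ _ _ h').1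
        apply h2a0
        linear_combination h3
  · rintro ⟨g, hg⟩ hgB
    rw [Subgroup.mem_subgroupOf] at hgB
    obtain ⟨a, b, hab⟩ := hgB
    have hab' : g = el d a b := hab
    subst hab'
    obtain ⟨m, hm⟩ := hgenK _ ((el_mem_iff d X hZ a b).mp hg)
    refine ⟨m.val, b.val, ?_⟩
    apply Subtype.ext
    show el d a b = (el d a1 0) ^ m.val * (el d 1 1) ^ b.val
    rw [el_pow, el_pow, ZMod.natCast_zmod_val, ZMod.natCast_zmod_val, el_mul_el, ← hm]
    congr 1 <;> ring
  · rintro ⟨g, hg⟩
    rcases cases d g with ⟨a, b, rfl⟩ | ⟨a, b, rfl⟩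
    · left
      rw [Subgroup.mem_subgroupOf]; exact el_mem_A d a b
    · right
      have h1 : (el d k 0 * d.z)⁻¹ * (el d a b * d.z) = el d (-0 + b) (-k + a) := by
        rw [elz_inv, elz_mul_elz]
      have h2 : (el d k 0 * d.z)⁻¹ * (el d a b * d.z) ∈ X := X.mul_mem (X.inv_mem hw) hg
      refine ⟨⟨(el d k 0 * d.z)⁻¹ * (el d a b * d.z), h2⟩, ?_, ?_⟩
      · rw [Subgroup.mem_subgroupOf]
        show (el d k 0 * d.z)⁻¹ * (el d a b * d.z) ∈ A d
        rw [h1]; exact el_mem_A d _ _
      · apply Subtype.ext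
        show el d a b * d.z = el d k 0 * d.z * ((el d k 0 * d.z)⁻¹ * (el d a b * d.z))
        group
  · rintro ⟨g, hg⟩ ⟨β, hβ⟩ hβB
    rw [Subgroup.mem_subgroupOf] at hβB ⊢
    show g * β * g⁻¹ ∈ A d
    exact ‹(A d).Normal›.conj_mem β hβB g
  · rintro ⟨g, hg⟩
    refine ⟨2 * d.n + 1, ?_⟩
    apply Subtype.ext
    show g ^ (2 ^ (2 * d.n + 1)) = 1
    rw [← d.card]; exact pow_card_eq_one'

end

end Cfsg.Agent.Helper22.WrSC
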