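import Mathlib
import Cfsg.Agent.Lib.Helper6.Wreathed
import Cfsg.Agent.Lib.Helper6.WreathedSub
import Cfsg.Agent.Lib.Helper6.WreathedQ8
import Cfsg.Agent.Lib.Helper6.WreathedAut
import Cfsg.Agent.Lib.Helper16.QuatRecog
import Cfsg.Agent.Lib.Helper17.MonoAut1
import Cfsg.Agent.Lib.Helper22.WrSelfCent

/-!
Classification of the self-centralizing subgroups of a wreathed `2`-group with an automorphism of
odd order (helper22).
-/

set_option autoImplicit false

namespace Cfsg.Agent.Helper22.WrSC

open Cfsg.Agent.Helper6.Wr Cfsg.Agent.Helper6.Z2 Cfsg.Agent.Helper22.WrAut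

variable {S : Type*} [Group S] (d : Data S) [Finite S]

theorem classify (X : Subgroup S) (hC : Subgroup.centralizer (X : Set S) ≤ X)
    (hA : ¬ IsPGroup 2 (MulAut X)) : X = A d ∨ ∃ k', X = VV d k' := by
  have hn1 := hn1 d
  by_cases hXA : X ≤ A d
  · left; exact eq_A_of_le d X hC hXA
  right
  have hZ := center_le X hC
  obtain ⟨k, hw⟩ := exists_w d X hZ hXA
  by_cases hbig : ∃ a0 ∈ KK d X, 2 * a0 ≠ 0
  · exfalso
    obtain ⟨a0, ha0, h2⟩ := hbig
    apply hA
    apply Cfsg.Agent.Helper17.MonoAut.isPGroup_two_of_odd_trivial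
    intro ψ r hr hψ
    exact aut_trivial_big d X hZ k hw a0 ha0 h2 ψ hr hψ
  have hK2 : ∀ a ∈ KK d X, 2 * a = 0 := by
    intro a ha
    by_contra h
    exact hbig ⟨a, ha, h⟩
  rcases parity d.n k with ⟨k', rfl⟩ | ⟨k', rfl⟩
  · by_cases hh : half d.n ∈ KK d X
    · refine ⟨k', ?_⟩
      ext s
      rcases cases d s with ⟨a, b, rfl⟩ | ⟨a, b, rfl⟩
      · rw [el_mem_iff d X hZ, el_mem_VV_iff]
        constructor
        · intro h; exact hK2 _ h
        · intro h
          rcases (two_mul_eq_zero_iff d.n hn1 _).mp h with h0 | h0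
          · rw [h0]; exact (KK d X).zero_mem
          · rw [h0]; exact hh
      · rw [elz_mem_iff d X hZ _ hw, elz_mem_VV_iff]
        constructor
        · intro h; exact hK2 _ h
        · intro h
          rcases (two_mul_eq_zero_iff d.n hn1 _).mp h with h0 | h0
          · rw [h0]; exact (KK d X).zero_mem
          · rw [h0]; exact hh
    · exfalso
      apply hA
      apply Cfsg.Agent.Helper17.MonoAut.isPGroup_two_of_odd_trivial
      intro ψ r hr hψ
      refine aut_trivial_even d X hZ k' hw ?_ ψ hr hψ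
      intro a ha
      rcases (two_mul_eq_zero_iff d.n hn1 _).mp (hK2 a ha) with h0 | h0
      · exact h0
      · exact absurd (h0 ▸ ha) hh
  · exfalso
    apply hA
    apply Cfsg.Agent.Helper17.MonoAut.isPGroup_two_of_odd_trivial
    intro ψ r hr hψ
    by_cases hh : half d.n ∈ KK d X
    · refine aut_trivial_odd d X hZ k' hw (half d.n) (two_mul_half d.n hn1) ?_ ψ hr hψ
      intro a
      constructor
      · intro ha; exact (two_mul_eq_zero_iff d.n hn1 _).mp (hK2 a ha)
      · rintro (rfl | rfl)
        · exact (KK d X).zero_mem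
        · exact hh
    · refine aut_trivial_odd d X hZ k' hw 0 (by ring) ?_ ψ hr hψ
      intro a
      constructor
      · intro ha
        rcases (two_mul_eq_zero_iff d.n hn1 _).mp (hK2 a ha) with h0 | h0
        · left; exact h0
        · exact absurd (h0 ▸ ha) hh
      · rintro (rfl | rfl)
        · exact (KK d X).zero_mem
        · exact (KK d X).zero_mem


/-! ### the abelian maximal subgroup -/

theorem relIndex_A : (A d).relIndex (Subgroup.normalizer (A d : Set S)) = 2 := by
  haveI : (A d).Normal := Subgroup.normal_of_index_eq_two (index_A d)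
  rw [Subgroup.normalizer_eq_top, Subgroup.relIndex_top_right, index_A]

theorem isMulCommutative_A : IsMulCommutative (A d) := ⟨⟨fun u v => A_comm d u v⟩⟩

/-! ### the subgroups `V_k` -/

theorem relIndex_VV (k : ZMod (2 ^ d.n)) :
    (VV d k).relIndex (Subgroup.normalizer (VV d k : Set S)) = 2 := by
  have hn1 := hn1 d
  have hh0 := half_ne_zero d.n hn1
  have hh := two_mul_half d.n hn1
  have hq := two_mul_quarter d.n d.hn
  rw [Subgroup.relIndex_eq_two_iff]
  refine ⟨el d (quarter d.n) 0, el_mem_normalizer_VV d k _ _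
    (by rw [sub_zero]; exact four_mul_quarter d.n d.hn), ?_⟩
  intro b hb
  have hv : el d (2 * k) 0 * d.z ∈ VV d k := elz_mem_VV d k _ _ (by ring)
  have h1 := (Subgroup.mem_normalizer_iff.mp hb _).mp hv
  rcases cases d b with ⟨c, e, rfl⟩ | ⟨c, e, rfl⟩
  · rw [conj_el_elz, elz_mem_VV_iff] at h1
    have h4 : 2 * (2 * (c - e)) = 0 := by linear_combination h1
    rw [el_mul_el, el_mem_VV_iff, el_mem_VV_iff]
    rcases (two_mul_eq_zero_iff d.n hn1 _).mp h4 with h0 | h0
    · right
      refine ⟨h0, ?_⟩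
      intro h5
      apply hh0
      linear_combination h5 - h0 - hq
    · left
      refine ⟨by linear_combination h0 + hq + hh, ?_⟩
      rw [h0]; exact hh0
  · rw [conj_elz_elz, elz_mem_VV_iff] at h1
    have h4 : 2 * (2 * (c - e - 2 * k)) = 0 := by linear_combination h1
    rw [elz_mul_el, elz_mem_VV_iff, elz_mem_VV_iff]
    rcases (two_mul_eq_zero_iff d.n hn1 _).mp h4 with h0 | h0
    · right
      refine ⟨h0, ?_⟩
      intro h5
      apply hh0
      linear_combination h0 - h5 - hq
    · left
      refine ⟨by linear_combination h0 - hq, ?_⟩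
      rw [h0]; exact hh0

theorem conj_VV (k1 k2 : ZMod (2 ^ d.n)) :
    (VV d k1).map (MulAut.conj (el d (k2 - k1) 0)).toMonoidHom = VV d k2 := by
  ext s
  rw [Subgroup.mem_map]
  constructor
  · rintro ⟨v, hv, rfl⟩
    show el d (k2 - k1) 0 * v * (el d (k2 - k1) 0)⁻¹ ∈ VV d k2
    rcases cases d v with ⟨a, b, rfl⟩ | ⟨a, b, rfl⟩
    · rw [conj_el_el]
      rw [el_mem_VV_iff] at hv ⊢
      exact hv
    · rw [conj_el_elz]
      rw [elz_mem_VV_iff] at hv ⊢
      linear_combination hv
  · intro hs
    refine ⟨(el d (k2 - k1) 0)⁻¹ * s * el d (k2 - k1) 0, ?_, ?_⟩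
    · have h1 : (el d (k2 - k1) 0)⁻¹ * s * el d (k2 - k1) 0
          = el d (k1 - k2) 0 * s * (el d (k1 - k2) 0)⁻¹ := by
        rw [el_inv, el_inv]
        congr 2 <;> ring_nf
      rw [h1]
      rcases cases d s with ⟨a, b, rfl⟩ | ⟨a, b, rfl⟩
      · rw [conj_el_el]
        rw [el_mem_VV_iff] at hs ⊢
        exact hs
      · rw [conj_el_elz]
        rw [elz_mem_VV_iff] at hs ⊢
        linear_combination hs
    · show el d (k2 - k1) 0 * ((el d (k2 - k1) 0)⁻¹ * s * el d (k2 - k1) 0)
        * (el d (k2 - k1) 0)⁻¹ = s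
      group

/-! ### the quaternion subgroups -/

/-- the quaternion subgroup `Q_k` -/
def QQ (k : ZMod (2 ^ d.n)) : Subgroup S where
  carrier := {s | P8 d k s}
  one_mem' := Or.inl ⟨0, by ring, by rw [neg_zero, el_zero]⟩
  mul_mem' := by
    have hn1 := hn1 d
    have hh := two_mul_half d.n hn1
    rintro _ _ (⟨m, hm, rfl⟩ | ⟨m, hm, rfl⟩) (⟨m', hm', rfl⟩ | ⟨m', hm', rfl⟩)
    · left
      refine ⟨m + m', by linear_combination hm + hm', ?_⟩
      rw [el_mul_el]; congr 1; ring
    · right
      refine ⟨m + m', by linear_combination hm + hm', ?_⟩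
      rw [el_mul_elz]; congr 2 <;> ring
    · right
      refine ⟨m - m', by linear_combination hm - hm', ?_⟩
      rw [elz_mul_el]; congr 2 <;> ring
    · left
      refine ⟨half d.n + m - m', by linear_combination 2 * hh + hm - hm', ?_⟩
      rw [elz_mul_elz]; congr 1
      · ring
      · linear_combination hh
  inv_mem' := by
    have hn1 := hn1 d
    have hh := two_mul_half d.n hn1
    rintro _ (⟨m, hm, rfl⟩ | ⟨m, hm, rfl⟩)
    · left
      refine ⟨-m, by linear_combination -hm, ?_⟩
      rw [el_inv]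
    · right
      refine ⟨m + half d.n, by linear_combination hm + 2 * hh, ?_⟩
      rw [elz_inv]; congr 2
      · linear_combination -hh
      · ring

theorem mem_QQ (k : ZMod (2 ^ d.n)) (s : S) : s ∈ QQ d k ↔ P8 d k s := Iff.rfl

theorem QQ_equiv (k : ZMod (2 ^ d.n)) : Nonempty (QQ d k ≃* QuaternionGroup 2) := by
  have hn1 := hn1 d
  have hh0 := half_ne_zero d.n hn1
  have hh := two_mul_half d.n hn1
  have hq := two_mul_quarter d.n d.hn
  have h4q := four_mul_quarter d.n d.hn
  have hxm : el d (quarter d.n) (-quarter d.n) ∈ QQ d k := Or.inl ⟨_, h4q, rfl⟩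
  have htm : el d k (half d.n - k) * d.z ∈ QQ d k :=
    Or.inr ⟨0, by ring, by rw [add_zero, sub_zero]⟩
  have hxpow : ∀ s : ℕ, (el d (quarter d.n) (-quarter d.n)) ^ s
      = el d (s * quarter d.n) (-(s * quarter d.n)) := by
    intro s
    rw [el_pow]; congr 1; ring
  -- multiples of the quarter
  have hmul : ∀ m : ZMod (2 ^ d.n), 4 * m = 0 → ∃ s : ℕ, m = s * quarter d.n := by
    intro m hm
    rcases (four_mul_eq_zero_iff d.n d.hn m).mp hm with rfl | rfl | rfl | rfl
    · exact ⟨0, by simp⟩
    · exact ⟨1, by simp⟩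
    · exact ⟨2, by push_cast; rw [hq]⟩
    · exact ⟨3, by push_cast; linear_combination -hq⟩
  apply Cfsg.Agent.Helper16.nonempty_mulEquiv_quaternion
    (⟨_, hxm⟩ : QQ d k) (⟨_, htm⟩ : QQ d k)
  · -- order of x
    have h1 : orderOf (⟨_, hxm⟩ : QQ d k) = 2 ^ (1 + 1) := by
      apply orderOf_eq_prime_pow
      · intro h
        have h2 := congrArg Subtype.val h
        have h3 : (el d (quarter d.n) (-quarter d.n)) ^ (2 ^ 1) = 1 := h2
        rw [hxpow, el_eq_one_iff] at h3
        apply hh0
        have := h3.1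
        push_cast at this
        linear_combination this - hq
      · apply Subtype.ext
        show (el d (quarter d.n) (-quarter d.n)) ^ (2 ^ (1 + 1)) = 1
        rw [hxpow, el_eq_one_iff]
        constructor
        · push_cast; linear_combination h4q
        · push_cast; linear_combination -h4q
    rw [h1]; norm_num
  · apply Subtype.ext
    show (el d k (half d.n - k) * d.z) ^ 2 = (el d (quarter d.n) (-quarter d.n)) ^ 2
    rw [hxpow, pow_two, elz_sq]
    congr 1
    · push_cast; linear_combination -hq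
    · push_cast; linear_combination hq + hh
  · apply Subtype.ext
    show el d k (half d.n - k) * d.z * el d (quarter d.n) (-quarter d.n)
      * (el d k (half d.n - k) * d.z)⁻¹ = (el d (quarter d.n) (-quarter d.n))⁻¹
    rw [conj_elz_el, el_inv, neg_neg]
  · intro h
    obtain ⟨j, hj⟩ := Subgroup.mem_zpowers_iff.mp h
    have h2 := congrArg Subtype.val hj
    rw [Subgroup.coe_zpow] at h2
    have h3 : (el d (quarter d.n) (-quarter d.n)) ^ j = el d k (half d.n - k) * d.z := h2
    rw [el_zpow] at h3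
    exact el_ne_elz d _ _ _ _ h3
  · rintro ⟨g, hg⟩
    rcases hg with ⟨m, hm, rfl⟩ | ⟨m, hm, rfl⟩
    · left
      obtain ⟨s, hs⟩ := hmul m hm
      rw [Subgroup.mem_zpowers_iff]
      refine ⟨(s : ℤ), ?_⟩
      apply Subtype.ext
      rw [zpow_natCast]
      show (el d (quarter d.n) (-quarter d.n)) ^ s = el d m (-m)
      rw [hxpow, hs]
    · right
      obtain ⟨s, hs⟩ := hmul (-m) (by linear_combination -hm)
      refine ⟨s, ?_⟩
      apply Subtype.ext
      show el d (k + m) (half d.n - k - m) * d.z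
        = el d k (half d.n - k) * d.z * (el d (quarter d.n) (-quarter d.n)) ^ s
      rw [hxpow, elz_mul_el, ← hs]
      congr 2 <;> ring

theorem VV_eq_sup (k : ZMod (2 ^ d.n)) : VV d k = QQ d k ⊔ Subgroup.center S :=
  (sup_center_eq d (QQ d k) k (mem_QQ d k)).symm

end Cfsg.Agent.Helper22.WrSC
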