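import Mathlib
import Cfsg.Agent.Lib.Helper1.AlperinGoldschmidt
import Cfsg.Agent.Lib.Helper22.WrSelfCentMain
import Cfsg.Agent.Lib.Helper6.WreathedFusion
import Cfsg.Agent.Lib.Helper6.NC

/-!
Control of fusion in a wreathed Sylow `2`-subgroup (helper22).
-/

set_option autoImplicit false

namespace Cfsg.Agent.Helper22.WrFus

open Subgroup

section generic

variable {G : Type*} [Group G] [Finite G] {p : ℕ} [Fact p.Prime]

/-- If `N_P(D)` is a Sylow subgroup of `N_G(D)` and `Aut(D)` is a `p`-group, then every element of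
`N_G(D)` acts on `D` like an element of `N_P(D)`. -/
theorem exists_mem_sylow_of_isPGroup_mulAut (P : Sylow p G) (D : Subgroup G)
    (htame : ¬ p ∣ ((P : Subgroup G) ⊓ normalizer (D : Set G)).relIndex (normalizer (D : Set G)))
    (hAut : IsPGroup p (MulAut D)) (x : G) (hx : x ∈ normalizer (D : Set G)) :
    ∃ s ∈ (P : Subgroup G), s ∈ normalizer (D : Set G) ∧ ∀ a ∈ D, x * a * x⁻¹ = s * a * s⁻¹ := by
  have hp : p.Prime := Fact.out
  set N : Subgroup G := normalizer (D : Set G) with hN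
  have hDN : D ≤ N := le_normalizer
  haveI : (D.subgroupOf N).Normal := Subgroup.normal_in_normalizer
  let φ : ↥N →* MulAut ↥(D.subgroupOf N) := MulAut.conjNormal
  have hAut' : IsPGroup p (MulAut ↥(D.subgroupOf N)) :=
    hAut.of_equiv (MulAut.congr (Subgroup.subgroupOfEquivOfLe hDN)).symm
  set T' : Subgroup ↥N := ((P : Subgroup G) ⊓ N).subgroupOf N with hT'
  have hidx : ¬ p ∣ T'.index := htame
  let f : ↥N →* ↥φ.range := φ.rangeRestrict
  have hf : Function.Surjective f := φ.rangeRestrict_surjective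
  have h1 : (T'.map f).index ∣ T'.index := Subgroup.index_map_dvd T' hf
  have hR : IsPGroup p ↥φ.range := hAut'.to_subgroup _
  obtain ⟨k, hk⟩ := IsPGroup.iff_card.mp hR
  have h2 : (T'.map f).index ∣ p ^ k := by
    rw [← hk]; exact Subgroup.index_dvd_card _
  obtain ⟨j, -, hj⟩ := (Nat.dvd_prime_pow hp).mp h2
  have hj0 : j = 0 := by
    by_contra hne
    apply hidx
    have : p ∣ (T'.map f).index := by
      rw [hj]; exact dvd_pow_self p hne
    exact this.trans h1
  rw [hj0, pow_zero] at hj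
  have htop : T'.map f = ⊤ := Subgroup.index_eq_one.mp hj
  have hmem : f ⟨x, hx⟩ ∈ T'.map f := by rw [htop]; exact Subgroup.mem_top _
  obtain ⟨s, hs, hfs⟩ := Subgroup.mem_map.mp hmem
  have hφ : φ s = φ ⟨x, hx⟩ := congrArg Subtype.val hfs
  rw [hT', Subgroup.mem_subgroupOf] at hs
  refine ⟨s.1, hs.1, s.2, ?_⟩
  intro a ha
  have h3 := congrArg (fun ψ : MulAut ↥(D.subgroupOf N) =>
    (((ψ ⟨⟨a, hDN ha⟩, Subgroup.mem_subgroupOf.mpr ha⟩ : ↥(D.subgroupOf N)) : ↥N) : G)) hφ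
  simp only [φ, MulAut.conjNormal_apply] at h3
  exact h3.symm

end generic


section classes

variable {G : Type*} [Group G]

/-- exactly three classes of elements of order `n` -/
theorem card_classes_eq_three (n : ℕ) (t₁ t₂ t₃ : G) (h₁ : orderOf t₁ = n) (h₂ : orderOf t₂ = n)
    (h₃ : orderOf t₃ = n) (h₁₂ : ¬ IsConj t₁ t₂) (h₁₃ : ¬ IsConj t₁ t₃) (h₂₃ : ¬ IsConj t₂ t₃)
    (h : ∀ t : G, orderOf t = n → IsConj t t₁ ∨ IsConj t t₂ ∨ IsConj t t₃) :
    Nat.card {C : ConjClasses G // ∃ t : G, orderOf t = n ∧ ConjClasses.mk t = C} = 3 := by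
  change Nat.card ↥{C : ConjClasses G | ∃ t : G, orderOf t = n ∧ ConjClasses.mk t = C} = 3
  rw [Nat.card_coe_set_eq, Set.ncard_eq_three]
  refine ⟨ConjClasses.mk t₁, ConjClasses.mk t₂, ConjClasses.mk t₃, ?_, ?_, ?_, ?_⟩
  · rw [Ne, ConjClasses.mk_eq_mk_iff_isConj]; exact h₁₂
  · rw [Ne, ConjClasses.mk_eq_mk_iff_isConj]; exact h₁₃
  · rw [Ne, ConjClasses.mk_eq_mk_iff_isConj]; exact h₂₃
  · ext C
    simp only [Set.mem_ofPred_eq, Set.mem_insert_iff, Set.mem_singleton_iff]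
    constructor
    · rintro ⟨t, ht, rfl⟩
      rcases h t ht with h' | h' | h'
      · left; exact ConjClasses.mk_eq_mk_iff_isConj.mpr h'
      · right; left; exact ConjClasses.mk_eq_mk_iff_isConj.mpr h'
      · right; right; exact ConjClasses.mk_eq_mk_iff_isConj.mpr h'
    · rintro (rfl | rfl | rfl)
      · exact ⟨t₁, h₁, rfl⟩
      · exact ⟨t₂, h₂, rfl⟩
      · exact ⟨t₃, h₃, rfl⟩

/-- exactly two classes of elements of order `n` -/
theorem card_classes_eq_two (n : ℕ) (t₁ t₂ : G) (h₁ : orderOf t₁ = n) (h₂ : orderOf t₂ = n)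
    (h₁₂ : ¬ IsConj t₁ t₂) (h : ∀ t : G, orderOf t = n → IsConj t t₁ ∨ IsConj t t₂) :
    Nat.card {C : ConjClasses G // ∃ t : G, orderOf t = n ∧ ConjClasses.mk t = C} = 2 := by
  change Nat.card ↥{C : ConjClasses G | ∃ t : G, orderOf t = n ∧ ConjClasses.mk t = C} = 2
  rw [Nat.card_coe_set_eq, Set.ncard_eq_two]
  refine ⟨ConjClasses.mk t₁, ConjClasses.mk t₂, ?_, ?_⟩
  · rw [Ne, ConjClasses.mk_eq_mk_iff_isConj]; exact h₁₂
  · ext C
    simp only [Set.mem_ofPred_eq, Set.mem_insert_iff, Set.mem_singleton_iff]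
    constructor
    · rintro ⟨t, ht, rfl⟩
      rcases h t ht with h' | h'
      · left; exact ConjClasses.mk_eq_mk_iff_isConj.mpr h'
      · right; exact ConjClasses.mk_eq_mk_iff_isConj.mpr h'
    · rintro (rfl | rfl)
      · exact ⟨t₁, h₁, rfl⟩
      · exact ⟨t₂, h₂, rfl⟩

end classes

section family

open Cfsg.Agent.Helper1.AG Cfsg.Agent.Helper10

variable {G : Type*} [Group G] [Finite G] {p : ℕ} [Fact p.Prime] (P : Sylow p G)

theorem exists_mul_of_mem_sup' {A B : Subgroup G}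
    (hc : ∀ a ∈ A, ∀ b ∈ B, a * b = b * a) {x : G} (hx : x ∈ A ⊔ B) :
    ∃ a ∈ A, ∃ b ∈ B, x = a * b := by
  rw [Subgroup.sup_eq_closure] at hx
  induction hx using Subgroup.closure_induction with
  | mem x hx =>
    rcases hx with hx | hx
    · exact ⟨x, hx, 1, B.one_mem, (mul_one x).symm⟩
    · exact ⟨1, A.one_mem, x, hx, (one_mul x).symm⟩
  | one => exact ⟨1, A.one_mem, 1, B.one_mem, (mul_one 1).symm⟩
  | mul x y _ _ hx hy =>
    obtain ⟨a, ha, b, hb, rfl⟩ := hx
    obtain ⟨a', ha', b', hb', rfl⟩ := hy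
    refine ⟨a * a', A.mul_mem ha ha', b * b', B.mul_mem hb hb', ?_⟩
    calc a * b * (a' * b') = a * (b * a') * b' := by group
      _ = a * (a' * b) * b' := by rw [hc a' ha' b hb]
      _ = a * a' * (b * b') := by group
  | inv x _ hx =>
    obtain ⟨a, ha, b, hb, rfl⟩ := hx
    refine ⟨a⁻¹, A.inv_mem ha, b⁻¹, B.inv_mem hb, ?_⟩
    rw [mul_inv_rev, ← hc a⁻¹ (A.inv_mem ha) b⁻¹ (B.inv_mem hb)]

/-- members of the Alperin–Goldschmidt family are self-centralizing in `P` -/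
theorem inD_centric {D : Subgroup G} (hD : InD P D) (s : G) (hsP : s ∈ (P : Subgroup G))
    (hsC : s ∈ centralizer (D : Set G)) : s ∈ D := by
  obtain ⟨hDP, hC, ⟨-, -, hcomm, -, hsup⟩, -⟩ := hD
  have h1 : s ∈ oppp p D := hC hsC
  rw [← hsup] at h1
  obtain ⟨o, ho, d', hd', rfl⟩ := exists_mul_of_mem_sup' hcomm h1
  have hoP : o ∈ (P : Subgroup G) := by
    have : o = (o * d') * d'⁻¹ := by group
    rw [this]
    exact Subgroup.mul_mem _ hsP (Subgroup.inv_mem _ (hDP hd'))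
  have ho1 : o = 1 := by
    apply Cfsg.Agent.Helper15.eq_one_of_isPGroup_of_coprime P.2 hoP
    exact Nat.Coprime.coprime_dvd_left (Subgroup.orderOf_dvd_natCard _ ho) (card_opp_coprime p D)
  rw [ho1, one_mul]
  exact hd'

/-- the elements of `N_G(D)` acting on `D` like elements of `P` -/
def ctrlSub (D : Subgroup G) : Subgroup G where
  carrier := {x | x ∈ normalizer (D : Set G) ∧
    ∃ s ∈ (P : Subgroup G), ∀ a ∈ D, x * a * x⁻¹ = s * a * s⁻¹}
  one_mem' := ⟨Subgroup.one_mem _, 1, Subgroup.one_mem _, fun a _ => rfl⟩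
  mul_mem' := by
    rintro x y ⟨hx, s, hs, hxs⟩ ⟨hy, s', hs', hys⟩
    refine ⟨Subgroup.mul_mem _ hx hy, s * s', Subgroup.mul_mem _ hs hs', ?_⟩
    intro a ha
    have h1 : y * a * y⁻¹ ∈ D := (Subgroup.mem_normalizer_iff.mp hy a).mp ha
    have h2 := hxs _ h1
    rw [hys a ha] at h2
    calc x * y * a * (x * y)⁻¹ = x * (y * a * y⁻¹) * x⁻¹ := by group
      _ = x * (s' * a * s'⁻¹) * x⁻¹ := by rw [hys a ha]
      _ = s * (s' * a * s'⁻¹) * s⁻¹ := h2
      _ = s * s' * a * (s * s')⁻¹ := by group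
  inv_mem' := by
    rintro x ⟨hx, s, hs, hxs⟩
    refine ⟨Subgroup.inv_mem _ hx, s⁻¹, Subgroup.inv_mem _ hs, ?_⟩
    intro b hb
    have h1 : x⁻¹ * b * x⁻¹⁻¹ ∈ D :=
      (Subgroup.mem_normalizer_iff.mp (Subgroup.inv_mem _ hx) b).mp hb
    have h2 := hxs _ h1
    have h3 : x * (x⁻¹ * b * x⁻¹⁻¹) * x⁻¹ = b := by group
    rw [h3] at h2
    calc x⁻¹ * b * x⁻¹⁻¹ = s⁻¹ * (s * (x⁻¹ * b * x⁻¹⁻¹) * s⁻¹) * s := by group
      _ = s⁻¹ * b * s⁻¹⁻¹ := by rw [← h2, inv_inv]

theorem mem_ctrlSub {D : Subgroup G} {x : G} : x ∈ ctrlSub P D ↔ x ∈ normalizer (D : Set G) ∧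
    ∃ s ∈ (P : Subgroup G), ∀ a ∈ D, x * a * x⁻¹ = s * a * s⁻¹ := Iff.rfl

theorem centralizer_le_ctrlSub (D : Subgroup G) : centralizer (D : Set G) ≤ ctrlSub P D := by
  intro c hc
  refine ⟨Subgroup.centralizer_le_normalizer _ hc, 1, Subgroup.one_mem _, ?_⟩
  intro a ha
  have := (Subgroup.mem_centralizer_iff.mp hc) a ha
  calc c * a * c⁻¹ = (c * a) * c⁻¹ := rfl
    _ = (a * c) * c⁻¹ := by rw [this]
    _ = 1 * a * 1⁻¹ := by group

theorem inf_normalizer_le_ctrlSub (D : Subgroup G) :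
    (P : Subgroup G) ⊓ normalizer (D : Set G) ≤ ctrlSub P D := by
  intro s hs
  exact ⟨hs.2, s, hs.1, fun a _ => rfl⟩

/-- `N_G(D)` is controlled when `Aut(D)` is a `p`-group -/
theorem normalizer_le_ctrlSub_of_isPGroup (D : Subgroup G)
    (htame : ¬ p ∣ ((P : Subgroup G) ⊓ normalizer (D : Set G)).relIndex (normalizer (D : Set G)))
    (hAut : IsPGroup p (MulAut D)) : normalizer (D : Set G) ≤ ctrlSub P D := by
  intro x hx
  obtain ⟨s, hs, -, h⟩ := exists_mem_sylow_of_isPGroup_mulAut P D htame hAut x hx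
  exact ⟨hx, s, hs, h⟩

/-- `N_G(D)` is controlled when a controlled subgroup has index two in it -/
theorem normalizer_le_ctrlSub_of_relIndex_two (D M : Subgroup G)
    (hM : M ≤ ctrlSub P D) (h2 : M.relIndex (normalizer (D : Set G)) = 2) (w : G)
    (hwP : w ∈ (P : Subgroup G)) (hwN : w ∈ normalizer (D : Set G)) (hwM : w ∉ M) :
    normalizer (D : Set G) ≤ ctrlSub P D := by
  intro x hx
  by_cases hxM : x ∈ M
  · exact hM hxM
  · have h3 : (M.subgroupOf (normalizer (D : Set G))).index = 2 := h2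
    have h4 := Subgroup.mul_mem_iff_of_index_two h3
      (a := (⟨x, hx⟩ : ↥(normalizer (D : Set G)))) (b := ⟨w, hwN⟩)
    have h5 : x * w ∈ M := by
      have : (⟨x, hx⟩ : ↥(normalizer (D : Set G))) * ⟨w, hwN⟩ ∈
          M.subgroupOf (normalizer (D : Set G)) := by
        rw [h4]
        constructor
        · intro h; exact absurd (Subgroup.mem_subgroupOf.mp h) hxM
        · intro h; exact absurd (Subgroup.mem_subgroupOf.mp h) hwM
      exact Subgroup.mem_subgroupOf.mp this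
    have h6 : x = (x * w) * w⁻¹ := by group
    rw [h6]
    exact Subgroup.mul_mem _ (hM h5)
      (Subgroup.inv_mem _ (inf_normalizer_le_ctrlSub P D ⟨hwP, hwN⟩))

/-- conjugating a controlled subgroup by an element of `P` -/
theorem normalizer_le_ctrlSub_conj (D : Subgroup G) (h : normalizer (D : Set G) ≤ ctrlSub P D)
    (s₀ : G) (hs₀ : s₀ ∈ (P : Subgroup G)) :
    normalizer ((D.map (MulAut.conj s₀).toMonoidHom : Subgroup G) : Set G) ≤
      ctrlSub P (D.map (MulAut.conj s₀).toMonoidHom) := by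
  have hmem : ∀ b : G, b ∈ D.map (MulAut.conj s₀).toMonoidHom ↔ s₀⁻¹ * b * s₀ ∈ D := by
    intro b
    rw [Subgroup.mem_map]
    constructor
    · rintro ⟨a, ha, rfl⟩
      have : s₀⁻¹ * (MulAut.conj s₀).toMonoidHom a * s₀ = a := by
        simp [MulAut.conj_apply]; group
      rw [this]; exact ha
    · intro hb
      refine ⟨s₀⁻¹ * b * s₀, hb, ?_⟩
      simp [MulAut.conj_apply]; group
  intro x hx
  have hx' : s₀⁻¹ * x * s₀ ∈ normalizer (D : Set G) := by
    rw [Subgroup.mem_normalizer_iff]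
    intro a
    have h1 := (Subgroup.mem_normalizer_iff.mp hx) (s₀ * a * s₀⁻¹)
    rw [hmem, hmem] at h1
    have e1 : s₀⁻¹ * (s₀ * a * s₀⁻¹) * s₀ = a := by group
    have e2 : s₀⁻¹ * (x * (s₀ * a * s₀⁻¹) * x⁻¹) * s₀ = s₀⁻¹ * x * s₀ * a * (s₀⁻¹ * x * s₀)⁻¹ := by
      group
    rw [e1, e2] at h1
    exact h1
  obtain ⟨-, s, hs, hxs⟩ := h hx'
  refine ⟨hx, s₀ * s * s₀⁻¹, Subgroup.mul_mem _ (Subgroup.mul_mem _ hs₀ hs)
    (Subgroup.inv_mem _ hs₀), ?_⟩
  intro b hb
  have h1 := hxs _ ((hmem b).mp hb)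
  calc x * b * x⁻¹ = s₀ * ((s₀⁻¹ * x * s₀) * (s₀⁻¹ * b * s₀) * (s₀⁻¹ * x * s₀)⁻¹) * s₀⁻¹ := by group
    _ = s₀ * (s * (s₀⁻¹ * b * s₀) * s⁻¹) * s₀⁻¹ := by rw [h1]
    _ = s₀ * s * s₀⁻¹ * b * (s₀ * s * s₀⁻¹)⁻¹ := by group

/-- chains through controlled subgroups are realised inside `P` -/
theorem exists_of_xchain {St : Subgroup G → G → Prop}
    (hSt : ∀ D x, St D x → normalizer (D : Set G) ≤ ctrlSub P D) {A : Set G} {m : G}
    (h : XChain St A m) : ∃ s ∈ (P : Subgroup G), ∀ a ∈ A, m⁻¹ * a * m = s⁻¹ * a * s := by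
  induction h with
  | nil A => exact ⟨1, Subgroup.one_mem _, fun a _ => rfl⟩
  | cons A T x g hT hx hAT _ ih =>
    obtain ⟨s', hs', h'⟩ := ih
    obtain ⟨-, s, hs, hxs⟩ := hSt T x hT (Subgroup.inv_mem _ hx)
    refine ⟨s⁻¹ * s', Subgroup.mul_mem _ (Subgroup.inv_mem _ hs) hs', ?_⟩
    intro a ha
    have h1 : x⁻¹ * a * x ∈ rcs x A := ⟨a, ha, rfl⟩
    have h2 := h' _ h1
    have h3 := hxs a (hAT ha)
    rw [inv_inv] at h3
    calc (x * g)⁻¹ * a * (x * g) = g⁻¹ * (x⁻¹ * a * x) * g := by group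
      _ = s'⁻¹ * (x⁻¹ * a * x) * s' := h2
      _ = s'⁻¹ * (s * a * s⁻¹) * s' := by rw [h3]
      _ = (s⁻¹ * s')⁻¹ * a * (s⁻¹ * s') := by group

/-- if all members of the Alperin–Goldschmidt family are controlled, `P` controls fusion -/
theorem control (h : ∀ D, InD P D → normalizer (D : Set G) ≤ ctrlSub P D) (A : Set G) (g : G)
    (hA : A ⊆ ((P : Subgroup G) : Set G)) (hAg : rcs g A ⊆ ((P : Subgroup G) : Set G)) :
    ∃ s ∈ (P : Subgroup G), ∀ a ∈ A, g⁻¹ * a * g = s⁻¹ * a * s := by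
  obtain ⟨c, m, hc, hgm, hch⟩ := reach_of_conj (P := P) A g hA hAg
  obtain ⟨s, hs, hsm⟩ := exists_of_xchain P (St := fun D _ => InD P D) (fun D _ hD => h D hD) hch
  refine ⟨s, hs, ?_⟩
  intro a ha
  have h1 : c⁻¹ * a * c = a := by
    have := (Subgroup.mem_centralizer_iff.mp hc) a ha
    calc c⁻¹ * a * c = c⁻¹ * (a * c) := by group
      _ = c⁻¹ * (c * a) := by rw [this]
      _ = a := by group
  rw [← hsm a ha, hgm]
  calc (c * m)⁻¹ * a * (c * m) = m⁻¹ * (c⁻¹ * a * c) * m := by group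
    _ = m⁻¹ * a * m := by rw [h1]

end family


section wreathed

open Cfsg.Agent.Helper6.Wr Cfsg.Agent.Helper6.Z2 Cfsg.Agent.Helper6 Cfsg.Agent.Helper1.AG
  Cfsg.Agent.Helper10 Cfsg.Agent.Helper22.WrSC

variable {G : Type*} [Group G] [Finite G] (S : Sylow 2 G)

/-- lift of a subgroup of `S` to `G` -/
abbrev up (H : Subgroup ↥(S : Subgroup G)) : Subgroup G := H.map (S : Subgroup G).subtype

theorem up_le (H : Subgroup ↥(S : Subgroup G)) : up S H ≤ (S : Subgroup G) :=
  Subgroup.map_subtype_le _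

theorem subgroupOf_up (H : Subgroup ↥(S : Subgroup G)) : (up S H).subgroupOf (S : Subgroup G) = H :=
  Subgroup.comap_map_eq_self_of_injective (Subgroup.subtype_injective _) _

theorem coe_mem_up {H : Subgroup ↥(S : Subgroup G)} (s : ↥(S : Subgroup G)) :
    (s : G) ∈ up S H ↔ s ∈ H := by
  constructor
  · rintro ⟨h, hh, he⟩
    have : h = s := Subtype.ext he
    rw [← this]; exact hh
  · intro hs; exact ⟨s, hs, rfl⟩

theorem exists_of_mem_up {H : Subgroup ↥(S : Subgroup G)} {g : G} (hg : g ∈ up S H) :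
    ∃ s : ↥(S : Subgroup G), s ∈ H ∧ (s : G) = g := by
  obtain ⟨h, hh, he⟩ := hg
  exact ⟨h, hh, he⟩

theorem eq_up_of_subgroupOf {D : Subgroup G} (hD : D ≤ (S : Subgroup G))
    {H : Subgroup ↥(S : Subgroup G)} (h : D.subgroupOf (S : Subgroup G) = H) : D = up S H := by
  rw [← h]; exact (Subgroup.map_subgroupOf_eq_of_le hD).symm

theorem up_map_conj (H : Subgroup ↥(S : Subgroup G)) (s : ↥(S : Subgroup G)) :
    up S (H.map (MulAut.conj s).toMonoidHom) = (up S H).map (MulAut.conj (s : G)).toMonoidHom := by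
  unfold up
  rw [Subgroup.map_map, Subgroup.map_map]
  congr 1

variable (d : Data ↥(S : Subgroup G))

/-- members of the Alperin–Goldschmidt family of a wreathed Sylow `2`-subgroup -/
theorem inD_cases {D : Subgroup G} (hD : InD S D) :
    IsPGroup 2 (MulAut ↥D) ∨ D = up S (A d) ∨ ∃ k, D = up S (VV d k) := by
  by_cases h : IsPGroup 2 (MulAut ↥(D.subgroupOf (S : Subgroup G)))
  · left
    exact h.of_equiv (MulAut.congr (Subgroup.subgroupOfEquivOfLe hD.1))
  · right
    have hC : centralizer ((D.subgroupOf (S : Subgroup G) : Subgroup ↥(S : Subgroup G)) :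
        Set ↥(S : Subgroup G)) ≤ D.subgroupOf (S : Subgroup G) := by
      intro s hs
      rw [Subgroup.mem_subgroupOf]
      apply inD_centric S hD s.1 s.2
      rw [Subgroup.mem_centralizer_iff]
      intro a ha
      have := (Subgroup.mem_centralizer_iff.mp hs) ⟨a, hD.1 ha⟩ (Subgroup.mem_subgroupOf.mpr ha)
      exact congrArg Subtype.val this
    rcases classify d _ hC h with h1 | ⟨k, h1⟩
    · left; exact eq_up_of_subgroupOf S hD.1 h1
    · right; exact ⟨k, eq_up_of_subgroupOf S hD.1 h1⟩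

theorem coe_z_mem_normalizer_A : ((d.z : ↥(S : Subgroup G)) : G) ∈ normalizer (up S (A d) : Set G) := by
  have hAnormal : (A d).Normal := Subgroup.normal_of_index_eq_two (index_A d)
  apply NC.coe_mem_normalizer (S : Subgroup G) (up S (A d)) (up_le S _) d.z
  rw [subgroupOf_up, Subgroup.normalizer_eq_top]
  exact Subgroup.mem_top _

theorem sylow_le_normalizer_A : (S : Subgroup G) ≤ normalizer (up S (A d) : Set G) := by
  have hAnormal : (A d).Normal := Subgroup.normal_of_index_eq_two (index_A d)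
  intro s hs
  apply NC.coe_mem_normalizer (S : Subgroup G) (up S (A d)) (up_le S _) ⟨s, hs⟩
  rw [subgroupOf_up, Subgroup.normalizer_eq_top]
  exact Subgroup.mem_top _

theorem coe_z_not_mem_centralizer_A :
    ((d.z : ↥(S : Subgroup G)) : G) ∉ centralizer (up S (A d) : Set G) := by
  intro h
  have h1 := (Subgroup.mem_centralizer_iff.mp h) ((el d 1 0 : ↥(S : Subgroup G)) : G)
    ((coe_mem_up S _).mpr (el_mem_A d 1 0))
  have h2 : el d 1 0 * d.z = d.z * el d 1 0 := Subtype.ext h1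
  rw [z_el] at h2
  have h3 := (elz_injective d _ _ _ _ h2).1
  exact one_ne_zero' d.n (hn1 d) h3

/-- `N_G(U)` is controlled when `|N_G(U) : C_G(U)| = 2` -/
theorem ctrl_U (h₁ : (centralizer (up S (A d) : Set G)).relIndex (normalizer (up S (A d) : Set G)) = 2) :
    normalizer (up S (A d) : Set G) ≤ ctrlSub S (up S (A d)) :=
  normalizer_le_ctrlSub_of_relIndex_two S _ _ (centralizer_le_ctrlSub S _) h₁ _ d.z.2
    (coe_z_mem_normalizer_A S d) (coe_z_not_mem_centralizer_A S d)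

theorem coe_el_mem_normalizer_VV (k c e : ZMod (2 ^ d.n)) (hce : 4 * (c - e) = 0) :
    ((el d c e : ↥(S : Subgroup G)) : G) ∈ normalizer (up S (VV d k) : Set G) := by
  apply NC.coe_mem_normalizer (S : Subgroup G) (up S (VV d k)) (up_le S _) (el d c e)
  rw [subgroupOf_up]
  exact el_mem_normalizer_VV d k c e hce

theorem coe_quarter_not_mem (k : ZMod (2 ^ d.n)) :
    ((el d (quarter d.n) 0 : ↥(S : Subgroup G)) : G) ∉
      up S (VV d k) ⊔ centralizer (up S (VV d k) : Set G) := by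
  intro hw
  have hcomm : ∀ a ∈ up S (VV d k), ∀ b ∈ centralizer (up S (VV d k) : Set G), a * b = b * a := by
    intro a ha b hb
    exact (Subgroup.mem_centralizer_iff.mp hb) a ha
  obtain ⟨v, hv, c, hc, hvc⟩ := exists_mul_of_mem_sup' hcomm hw
  obtain ⟨v', hv', rfl⟩ := exists_of_mem_up S hv
  set c' : ↥(S : Subgroup G) := v'⁻¹ * el d (quarter d.n) 0 with hc'
  have hcc : (c' : G) = c := by
    rw [hc', Subgroup.coe_mul, hvc]; simp
  have hcen : c' ∈ centralizer ((VV d k : Subgroup ↥(S : Subgroup G)) : Set ↥(S : Subgroup G)) := by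
    rw [Subgroup.mem_centralizer_iff]
    intro h hh
    apply Subtype.ext
    show (h : G) * (c' : G) = (c' : G) * (h : G)
    rw [hcc]
    exact (Subgroup.mem_centralizer_iff.mp hc) _ ((coe_mem_up S h).mpr hh)
  rw [centralizer_VV] at hcen
  have h1 : c' ∈ VV d k := center_le_VV d k hcen
  have h2 : el d (quarter d.n) 0 = v' * c' := by rw [hc']; group
  have h3 : el d (quarter d.n) 0 ∈ VV d k := by
    rw [h2]; exact Subgroup.mul_mem _ hv' h1
  rw [el_mem_VV_iff, sub_zero, two_mul_quarter d.n d.hn] at h3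
  exact half_ne_zero d.n (hn1 d) h3

/-- `N_G(V)` is controlled when `|N_G(V) : V C_G(V)| = 2` -/
theorem ctrl_V (k : ZMod (2 ^ d.n))
    (h₂ : (up S (VV d k) ⊔ centralizer (up S (VV d k) : Set G)).relIndex
      (normalizer (up S (VV d k) : Set G)) = 2) :
    normalizer (up S (VV d k) : Set G) ≤ ctrlSub S (up S (VV d k)) := by
  refine normalizer_le_ctrlSub_of_relIndex_two S _ _ ?_ h₂ _ (el d (quarter d.n) 0).2
    (coe_el_mem_normalizer_VV S d k _ _ (by rw [sub_zero]; exact four_mul_quarter d.n d.hn))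
    (coe_quarter_not_mem S d k)
  apply sup_le _ (centralizer_le_ctrlSub S _)
  exact le_trans (le_inf (up_le S _) Subgroup.le_normalizer) (inf_normalizer_le_ctrlSub S _)

theorem up_VV_eq_conj (k k' : ZMod (2 ^ d.n)) :
    up S (VV d k') = (up S (VV d k)).map
      (MulAut.conj ((el d (k' - k) 0 : ↥(S : Subgroup G)) : G)).toMonoidHom := by
  rw [← up_map_conj, conj_VV]

/-- in the case `(2, 2)` every member of the Alperin–Goldschmidt family is controlled -/
theorem all_ctrl_of_two_two (k : ZMod (2 ^ d.n))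
    (h₁ : (centralizer (up S (A d) : Set G)).relIndex (normalizer (up S (A d) : Set G)) = 2)
    (h₂ : (up S (VV d k) ⊔ centralizer (up S (VV d k) : Set G)).relIndex
      (normalizer (up S (VV d k) : Set G)) = 2) (D : Subgroup G) (hD : InD S D) :
    normalizer (D : Set G) ≤ ctrlSub S D := by
  rcases inD_cases S d hD with h | rfl | ⟨k', rfl⟩
  · exact normalizer_le_ctrlSub_of_isPGroup S D hD.2.2.2 h
  · exact ctrl_U S d h₁
  · rw [up_VV_eq_conj S d k k']
    exact normalizer_le_ctrlSub_conj S _ (ctrl_V S d k h₂) _ (el d (k' - k) 0).2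

end wreathed

end Cfsg.Agent.Helper22.WrFus
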