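import Mathlib
import Cfsg.Agent.Lib.Helper22.WrFusion

/-!
Fusion invariants and the focal subgroup of a wreathed Sylow `2`-subgroup (helper22).
-/

set_option autoImplicit false

namespace Cfsg.Agent.Helper22.WrFus

open Subgroup
open scoped commutatorElement

section generic

open Cfsg.Agent.Helper1.AG Cfsg.Agent.Helper10

variable {G : Type*} [Group G] [Finite G] {p : ℕ} [Fact p.Prime] (P : Sylow p G)

theorem invariant_of_xchain {St : Subgroup G → G → Prop} (I : G → Prop)
    (hSt : ∀ D x, St D x → ∀ y ∈ normalizer (D : Set G), ∀ a ∈ D, (I a ↔ I (y⁻¹ * a * y)))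
    {A : Set G} {m : G} (h : XChain St A m) : ∀ a ∈ A, (I a ↔ I (m⁻¹ * a * m)) := by
  induction h with
  | nil A =>
    intro a _
    simp
  | cons A T x g hT hx hAT _ ih =>
    intro a ha
    have h1 : x⁻¹ * a * x ∈ rcs x A := ⟨a, ha, rfl⟩
    have h2 := ih _ h1
    have h3 := hSt T x hT x hx a (hAT ha)
    have e : (x * g)⁻¹ * a * (x * g) = g⁻¹ * (x⁻¹ * a * x) * g := by group
    rw [e, h3, h2]

/-- a property preserved by the normalizers of all members of the Alperin–Goldschmidt family is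
preserved by all fusion in `P` -/
theorem invariant_of_family (I : G → Prop)
    (h : ∀ D, InD P D → ∀ y ∈ normalizer (D : Set G), ∀ a ∈ D, (I a ↔ I (y⁻¹ * a * y)))
    (a g : G) (ha : a ∈ (P : Subgroup G)) (hg : g⁻¹ * a * g ∈ (P : Subgroup G)) :
    I a ↔ I (g⁻¹ * a * g) := by
  obtain ⟨c, m, hc, hgm, hch⟩ := reach_of_conj (P := P) {a} g (by
      intro b hb
      rw [Set.mem_singleton_iff] at hb
      rw [hb]; exact ha) (by
      rintro _ ⟨b, hb, rfl⟩
      rw [Set.mem_singleton_iff] at hb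
      rw [hb]; exact hg)
  have h1 := invariant_of_xchain (St := fun D _ => InD P D) I (fun D _ hD => h D hD) hch a
    (Set.mem_singleton a)
  have h2 : c⁻¹ * a * c = a := by
    have := (Subgroup.mem_centralizer_iff.mp hc) a (Set.mem_singleton a)
    calc c⁻¹ * a * c = c⁻¹ * (a * c) := by group
      _ = c⁻¹ * (c * a) := by rw [this]
      _ = a := by group
  have e : g⁻¹ * a * g = m⁻¹ * (c⁻¹ * a * c) * m := by rw [hgm]; group
  rw [e, h2]
  exact h1

/-- controlled members of the family preserve every `P`-invariant property -/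
theorem invariant_of_ctrl (I : G → Prop) (hI : ∀ s ∈ (P : Subgroup G), ∀ a, (I a ↔ I (s * a * s⁻¹)))
    (D : Subgroup G) (hD : normalizer (D : Set G) ≤ ctrlSub P D) :
    ∀ y ∈ normalizer (D : Set G), ∀ a ∈ D, (I a ↔ I (y⁻¹ * a * y)) := by
  intro y hy a ha
  obtain ⟨-, s, hs, hys⟩ := hD (Subgroup.inv_mem _ hy)
  have := hys a ha
  rw [inv_inv] at this
  rw [this]
  exact hI s hs a

/-- a fusion-invariant subgroup of index two contains the focal subgroup -/
theorem focalSubgroup_le_of_relIndex_two (T : Subgroup G) (h2 : T.relIndex (P : Subgroup G) = 2)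
    (h : ∀ a ∈ (P : Subgroup G), ∀ g : G, g⁻¹ * a * g ∈ (P : Subgroup G) →
      (a ∈ T ↔ g⁻¹ * a * g ∈ T)) : focalSubgroup (P : Subgroup G) ≤ T := by
  rw [focalSubgroup_def, closure_le]
  rintro g ⟨hgP, x, hx, u, rfl⟩
  have hy : x⁻¹ ∈ (P : Subgroup G) := Subgroup.inv_mem _ hx
  have e : ⁅x, u⁆ = x * (u⁻¹⁻¹ * x⁻¹ * u⁻¹) := by
    rw [commutatorElement_def]; group
  have h3 : u⁻¹⁻¹ * x⁻¹ * u⁻¹ ∈ (P : Subgroup G) := by
    have : u⁻¹⁻¹ * x⁻¹ * u⁻¹ = x⁻¹ * ⁅x, u⁆ := by rw [commutatorElement_def]; group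
    rw [this]
    exact Subgroup.mul_mem _ hy hgP
  have h4 := h x⁻¹ hy u⁻¹ h3
  rw [SetLike.mem_coe, e]
  by_cases hxT : x ∈ T
  · exact T.mul_mem hxT (h4.mp (T.inv_mem hxT))
  · have hi : (T.subgroupOf (P : Subgroup G)).index = 2 := h2
    have h5 := Subgroup.mul_mem_iff_of_index_two hi
      (a := (⟨x, hx⟩ : ↥(P : Subgroup G))) (b := ⟨u⁻¹⁻¹ * x⁻¹ * u⁻¹, h3⟩)
    have h6 : (⟨x, hx⟩ : ↥(P : Subgroup G)) * ⟨u⁻¹⁻¹ * x⁻¹ * u⁻¹, h3⟩ ∈
        T.subgroupOf (P : Subgroup G) := by
      rw [h5]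
      constructor
      · intro hh; exact absurd (Subgroup.mem_subgroupOf.mp hh) hxT
      · intro hh
        exfalso
        apply hxT
        have h7 : x⁻¹ ∈ T := h4.mpr (Subgroup.mem_subgroupOf.mp hh)
        simpa using T.inv_mem h7
    exact Subgroup.mem_subgroupOf.mp h6

/-- the kernel of the transfer into `P / P*` has index `|P : P*|` -/
theorem index_ker_transferFocal :
    (P : Subgroup G).transferFocal.ker.index =
      (focalSubgroup (P : Subgroup G)).relIndex (P : Subgroup G) := by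
  have e := transferFocal.quotientKerMulEquivQuotientFocalSubroupOf P
  have h1 : (P : Subgroup G).transferFocal.ker.index =
      Nat.card (G ⧸ (P : Subgroup G).transferFocal.ker) := rfl
  rw [h1, Nat.card_congr e.toEquiv]
  rfl

end generic

section fpf

variable {G : Type*} [Group G]

/-- the square of an element permuting `c, t, ct` without fixed points does so too -/
theorem fpf_sq (c t h : G) (hcc : c * c = 1) (htt : t * t = 1) (hct : c * t = t * c)
    (hc1 : c ≠ 1) (ht1 : t ≠ 1) (hne : c ≠ t)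
    (h1 : h * c * h⁻¹ = t ∨ h * c * h⁻¹ = c * t)
    (h2 : h * t * h⁻¹ = c ∨ h * t * h⁻¹ = c * t)
    (h3 : h * (c * t) * h⁻¹ ≠ c * t) :
    (h * h) * c * (h * h)⁻¹ ≠ c ∧ (h * h) * t * (h * h)⁻¹ ≠ t ∧
      (h * h) * (c * t) * (h * h)⁻¹ ≠ c * t := by
  have hct_ne_c : c * t ≠ c := by
    intro h; apply ht1
    have := congrArg (c⁻¹ * ·) h
    simpa using this
  have hct_ne_t : c * t ≠ t := by
    intro h; apply hc1
    have := congrArg (· * t⁻¹) h
    simpa using this
  have hmul : h * (c * t) * h⁻¹ = (h * c * h⁻¹) * (h * t * h⁻¹) := by group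
  have esq : ∀ w : G, (h * h) * w * (h * h)⁻¹ = h * (h * w * h⁻¹) * h⁻¹ := by intro w; group
  have e1 : t * (c * t) = c := by
    calc t * (c * t) = t * (t * c) := by rw [hct]
      _ = (t * t) * c := by group
      _ = c := by rw [htt, one_mul]
  have e2 : c * t * c = t := by
    calc c * t * c = t * c * c := by rw [hct]
      _ = t * (c * c) := by group
      _ = t := by rw [hcc, mul_one]
  have e3 : c * t * (c * t) = 1 := by
    calc c * t * (c * t) = (c * t * c) * t := by group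
      _ = 1 := by rw [e2, htt]
  rcases h1 with h1 | h1 <;> rcases h2 with h2 | h2
  · exfalso; apply h3
    rw [hmul, h1, h2, hct]
  · have h4 : h * (c * t) * h⁻¹ = c := by rw [hmul, h1, h2, e1]
    refine ⟨?_, ?_, ?_⟩
    · rw [esq, h1, h2]; exact hct_ne_c
    · rw [esq, h2, h4]; exact hne
    · rw [esq, h4, h1]; exact fun h => hct_ne_t h.symm
  · have h4 : h * (c * t) * h⁻¹ = t := by rw [hmul, h1, h2, e2]
    refine ⟨?_, ?_, ?_⟩
    · rw [esq, h1, h4]; exact fun h => hne h.symm
    · rw [esq, h2, h1]; exact hct_ne_t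
    · rw [esq, h4, h2]; exact fun h => hct_ne_c h.symm
  · exfalso
    have h4 : h * (c * t) * h⁻¹ = 1 := by rw [hmul, h1, h2, e3]
    have h5 : c * t = 1 := by
      have := congrArg (fun w => h⁻¹ * w * h) h4
      simp only [mul_one, inv_mul_cancel] at this
      rw [← this]; group
    apply hne
    calc c = c * (t * t) := by rw [htt, mul_one]
      _ = (c * t) * t := by group
      _ = t := by rw [h5, one_mul]

end fpf

section wreathed

open Cfsg.Agent.Helper6.Wr Cfsg.Agent.Helper6.Z2 Cfsg.Agent.Helper6 Cfsg.Agent.Helper1.AG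
  Cfsg.Agent.Helper10 Cfsg.Agent.Helper22.WrSC

variable {G : Type*} [Group G] [Finite G] (S : Sylow 2 G) (d : Data ↥(S : Subgroup G))

/-- when all `N_G(V_k)` are controlled, `U` is fusion-invariant in `S` -/
theorem mem_A_iff_conj
    (hV : ∀ k, normalizer (up S (VV d k) : Set G) ≤ ctrlSub S (up S (VV d k)))
    (a : G) (ha : a ∈ (S : Subgroup G)) (g : G) (hg : g⁻¹ * a * g ∈ (S : Subgroup G)) :
    a ∈ up S (A d) ↔ g⁻¹ * a * g ∈ up S (A d) := by
  have hI : ∀ s ∈ (S : Subgroup G), ∀ a, (a ∈ up S (A d) ↔ s * a * s⁻¹ ∈ up S (A d)) := by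
    intro s hs a
    exact Subgroup.mem_normalizer_iff.mp (sylow_le_normalizer_A S d hs) a
  apply invariant_of_family S (fun a => a ∈ up S (A d)) ?_ a g ha hg
  intro D hD
  rcases inD_cases S d hD with h | rfl | ⟨k', rfl⟩
  · exact invariant_of_ctrl S _ hI D (normalizer_le_ctrlSub_of_isPGroup S D hD.2.2.2 h)
  · intro y hy a _
    have := Subgroup.mem_normalizer_iff.mp (Subgroup.inv_mem _ hy) a
    rw [inv_inv] at this
    exact this
  · exact invariant_of_ctrl S _ hI _ (hV k')

/-- all `N_G(V_k')` are controlled when `|N_G(V_k) : V_k C_G(V_k)| = 2` for one `k` -/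
theorem ctrl_V_all (k : ZMod (2 ^ d.n))
    (h₂ : (up S (VV d k) ⊔ centralizer (up S (VV d k) : Set G)).relIndex
      (normalizer (up S (VV d k) : Set G)) = 2) (k' : ZMod (2 ^ d.n)) :
    normalizer (up S (VV d k') : Set G) ≤ ctrlSub S (up S (VV d k')) := by
  rw [up_VV_eq_conj S d k k']
  exact normalizer_le_ctrlSub_conj S _ (ctrl_V S d k h₂) _ (el d (k' - k) 0).2

theorem relIndex_up_A : (up S (A d)).relIndex (S : Subgroup G) = 2 := by
  rw [Subgroup.relIndex, subgroupOf_up]
  exact index_A d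

end wreathed

end Cfsg.Agent.Helper22.WrFus
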