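import Mathlib
import Cfsg.Agent.Lib.Helper22.WrSelfCentMain
import Cfsg.Agent.Lib.Helper22.WrFusion

/-!
The generalized quaternion subgroup `R = S' Q` of index `2 ^ n` of a wreathed `2`-group (helper22).
-/

set_option autoImplicit false

namespace Cfsg.Agent.Helper22.WrSC

open Cfsg.Agent.Helper6.Wr Cfsg.Agent.Helper6.Z2 Cfsg.Agent.Helper6

variable {S : Type*} [Group S] (d : Data S)

/-- the generalized quaternion subgroup `R` -/
def RR : Subgroup S where
  carrier := {s | (∃ i, s = el d i (-i)) ∨ (∃ i, s = el d i (half d.n - i) * d.z)}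
  one_mem' := Or.inl ⟨0, by rw [neg_zero, el_zero]⟩
  mul_mem' := by
    have hh := two_mul_half d.n (hn1 d)
    rintro _ _ (⟨i, rfl⟩ | ⟨i, rfl⟩) (⟨j, rfl⟩ | ⟨j, rfl⟩)
    · left; exact ⟨i + j, by rw [el_mul_el]; congr 1; ring⟩
    · right; exact ⟨i + j, by rw [el_mul_elz]; congr 2; ring⟩
    · right; exact ⟨i - j, by rw [elz_mul_el]; congr 2 <;> ring⟩
    · left
      refine ⟨i + half d.n - j, ?_⟩
      rw [elz_mul_elz]; congr 1
      · ring
      · linear_combination hh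
  inv_mem' := by
    have hh := two_mul_half d.n (hn1 d)
    rintro _ (⟨i, rfl⟩ | ⟨i, rfl⟩)
    · left; exact ⟨-i, by rw [el_inv]⟩
    · right
      refine ⟨i - half d.n, ?_⟩
      rw [elz_inv]; congr 2
      · ring
      · linear_combination -hh

theorem el_mem_RR_iff (a b : ZMod (2 ^ d.n)) : el d a b ∈ RR d ↔ a + b = 0 := by
  constructor
  · rintro (⟨i, h⟩ | ⟨i, h⟩)
    · obtain ⟨h1, h2⟩ := el_injective d _ _ _ _ h
      rw [h1, h2]; ring
    · exact absurd h (el_ne_elz d _ _ _ _)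
  · intro h
    left
    exact ⟨a, by congr 1; linear_combination h⟩

theorem elz_mem_RR_iff (a b : ZMod (2 ^ d.n)) : el d a b * d.z ∈ RR d ↔ a + b = half d.n := by
  constructor
  · rintro (⟨i, h⟩ | ⟨i, h⟩)
    · exact absurd h.symm (el_ne_elz d _ _ _ _)
    · obtain ⟨h1, h2⟩ := elz_injective d _ _ _ _ h
      rw [h1, h2]; ring
  · intro h
    right
    exact ⟨a, by congr 2; linear_combination h⟩

variable [Finite S]

theorem comm_mem_RR (a b : S) : a * b * a⁻¹ * b⁻¹ ∈ RR d := by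
  obtain ⟨i, hi⟩ := (mem_B_iff d _).mp (commutator_mem d a b)
  rw [hi, el_mem_RR_iff]; ring

theorem RR_normal : (RR d).Normal := by
  constructor
  intro r hr s
  have : s * r * s⁻¹ = (s * r * s⁻¹ * r⁻¹) * r := by group
  rw [this]
  exact (RR d).mul_mem (comm_mem_RR d s r) hr

theorem QQ_le_RR (k : ZMod (2 ^ d.n)) : QQ d k ≤ RR d := by
  rintro _ (⟨m, -, rfl⟩ | ⟨m, -, rfl⟩)
  · rw [el_mem_RR_iff]; ring
  · rw [elz_mem_RR_iff]; ring

theorem exists_elz_of_mem_RR {y : S} (hy : y ∈ RR d) (hyA : y ∉ A d) :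
    ∃ a, y = el d a (half d.n - a) * d.z := by
  rcases hy with ⟨i, rfl⟩ | ⟨i, rfl⟩
  · exact absurd (el_mem_A d _ _) hyA
  · exact ⟨i, rfl⟩

/-- a normal subgroup containing an element of `R` outside `A` contains `R` -/
theorem RR_le_of_normal (N : Subgroup S) [hN : N.Normal] {y : S} (hy : y ∈ RR d) (hyA : y ∉ A d)
    (hyN : y ∈ N) : RR d ≤ N := by
  obtain ⟨a, rfl⟩ := exists_elz_of_mem_RR d hy hyA
  have h1 : ∀ b, el d b (half d.n - b) * d.z ∈ N := by
    intro b
    have h2 := hN.conj_mem _ hyN (el d (b - a) 0)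
    rw [conj_el_elz] at h2
    have e1 : a + (b - a) - 0 = b := by ring
    have e2 : half d.n - a + 0 - (b - a) = half d.n - b := by ring
    rw [e1, e2] at h2
    exact h2
  rintro _ (⟨i, rfl⟩ | ⟨i, rfl⟩)
  · have h2 := N.mul_mem (h1 i) (N.inv_mem (h1 0))
    rw [elz_inv, elz_mul_elz] at h2
    have e1 : i + -0 = i := by ring
    have e2 : half d.n - i + -(half d.n - 0) = -i := by ring
    rw [e1, e2] at h2
    exact h2
  · exact h1 i

theorem orderOf_el_one_neg_one : orderOf (el d 1 (-1)) = 2 ^ d.n := by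
  rw [← Nat.card_zpowers, card_B]

/-- `R` is generalized quaternion of order `2 ^ (n + 1)` -/
theorem RR_equiv : Nonempty (RR d ≃* QuaternionGroup (2 ^ (d.n - 1))) := by
  have hn1 := hn1 d
  have hh0 := half_ne_zero d.n hn1
  have hh := two_mul_half d.n hn1
  have hxm : el d 1 (-1) ∈ RR d := Or.inl ⟨1, rfl⟩
  have htm : el d 0 (half d.n) * d.z ∈ RR d := Or.inr ⟨0, by rw [sub_zero]⟩
  have hxpow : ∀ s : ℕ, (el d 1 (-1)) ^ s
      = el d (s : ZMod (2 ^ d.n)) (-(s : ZMod (2 ^ d.n))) := by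
    intro s
    rw [el_pow]; congr 1 <;> ring
  apply Cfsg.Agent.Helper16.nonempty_mulEquiv_quaternion
    (⟨_, hxm⟩ : RR d) (⟨_, htm⟩ : RR d)
  · rw [Subgroup.orderOf_mk, orderOf_el_one_neg_one, ← two_pow_split d.n hn1]
  · apply Subtype.ext
    show (el d 0 (half d.n) * d.z) ^ 2 = (el d 1 (-1)) ^ (2 ^ (d.n - 1))
    rw [hxpow, pow_two, elz_sq]
    have e : ((2 ^ (d.n - 1) : ℕ) : ZMod (2 ^ d.n)) = half d.n := rfl
    rw [e]
    congr 1
    · ring
    · rw [zero_add]; exact (neg_half d.n hn1).symm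
  · apply Subtype.ext
    show el d 0 (half d.n) * d.z * el d 1 (-1) * (el d 0 (half d.n) * d.z)⁻¹ = (el d 1 (-1))⁻¹
    rw [conj_elz_el, el_inv, neg_neg]
  · intro h
    obtain ⟨j, hj⟩ := Subgroup.mem_zpowers_iff.mp h
    have h2 := congrArg Subtype.val hj
    rw [Subgroup.coe_zpow] at h2
    have h3 : (el d 1 (-1)) ^ j = el d 0 (half d.n) * d.z := h2
    rw [el_zpow] at h3
    exact el_ne_elz d _ _ _ _ h3
  · rintro ⟨g, hg⟩
    rcases hg with ⟨m, rfl⟩ | ⟨m, rfl⟩
    · left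
      rw [Subgroup.mem_zpowers_iff]
      refine ⟨(m.val : ℤ), ?_⟩
      apply Subtype.ext
      rw [zpow_natCast]
      show (el d 1 (-1)) ^ m.val = el d m (-m)
      rw [hxpow, ZMod.natCast_zmod_val]
    · right
      refine ⟨(-m).val, ?_⟩
      apply Subtype.ext
      show el d m (half d.n - m) * d.z
        = el d 0 (half d.n) * d.z * (el d 1 (-1)) ^ (-m).val
      rw [hxpow, ZMod.natCast_zmod_val, elz_mul_el]
      congr 2 <;> ring

theorem card_RR : Nat.card (RR d) = 2 ^ (d.n + 1) := by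
  obtain ⟨e⟩ := RR_equiv d
  rw [Nat.card_congr e.toEquiv, Nat.card_eq_fintype_card, QuaternionGroup.card]
  have := two_pow_split d.n (hn1 d)
  rw [pow_succ, this]; ring

theorem index_RR : (RR d).index = 2 ^ d.n := by
  have h1 := Subgroup.card_mul_index (RR d)
  rw [card_RR, d.card] at h1
  have h2 : (2 : ℕ) ^ (2 * d.n + 1) = 2 ^ (d.n + 1) * 2 ^ d.n := by
    rw [← pow_add]; congr 1; ring
  rw [h2] at h1
  exact Nat.eq_of_mul_eq_mul_left (by positivity) h1

/-- elements of `V_k` are products of elements of `Q_k` and central elements -/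
theorem exists_QQ_mul_center (k : ZMod (2 ^ d.n)) {v : S} (hv : v ∈ VV d k) :
    ∃ t ∈ QQ d k, ∃ c ∈ Subgroup.center S, v = t * c := by
  rw [VV_eq_sup] at hv
  apply Cfsg.Agent.Helper22.WrFus.exists_mul_of_mem_sup' _ hv
  intro a _ b hb
  exact (Subgroup.mem_center_iff.mp hb) a

end Cfsg.Agent.Helper22.WrSC
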