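import Mathlib
import Cfsg.Agent.Lib.Helper22.WrFusion2
import Cfsg.Agent.Lib.Helper22.WrQuat

/-!
The focal subgroup of a wreathed Sylow `2`-subgroup in the case `|N(U) : C(U)| = 2` (helper22).
-/

set_option autoImplicit false

namespace Cfsg.Agent.Helper22.WrFus

open Subgroup
open scoped commutatorElement

section generic

open Cfsg.Agent.Helper1.AG Cfsg.Agent.Helper10

variable {G : Type*} [Group G] [Finite G] {p : ℕ} [Fact p.Prime] (P : Sylow p G)

/-- a subgroup `T` with `a⁻¹ a^g ∈ T` for all fusion in `P` contains the focal subgroup -/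
theorem focalSubgroup_le_of_conj (T : Subgroup G)
    (h : ∀ a ∈ (P : Subgroup G), ∀ g : G, g⁻¹ * a * g ∈ (P : Subgroup G) →
      a⁻¹ * (g⁻¹ * a * g) ∈ T) : focalSubgroup (P : Subgroup G) ≤ T := by
  rw [focalSubgroup_def, closure_le]
  rintro g ⟨hgP, x, hx, u, rfl⟩
  have hy : x⁻¹ ∈ (P : Subgroup G) := Subgroup.inv_mem _ hx
  have h3 : u⁻¹⁻¹ * x⁻¹ * u⁻¹ ∈ (P : Subgroup G) := by
    have : u⁻¹⁻¹ * x⁻¹ * u⁻¹ = x⁻¹ * ⁅x, u⁆ := by rw [commutatorElement_def]; group
    rw [this]
    exact Subgroup.mul_mem _ hy hgP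
  have h4 := h x⁻¹ hy u⁻¹ h3
  have e : ⁅x, u⁆ = x⁻¹⁻¹ * (u⁻¹⁻¹ * x⁻¹ * u⁻¹) := by
    rw [commutatorElement_def]; group
  rw [SetLike.mem_coe, e]
  exact h4

/-- fusion stays in cosets of `T` when the normalizers of the family do -/
theorem conj_mem_of_family (T : Subgroup G)
    (h : ∀ D, InD P D → ∀ y ∈ normalizer (D : Set G), ∀ b ∈ D, b⁻¹ * (y⁻¹ * b * y) ∈ T)
    (a g : G) (ha : a ∈ (P : Subgroup G)) (hg : g⁻¹ * a * g ∈ (P : Subgroup G)) :
    a⁻¹ * (g⁻¹ * a * g) ∈ T := by
  have h0 := invariant_of_family P (fun b => a⁻¹ * b ∈ T) ?_ a g ha hg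
  · exact h0.mp (by rw [inv_mul_cancel]; exact T.one_mem)
  · intro D hD y hy b hb
    have h1 := h D hD y hy b hb
    have e : a⁻¹ * (y⁻¹ * b * y) = (a⁻¹ * b) * (b⁻¹ * (y⁻¹ * b * y)) := by group
    constructor
    · intro h2
      show a⁻¹ * (y⁻¹ * b * y) ∈ T
      rw [e]; exact T.mul_mem h2 h1
    · intro h2
      have e2 : a⁻¹ * b = (a⁻¹ * (y⁻¹ * b * y)) * (b⁻¹ * (y⁻¹ * b * y))⁻¹ := by group
      show a⁻¹ * b ∈ T
      rw [e2]; exact T.mul_mem h2 (T.inv_mem h1)

/-- a Sylow `p`-subgroup of a subgroup `K` of index `p ^ m` with prescribed underlying subgroup -/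
theorem exists_sylow_of_index_pow (K : Subgroup G) (m : ℕ) (hK : K.index = p ^ m)
    (R₁ : Subgroup G) (hR₁K : R₁ ≤ K) (hR₁P : R₁ ≤ (P : Subgroup G))
    (hrel : R₁.relIndex (P : Subgroup G) = p ^ m) :
    ∃ R₀ : Sylow p ↥K, (R₀ : Subgroup ↥K) = R₁.subgroupOf K := by
  have hp : p.Prime := Fact.out
  have e1 : R₁.subgroupOf (P : Subgroup G) ≃* R₁ := Subgroup.subgroupOfEquivOfLe hR₁P
  have e2 : R₁.subgroupOf K ≃* R₁ := Subgroup.subgroupOfEquivOfLe hR₁K
  have h1 : Nat.card R₁ * p ^ m = Nat.card (P : Subgroup G) := by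
    have := Subgroup.card_mul_index (R₁.subgroupOf (P : Subgroup G))
    rw [Nat.card_congr e1.toEquiv] at this
    rw [← this]
    congr 1
    exact hrel.symm
  have h2 : Nat.card K * p ^ m = Nat.card G := by
    rw [← hK]; exact Subgroup.card_mul_index K
  have h3 : Nat.card (P : Subgroup G) = p ^ (Nat.card G).factorization p := P.card_eq_multiplicity
  have hKpos : Nat.card K ≠ 0 := Nat.card_pos.ne'
  have h4 : (Nat.card G).factorization p = (Nat.card K).factorization p + m := by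
    rw [← h2, Nat.factorization_mul hKpos (pow_ne_zero _ hp.ne_zero)]
    simp [Nat.Prime.factorization_self hp]
  have h5 : Nat.card R₁ = p ^ (Nat.card K).factorization p := by
    rw [h3, h4, pow_add] at h1
    exact Nat.eq_of_mul_eq_mul_right (pow_pos hp.pos m) h1
  have h6 : Nat.card (R₁.subgroupOf K) = p ^ (Nat.card K).factorization p := by
    rw [Nat.card_congr e2.toEquiv, h5]
  exact ⟨Sylow.ofCard (R₁.subgroupOf K) h6, Sylow.coe_ofCard _ _⟩

/-- all Sylow `p`-subgroups of `K` are isomorphic to `R₁` -/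
theorem sylow_equiv_of_index_pow (K : Subgroup G) (m : ℕ) (hK : K.index = p ^ m)
    (R₁ : Subgroup G) (hR₁K : R₁ ≤ K) (hR₁P : R₁ ≤ (P : Subgroup G))
    (hrel : R₁.relIndex (P : Subgroup G) = p ^ m) (R : Sylow p ↥K) :
    Nonempty (↥(R : Subgroup ↥K) ≃* ↥R₁) := by
  obtain ⟨R₀, hR₀⟩ := exists_sylow_of_index_pow P K m hK R₁ hR₁K hR₁P hrel
  have e2 : R₁.subgroupOf K ≃* R₁ := Subgroup.subgroupOfEquivOfLe hR₁K
  have e3 : ↥(R : Subgroup ↥K) ≃* ↥(R₀ : Subgroup ↥K) := Sylow.equiv R R₀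
  have e4 : ↥(R₀ : Subgroup ↥K) ≃* ↥(R₁.subgroupOf K) := MulEquiv.subgroupCongr hR₀
  exact ⟨(e3.trans e4).trans e2⟩

/-- `G = ker(transfer) P` -/
theorem exists_mul_ker_transferFocal (g : G) :
    ∃ κ ∈ (P : Subgroup G).transferFocal.ker, ∃ s ∈ (P : Subgroup G), g = κ * s := by
  obtain ⟨y, hy⟩ := focalSubgroupOf.pow_index_surjective P ((P : Subgroup G).transferFocal g)
  obtain ⟨x, rfl⟩ := QuotientGroup.mk'_surjective _ y
  have h1 := (P : Subgroup G).transferFocal_eq_pow x
  refine ⟨g * (x : G)⁻¹, ?_, x, x.2, by group⟩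
  rw [MonoidHom.mem_ker, map_mul, map_inv, h1]
  have hy' : ((QuotientGroup.mk' (P : Subgroup G).focalSubgroupOf) x) ^ (P : Subgroup G).index =
      (P : Subgroup G).transferFocal g := hy
  rw [← hy']
  exact mul_inv_cancel _

end generic

section wreathed

open Cfsg.Agent.Helper6.Wr Cfsg.Agent.Helper6.Z2 Cfsg.Agent.Helper6 Cfsg.Agent.Helper1.AG
  Cfsg.Agent.Helper10 Cfsg.Agent.Helper22.WrSC

variable {G : Type*} [Group G] [Finite G] (S : Sylow 2 G) (d : Data ↥(S : Subgroup G))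

include d in
theorem isPGroup_mulAut_center :
    IsPGroup 2 (MulAut ↥(up S (Subgroup.center ↥(S : Subgroup G)))) := by
  have e : ↥(Subgroup.center ↥(S : Subgroup G)) ≃* ↥(up S (Subgroup.center ↥(S : Subgroup G))) :=
    Subgroup.equivMapOfInjective _ _ (Subgroup.subtype_injective _)
  have hc : IsCyclic ↥(Subgroup.center ↥(S : Subgroup G)) := by
    rw [center_eq d]; infer_instance
  haveI : IsCyclic ↥(up S (Subgroup.center ↥(S : Subgroup G))) :=
    isCyclic_of_surjective e e.surjective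
  have h1 : Nat.card ↥(up S (Subgroup.center ↥(S : Subgroup G))) = 2 ^ d.n := by
    rw [← Nat.card_congr e.toEquiv, card_center d]
  apply IsPGroup.of_card (n := d.n - 1)
  rw [IsCyclic.card_mulAut, h1, Nat.totient_prime_pow Nat.prime_two (hn1 d)]
  simp

theorem sylow_le_normalizer_center :
    (S : Subgroup G) ≤ normalizer (up S (Subgroup.center ↥(S : Subgroup G)) : Set G) := by
  intro s hs
  apply NC.coe_mem_normalizer (S : Subgroup G) _ (up_le S _) ⟨s, hs⟩
  rw [subgroupOf_up, Subgroup.normalizer_eq_top]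
  exact Subgroup.mem_top _

include d in
/-- `N_G(Z(S)) = C_G(Z(S))` -/
theorem normalizer_center_le_centralizer :
    normalizer (up S (Subgroup.center ↥(S : Subgroup G)) : Set G) ≤
      centralizer (up S (Subgroup.center ↥(S : Subgroup G)) : Set G) := by
  intro x hx
  have hSN := sylow_le_normalizer_center S
  have htame : ¬ 2 ∣ ((S : Subgroup G) ⊓
      normalizer (up S (Subgroup.center ↥(S : Subgroup G)) : Set G)).relIndex
      (normalizer (up S (Subgroup.center ↥(S : Subgroup G)) : Set G)) := by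
    rw [inf_of_le_left hSN]
    intro h2
    have h3 := Subgroup.relIndex_mul_index hSN
    apply S.not_dvd_index
    rw [← h3]
    exact Dvd.dvd.mul_right h2 _
  obtain ⟨s, hs, -, h⟩ := exists_mem_sylow_of_isPGroup_mulAut S _ htame
    (isPGroup_mulAut_center S d) x hx
  rw [mem_centralizer_iff]
  intro a ha
  have h1 := h a ha
  obtain ⟨c, hc, rfl⟩ := exists_of_mem_up S ha
  have h2 : s * (c : G) * s⁻¹ = (c : G) := by
    have h3 := (Subgroup.mem_center_iff.mp hc) ⟨s, hs⟩
    have h4 : s * (c : G) = (c : G) * s := congrArg Subtype.val h3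
    rw [h4]; group
  rw [h2] at h1
  calc (c : G) * x = (x * (c : G) * x⁻¹) * x := by rw [h1]
    _ = x * (c : G) := by group

/-- `N_G(V_k)` centralizes `Z(S)` -/
theorem normalizer_VV_le_centralizer_center (k : ZMod (2 ^ d.n)) :
    normalizer (up S (VV d k) : Set G) ≤
      centralizer (up S (Subgroup.center ↥(S : Subgroup G)) : Set G) := by
  intro g hg
  apply normalizer_center_le_centralizer S d
  have key : ∀ g ∈ normalizer (up S (VV d k) : Set G),
      ∀ a ∈ up S (Subgroup.center ↥(S : Subgroup G)),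
      g * a * g⁻¹ ∈ up S (Subgroup.center ↥(S : Subgroup G)) := by
    intro g hg a ha
    obtain ⟨c, hc, rfl⟩ := exists_of_mem_up S ha
    obtain ⟨i, rfl⟩ := (mem_center_iff d c).mp hc
    obtain ⟨i', hi'⟩ := conj_center_mem S d (up S (VV d k)) k (up_le S _) (subgroupOf_up S _) g hg i
    rw [hi']
    exact (coe_mem_up S _).mpr ((mem_center_iff d _).mpr ⟨i', rfl⟩)
  rw [mem_normalizer_iff]
  intro a
  constructor
  · exact key g hg a
  · intro h
    have h1 := key g⁻¹ (Subgroup.inv_mem _ hg) _ h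
    have e : g⁻¹ * (g * a * g⁻¹) * g⁻¹⁻¹ = a := by group
    rw [e] at h1
    exact h1

theorem center_le_of_inD {D : Subgroup G} (hD : InD S D) :
    up S (Subgroup.center ↥(S : Subgroup G)) ≤ D := by
  intro a ha
  obtain ⟨c, hc, rfl⟩ := exists_of_mem_up S ha
  apply inD_centric S hD c.1 c.2
  rw [mem_centralizer_iff]
  intro b hb
  have h1 := (Subgroup.mem_center_iff.mp hc) ⟨b, hD.1 hb⟩
  exact congrArg Subtype.val h1

/-- when `N_G(U)` is controlled, the elements of `Z(S)` are isolated in `S` -/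
theorem center_isolated
    (hU : normalizer (up S (A d) : Set G) ≤ ctrlSub S (up S (A d)))
    (a : G) (ha : a ∈ up S (Subgroup.center ↥(S : Subgroup G))) (g : G)
    (hg : g⁻¹ * a * g ∈ (S : Subgroup G)) : g⁻¹ * a * g = a := by
  have haS : a ∈ (S : Subgroup G) := up_le S _ ha
  have hcen : ∀ s ∈ (S : Subgroup G), s * a * s⁻¹ = a := by
    intro s hs
    obtain ⟨c, hc, rfl⟩ := exists_of_mem_up S ha
    have h3 := (Subgroup.mem_center_iff.mp hc) ⟨s, hs⟩
    have h4 : s * (c : G) = (c : G) * s := congrArg Subtype.val h3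
    rw [h4]; group
  have h0 := invariant_of_family S (fun b => b = a) ?_ a g haS hg
  · exact h0.mp rfl
  · intro D hD y hy b hb
    have haD : a ∈ D := center_le_of_inD S hD ha
    have hctrl : normalizer (D : Set G) ≤ ctrlSub S D → y⁻¹ * a * y = a := by
      intro hDc
      obtain ⟨-, s, hs, hys⟩ := hDc (Subgroup.inv_mem _ hy)
      have h1 := hys a haD
      rw [inv_inv] at h1
      rw [h1]; exact hcen s hs
    have hya : y⁻¹ * a * y = a := by
      rcases inD_cases S d hD with h | rfl | ⟨k', rfl⟩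
      · exact hctrl (normalizer_le_ctrlSub_of_isPGroup S D hD.2.2.2 h)
      · exact hctrl hU
      · have h1 := normalizer_VV_le_centralizer_center S d k' hy
        have h2 := (mem_centralizer_iff.mp h1) a ha
        calc y⁻¹ * a * y = y⁻¹ * (a * y) := by group
          _ = y⁻¹ * (y * a) := by rw [h2]
          _ = a := by group
    constructor
    · intro h1
      show y⁻¹ * b * y = a
      rw [h1]; exact hya
    · intro h2
      have h3 : y⁻¹ * b * y = a := h2
      show b = a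
      have e : b = y * (y⁻¹ * b * y) * y⁻¹ := by group
      rw [e, h3]
      calc y * a * y⁻¹ = y * (y⁻¹ * a * y) * y⁻¹ := by rw [hya]
        _ = a := by group

/-- subgroups of `Z(S)` are weakly closed in `S` -/
theorem isWeaklyClosed_of_le_center
    (hU : normalizer (up S (A d) : Set G) ≤ ctrlSub S (up S (A d)))
    (Z₀ : Subgroup G) (hZ : Z₀ ≤ up S (Subgroup.center ↥(S : Subgroup G))) :
    Cfsg.IsWeaklyClosed Z₀ (S : Subgroup G) := by
  refine ⟨hZ.trans (up_le S _), ?_⟩
  intro g hg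
  have h1 : ∀ a ∈ Z₀, g * a * g⁻¹ = a := by
    intro a ha
    have h2 : g * a * g⁻¹ ∈ (S : Subgroup G) := hg ⟨a, ha, rfl⟩
    have h3 := center_isolated S d hU a (hZ ha) g⁻¹ (by rw [inv_inv]; exact h2)
    rw [inv_inv] at h3
    exact h3
  ext x
  rw [Subgroup.mem_map]
  constructor
  · rintro ⟨a, ha, rfl⟩
    show g * a * g⁻¹ ∈ Z₀
    rw [h1 a ha]; exact ha
  · intro hx
    exact ⟨x, hx, h1 x hx⟩

/-- when `N_G(U)` is controlled, fusion in `S` stays in the cosets of `R` -/
theorem conj_mem_RR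
    (hU : normalizer (up S (A d) : Set G) ≤ ctrlSub S (up S (A d)))
    (a g : G) (ha : a ∈ (S : Subgroup G)) (hg : g⁻¹ * a * g ∈ (S : Subgroup G)) :
    a⁻¹ * (g⁻¹ * a * g) ∈ up S (RR d) := by
  apply conj_mem_of_family S _ ?_ a g ha hg
  intro D hD y hy b hb
  have hctrl : ∀ D : Subgroup G, D ≤ (S : Subgroup G) → normalizer (D : Set G) ≤ ctrlSub S D →
      ∀ y ∈ normalizer (D : Set G), ∀ b ∈ D, b⁻¹ * (y⁻¹ * b * y) ∈ up S (RR d) := by
    intro D hDS hDc y hy b hb
    obtain ⟨-, s, hs, hys⟩ := hDc (Subgroup.inv_mem _ hy)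
    have h1 := hys b hb
    rw [inv_inv] at h1
    rw [h1]
    have e : b⁻¹ * (s * b * s⁻¹) = (((⟨b, hDS hb⟩ : ↥(S : Subgroup G))⁻¹ * ⟨s, hs⟩ *
        (⟨b, hDS hb⟩ : ↥(S : Subgroup G))⁻¹⁻¹ * (⟨s, hs⟩ : ↥(S : Subgroup G))⁻¹ :
        ↥(S : Subgroup G)) : G) := by
      simp [mul_assoc]
    rw [e, coe_mem_up]
    exact comm_mem_RR d _ _
  rcases inD_cases S d hD with h | rfl | ⟨k', rfl⟩
  · exact hctrl D hD.1 (normalizer_le_ctrlSub_of_isPGroup S D hD.2.2.2 h) y hy b hb
  · exact hctrl _ (up_le S _) hU y hy b hb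
  · have hycen := normalizer_VV_le_centralizer_center S d k' hy
    have hyc : ∀ c ∈ Subgroup.center ↥(S : Subgroup G), y⁻¹ * (c : G) * y = (c : G) := by
      intro c hc
      have h2 := (mem_centralizer_iff.mp hycen) (c : G) ((coe_mem_up S c).mpr hc)
      calc y⁻¹ * (c : G) * y = y⁻¹ * ((c : G) * y) := by group
        _ = y⁻¹ * (y * (c : G)) := by rw [h2]
        _ = (c : G) := by group
    have hyN : ∀ v ∈ VV d k', ∃ v' ∈ VV d k', (v' : G) = y⁻¹ * (v : G) * y := by
      intro v hv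
      have h1 := (mem_normalizer_iff.mp (Subgroup.inv_mem _ hy) (v : G)).mp
        ((coe_mem_up S v).mpr hv)
      rw [inv_inv] at h1
      obtain ⟨v', hv', e⟩ := exists_of_mem_up S h1
      exact ⟨v', hv', e⟩
    obtain ⟨v, hv, rfl⟩ := exists_of_mem_up S hb
    obtain ⟨t, ht, c, hc, rfl⟩ := exists_QQ_mul_center d k' hv
    have htV : t ∈ VV d k' := by rw [VV_eq_sup]; exact Subgroup.mem_sup_left ht
    obtain ⟨t', ht', het'⟩ := hyN t htV
    have e1 : y⁻¹ * ((t * c : ↥(S : Subgroup G)) : G) * y = ((t' * c : ↥(S : Subgroup G)) : G) := by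
      rw [Subgroup.coe_mul, Subgroup.coe_mul, het']
      calc y⁻¹ * ((t : G) * (c : G)) * y = (y⁻¹ * (t : G) * y) * (y⁻¹ * (c : G) * y) := by group
        _ = y⁻¹ * (t : G) * y * (c : G) := by rw [hyc c hc]
    rw [e1, ← Subgroup.coe_inv, ← Subgroup.coe_mul, coe_mem_up]
    have e2 : (t * c)⁻¹ * (t' * c) = c⁻¹ * (t⁻¹ * t') * c⁻¹⁻¹ := by group
    rw [e2]
    apply (RR_normal d).conj_mem
    rcases P8_center_or d k' t ht with htc | ⟨htc, htsq⟩
    · have h3 : t' = t := by
        apply Subtype.ext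
        rw [het', hyc t htc]
      rw [h3, inv_mul_cancel]; exact Subgroup.one_mem _
    · have h4 : t' ∈ QQ d k' := by
        apply P8_of_mem_VV d k' t' ht'
        · intro htc'
          apply htc
          have h5 : (t : G) = y * (t' : G) * y⁻¹ := by rw [het']; group
          have h6 : y * (t' : G) * y⁻¹ = (t' : G) := by
            have := hyc t' htc'
            calc y * (t' : G) * y⁻¹ = y * (y⁻¹ * (t' : G) * y) * y⁻¹ := by rw [this]
              _ = (t' : G) := by group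
          have h7 : t = t' := Subtype.ext (h5.trans h6)
          rw [h7]; exact htc'
        · apply Subtype.ext
          rw [Subgroup.coe_mul, het']
          have h5 : y⁻¹ * (t : G) * y * (y⁻¹ * (t : G) * y) = y⁻¹ * ((t * t : ↥(S : Subgroup G)) : G) * y := by
            rw [Subgroup.coe_mul]; group
          rw [h5, htsq]
          exact hyc _ ((mem_center_iff d _).mpr ⟨_, rfl⟩)
      exact (RR d).mul_mem ((RR d).inv_mem (QQ_le_RR d k' ht)) (QQ_le_RR d k' h4)

theorem relIndex_up_RR : (up S (RR d)).relIndex (S : Subgroup G) = 2 ^ d.n := by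
  rw [Subgroup.relIndex, subgroupOf_up]
  exact index_RR d

/-- the focal subgroup lies in `R` -/
theorem focalSubgroup_le_RR
    (hU : normalizer (up S (A d) : Set G) ≤ ctrlSub S (up S (A d))) :
    focalSubgroup (S : Subgroup G) ≤ up S (RR d) :=
  focalSubgroup_le_of_conj S _ (fun a ha g hg => conj_mem_RR S d hU a g ha hg)

/-- a normal subgroup of `G` containing an element of `R` outside `U` contains `R` -/
theorem up_RR_le_of_normal (N : Subgroup G) [N.Normal] (y : ↥(S : Subgroup G)) (hy : y ∈ RR d)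
    (hyA : y ∉ A d) (hyN : (y : G) ∈ N) : up S (RR d) ≤ N := by
  have h1 : RR d ≤ N.subgroupOf (S : Subgroup G) :=
    RR_le_of_normal d (N.subgroupOf (S : Subgroup G)) hy hyA (Subgroup.mem_subgroupOf.mpr hyN)
  intro r hr
  obtain ⟨r', hr', rfl⟩ := exists_of_mem_up S hr
  exact Subgroup.mem_subgroupOf.mp (h1 hr')

end wreathed

end Cfsg.Agent.Helper22.WrFus
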