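import Mathlib
import Cfsg.Agent.Lib.Helper22.WrFocal
import Cfsg.Agent.Lib.Helper22.SubTransport
import Cfsg.Agent.Lib.Helper11.GU2Sylow
import Cfsg.Agent.S1208
import Cfsg.Agent.S1209
import Cfsg.Agent.S1210
import Cfsg.Agent.S1211
import Cfsg.Agent.S1212

/-!
Centralizers of involutions in groups with wreathed Sylow `2`-subgroups and no subgroup of index
two (helper22).
-/

set_option autoImplicit false

namespace Cfsg.Agent.Helper22.WrFus

open Subgroup Cfsg.Agent.Helper6.Wr Cfsg.Agent.Helper6.Z2 Cfsg.Agent.Helper6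
  Cfsg.Agent.Helper22.WrSC Cfsg.Agent.Helper22.SubT

variable {G : Type*} [Group G] [Finite G] (S : Sylow 2 G) (d : Data ↥(S : Subgroup G))

theorem isMulCommutative_up_A : IsMulCommutative ↥(up S (A d)) := by
  refine ⟨⟨?_⟩⟩
  rintro ⟨u, hu⟩ ⟨v, hv⟩
  obtain ⟨a, ha, rfl⟩ := exists_of_mem_up S hu
  obtain ⟨b, hb, rfl⟩ := exists_of_mem_up S hv
  apply Subtype.ext
  show (a : G) * (b : G) = (b : G) * (a : G)
  have := A_comm d ⟨a, ha⟩ ⟨b, hb⟩
  have h2 : a * b = b * a := congrArg Subtype.val this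
  exact congrArg Subtype.val h2

theorem card_up_A : Nat.card ↥(up S (A d)) = 2 ^ (2 * d.n) := by
  rw [Subgroup.card_map_of_injective (Subgroup.subtype_injective _), card_A]

theorem up_QQ_equiv (k : ZMod (2 ^ d.n)) : Nonempty (↥(up S (QQ d k)) ≃* QuaternionGroup 2) := by
  obtain ⟨eQ0⟩ := QQ_equiv d k
  exact ⟨(Subgroup.equivMapOfInjective _ _ (Subgroup.subtype_injective _)).symm.trans eQ0⟩

theorem up_VV_eq_sup (k : ZMod (2 ^ d.n)) :
    up S (QQ d k) ⊔ (Subgroup.center ↥(S : Subgroup G)).map (S : Subgroup G).subtype =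
      up S (VV d k) := by
  rw [VV_eq_sup]
  exact (Subgroup.map_sup _ _ _).symm

/-- a central involution of `S` is `c` -/
theorem eq_cc_of_mem_center (w : ↥(S : Subgroup G)) (hw : w ∈ Subgroup.center ↥(S : Subgroup G))
    (ho : orderOf w = 2) : w = cc d := by
  have hn1 := hn1 d
  obtain ⟨i, hi⟩ := (mem_center_iff d _).mp hw
  obtain ⟨h1, h2⟩ := (orderOf_two_iff _).mp ho
  rw [hi, el_sq, el_eq_one_iff] at h2
  rcases (two_mul_eq_zero_iff d.n hn1 i).mp h2.1 with h0 | h0
  · exfalso
    apply h1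
    rw [hi, h0, el_zero]
  · rw [hi, h0]; rfl

/-- without subgroups of index two we are in the case `(6, 6)` -/
theorem six_six_of_no_index_two (hS : Cfsg.IsWreathed ↥(S : Subgroup G))
    (hG : ∀ H : Subgroup G, H.index ≠ 2) :
    (centralizer (up S (A d) : Set G)).relIndex (normalizer (up S (A d) : Set G)) = 6 ∧
    (up S (VV d 0) ⊔ centralizer (up S (VV d 0) : Set G)).relIndex
      (normalizer (up S (VV d 0) : Set G)) = 6 := by
  haveI : Fact (Nat.Prime 2) := ⟨Nat.prime_two⟩
  have hUab := isMulCommutative_up_A S d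
  have hUcard := card_up_A S d
  obtain ⟨eQ⟩ := up_QQ_equiv S d 0
  have hdich := Cfsg.Agent.S1208.result S hS d.n d.card (up S (A d)) (up_le S _) hUab hUcard
    (up S (QQ d 0)) (up_le S _) eQ
  rw [up_VV_eq_sup] at hdich
  rcases hdich with ⟨h₁ | h₁, h₂ | h₂⟩
  · exfalso
    have h12 := (Cfsg.Agent.S1212.result S hS d.n d.card (up S (A d)) (up_le S _) hUab hUcard
      (up S (QQ d 0)) (up_le S _) eQ h₁ (by rw [up_VV_eq_sup]; exact h₂)).1
    obtain ⟨P, N, hN, hc⟩ := h12
    haveI := hN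
    have hP : Nat.card (P : Subgroup G) = 2 ^ (2 * d.n + 1) := by
      rw [P.card_eq_multiplicity, ← S.card_eq_multiplicity]; exact d.card
    obtain ⟨H, hH⟩ := exists_index_two_of_complement P N hc (2 * d.n + 1) (by omega) hP
    exact hG H hH
  · exfalso
    have h10 := (Cfsg.Agent.S1210.result S hS d.n d.card (up S (A d)) (up_le S _) hUab hUcard
      (up S (QQ d 0)) (up_le S _) eQ h₁ (by rw [up_VV_eq_sup]; exact h₂)).1
    obtain ⟨K, hK, hKi, -, -⟩ := h10
    haveI := hK
    obtain ⟨H, hH⟩ := exists_index_two_of_normal K d.n (hn1 d) hKi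
    exact hG H hH
  · exfalso
    have h11 := (Cfsg.Agent.S1211.result S hS d.n d.card (up S (A d)) (up_le S _) hUab hUcard
      (up S (QQ d 0)) (up_le S _) eQ h₁ (by rw [up_VV_eq_sup]; exact h₂)).1
    obtain ⟨K, -, hKi, -, -⟩ := h11
    exact hG K hKi
  · exact ⟨h₁, h₂⟩

/-- the centralizer of the central involution of `S` -/
theorem centConcl_cc (hS : Cfsg.IsWreathed ↥(S : Subgroup G))
    (hG : ∀ H : Subgroup G, H.index ≠ 2) (x : G) (hxd : x = ((cc d : ↥(S : Subgroup G)) : G)) :
    CentConcl S x := by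
  haveI : Fact (Nat.Prime 2) := ⟨Nat.prime_two⟩
  obtain ⟨h₁, h₂⟩ := six_six_of_no_index_two S d hS hG
  set C : Subgroup G := Subgroup.centralizer ({x} : Set G) with hC
  have hxcen : ∀ s ∈ (S : Subgroup G), x * s = s * x := by
    intro s hs
    have := (Subgroup.mem_center_iff.mp (mem_center_cc d)) ⟨s, hs⟩
    have h2 : s * ((cc d : ↥(S : Subgroup G)) : G) = ((cc d : ↥(S : Subgroup G)) : G) * s :=
      congrArg Subtype.val this
    rw [hxd]; exact h2.symm
  have hSC : (S : Subgroup G) ≤ C := by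
    intro s hs
    rw [hC, mem_centralizer_iff]
    intro h hh
    rw [Set.mem_singleton_iff] at hh
    rw [hh]; exact hxcen s hs
  have hxU : x ∈ up S (A d) := by rw [hxd]; exact (coe_mem_up S _).mpr (el_mem_A d _ _)
  have hxZ : x ∈ up S (Subgroup.center ↥(S : Subgroup G)) := by
    rw [hxd]; exact (coe_mem_up S _).mpr (mem_center_cc d)
  -- the Sylow subgroup of `C`
  set R : Sylow 2 ↥C := S.subtype hSC with hR
  have hRS : (R : Subgroup ↥C) = (S : Subgroup G).subgroupOf C := rfl
  have eRS : ↥(R : Subgroup ↥C) ≃* ↥(S : Subgroup G) := Subgroup.subgroupOfEquivOfLe hSC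
  have hRw : Cfsg.IsWreathed ↥(R : Subgroup ↥C) :=
    Cfsg.Agent.Helper11.GU2Sylow.isWreathed_of_equiv eRS.symm hS
  have hRcard : Nat.card ↥(R : Subgroup ↥C) = 2 ^ (2 * d.n + 1) := by
    rw [Nat.card_congr eRS.toEquiv]; exact d.card
  -- the subgroups `U` and `Q` of `C`
  have hUC : up S (A d) ≤ C := (up_le S _).trans hSC
  have hQC : up S (QQ d 0) ≤ C := (up_le S _).trans hSC
  have hZC : (Subgroup.center ↥(S : Subgroup G)).map (S : Subgroup G).subtype ≤ C :=
    (up_le S _).trans hSC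
  have hVC : up S (VV d 0) ≤ C := (up_le S _).trans hSC
  have hUR : (up S (A d)).subgroupOf C ≤ (R : Subgroup ↥C) := by
    rw [hRS]; exact Subgroup.comap_mono (up_le S _)
  have hQR : (up S (QQ d 0)).subgroupOf C ≤ (R : Subgroup ↥C) := by
    rw [hRS]; exact Subgroup.comap_mono (up_le S _)
  have eU : ↥((up S (A d)).subgroupOf C) ≃* ↥(up S (A d)) := Subgroup.subgroupOfEquivOfLe hUC
  have hUabR : IsMulCommutative ↥((up S (A d)).subgroupOf C) := by
    haveI := isMulCommutative_up_A S d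
    refine ⟨⟨?_⟩⟩
    intro a b
    apply eU.injective
    rw [map_mul, map_mul]
    exact mul_comm' _ _
  have hUcardR : Nat.card ↥((up S (A d)).subgroupOf C) = 2 ^ (2 * d.n) := by
    rw [Nat.card_congr eU.toEquiv, card_up_A]
  obtain ⟨eQ⟩ := up_QQ_equiv S d 0
  have eQR : ↥((up S (QQ d 0)).subgroupOf C) ≃* QuaternionGroup 2 :=
    (Subgroup.subgroupOfEquivOfLe hQC).trans eQ
  -- the subgroup `V` of `C`
  have hVR : (up S (QQ d 0)).subgroupOf C ⊔
      (Subgroup.center ↥(R : Subgroup ↥C)).map (R : Subgroup ↥C).subtype =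
      (up S (VV d 0)).subgroupOf C := by
    have h3 : (Subgroup.center ↥(R : Subgroup ↥C)).map (R : Subgroup ↥C).subtype =
        ((Subgroup.center ↥(S : Subgroup G)).map (S : Subgroup G).subtype).subgroupOf C :=
      center_map_subgroupOf C (S : Subgroup G) hSC
    rw [h3, ← Subgroup.subgroupOf_sup hQC hZC, up_VV_eq_sup]
  -- `N_G(V) ≤ C`
  have hNVC : normalizer (up S (VV d 0) : Set G) ≤ C := by
    refine (normalizer_VV_le_centralizer_center S d 0).trans ?_
    rw [hC]
    apply Subgroup.centralizer_le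
    intro y hy
    rw [Set.mem_singleton_iff] at hy
    rw [hy]; exact hxZ
  have hCVC : centralizer (up S (VV d 0) : Set G) ≤ C :=
    (Subgroup.centralizer_le_normalizer _).trans hNVC
  have h₂C : ((up S (VV d 0)).subgroupOf C ⊔
      centralizer (((up S (VV d 0)).subgroupOf C : Subgroup ↥C) : Set ↥C)).relIndex
      (normalizer (((up S (VV d 0)).subgroupOf C : Subgroup ↥C) : Set ↥C)) = 6 := by
    rw [normalizer_subgroupOf C _ hVC, centralizer_subgroupOf C _ hVC,
      ← Subgroup.subgroupOf_sup hVC hCVC, relIndex_subgroupOf_of_le C _ _ hNVC]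
    exact h₂
  -- `|N_C(U) : C_C(U)| = 2`
  have hdich := (Cfsg.Agent.S1208.result R hRw d.n hRcard _ hUR hUabR hUcardR _ hQR eQR).1
  have hCUC : centralizer (up S (A d) : Set G) ≤ C := by
    rw [hC]
    apply Subgroup.centralizer_le
    intro y hy
    rw [Set.mem_singleton_iff] at hy
    rw [hy]; exact hxU
  have h₁C : (centralizer (((up S (A d)).subgroupOf C : Subgroup ↥C) : Set ↥C)).relIndex
      (normalizer (((up S (A d)).subgroupOf C : Subgroup ↥C) : Set ↥C)) = 2 := by
    rcases hdich with h | h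
    · exact h
    · exfalso
      rw [normalizer_subgroupOf C _ hUC, centralizer_subgroupOf C _ hUC,
        relIndex_subgroupOf_inf] at h
      have hle1 : centralizer (up S (A d) : Set G) ≤ normalizer (up S (A d) : Set G) ⊓ C :=
        le_inf (Subgroup.centralizer_le_normalizer _) hCUC
      have hmul := Subgroup.relIndex_mul_relIndex (H := centralizer (up S (A d) : Set G))
        (K := normalizer (up S (A d) : Set G) ⊓ C) (L := normalizer (up S (A d) : Set G))
        hle1 inf_le_left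
      rw [h, h₁] at hmul
      have h1 : (normalizer (up S (A d) : Set G) ⊓ C).relIndex
          (normalizer (up S (A d) : Set G)) = 1 := by omega
      have hNC : normalizer (up S (A d) : Set G) ≤ C :=
        (Subgroup.relIndex_eq_one.mp h1).trans inf_le_right
      have h3 : 3 ∣ (centralizer (up S (A d) : Set G)).relIndex
          (normalizer (up S (A d) : Set G)) := by rw [h₁]; norm_num
      obtain ⟨g, hgN, hgc⟩ := exists_fusion_U S d (up S (A d)) (up_le S _)
        (subgroupOf_up S _) h3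
      apply hgc
      have hgC := hNC hgN
      rw [hC, mem_centralizer_iff] at hgC
      have h4 := hgC x rfl
      rw [← hxd]
      calc g * x * g⁻¹ = (g * x) * g⁻¹ := rfl
        _ = (x * g) * g⁻¹ := by rw [h4]
        _ = x := by group
  -- apply S1210 in `C`
  have h10 := Cfsg.Agent.S1210.result R hRw d.n hRcard _ hUR hUabR hUcardR _ hQR eQR h₁C
    (by rw [hVR]; exact h₂C)
  obtain ⟨⟨K, hK, hKi, hKq, hKn⟩, hwc, -⟩ := h10
  refine ⟨R, ?_, ⟨K, hK, ⟨d.n, hKi⟩, hKn, hKq⟩, hwc⟩
  exact Nat.card_congr eRS.toEquiv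

end Cfsg.Agent.Helper22.WrFus
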