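import Mathlib
import Cfsg.Agent.Lib.Helper1.ZStarWC
import Cfsg.Agent.Lib.Helper22.WrFusion

/-!
Cyclic subgroups of the centre of a Sylow `2`-subgroup and the `Z*`-theorem (helper22).
-/

set_option autoImplicit false

universe u

namespace Cfsg.Agent.Helper22.ZCyc

open Subgroup Cfsg.Agent.Helper1.ZW Cfsg.Agent.Helper10

variable {G : Type u} [Group G] [Finite G]

/-- the automorphism group of a cyclic `2`-group is a `2`-group -/
theorem isPGroup_mulAut_of_isCyclic (D : Type*) [Group D] [Finite D] [IsCyclic D]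
    (hD : IsPGroup 2 D) : IsPGroup 2 (MulAut D) := by
  haveI : Fact (Nat.Prime 2) := ⟨Nat.prime_two⟩
  obtain ⟨k, hk⟩ := IsPGroup.iff_card.mp hD
  rcases Nat.eq_zero_or_pos k with rfl | hk0
  · apply IsPGroup.of_card (n := 0)
    rw [IsCyclic.card_mulAut, hk]
    simp
  · apply IsPGroup.of_card (n := k - 1)
    rw [IsCyclic.card_mulAut, hk, Nat.totient_prime_pow Nat.prime_two hk0]
    simp

/-- the normalizer of a cyclic subgroup centralized by a Sylow `2`-subgroup centralizes it -/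
theorem normalizer_le_centralizer_of_isCyclic (S : Sylow 2 G) (D : Subgroup G)
    (hDS : D ≤ (S : Subgroup G)) [IsCyclic D]
    (hc : (S : Subgroup G) ≤ centralizer (D : Set G)) :
    normalizer (D : Set G) ≤ centralizer (D : Set G) := by
  haveI : Fact (Nat.Prime 2) := ⟨Nat.prime_two⟩
  intro x hx
  have hSN : (S : Subgroup G) ≤ normalizer (D : Set G) :=
    hc.trans (Subgroup.centralizer_le_normalizer _)
  have htame : ¬ 2 ∣ ((S : Subgroup G) ⊓ normalizer (D : Set G)).relIndex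
      (normalizer (D : Set G)) := by
    rw [inf_of_le_left hSN]
    exact not_dvd_relIndex_sylow S _ hSN
  have hDp : IsPGroup 2 D := S.2.to_le hDS
  obtain ⟨s, hs, -, h⟩ := Cfsg.Agent.Helper22.WrFus.exists_mem_sylow_of_isPGroup_mulAut S D htame
    (isPGroup_mulAut_of_isCyclic D hDp) x hx
  rw [mem_centralizer_iff]
  intro a ha
  have h1 := h a ha
  have h2 : s * a * s⁻¹ = a := by
    have h3 := (mem_centralizer_iff.mp (hc hs)) a ha
    rw [← h3]; group
  rw [h2] at h1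
  calc a * x = (x * a * x⁻¹) * x := by rw [h1]
    _ = x * a := by group

/-- a weakly closed cyclic subgroup centralized by `S` is generated by a weakly closed element -/
theorem wc_of_isWeaklyClosed (S : Sylow 2 G) (y : G) (hyS : y ∈ (S : Subgroup G))
    (hc : ∀ s ∈ (S : Subgroup G), s * y = y * s)
    (hw : Cfsg.IsWeaklyClosed (zpowers y) (S : Subgroup G)) : WC (S : Subgroup G) y := by
  refine ⟨hyS, ?_⟩
  intro g hg
  have hSc : (S : Subgroup G) ≤ centralizer ((zpowers y : Subgroup G) : Set G) := by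
    intro s hs
    rw [mem_centralizer_iff]
    intro h hh
    obtain ⟨i, rfl⟩ := Subgroup.mem_zpowers_iff.mp hh
    have : Commute s y := hc s hs
    exact (this.zpow_right i).eq.symm
  have hmap : (zpowers y).map (MulAut.conj g).toMonoidHom ≤ (S : Subgroup G) := by
    rintro _ ⟨h, hh, rfl⟩
    obtain ⟨i, rfl⟩ := Subgroup.mem_zpowers_iff.mp hh
    have : (MulAut.conj g).toMonoidHom (y ^ i) = (g * y * g⁻¹) ^ i := by
      simp [MulAut.conj_apply, conj_zpow]
    rw [this]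
    exact Subgroup.zpow_mem _ hg i
  have heq := hw.2 g hmap
  have hgN : g ∈ normalizer ((zpowers y : Subgroup G) : Set G) := by
    rw [mem_normalizer_iff]
    intro n
    constructor
    · intro hn
      rw [← heq]
      exact ⟨n, hn, rfl⟩
    · intro hn
      rw [← heq] at hn
      obtain ⟨m, hm, hmn⟩ := hn
      have : m = n := by
        have h1 : g * m * g⁻¹ = g * n * g⁻¹ := hmn
        have h2 : g⁻¹ * (g * m * g⁻¹) * g = g⁻¹ * (g * n * g⁻¹) * g := by rw [h1]
        have e1 : g⁻¹ * (g * m * g⁻¹) * g = m := by group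
        have e2 : g⁻¹ * (g * n * g⁻¹) * g = n := by group
        rw [e1, e2] at h2
        exact h2
      rw [← this]; exact hm
  have hgC := normalizer_le_centralizer_of_isCyclic S (zpowers y)
    (by rw [Subgroup.zpowers_le]; exact hyS) hSc hgN
  have h1 := (mem_centralizer_iff.mp hgC) y (Subgroup.mem_zpowers y)
  rw [← h1]; group

/-- lifting conjugation into a Sylow subgroup modulo a normal subgroup -/
theorem exists_conj_mem_sylow_of_mul_mem (S : Sylow 2 G) (O : Subgroup G) [hO : O.Normal]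
    (y s : G) (hs : s ∈ (S : Subgroup G)) (hy2 : ∃ k : ℕ, orderOf y = 2 ^ k) (hys : s⁻¹ * y ∈ O) :
    ∃ o ∈ O, o⁻¹ * y * o ∈ (S : Subgroup G) := by
  haveI : Fact (Nat.Prime 2) := ⟨Nat.prime_two⟩
  have hyL : y ∈ O ⊔ (S : Subgroup G) := by
    have : y = s * (s⁻¹ * y) := by group
    rw [this]
    exact Subgroup.mul_mem _ (Subgroup.mem_sup_right hs) (Subgroup.mem_sup_left hys)
  obtain ⟨c, hcL, hc⟩ := conj_into_relSylow (p := 2) (O ⊔ (S : Subgroup G)) (S : Subgroup G)
    (Subgroup.zpowers y) le_sup_right S.2 (not_dvd_relIndex_sylow S _ le_sup_right)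
    (by rw [Subgroup.zpowers_le]; exact hyL)
    (Cfsg.Agent.Helper15.isPGroup_zpowers_of_orderOf hy2)
  have h1 : c⁻¹ * y * c ∈ (S : Subgroup G) := by
    apply hc
    rw [mem_rcg]
    have : c * (c⁻¹ * y * c) * c⁻¹ = y := by group
    rw [this]
    exact Subgroup.mem_zpowers y
  obtain ⟨o, ho, s', hs', rfl⟩ := Subgroup.mem_sup_of_normal_left.mp hcL
  refine ⟨o, ho, ?_⟩
  have e : o⁻¹ * y * o = s' * ((o * s')⁻¹ * y * (o * s')) * s'⁻¹ := by group
  rw [e]
  exact Subgroup.mul_mem _ (Subgroup.mul_mem _ hs' h1) (Subgroup.inv_mem _ hs')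

/-- if the generator `a` of `Z` has all its powers weakly closed, then `G = O(G) C_G(a)` -/
theorem exists_mul_of_wc (S : Sylow 2 G) (a : G)
    (hall : ∀ y ∈ Subgroup.zpowers a, WC (S : Subgroup G) y) (h : G) :
    ∃ o ∈ Cfsg.oddCore G, ∃ c ∈ centralizer ((zpowers a : Subgroup G) : Set G), h = o * c := by
  have hz : Cfsg.InZStar 2 a := wc_zstar S a hall
  have ha := hall a (Subgroup.mem_zpowers a)
  have h1 := hz h
  have hy2 : ∃ k : ℕ, orderOf (h * a * h⁻¹) = 2 ^ k := by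
    obtain ⟨k, hk⟩ := orderOf_two_pow S ha.1
    exact ⟨k, by rw [← hk]; exact Cfsg.Agent.Helper7.ZStar.orderOf_conj' h a⟩
  have hys : a⁻¹ * (h * a * h⁻¹) ∈ Cfsg.oddCore G := by
    have h2 := (Cfsg.pPrimeCore_normal 2 G).conj_mem _ h1 a⁻¹
    have e : a⁻¹ * (h * a * h⁻¹ * a⁻¹) * a⁻¹⁻¹ = a⁻¹ * (h * a * h⁻¹) := by group
    rw [e] at h2
    exact h2
  obtain ⟨o, ho, hoS⟩ := exists_conj_mem_sylow_of_mul_mem S (Cfsg.oddCore G) (h * a * h⁻¹) a
    ha.1 hy2 hys
  have h3 : (o⁻¹ * h) * a * (o⁻¹ * h)⁻¹ = o⁻¹ * (h * a * h⁻¹) * o := by group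
  have h4 := ha.2 (o⁻¹ * h) (by rw [h3]; exact hoS)
  refine ⟨o, ho, o⁻¹ * h, ?_, by group⟩
  rw [mem_centralizer_iff]
  intro w hw
  obtain ⟨i, rfl⟩ := Subgroup.mem_zpowers_iff.mp hw
  have hcomm : Commute (o⁻¹ * h) a := by
    show (o⁻¹ * h) * a = a * (o⁻¹ * h)
    calc (o⁻¹ * h) * a = ((o⁻¹ * h) * a * (o⁻¹ * h)⁻¹) * (o⁻¹ * h) := by group
      _ = a * (o⁻¹ * h) := by rw [h4]
  exact (hcomm.zpow_right i).eq.symm

/-- `O(G) Z` is normal when `Z = ⟨a⟩` is central modulo `O(G)` -/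
theorem normal_sup_of_inZStar (a : G) (hz : Cfsg.InZStar 2 a) :
    (Cfsg.oddCore G ⊔ zpowers a).Normal := by
  haveI hO : (Cfsg.oddCore G).Normal := Cfsg.pPrimeCore_normal 2 G
  constructor
  intro n hn g
  obtain ⟨o, ho, w, hw, rfl⟩ := Subgroup.mem_sup_of_normal_left.mp hn
  obtain ⟨i, rfl⟩ := Subgroup.mem_zpowers_iff.mp hw
  have e : g * (o * a ^ i) * g⁻¹ = (g * o * g⁻¹) * (g * a * g⁻¹) ^ i := by
    rw [conj_zpow]; group
  rw [e]
  apply Subgroup.mul_mem _ (Subgroup.mem_sup_left (hO.conj_mem _ ho g))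
  apply Subgroup.zpow_mem
  have e2 : g * a * g⁻¹ = (g * a * g⁻¹ * a⁻¹) * a := by group
  rw [e2]
  exact Subgroup.mul_mem _ (Subgroup.mem_sup_left (hz g))
    (Subgroup.mem_sup_right (Subgroup.mem_zpowers a))

end Cfsg.Agent.Helper22.ZCyc
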